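import Mathlib

/-!
The centraliser in GL_n(q) of an element of order r, where q has multiplicative order n modulo r.
-/

set_option autoImplicit false
set_option linter.style.haveILetI false

open Polynomial

namespace H42

variable {F : Type*} [Field F] {n : ℕ}

/-- If `x` has an irreducible minimal polynomial of full degree then the invertible matrices commuting
with it form the unit group of the field `F[x]`. -/
lemma exists_units_iso_centralizer [NeZero n] (x : GL (Fin n) F)
    (hirr : Irreducible (minpoly F (x : Matrix (Fin n) (Fin n) F)))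
    (hdeg : (minpoly F (x : Matrix (Fin n) (Fin n) F)).natDegree = n) :
    Nonempty ((AdjoinRoot (minpoly F (x : Matrix (Fin n) (Fin n) F)))ˣ ≃*
      ↥(Subgroup.centralizer ({x} : Set (GL (Fin n) F)))) := by
  set X₀ := (x : Matrix (Fin n) (Fin n) F) with hX₀
  set m := minpoly F X₀ with hm
  haveI : Fact (Irreducible m) := ⟨hirr⟩
  let φ : AdjoinRoot m →ₐ[F] Matrix (Fin n) (Fin n) F :=
    Ideal.Quotient.liftₐ _ (aeval X₀) (fun a ha => by
      obtain ⟨c, rfl⟩ := Ideal.mem_span_singleton.1 ha
      rw [map_mul, hm, minpoly.aeval, zero_mul])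
  have hφmk : ∀ g : F[X], φ (AdjoinRoot.mk m g) = aeval X₀ g := fun g => rfl
  have hφinj : Function.Injective φ := φ.toRingHom.injective
  have hφroot : φ (AdjoinRoot.root m) = X₀ := by
    rw [AdjoinRoot.root, hφmk, aeval_X]
  -- evaluation at a non-zero vector is bijective
  have hbij : ∃ v : Fin n → F, Function.Bijective fun k : AdjoinRoot m => (φ k).mulVec v := by
    obtain ⟨v, hv⟩ := exists_ne (0 : Fin n → F)
    let ev : AdjoinRoot m →ₗ[F] (Fin n → F) :=
      { toFun := fun k => (φ k).mulVec v
        map_add' := fun a b => by rw [map_add, Matrix.add_mulVec]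
        map_smul' := fun c a => by rw [map_smul, Matrix.smul_mulVec]; rfl }
    have hinj : Function.Injective ev := by
      rw [injective_iff_map_eq_zero]
      intro k hk
      by_contra hne
      have : (φ k⁻¹).mulVec ((φ k).mulVec v) = 0 := by
        rw [show (φ k).mulVec v = 0 from hk, Matrix.mulVec_zero]
      rw [Matrix.mulVec_mulVec, ← map_mul, inv_mul_cancel₀ hne, map_one, Matrix.one_mulVec] at this
      exact hv this
    haveI : FiniteDimensional F (AdjoinRoot m) :=
      Module.Finite.of_injective ev hinj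
    refine ⟨v, hinj, (LinearMap.injective_iff_surjective_of_finrank_eq_finrank ?_).1 hinj⟩
    rw [(AdjoinRoot.powerBasis hirr.ne_zero).finrank, AdjoinRoot.powerBasis_dim, hdeg,
      Module.finrank_fin_fun]
  obtain ⟨v, -, hsurj⟩ := hbij
  have hcomm : ∀ y : Matrix (Fin n) (Fin n) F, Commute y X₀ → ∃ k, φ k = y := by
    intro y hy
    obtain ⟨k, hk⟩ := hsurj (y.mulVec v)
    refine ⟨k, ?_⟩
    have hyφ : ∀ j, y * φ j = φ j * y := by
      intro j
      obtain ⟨g, rfl⟩ := AdjoinRoot.mk_surjective j
      rw [hφmk]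
      exact Algebra.commute_of_mem_adjoin_singleton_of_commute (aeval_mem_adjoin_singleton F X₀) hy
    apply Matrix.toLin'.injective
    apply LinearMap.ext
    intro w
    obtain ⟨j, rfl⟩ := hsurj w
    simp only [Matrix.toLin'_apply] at hk ⊢
    rw [Matrix.mulVec_mulVec, Matrix.mulVec_mulVec, hyφ, ← map_mul, mul_comm, map_mul,
      ← Matrix.mulVec_mulVec, ← Matrix.mulVec_mulVec, hk]
  have hrange : (Units.map φ.toMonoidHom).range
      = Subgroup.centralizer ({x} : Set (GL (Fin n) F)) := by
    ext y
    rw [Subgroup.mem_centralizer_singleton_iff]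
    constructor
    · rintro ⟨k, rfl⟩
      apply Units.ext
      change φ (k : AdjoinRoot m) * X₀ = X₀ * φ (k : AdjoinRoot m)
      rw [← hφroot, ← map_mul, ← map_mul, mul_comm]
    · intro hy
      have hy' : Commute (y : Matrix (Fin n) (Fin n) F) X₀ := congrArg Units.val hy
      obtain ⟨k, hk⟩ := hcomm _ hy'
      have hk0 : k ≠ 0 := by
        rintro rfl
        rw [map_zero] at hk
        exact y.ne_zero hk.symm
      exact ⟨Units.mk0 k hk0, Units.ext hk⟩
  have hinj' : Function.Injective (Units.map φ.toMonoidHom) := Units.map_injective hφinj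
  exact ⟨(MonoidHom.ofInjective hinj').trans (MulEquiv.subgroupCongr hrange)⟩

variable [Fintype F]

/-- If `x` has order `r`, not divisible by the characteristic, and `q` has order `n` modulo `r`, its
minimal polynomial is irreducible of degree `n`. -/
lemma minpoly_irreducible_of_primitive_order {p : ℕ} [Fact p.Prime] [CharP F p] {r : ℕ} (hr : r.Prime)
    (hrp : r ≠ p) (hi : orderOf (Fintype.card F : ZMod r) = n) (x : GL (Fin n) F) (hx : orderOf x = r) :
    Irreducible (minpoly F (x : Matrix (Fin n) (Fin n) F)) ∧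
      (minpoly F (x : Matrix (Fin n) (Fin n) F)).natDegree = n := by
  classical
  set X₀ := (x : Matrix (Fin n) (Fin n) F) with hX₀
  set m := minpoly F X₀ with hm
  have hxr : X₀ ^ r = 1 := by
    rw [hX₀, ← Units.val_pow_eq_pow_val, ← hx, pow_orderOf_eq_one, Units.val_one]
  have hmdvd : m ∣ (X ^ r - C 1 : F[X]) := minpoly.dvd F X₀ (by simp [hxr])
  have hrF : (r : F) ≠ 0 := by
    rw [Ne, CharP.cast_eq_zero_iff F p]
    exact fun h => hrp ((Nat.prime_dvd_prime_iff_eq Fact.out hr).1 h).symm
  have hsq : Squarefree m :=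
    (Polynomial.separable_X_pow_sub_C (1 : F) hrF one_ne_zero).squarefree.squarefree_of_dvd hmdvd
  have hx1 : X₀ ≠ 1 := by
    intro h
    have : x = 1 := Units.ext h
    rw [this, orderOf_one] at hx
    exact hr.ne_one hx.symm
  have hm0 : m ≠ 0 := minpoly.ne_zero (Matrix.isIntegral X₀)
  have hdegle : m.natDegree ≤ n := by
    have h := Polynomial.natDegree_le_of_dvd (Matrix.minpoly_dvd_charpoly X₀)
      (Matrix.charpoly_monic X₀).ne_zero
    simpa [Matrix.charpoly_natDegree_eq_dim] using h
  -- some irreducible factor is not X - 1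
  obtain ⟨g, hg, hgm, hgne⟩ : ∃ g : F[X], Irreducible g ∧ g ∣ m ∧ ¬ Associated g (X - C 1) := by
    by_contra h
    push Not at h
    refine hx1 ?_
    have hdvd : m ∣ (X - C 1 : F[X]) := by
      rw [UniqueFactorizationMonoid.dvd_iff_normalizedFactors_le_normalizedFactors hm0 (X_sub_C_ne_zero 1),
        Multiset.le_iff_subset ((UniqueFactorizationMonoid.squarefree_iff_nodup_normalizedFactors hm0).1 hsq)]
      intro g hg
      have hgirr := UniqueFactorizationMonoid.irreducible_of_normalized_factor g hg
      have hass := h g hgirr (UniqueFactorizationMonoid.dvd_of_mem_normalizedFactors hg)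
      rw [UniqueFactorizationMonoid.normalizedFactors_irreducible (irreducible_X_sub_C 1),
        Multiset.mem_singleton, ← UniqueFactorizationMonoid.normalize_normalized_factor g hg]
      exact normalize_eq_normalize hass.dvd hass.symm.dvd
    obtain ⟨c, hc⟩ := hdvd
    have : aeval X₀ (X - C 1 : F[X]) = 0 := by rw [hc, map_mul, hm, minpoly.aeval, zero_mul]
    simpa [sub_eq_zero] using this
  haveI : Fact (Irreducible g) := ⟨hg⟩
  set pb := AdjoinRoot.powerBasis hg.ne_zero with hpb
  haveI : Module.Finite F (AdjoinRoot g) := pb.finite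
  haveI : Finite (AdjoinRoot g) := Module.finite_of_finite F
  set ζ := AdjoinRoot.root g with hζ
  have hζr : ζ ^ r = 1 := by
    have h := AdjoinRoot.mk_eq_zero.2 (hgm.trans hmdvd)
    simpa [sub_eq_zero] using h
  have hζ1 : ζ ≠ 1 := by
    intro h
    have hd : g ∣ (X - C 1 : F[X]) := AdjoinRoot.mk_eq_zero.1 (by simp [← hζ, h])
    exact hgne ((hg.associated_of_dvd (irreducible_X_sub_C 1)) hd)
  have hζ0 : ζ ≠ 0 := by
    intro h
    rw [h, zero_pow hr.ne_zero] at hζr
    exact zero_ne_one hζr
  have hcard : Nat.card (AdjoinRoot g) = Fintype.card F ^ g.natDegree := by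
    rw [Module.natCard_eq_pow_finrank (K := F), pb.finrank, AdjoinRoot.powerBasis_dim,
      Nat.card_eq_fintype_card]
  have hpow : (Fintype.card F : ZMod r) ^ g.natDegree = 1 := by
    haveI : Fact r.Prime := ⟨hr⟩
    haveI := Fintype.ofFinite (AdjoinRoot g)
    have hord : orderOf ζ = r := orderOf_eq_prime hζr hζ1
    have h1 := orderOf_dvd_of_pow_eq_one (FiniteField.pow_card_sub_one_eq_one ζ hζ0)
    rw [hord, ← Nat.card_eq_fintype_card (α := AdjoinRoot g), hcard,
      ← ZMod.natCast_eq_zero_iff, Nat.cast_sub (Nat.one_le_pow _ _ Fintype.card_pos),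
      sub_eq_zero] at h1
    simpa using h1
  have hndvd : n ∣ g.natDegree := by rw [← hi]; exact orderOf_dvd_of_pow_eq_one hpow
  have hle1 := Nat.le_of_dvd hg.natDegree_pos hndvd
  have hle2 := Polynomial.natDegree_le_of_dvd hgm hm0
  have hassoc : Associated g m :=
    Polynomial.associated_of_dvd_of_natDegree_le hgm hm0 (by omega)
  exact ⟨hassoc.irreducible hg, by omega⟩

/-- The centraliser of such an element is cyclic of order `q ^ n - 1`. -/
theorem centralizer_primitive_order {p : ℕ} [Fact p.Prime] [CharP F p] {r : ℕ} (hr : r.Prime)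
    (hrp : r ≠ p) (hn : 1 ≤ n) (hi : orderOf (Fintype.card F : ZMod r) = n) (x : GL (Fin n) F)
    (hx : orderOf x = r) :
    IsCyclic ↥(Subgroup.centralizer ({x} : Set (GL (Fin n) F))) ∧
      Nat.card ↥(Subgroup.centralizer ({x} : Set (GL (Fin n) F))) = Fintype.card F ^ n - 1 := by
  haveI : NeZero n := ⟨by omega⟩
  obtain ⟨hirr, hdeg⟩ := minpoly_irreducible_of_primitive_order hr hrp hi x hx
  haveI : Fact (Irreducible (minpoly F (x : Matrix (Fin n) (Fin n) F))) := ⟨hirr⟩
  set pb := AdjoinRoot.powerBasis hirr.ne_zero with hpb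
  haveI : Module.Finite F (AdjoinRoot (minpoly F (x : Matrix (Fin n) (Fin n) F))) := pb.finite
  haveI : Finite (AdjoinRoot (minpoly F (x : Matrix (Fin n) (Fin n) F))) := Module.finite_of_finite F
  obtain ⟨e⟩ := exists_units_iso_centralizer x hirr hdeg
  refine ⟨isCyclic_of_surjective e.toMonoidHom e.surjective, ?_⟩
  rw [← Nat.card_congr e.toEquiv, Nat.card_units, Module.natCard_eq_pow_finrank (K := F), pb.finrank,
    AdjoinRoot.powerBasis_dim, hdeg, Nat.card_eq_fintype_card]

end H42
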