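import Mathlib
import Cfsg.Agent.H42.PSL2Subfield

/-!
Descent: a pair in `SL₂(F)` with no common eigenvector whose traces `tr g, tr h, tr gh` lie in a
subfield `K` is conjugate into `SL₂(K)`.
-/

set_option autoImplicit false
set_option linter.style.haveILetI false
set_option linter.unusedSectionVars false

namespace H42

open Matrix H39
open scoped MatrixGroups

variable {F : Type*} [Field F] [Fintype F]

/-- The conic has a point over the subfield. -/
lemma exists_conic_point (K : Subfield F) {t b c : F} (ht : t ∈ K) (hb : b ∈ K) (hc : c ∈ K)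
    (hss : t ^ 2 ≠ 4) :
    ∃ x ∈ K, ∃ z ∈ K, x * (b - x) - (c + z - t * (b - x)) * z = 1 := by
  classical
  haveI : Fintype K := Fintype.ofFinite K
  set t' : K := ⟨t, ht⟩ with ht'
  set b' : K := ⟨b, hb⟩
  set c' : K := ⟨c, hc⟩
  have hss' : t' ^ 2 ≠ 4 := fun h => hss (by
    have := congrArg K.subtype h
    rw [map_pow, map_ofNat] at this
    exact this)
  suffices ∃ x z : K, x * (b' - x) - (c' + z - t' * (b' - x)) * z = 1 by
    obtain ⟨x, z, h⟩ := this
    exact ⟨x, x.2, z, z.2, by simpa [t', b', c'] using congrArg Subtype.val h⟩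
  by_cases h2 : ringChar K = 2
  · haveI : CharP K 2 := ringChar.of_eq h2
    have h20 : (2 : K) = 0 := CharTwo.two_eq_zero
    have ht0 : t' ≠ 0 := by
      intro h; apply hss'
      rw [h]; linear_combination (-2) * h20
    set z : K := b' / t' with hz
    have htz : t' * z = b' := by rw [hz]; field_simp
    obtain ⟨x, hx⟩ := FiniteField.isSquare_of_char_two h2 (-(z ^ 2 + (c' - t' * b') * z + 1))
    refine ⟨x, z, ?_⟩
    linear_combination hx - x * htz
  · have hodd := FiniteField.odd_card_of_char_ne_two h2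
    have h20 : (2 : K) ≠ 0 := Ring.two_ne_zero h2
    let f : Polynomial K := Polynomial.C 1 * Polynomial.X ^ 2 + Polynomial.C (-b') * Polynomial.X + Polynomial.C 1
    let g : Polynomial K := Polynomial.C (1 - t' ^ 2 / 4) * Polynomial.X ^ 2 +
      Polynomial.C (c' - t' * b' + b' * t' / 2) * Polynomial.X + Polynomial.C 0
    have hg : (1 - t' ^ 2 / 4) ≠ 0 := by
      intro h
      apply hss'
      have h4 : (4 : K) ≠ 0 := by
        rw [show (4 : K) = 2 * 2 by norm_num]; exact mul_ne_zero h20 h20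
      field_simp at h
      linear_combination -h
    obtain ⟨y, z, hyz⟩ := FiniteField.exists_root_sum_quadratic (f := f) (g := g)
      (Polynomial.degree_quadratic one_ne_zero) (Polynomial.degree_quadratic hg) hodd
    simp only [f, g, Polynomial.eval_add, Polynomial.eval_mul, Polynomial.eval_C, Polynomial.eval_pow,
      Polynomial.eval_X] at hyz
    have h4 : (4 : K) ≠ 0 := by
      rw [show (4 : K) = 2 * 2 by norm_num]; exact mul_ne_zero h20 h20
    refine ⟨y - t' * z / 2, z, ?_⟩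
    field_simp at hyz ⊢
    apply mul_left_cancel₀ h20
    linear_combination -hyz

/-- No common eigenvector. -/
def NoCommonEigen (g h : SL(2, F)) : Prop :=
  ∀ (v : Fin 2 → F) (a b : F), v ≠ 0 → (g : Matrix (Fin 2) (Fin 2) F) *ᵥ v = a • v →
    (h : Matrix (Fin 2) (Fin 2) F) *ᵥ v = b • v → False

theorem exists_conj_into_subfield (K : Subfield F) {g h : SL(2, F)} (hg : tr g ∈ K) (hh : tr h ∈ K)
    (hgh : tr (g * h) ∈ K) (hss : tr g ^ 2 ≠ 4) (hirr : NoCommonEigen g h) :
    ∃ P : GL (Fin 2) F, (∀ i j, cjSL P g i j ∈ K) ∧ (∀ i j, cjSL P h i j ∈ K) := by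
  classical
  have hns : ¬ H40.IsScalar2 (g : Matrix (Fin 2) (Fin 2) F) := fun hs =>
    not_center_of_tr hss (mem_center_iff_isScalar2.2 hs)
  obtain ⟨Q, hQ, hgQ⟩ := H40.exists_cyclic hns
  rw [g.2] at hgQ
  let Qg : GL (Fin 2) F := Matrix.GeneralLinearGroup.mkOfDetNeZero Q hQ
  set t := tr g with ht
  set b := tr h with hb
  set c := tr (g * h) with hc
  set G : Matrix (Fin 2) (Fin 2) F := !![0, -1; 1, t] with hG
  set H : Matrix (Fin 2) (Fin 2) F := ((Qg⁻¹ : GL (Fin 2) F) : Matrix (Fin 2) (Fin 2) F) * h * Q with hH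
  have hgG : (g : Matrix (Fin 2) (Fin 2) F) * Q = Q * G := by
    rw [hgQ, hG]; congr 1
  have hQi : Q * ((Qg⁻¹ : GL (Fin 2) F) : Matrix (Fin 2) (Fin 2) F) = 1 := Qg.mul_inv
  have hiQ : ((Qg⁻¹ : GL (Fin 2) F) : Matrix (Fin 2) (Fin 2) F) * Q = 1 := Qg.inv_mul
  have hhH : (h : Matrix (Fin 2) (Fin 2) F) * Q = Q * H := by
    rw [hH, ← mul_assoc, ← mul_assoc, hQi, one_mul]
  have hHb : H 0 0 + H 1 1 = b := by
    rw [← Matrix.trace_fin_two, hH, mul_assoc, Matrix.trace_mul_comm, mul_assoc, hQi, mul_one]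
    rfl
  have hHd : H 0 0 * H 1 1 - H 0 1 * H 1 0 = 1 := by
    rw [← Matrix.det_fin_two, hH, Matrix.det_mul, Matrix.det_mul, h.2, mul_one, ← Matrix.det_mul, hiQ,
      Matrix.det_one]
  have hHc : H 0 1 = c + H 1 0 - t * H 1 1 := by
    have e : (G * H).trace = c := by
      rw [hH, ← mul_assoc, Matrix.trace_mul_comm, ← mul_assoc, ← mul_assoc, ← hgG,
        mul_assoc (g : Matrix (Fin 2) (Fin 2) F) Q, hQi, mul_one, hc]
      simp [tr]
    rw [Matrix.trace_fin_two, hG] at e
    simp [Matrix.mul_apply, Fin.sum_univ_two] at e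
    linear_combination e
  obtain ⟨x', hx', z', hz', hconic⟩ := exists_conic_point K hg hh hgh hss
  set x := H 0 0
  set z := H 1 0
  have hw : H 1 1 = b - x := by linear_combination hHb
  rw [hw] at hHc hHd
  rw [hHc] at hHd
  let M : Matrix (Fin 2) (Fin 2) F :=
    !![x - x', c + z - t * b + t * x + z'; z - z', b - x - x' - t * z']
  have hM : M.det = 0 := by
    simp [M, Matrix.det_fin_two]
    linear_combination hHd - hconic
  obtain ⟨v, hv0, hv⟩ := Matrix.exists_mulVec_eq_zero_iff.2 hM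
  have e1 : (x - x') * v 0 + (c + z - t * b + t * x + z') * v 1 = 0 := by
    simpa [M, Matrix.mulVec, dotProduct, Fin.sum_univ_two] using congrFun hv 0
  have e2 : (z - z') * v 0 + (b - x - x' - t * z') * v 1 = 0 := by
    simpa [M, Matrix.mulVec, dotProduct, Fin.sum_univ_two] using congrFun hv 1
  set α := v 0 with hα
  set β := v 1 with hβ
  let U : Matrix (Fin 2) (Fin 2) F := !![α, -β; β, α + t * β]
  let H' : Matrix (Fin 2) (Fin 2) F := !![x', c + z' - t * (b - x'); z', b - x']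
  have hUG : G * U = U * G := by
    ext i j
    fin_cases i <;> fin_cases j <;> simp [U, hG, Matrix.mul_apply, Fin.sum_univ_two] <;> ring
  have hUH : H * U = U * H' := by
    ext i j
    fin_cases i <;> fin_cases j <;> simp [U, H', Matrix.mul_apply, Fin.sum_univ_two]
    · change x * α + H 0 1 * β = α * x' + -(β * z')
      rw [hHc]; linear_combination e1
    · change -(x * β) + H 0 1 * (α + t * β) = α * (c + z' - t * (b - x')) + -(β * (b - x'))
      rw [hHc]; linear_combination e2 + t * e1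
    · change z * α + H 1 1 * β = β * x' + (α + t * β) * z'
      rw [hw]; linear_combination e2
    · change -(z * β) + H 1 1 * (α + t * β) = β * (c + z' - t * (b - x')) + (α + t * β) * (b - x')
      rw [hw]; linear_combination -e1
  have hU : U.det ≠ 0 := by
    intro h0
    have h0' : α * (α + t * β) + β * β = 0 := by
      simpa [U, Matrix.det_fin_two] using h0
    have hα0 : α ≠ 0 := by
      intro ha
      rw [ha] at h0'
      have hb0 : β = 0 := by simpa using h0'
      exact hv0 (funext fun i => by fin_cases i <;> simp [← hα, ← hβ, ha, hb0])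
    have hGv : G *ᵥ v = (-β / α) • v := by
      ext i
      fin_cases i <;> simp [hG, Matrix.mulVec, dotProduct, Fin.sum_univ_two, ← hα, ← hβ]
      · field_simp
      · field_simp
        linear_combination h0'
    have hHv : H *ᵥ v = (x' + z' * (-β / α)) • v := by
      ext i
      fin_cases i <;> simp [Matrix.mulVec, dotProduct, Fin.sum_univ_two, ← hα, ← hβ]
      · show x * α + H 0 1 * β = _
        rw [hHc]; field_simp; linear_combination e1
      · show z * α + H 1 1 * β = _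
        rw [hw]; field_simp; linear_combination α * e2 + z' * h0'
    refine hirr (Q *ᵥ v) (-β / α) (x' + z' * (-β / α)) ?_ ?_ ?_
    · intro h1
      exact hv0 (Matrix.eq_zero_of_mulVec_eq_zero hQ h1)
    · rw [Matrix.mulVec_mulVec, hgG, ← Matrix.mulVec_mulVec, hGv, Matrix.mulVec_smul]
    · rw [Matrix.mulVec_mulVec, hhH, ← Matrix.mulVec_mulVec, hHv, Matrix.mulVec_smul]
  let Ug : GL (Fin 2) F := Matrix.GeneralLinearGroup.mkOfDetNeZero U hU
  refine ⟨(Qg * Ug)⁻¹, ?_, ?_⟩
  · have : (cjSL (Qg * Ug)⁻¹ g : Matrix (Fin 2) (Fin 2) F) = G := by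
      show ((Qg * Ug)⁻¹ : GL (Fin 2) F).1 * (g : Matrix (Fin 2) (Fin 2) F) * ((Qg * Ug)⁻¹⁻¹ : GL (Fin 2) F).1 = G
      rw [inv_inv, mul_assoc, Units.inv_mul_eq_iff_eq_mul]
      show (g : Matrix (Fin 2) (Fin 2) F) * (Q * U) = Q * U * G
      rw [← mul_assoc, hgG, mul_assoc, hUG, mul_assoc]
    intro i j
    rw [this]
    fin_cases i <;> fin_cases j <;> simp [hG, hg]
  · have : (cjSL (Qg * Ug)⁻¹ h : Matrix (Fin 2) (Fin 2) F) = H' := by
      show ((Qg * Ug)⁻¹ : GL (Fin 2) F).1 * (h : Matrix (Fin 2) (Fin 2) F) * ((Qg * Ug)⁻¹⁻¹ : GL (Fin 2) F).1 = H'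
      rw [inv_inv, mul_assoc, Units.inv_mul_eq_iff_eq_mul]
      show (h : Matrix (Fin 2) (Fin 2) F) * (Q * U) = Q * U * H'
      rw [← mul_assoc, hhH, mul_assoc, hUH, mul_assoc]
    intro i j
    rw [this]
    fin_cases i <;> fin_cases j <;> simp [H']
    · exact hx'
    · exact sub_mem (add_mem hgh hz') (mul_mem hg (sub_mem hh hx'))
    · exact hz'
    · exact sub_mem hh hx'

/-- A pair contained in no Borel subgroup has no common eigenvector. -/
lemma noCommonEigen_of_not_borel {g h : SL(2, F)}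
    (hb : ∀ P : GL (Fin 2) F, cjP P (proj g) ∈ borelP → cjP P (proj h) ∈ borelP → False) :
    NoCommonEigen g h := by
  classical
  intro v a b hv hg hh
  obtain ⟨Q, hQ, hQv⟩ : ∃ Q : Matrix (Fin 2) (Fin 2) F, Q.det ≠ 0 ∧ Q *ᵥ ![1, 0] = v := by
    by_cases h0 : v 0 = 0
    · have h1 : v 1 ≠ 0 := fun h1 => hv (funext fun i => by fin_cases i <;> simp [h0, h1])
      refine ⟨!![0, 1; v 1, 0], by simp [Matrix.det_fin_two, h1], ?_⟩
      ext i; fin_cases i <;> simp [Matrix.mulVec, dotProduct, Fin.sum_univ_two, h0]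
    · refine ⟨!![v 0, 0; v 1, 1], by simp [Matrix.det_fin_two, h0], ?_⟩
      ext i; fin_cases i <;> simp [Matrix.mulVec, dotProduct, Fin.sum_univ_two]
  let Qg : GL (Fin 2) F := Matrix.GeneralLinearGroup.mkOfDetNeZero Q hQ
  have key : ∀ (k : SL(2, F)) (l : F), (k : Matrix (Fin 2) (Fin 2) F) *ᵥ v = l • v →
      cjP Qg⁻¹ (proj k) ∈ borelP := by
    intro k l hk
    rw [cjP_proj, proj_mem_borelP]
    have h1 : (cjSL Qg⁻¹ k : Matrix (Fin 2) (Fin 2) F) *ᵥ ![1, 0] = l • ![1, 0] := by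
      show (((Qg⁻¹ : GL (Fin 2) F) : Matrix (Fin 2) (Fin 2) F) * (k : Matrix (Fin 2) (Fin 2) F) * ((Qg⁻¹⁻¹ : GL (Fin 2) F) : Matrix (Fin 2) (Fin 2) F)) *ᵥ _ = _
      rw [inv_inv, ← Matrix.mulVec_mulVec, ← Matrix.mulVec_mulVec]
      show ((Qg⁻¹ : GL (Fin 2) F) : Matrix (Fin 2) (Fin 2) F) *ᵥ ((k : Matrix (Fin 2) (Fin 2) F) *ᵥ (Q *ᵥ ![1, 0])) = _
      rw [hQv, hk, Matrix.mulVec_smul, ← hQv, Matrix.mulVec_mulVec]
      have : ((Qg⁻¹ : GL (Fin 2) F) : Matrix (Fin 2) (Fin 2) F) * Q = 1 := Qg.inv_mul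
      rw [this, Matrix.one_mulVec]
    simpa [Matrix.mulVec, dotProduct, Fin.sum_univ_two] using congrFun h1 1
  exact hb _ (key g a hg) (key h b hh)

/-- A two-generator subgroup, not in a Borel subgroup, lies in a conjugate of `projField K`. -/
theorem exists_closure_le_projField (K : Subfield F) {g h : SL(2, F)} (hg : tr g ∈ K)
    (hh : tr h ∈ K) (hgh : tr (g * h) ∈ K) (hss : tr g ^ 2 ≠ 4)
    (hb : ∀ P : GL (Fin 2) F, cjP P (proj g) ∈ borelP → cjP P (proj h) ∈ borelP → False) :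
    ∃ P : GL (Fin 2) F, (Subgroup.closure {proj g, proj h}).map (cjP P).toMonoidHom ≤ projField K := by
  obtain ⟨P, h1, h2⟩ := exists_conj_into_subfield K hg hh hgh hss (noCommonEigen_of_not_borel hb)
  refine ⟨P, ?_⟩
  rw [MonoidHom.map_closure, Subgroup.closure_le]
  rintro _ ⟨k, (rfl | rfl), rfl⟩
  · exact ⟨_, rfl, 1, one_ne_zero, fun i j => by rw [one_mul]; exact h1 i j⟩
  · exact ⟨_, rfl, 1, one_ne_zero, fun i j => by rw [one_mul]; exact h2 i j⟩

end H42
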