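import Mathlib
import Cfsg.Agent.H39.Platonic
import Cfsg.Agent.H42.PSL2Descent

/-!
Traces of lifts of small-order elements, and descent of `A₄`, `S₄`, `A₅` subgroups of `PSL₂(F)` into
subfield subgroups.
-/

set_option autoImplicit false
set_option linter.style.haveILetI false
set_option linter.unusedSectionVars false

namespace H42

open Matrix H39
open scoped MatrixGroups

variable {F : Type*} [Field F] [Fintype F]

local notation "G2" => Matrix.ProjectiveSpecialLinearGroup (Fin 2) F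

lemma tr_inv (g : SL(2, F)) : tr g⁻¹ = tr g := by
  show ((g⁻¹ : SL(2, F)) : Matrix (Fin 2) (Fin 2) F).trace = tr g
  rw [coe_inv_eq, Matrix.trace_sub, Matrix.trace_smul, Matrix.trace_one, Fintype.card_fin]
  show tr g • ((2 : ℕ) : F) - tr g = tr g
  simp; ring

lemma scalar_comb {g : SL(2, F)} (hg : g ∉ Subgroup.center SL(2, F)) {h : SL(2, F)}
    (hh : h ∈ Subgroup.center SL(2, F)) {a b : F}
    (e : (h : Matrix (Fin 2) (Fin 2) F) = a • (g : Matrix (Fin 2) (Fin 2) F) + b • 1) : a = 0 := by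
  by_contra ha
  apply hg
  rw [mem_center_iff_isScalar2] at hh ⊢
  obtain ⟨h01, h10, h00⟩ := hh
  rw [e] at h01 h10 h00
  simp at h01 h10 h00
  exact ⟨h01.resolve_left ha, h10.resolve_left ha, h00.resolve_right ha⟩

lemma tr_of_sq_central {g : SL(2, F)} (hg : g ∉ Subgroup.center SL(2, F))
    (h : g ^ 2 ∈ Subgroup.center SL(2, F)) : tr g = 0 := by
  refine scalar_comb hg h (b := -1) ?_
  rw [Matrix.SpecialLinearGroup.coe_pow, pow_two, cayley]
  module

lemma tr_of_cube_central {g : SL(2, F)} (hg : g ∉ Subgroup.center SL(2, F))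
    (h : g ^ 3 ∈ Subgroup.center SL(2, F)) : tr g = 1 ∨ tr g = -1 := by
  have := scalar_comb hg h (a := tr g ^ 2 - 1) (b := -tr g) (by
    rw [Matrix.SpecialLinearGroup.coe_pow, pow_succ, pow_two, cayley, sub_mul, smul_mul_assoc, cayley, one_mul]
    module)
  exact sq_eq_one_iff.1 (sub_eq_zero.1 this)

lemma proj_pow_central {g : SL(2, F)} {k : ℕ} (h : proj g ^ k = 1) : g ^ k ∈ Subgroup.center SL(2, F) := by
  rwa [← map_pow, proj_eq_one_iff] at h

lemma not_center_of_proj {g : SL(2, F)} (h : proj g ≠ 1) : g ∉ Subgroup.center SL(2, F) :=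
  fun hc => h (proj_eq_one_iff.2 hc)

lemma tr_pow_eq_of_mod {g : SL(2, F)} {m s : ℕ} (hm0 : 0 < m) (hm : g ^ m = 1)
    (hs : s % m = 1 ∨ s % m = m - 1) : tr (g ^ s) = tr g := by
  rw [pow_eq_pow_mod s hm]
  rcases hs with h | h <;> rw [h]
  · rw [pow_one]
  · have : g ^ (m - 1) = g⁻¹ := eq_inv_of_mul_eq_one_left (by rw [← pow_succ, Nat.sub_add_cancel hm0, hm])
    rw [this, tr_inv]

variable (p : ℕ) [Fact p.Prime] [CharP F p]

lemma tr_pow_char_pow (g : SL(2, F)) (e : ℕ) : tr (g ^ (p ^ e)) = tr g ^ (p ^ e) := by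
  induction e with
  | zero => simp
  | succ e ih => rw [pow_succ, pow_mul, tr_pow_char p, ih, ← pow_mul]

/-- Trace fixed by the `p^e`-power map. -/
lemma tr_pow_eq_self {g : SL(2, F)} {m e : ℕ} (hm0 : 0 < m) (hm : g ^ m = 1)
    (hs : p ^ e % m = 1 ∨ p ^ e % m = m - 1) : tr g ^ (p ^ e) = tr g := by
  rw [← tr_pow_char_pow p g e, tr_pow_eq_of_mod hm0 hm hs]

/-- The prime field inside `F`. -/
lemma exists_prime_subfield : ∃ K : Subfield F, Nat.card K = p ∧ ∀ x : F, x ∈ K ↔ x ^ p = x := by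
  classical
  obtain ⟨b, -, hb⟩ := FiniteField.card F p
  obtain ⟨K, hK⟩ := exists_subfield_card (F := F) p hb one_ne_zero (one_dvd _)
  rw [pow_one] at hK
  exact ⟨K, hK, fun x => by rw [subfield_mem_iff_pow, hK]⟩

/-- No Borel subgroup contains `x, y` whose commutator has order prime to `p`. -/
lemma no_borel_of_comm {a b : G2} {m : ℕ} (hpm : ¬ p ∣ m) (h1 : a * b * a⁻¹ * b⁻¹ ≠ 1)
    (hm : (a * b * a⁻¹ * b⁻¹) ^ m = 1) (P : GL (Fin 2) F) (ha : cjP P a ∈ borelP) (hb : cjP P b ∈ borelP) :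
    False := by
  have hc : cjP P (a * b * a⁻¹ * b⁻¹) ∈ borelP := by
    simp only [map_mul, map_inv]
    exact mul_mem (mul_mem (mul_mem ha hb) (inv_mem ha)) (inv_mem hb)
  have hp1 : cjP P (a * b * a⁻¹ * b⁻¹) ^ p = 1 := by
    rw [← mult_eq_one_iff p hc]
    simp only [map_mul, map_inv]
    rw [mult_mul (inv_mem hb), mult_mul (inv_mem ha), mult_mul hb]
    have e1 : ∀ x : G2, x ∈ borelP → mult x * mult x⁻¹ = 1 := fun x hx => by
      rw [← mult_mul (inv_mem hx), mul_inv_cancel]
      exact (mult_eq_one_iff p (one_mem _)).2 (one_pow p)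
    have ea := e1 _ ha
    have eb := e1 _ hb
    linear_combination (mult (cjP P b) * mult (cjP P b)⁻¹) * ea + eb
  have hm1 : cjP P (a * b * a⁻¹ * b⁻¹) ^ m = 1 := by rw [← map_pow, hm, map_one]
  have := pow_gcd_eq_one.2 ⟨hp1, hm1⟩
  rw [((Fact.out : p.Prime).coprime_iff_not_dvd.2 hpm : Nat.gcd p m = 1), pow_one] at this
  exact h1 ((map_eq_one_iff _ (cjP P).injective).1 this)

/-- Descent with rational matrix lifts. -/
theorem exists_closure_le_range (K : Subfield F) {g h : SL(2, F)} (hg : tr g ∈ K)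
    (hh : tr h ∈ K) (hgh : tr (g * h) ∈ K) (hss : tr g ^ 2 ≠ 4)
    (hb : ∀ P : GL (Fin 2) F, cjP P (proj g) ∈ borelP → cjP P (proj h) ∈ borelP → False) :
    ∃ P : GL (Fin 2) F, (Subgroup.closure {proj g, proj h}).map (cjP P).toMonoidHom ≤ (slToProj K).range := by
  obtain ⟨P, h1, h2⟩ := exists_conj_into_subfield K hg hh hgh hss (noCommonEigen_of_not_borel hb)
  refine ⟨P, ?_⟩
  rw [MonoidHom.map_closure, Subgroup.closure_le]
  have key : ∀ k : SL(2, F), (∀ i j, cjSL P k i j ∈ K) → cjP P (proj k) ∈ (slToProj K).range := by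
    intro k hk
    refine ⟨⟨Matrix.of fun i j => (⟨cjSL P k i j, hk i j⟩ : K), ?_⟩, ?_⟩
    · apply Subtype.ext
      have hd := (cjSL P k).2
      rw [Matrix.det_fin_two] at hd ⊢
      simpa using hd
    · exact congrArg proj (Subtype.ext (Matrix.ext fun i j => rfl))
  rintro _ ⟨k, (rfl | rfl), rfl⟩
  · exact key g h1
  · exact key h h2

/-- Commuting with two non-commuting elements forces a scalar. -/
lemma eq_smul_one_of_commute {a b : SL(2, F)} (hab : ¬ Commute a b) {M : Matrix (Fin 2) (Fin 2) F}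
    (ha : M * a = (a : Matrix (Fin 2) (Fin 2) F) * M) (hb : M * b = (b : Matrix (Fin 2) (Fin 2) F) * M) :
    ∃ s : F, M = s • 1 := by
  have hs : ¬ H40.IsScalar2 (a : Matrix (Fin 2) (Fin 2) F) := fun hs =>
    hab (Subgroup.mem_center_iff.1 (mem_center_iff_isScalar2.2 hs) b).symm
  obtain ⟨c, d, hcd⟩ := H40.comm_eq_poly hs ha
  by_cases hd : d = 0
  · exact ⟨c, by rw [hcd, hd, zero_smul, add_zero]⟩
  · exfalso
    rw [hcd, add_mul, mul_add, smul_mul_assoc, smul_mul_assoc, mul_smul_comm, mul_smul_comm, one_mul, mul_one]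
      at hb
    exact hab (Subtype.ext (smul_right_injective _ hd (add_left_cancel hb)))

/-- An element normalising a rational non-commuting pair is rational up to a scalar. -/
lemma mem_projField_of_conj (K : Subfield F) {x a b : G2} (ha : a ∈ (slToProj K).range)
    (hb : b ∈ (slToProj K).range) (hab : ¬ Commute a b) (hxa : x * a * x⁻¹ ∈ (slToProj K).range)
    (hxb : x * b * x⁻¹ ∈ (slToProj K).range) : x ∈ projField K := by
  classical
  obtain ⟨A, rfl⟩ := ha
  obtain ⟨B, rfl⟩ := hb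
  obtain ⟨A', hA'⟩ := hxa
  obtain ⟨B', hB'⟩ := hxb
  obtain ⟨g, rfl⟩ := proj_surjective x
  set fA := Matrix.SpecialLinearGroup.map K.subtype A with hfA
  set fB := Matrix.SpecialLinearGroup.map K.subtype B with hfB
  have hAB : ¬ Commute fA fB := fun h => hab (h.map proj)
  have hsign : ∀ (C C' : SL(2, K)), slToProj K C' = proj g * slToProj K C * (proj g)⁻¹ →
      ∃ e : K, (g : Matrix (Fin 2) (Fin 2) F) * (C : Matrix (Fin 2) (Fin 2) K).map K.subtype =
        (e : F) • ((C' : Matrix (Fin 2) (Fin 2) K).map K.subtype * (g : Matrix (Fin 2) (Fin 2) F)) := by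
    intro C C' h
    have h1 : proj (g * Matrix.SpecialLinearGroup.map K.subtype C * g⁻¹) =
        proj (Matrix.SpecialLinearGroup.map K.subtype C') := by
      rw [map_mul, map_mul, map_inv]; exact h.symm
    rcases proj_eq_proj_iff.1 h1 with h2 | h2
    · refine ⟨1, ?_⟩
      have h3 : g * Matrix.SpecialLinearGroup.map K.subtype C =
          Matrix.SpecialLinearGroup.map K.subtype C' * g := by rw [h2]; group
      have h4 := congrArg Subtype.val h3
      simp only [Matrix.SpecialLinearGroup.coe_mul] at h4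
      rw [OneMemClass.coe_one, one_smul]
      exact h4
    · refine ⟨-1, ?_⟩
      have h3 : -(g * Matrix.SpecialLinearGroup.map K.subtype C) =
          Matrix.SpecialLinearGroup.map K.subtype C' * g := by rw [h2, neg_mul]; simp [mul_assoc]
      have h4 := congrArg Subtype.val h3
      simp only [Matrix.SpecialLinearGroup.coe_neg, Matrix.SpecialLinearGroup.coe_mul] at h4
      rw [NegMemClass.coe_neg, OneMemClass.coe_one, neg_one_smul]
      exact neg_eq_iff_eq_neg.1 h4
  obtain ⟨eA, hgA⟩ := hsign A A' hA'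
  obtain ⟨eB, hgB⟩ := hsign B B' hB'
  -- a rational solution of the intertwining equations
  obtain ⟨i, j, hij⟩ : ∃ i j, g i j ≠ 0 := by
    by_contra h
    push Not at h
    have hd := g.2
    rw [Matrix.det_fin_two] at hd
    simp [h] at hd
  obtain ⟨φ, hφ⟩ : ∃ φ : Module.Dual K F, φ (g i j) ≠ 0 := by
    by_contra h
    push Not at h
    exact hij ((Module.forall_dual_apply_eq_zero_iff K _).1 h)
  set U : Matrix (Fin 2) (Fin 2) K := (g : Matrix (Fin 2) (Fin 2) F).map φ with hU
  have hlin : ∀ (C C' : Matrix (Fin 2) (Fin 2) K) (e : K),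
      (g : Matrix (Fin 2) (Fin 2) F) * C.map K.subtype = (e : F) • (C'.map K.subtype * (g : Matrix (Fin 2) (Fin 2) F)) →
      U * C = e • (C' * U) := by
    intro C C' e h
    ext r s
    have h1 := congrArg φ (congrFun (congrFun h r) s)
    simp only [Matrix.mul_apply, Matrix.smul_apply, Matrix.map_apply, smul_eq_mul, Fin.sum_univ_two] at h1
    simp only [hU, Matrix.mul_apply, Matrix.smul_apply, Matrix.map_apply, smul_eq_mul, Fin.sum_univ_two]
    have e1 : ∀ (k : K) (z : F), φ (z * K.subtype k) = φ z * k := fun k z => by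
      rw [mul_comm, show K.subtype k * z = k • z from rfl, map_smul, smul_eq_mul, mul_comm]
    have e2 : ∀ (k : K) (z : F), φ (K.subtype k * z) = k * φ z := fun k z => by
      rw [show K.subtype k * z = k • z from rfl, map_smul, smul_eq_mul]
    rw [map_add, e1, e1, show (e : F) = K.subtype e from rfl, e2, map_add, e2, e2] at h1
    exact congrArg Subtype.val h1
  have hgu : ∀ (C C' : SL(2, K)) (e : K),
      (g : Matrix (Fin 2) (Fin 2) F) * (C : Matrix (Fin 2) (Fin 2) K).map K.subtype =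
        (e : F) • ((C' : Matrix (Fin 2) (Fin 2) K).map K.subtype * (g : Matrix (Fin 2) (Fin 2) F)) →
      (((g⁻¹ : SL(2, F)) : Matrix (Fin 2) (Fin 2) F) * U.map K.subtype) *
          (Matrix.SpecialLinearGroup.map K.subtype C : Matrix (Fin 2) (Fin 2) F) =
        (Matrix.SpecialLinearGroup.map K.subtype C : Matrix (Fin 2) (Fin 2) F) *
          (((g⁻¹ : SL(2, F)) : Matrix (Fin 2) (Fin 2) F) * U.map K.subtype) := by
    intro C C' e h
    show ((g⁻¹ : SL(2, F)) : Matrix (Fin 2) (Fin 2) F) * U.map K.subtype * (C : Matrix (Fin 2) (Fin 2) K).map K.subtype =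
      (C : Matrix (Fin 2) (Fin 2) K).map K.subtype * _
    have h1 : U.map K.subtype * (C : Matrix (Fin 2) (Fin 2) K).map K.subtype =
        (e : F) • ((C' : Matrix (Fin 2) (Fin 2) K).map K.subtype * U.map K.subtype) := by
      rw [← Matrix.map_mul, hlin _ _ e h, ← Matrix.map_mul]
      ext r s; simp
    have hgi : ((g⁻¹ : SL(2, F)) : Matrix (Fin 2) (Fin 2) F) * (g : Matrix (Fin 2) (Fin 2) F) = 1 := by
      rw [← Matrix.SpecialLinearGroup.coe_mul, inv_mul_cancel, Matrix.SpecialLinearGroup.coe_one]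
    have hgi' : (g : Matrix (Fin 2) (Fin 2) F) * ((g⁻¹ : SL(2, F)) : Matrix (Fin 2) (Fin 2) F) = 1 := by
      rw [← Matrix.SpecialLinearGroup.coe_mul, mul_inv_cancel, Matrix.SpecialLinearGroup.coe_one]
    have h2 := congrArg (fun X => ((g⁻¹ : SL(2, F)) : Matrix (Fin 2) (Fin 2) F) * X *
      ((g⁻¹ : SL(2, F)) : Matrix (Fin 2) (Fin 2) F)) h
    simp only [← mul_assoc, hgi, one_mul, mul_smul_comm, smul_mul_assoc] at h2
    rw [mul_assoc _ (g : Matrix (Fin 2) (Fin 2) F), hgi', mul_one] at h2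
    rw [mul_assoc, h1, mul_smul_comm, ← mul_assoc, ← mul_assoc, h2, smul_mul_assoc]
  obtain ⟨s, hs⟩ := eq_smul_one_of_commute hAB (hgu A A' eA hgA) (hgu B B' eB hgB)
  have hUg : U.map K.subtype = s • (g : Matrix (Fin 2) (Fin 2) F) := by
    have h1 := congrArg (fun X => (g : Matrix (Fin 2) (Fin 2) F) * X) hs
    simp only [← mul_assoc, ← Matrix.SpecialLinearGroup.coe_mul, mul_inv_cancel, Matrix.SpecialLinearGroup.coe_one,
      one_mul, mul_smul_comm, mul_one] at h1
    exact h1
  refine ⟨g, rfl, s, ?_, fun r c => ?_⟩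
  · rintro rfl
    have := congrFun (congrFun hUg i) j
    simp [hU] at this
    exact hφ this
  · have := congrFun (congrFun hUg r) c
    simp only [Matrix.map_apply, Matrix.smul_apply, smul_eq_mul] at this
    rw [← this]
    exact (U r c).2

end H42
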