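import Mathlib
import Cfsg.Agent.H42.PSL2Traces
import Cfsg.Agent.H39.InvolTor

/-!
`A₄`, `S₄`, `A₅` inside `PSL₂(F)` are conjugate into small subfield subgroups; the field case of the
list of maximal subgroups.
-/

set_option autoImplicit false
set_option linter.style.haveILetI false
set_option linter.unusedSectionVars false

namespace H42

open Matrix H39
open scoped MatrixGroups

/-- generators of `A₄` -/
def a4a : alternatingGroup (Fin 4) :=
  ⟨Equiv.swap 0 1 * Equiv.swap 2 3, Equiv.Perm.mem_alternatingGroup.2 (by decide)⟩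

/-- generators of `A₄` -/
def a4b : alternatingGroup (Fin 4) :=
  ⟨Equiv.swap 0 1 * Equiv.swap 1 2, Equiv.Perm.mem_alternatingGroup.2 (by decide)⟩

lemma a4_rel : a4a ^ 2 = 1 ∧ a4b ^ 3 = 1 ∧ (a4a * a4b) ^ 3 = 1 ∧ a4a ≠ 1 ∧ a4b ≠ 1 ∧ a4a * a4b ≠ 1 ∧
    (a4a * a4b * a4a⁻¹ * a4b⁻¹) ^ 2 = 1 ∧ a4a * a4b * a4a⁻¹ * a4b⁻¹ ≠ 1 := by
  decide

lemma a4_closure : Subgroup.closure ({a4a, a4b} : Set (alternatingGroup (Fin 4))) = ⊤ := by
  rw [eq_top_iff]
  intro x _
  have h : ∀ x : alternatingGroup (Fin 4), ∃ i j k : Fin 3, x = a4b ^ (i : ℕ) ∨ x = a4b ^ (j : ℕ) * a4a * a4b ^ (k : ℕ) := by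
    decide
  have ha : a4a ∈ Subgroup.closure ({a4a, a4b} : Set (alternatingGroup (Fin 4))) :=
    Subgroup.subset_closure (Set.mem_insert _ _)
  have hb : a4b ∈ Subgroup.closure ({a4a, a4b} : Set (alternatingGroup (Fin 4))) :=
    Subgroup.subset_closure (Set.mem_insert_of_mem _ rfl)
  obtain ⟨i, j, k, rfl | rfl⟩ := h x
  · exact pow_mem hb _
  · exact mul_mem (mul_mem (pow_mem hb _) ha) (pow_mem hb _)

/-- generators of `A₅` -/
def a5a : alternatingGroup (Fin 5) :=
  ⟨Equiv.swap 0 1 * Equiv.swap 2 3, Equiv.Perm.mem_alternatingGroup.2 (by decide)⟩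

/-- generators of `A₅` -/
def a5b : alternatingGroup (Fin 5) :=
  ⟨Equiv.swap 0 2 * Equiv.swap 2 4, Equiv.Perm.mem_alternatingGroup.2 (by decide)⟩

lemma a5_rel : a5a ^ 2 = 1 ∧ a5b ^ 3 = 1 ∧ (a5a * a5b) ^ 5 = 1 ∧ a5a ≠ 1 ∧ a5b ≠ 1 ∧ a5a * a5b ≠ 1 := by
  decide

/-- commutators of order 2 and 3 in `A₅` -/
lemma a5_comm :
    (∃ x y : alternatingGroup (Fin 5), (x * y * x⁻¹ * y⁻¹) ^ 2 = 1 ∧ x * y * x⁻¹ * y⁻¹ ≠ 1) ∧
    (∃ x y : alternatingGroup (Fin 5), (x * y * x⁻¹ * y⁻¹) ^ 3 = 1 ∧ x * y * x⁻¹ * y⁻¹ ≠ 1) :=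
  ⟨⟨⟨Equiv.swap 0 1 * Equiv.swap 2 3, Equiv.Perm.mem_alternatingGroup.2 (by decide)⟩,
    ⟨Equiv.swap 0 1 * Equiv.swap 1 2, Equiv.Perm.mem_alternatingGroup.2 (by decide)⟩, by decide +kernel, by decide +kernel⟩,
   ⟨⟨Equiv.swap 0 1 * Equiv.swap 1 2, Equiv.Perm.mem_alternatingGroup.2 (by decide)⟩,
    ⟨Equiv.swap 0 3 * Equiv.swap 3 4, Equiv.Perm.mem_alternatingGroup.2 (by decide)⟩, by decide +kernel, by decide +kernel⟩⟩

lemma a5_closure : Subgroup.closure ({a5a, a5b} : Set (alternatingGroup (Fin 5))) = ⊤ := by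
  set H := Subgroup.closure ({a5a, a5b} : Set (alternatingGroup (Fin 5))) with hH
  have ha : a5a ∈ H := Subgroup.subset_closure (Set.mem_insert _ _)
  have hb : a5b ∈ H := Subgroup.subset_closure (Set.mem_insert_of_mem _ rfl)
  have hd : ∀ (x : alternatingGroup (Fin 5)) (q : ℕ), q.Prime → x ∈ H → x ^ q = 1 → x ≠ 1 → q ∣ Nat.card H := by
    intro x q hq hx h1 h2
    haveI : Fact q.Prime := ⟨hq⟩
    rw [← orderOf_eq_prime h1 h2]
    exact Subgroup.orderOf_dvd_natCard H hx
  obtain ⟨r2, r3, r5, n2, n3, n5⟩ := a5_rel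
  have h2 := hd _ 2 Nat.prime_two ha r2 n2
  have h3 := hd _ 3 Nat.prime_three hb r3 n3
  have h5 := hd _ 5 (by norm_num) (mul_mem ha hb) r5 n5
  have hc : Nat.card (alternatingGroup (Fin 5)) = 60 := by rw [Nat.card_eq_fintype_card]; rfl
  have h60 : Nat.card H ∣ 60 := hc ▸ Subgroup.card_subgroup_dvd_card H
  rcases eq_or_ne H ⊤ with h | hne
  · exact h
  · exfalso
    have hlt : Nat.card H < 60 := by
      rcases (Nat.le_of_dvd (by norm_num) h60).lt_or_eq with h | h
      · exact h
      · exact absurd (Subgroup.eq_top_of_card_eq H (h.trans hc.symm)) hne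
    have h30 : Nat.card H = 30 := by
      obtain ⟨c, hc'⟩ := Nat.Coprime.mul_dvd_of_dvd_of_dvd (by norm_num : Nat.Coprime (2 * 3) 5)
        (Nat.Coprime.mul_dvd_of_dvd_of_dvd (by norm_num : Nat.Coprime 2 3) h2 h3) h5
      have hpos : 0 < Nat.card H := Nat.card_pos
      omega
    have hidx : H.index = 2 := by
      have := H.card_mul_index
      rw [h30, hc] at this; omega
    haveI := Subgroup.normal_of_index_eq_two hidx
    rcases IsSimpleGroup.eq_bot_or_eq_top_of_normal H inferInstance with h | h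
    · rw [h, Subgroup.card_bot] at h30; omega
    · exact hne h

variable {F : Type*} [Field F] [Fintype F] (p : ℕ) [Fact p.Prime] [CharP F p]

local notation "G2" => Matrix.ProjectiveSpecialLinearGroup (Fin 2) F

include p in
lemma two_ne_zero_of_odd (hodd : Odd (Fintype.card F)) : (2 : F) ≠ 0 :=
  Ring.two_ne_zero (fun h => two_ne_p p hodd ((ringChar.eq F p).symm.trans h))

lemma exists_lifts {X : Type*} [Group X] (f : X →* G2) (hf : Function.Injective f) {x : X} (hx : x ≠ 1) :
    ∃ g : SL(2, F), proj g = f x ∧ g ∉ Subgroup.center SL(2, F) := by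
  obtain ⟨g, hg⟩ := proj_surjective (f x)
  exact ⟨g, hg, not_center_of_proj (hg ▸ fun h => hx ((map_eq_one_iff f hf).1 h))⟩

lemma lift_pow {X : Type*} [Group X] (f : X →* G2) {x : X} {g : SL(2, F)} (hg : proj g = f x) {k : ℕ}
    (hk : x ^ k = 1) : g ^ k ∈ Subgroup.center SL(2, F) :=
  proj_pow_central (by rw [hg, ← map_pow, hk, map_one])

lemma map_range_le_of_closure {X : Type*} [Group X] (f : X →* G2) {a b : X}
    (hcl : Subgroup.closure ({a, b} : Set X) = ⊤) {g h : SL(2, F)} (hg : proj g = f a) (hh : proj h = f b) :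
    f.range ≤ Subgroup.closure {proj g, proj h} := by
  rw [MonoidHom.range_eq_map, ← hcl, MonoidHom.map_closure, Subgroup.closure_le]
  rintro _ ⟨x, (rfl | rfl), rfl⟩
  · exact Subgroup.subset_closure (by rw [← hg]; exact Set.mem_insert _ _)
  · exact Subgroup.subset_closure (by rw [← hh]; exact Set.mem_insert_of_mem _ rfl)

lemma no_borel_of_range {X : Type*} [Group X] (f : X →* G2) (hf : Function.Injective f) {a b : X}
    (hcl : Subgroup.closure ({a, b} : Set X) = ⊤) {g h : SL(2, F)} (hg : proj g = f a) (hh : proj h = f b)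
    {x y : X} {m : ℕ} (hpm : ¬ p ∣ m) (h1 : x * y * x⁻¹ * y⁻¹ ≠ 1) (hm : (x * y * x⁻¹ * y⁻¹) ^ m = 1)
    (P : GL (Fin 2) F) (hga : cjP P (proj g) ∈ borelP) (hhb : cjP P (proj h) ∈ borelP) : False := by
  have hle : ∀ z : X, cjP P (f z) ∈ borelP := by
    intro z
    have hz := map_range_le_of_closure f hcl hg hh ⟨z, rfl⟩
    have : Subgroup.closure {proj g, proj h} ≤ borelP.comap (cjP P).toMonoidHom := by
      rw [Subgroup.closure_le]
      rintro w (rfl | rfl)
      · exact hga
      · exact hhb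
    exact this hz
  refine no_borel_of_comm p (a := f x) (b := f y) hpm ?_ ?_ P (hle x) (hle y)
  · simp only [← map_inv, ← map_mul]
    exact fun e => h1 ((map_eq_one_iff f hf).1 e)
  · simp only [← map_inv, ← map_mul, ← map_pow]
    rw [hm, map_one]

lemma not_dvd_two_of_odd (hodd : Odd (Fintype.card F)) : ¬ p ∣ 2 := fun h =>
  two_ne_p p hodd ((Nat.prime_dvd_prime_iff_eq (Fact.out : p.Prime) Nat.prime_two).1 h)

/-- `A₄` descends to the prime field. -/
theorem alt4_descend (hodd : Odd (Fintype.card F)) (f : alternatingGroup (Fin 4) →* G2)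
    (hf : Function.Injective f) :
    ∃ (P : GL (Fin 2) F) (K : Subfield F), Nat.card K = p ∧
      f.range.map (cjP P).toMonoidHom ≤ (slToProj K).range := by
  obtain ⟨K, hK, hKmem⟩ := exists_prime_subfield (F := F) p
  obtain ⟨r2, r3, r33, n2, n3, n33, c2, cn⟩ := a4_rel
  obtain ⟨g, hg, hgc⟩ := exists_lifts f hf n2
  obtain ⟨h, hh, hhc⟩ := exists_lifts f hf n3
  have hgh : proj (g * h) = f (a4a * a4b) := by rw [map_mul, map_mul, hg, hh]
  have hghc : g * h ∉ Subgroup.center SL(2, F) := not_center_of_proj (hgh ▸ fun e => n33 ((map_eq_one_iff f hf).1 e))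
  have t0 := tr_of_sq_central hgc (lift_pow f hg r2)
  have hone : ∀ t : F, t = 1 ∨ t = -1 → t ∈ K := by
    rintro t (rfl | rfl)
    · exact one_mem K
    · exact neg_mem (one_mem K)
  obtain ⟨P, hP⟩ := exists_closure_le_range K (g := g) (h := h) (by rw [t0]; exact zero_mem K)
    (hone _ (tr_of_cube_central hhc (lift_pow f hh r3))) (hone _ (tr_of_cube_central hghc (lift_pow f hgh r33)))
    (by rw [t0]; intro e; exact two_ne_zero_of_odd p hodd ((pow_eq_zero_iff two_ne_zero).1
      (show (2 : F) ^ 2 = 0 by linear_combination -e)))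
    (no_borel_of_range p f hf a4_closure hg hh (not_dvd_two_of_odd p hodd) cn c2)
  exact ⟨P, K, hK, le_trans (Subgroup.map_mono (map_range_le_of_closure f a4_closure hg hh)) hP⟩

/-- `S₄` descends to `projField` of the prime field. -/
theorem perm4_descend (hodd : Odd (Fintype.card F)) (f : Equiv.Perm (Fin 4) →* G2)
    (hf : Function.Injective f) :
    ∃ (P : GL (Fin 2) F) (K : Subfield F), Nat.card K = p ∧
      f.range.map (cjP P).toMonoidHom ≤ projField K := by
  obtain ⟨P, K, hK, hP⟩ := alt4_descend p hodd (f.comp (alternatingGroup (Fin 4)).subtype)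
    (hf.comp Subtype.val_injective)
  refine ⟨P, K, hK, ?_⟩
  rintro _ ⟨_, ⟨σ, rfl⟩, rfl⟩
  have hin : ∀ τ : Equiv.Perm (Fin 4), τ ∈ alternatingGroup (Fin 4) → cjP P (f τ) ∈ (slToProj K).range :=
    fun τ hτ => hP ⟨f τ, ⟨⟨τ, hτ⟩, rfl⟩, rfl⟩
  have hn : ∀ τ : alternatingGroup (Fin 4), σ * τ * σ⁻¹ ∈ alternatingGroup (Fin 4) := fun τ =>
    (inferInstance : (alternatingGroup (Fin 4)).Normal).conj_mem τ τ.2 σ
  refine mem_projField_of_conj K (a := cjP P (f a4a)) (b := cjP P (f a4b)) (hin _ a4a.2) (hin _ a4b.2) ?_ ?_ ?_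
  · intro hc
    have h1 : cjP P (f ((a4a : Equiv.Perm (Fin 4)) * a4b)) = cjP P (f ((a4b : Equiv.Perm (Fin 4)) * a4a)) := by
      rw [map_mul, map_mul, map_mul, map_mul]; exact hc.eq
    have h2 := hf ((cjP P).injective h1)
    exact absurd h2 (by decide)
  · show cjP P (f σ) * cjP P (f a4a) * (cjP P (f σ))⁻¹ ∈ _
    simp only [← map_inv, ← map_mul]; exact hin _ (hn a4a)
  · show cjP P (f σ) * cjP P (f a4b) * (cjP P (f σ))⁻¹ ∈ _
    simp only [← map_inv, ← map_mul]; exact hin _ (hn a4b)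

lemma pow_ten_eq_one {g : SL(2, F)} (h : g ^ 5 ∈ Subgroup.center SL(2, F)) : g ^ 10 = 1 := by
  rw [show 10 = 5 * 2 from rfl, pow_mul]
  rcases mem_center_iff_pm.1 h with e | e <;> rw [e] <;> simp

/-- `A₅` in odd characteristic descends to the field with `p` or `p²` elements. -/
theorem alt5_descend (hodd : Odd (Fintype.card F)) (f : alternatingGroup (Fin 5) →* G2)
    (hf : Function.Injective f) :
    ∃ (P : GL (Fin 2) F) (K : Subfield F),
      (Nat.card K = p ∨ (Nat.card K = p ^ 2 ∧ (p % 5 = 2 ∨ p % 5 = 3))) ∧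
      f.range.map (cjP P).toMonoidHom ≤ (slToProj K).range := by
  obtain ⟨K₁, hK₁, hK₁mem⟩ := exists_prime_subfield (F := F) p
  obtain ⟨r2, r3, r5, n2, n3, n5⟩ := a5_rel
  obtain ⟨g, hg, hgc⟩ := exists_lifts f hf n2
  obtain ⟨h, hh, hhc⟩ := exists_lifts f hf n3
  have hgh : proj (g * h) = f (a5a * a5b) := by rw [map_mul, map_mul, hg, hh]
  have hghc : g * h ∉ Subgroup.center SL(2, F) := not_center_of_proj (hgh ▸ fun e => n5 ((map_eq_one_iff f hf).1 e))
  have t0 := tr_of_sq_central hgc (lift_pow f hg r2)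
  have h10 := pow_ten_eq_one (lift_pow f hgh r5)
  set u := tr (g * h)
  have hp := (Fact.out : p.Prime)
  have hp2 : p % 2 = 1 := hp.eq_two_or_odd.resolve_left (two_ne_p p hodd)
  obtain ⟨b, hb, hbq⟩ := FiniteField.card F p
  -- choose the field
  obtain ⟨K, hK, hK1, huK⟩ : ∃ K : Subfield F,
      (Nat.card K = p ∨ (Nat.card K = p ^ 2 ∧ (p % 5 = 2 ∨ p % 5 = 3))) ∧ K₁ ≤ K ∧ u ∈ K := by
    by_cases hu : u ^ p = u
    · exact ⟨K₁, Or.inl hK₁, le_rfl, (hK₁mem u).2 hu⟩
    have h5 : p % 5 = 2 ∨ p % 5 = 3 := by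
      by_contra hc
      apply hu
      by_cases hp5 : p % 5 = 0
      · -- `p = 5`: a unipotent element
        have hpe : p = 5 := ((Nat.prime_dvd_prime_iff_eq (by norm_num) hp).1 (Nat.dvd_of_mod_eq_zero hp5)).symm
        have h4 : u ^ 2 = 4 := (pow_char_eq_one_iff p (g := g * h)).1 (by
          rw [hgh, hpe, ← map_pow, r5, map_one])
        have hcases : u = 2 ∨ u = -2 := by
          have : (u - 2) * (u + 2) = 0 := by linear_combination h4
          rcases mul_eq_zero.1 this with e | e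
          · exact Or.inl (sub_eq_zero.1 e)
          · exact Or.inr (eq_neg_of_add_eq_zero_left e)
        refine (hK₁mem u).1 ?_
        have h2 : (2 : F) ∈ K₁ := by
          have := add_mem (one_mem K₁) (one_mem K₁)
          rwa [one_add_one_eq_two] at this
        rcases hcases with e | e <;> rw [e]
        · exact h2
        · exact neg_mem h2
      · have := tr_pow_eq_self p (e := 1) (by norm_num : 0 < 10) h10 (by rw [pow_one]; omega)
        rwa [pow_one] at this
    have hu2 : u ^ (p ^ 2) = u := tr_pow_eq_self p (e := 2) (by norm_num : 0 < 10) h10 (by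
      rw [Nat.pow_mod]
      have : p % 10 = 3 ∨ p % 10 = 7 := by omega
      rcases this with e | e <;> rw [e] <;> simp)
    have hbeven : 2 ∣ (b : ℕ) := by
      by_contra hbo
      apply hu
      obtain ⟨k, hk⟩ : ∃ k, (b : ℕ) = 2 * k + 1 := ⟨(b : ℕ) / 2, by omega⟩
      have hk' : ∀ j : ℕ, u ^ (p ^ (2 * j)) = u := by
        intro j
        induction j with
        | zero => simp
        | succ j ih => rw [Nat.mul_succ, pow_add, pow_mul, ih, hu2]
      have hF := FiniteField.pow_card u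
      rw [hbq, hk, pow_succ, pow_mul, hk'] at hF
      exact hF
    obtain ⟨K, hK⟩ := exists_subfield_card (F := F) p hbq two_ne_zero hbeven
    exact ⟨K, Or.inr ⟨hK, h5⟩, subfield_le_of_card_pow (j := 2) (by rw [hK, hK₁]),
      (subfield_mem_iff_pow K).2 (by rw [hK]; exact hu2)⟩
  obtain ⟨⟨x, y, hm, h1⟩, -⟩ := a5_comm
  obtain ⟨P, hP⟩ := exists_closure_le_range K (g := g) (h := h) (by rw [t0]; exact zero_mem K)
    (by rcases tr_of_cube_central hhc (lift_pow f hh r3) with e | e <;> rw [e]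
        · exact one_mem K
        · exact neg_mem (one_mem K)) huK
    (by rw [t0]; intro e; exact two_ne_zero_of_odd p hodd ((pow_eq_zero_iff two_ne_zero).1
      (show (2 : F) ^ 2 = 0 by linear_combination -e)))
    (no_borel_of_range p f hf a5_closure hg hh (not_dvd_two_of_odd p hodd) h1 hm)
  exact ⟨P, K, hK, le_trans (Subgroup.map_mono (map_range_le_of_closure f a5_closure hg hh)) hP⟩

/-- `A₅` in characteristic two descends to the field with four elements. -/
theorem alt5_descend_two [CharP F 2] (f : alternatingGroup (Fin 5) →* G2) (hf : Function.Injective f) :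
    ∃ (P : GL (Fin 2) F) (K : Subfield F), Nat.card K = 4 ∧
      f.range.map (cjP P).toMonoidHom ≤ (slToProj K).range := by
  haveI : Fact (Nat.Prime 2) := ⟨Nat.prime_two⟩
  obtain ⟨r2, r3, r5, n2, n3, n5⟩ := a5_rel
  obtain ⟨g, hg, hgc⟩ := exists_lifts f hf n2
  obtain ⟨h, hh, hhc⟩ := exists_lifts f hf n3
  have h20 : (2 : F) = 0 := CharTwo.two_eq_zero
  have hneg : (-1 : SL(2, F)) = 1 := by
    have h1 : (-1 : F) = 1 := by linear_combination -h20
    apply Subtype.ext
    rw [Matrix.SpecialLinearGroup.coe_neg, Matrix.SpecialLinearGroup.coe_one]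
    ext i j; fin_cases i <;> fin_cases j <;> simp [h1]
  have hcen : ∀ z ∈ Subgroup.center SL(2, F), z = 1 := by
    intro z hz
    rcases mem_center_iff_pm.1 hz with e | e
    · exact e
    · exact e.trans hneg
  have hgh : proj (g * h) = f (a5a * a5b) := by rw [map_mul, map_mul, hg, hh]
  have hghc : g * h ∉ Subgroup.center SL(2, F) := not_center_of_proj (hgh ▸ fun e => n5 ((map_eq_one_iff f hf).1 e))
  have h5 : (g * h) ^ 5 = 1 := hcen _ (lift_pow f hgh r5)
  set u := tr (g * h) with hu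
  have hu4 : u ^ (2 ^ 2) = u := tr_pow_eq_self 2 (e := 2) (by norm_num : 0 < 5) h5 (by norm_num)
  have t1 : tr h = 1 := by
    rcases tr_of_cube_central hhc (lift_pow f hh r3) with e | e
    · exact e
    · rw [e]; linear_combination -h20
  have t0 := tr_of_sq_central hgc (lift_pow f hg r2)
  have hu2 : u ^ 2 ≠ u := by
    intro e
    have e' : u * (u - 1) = 0 := by linear_combination e
    set w := g * h with hw
    have hq : ∀ k : ℕ, w ^ k = 1 → w ^ 5 = 1 → Nat.Coprime k 5 → False := by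
      intro k hk hk5 hc
      have := pow_gcd_eq_one.2 ⟨hk, hk5⟩
      rw [hc, pow_one] at this
      exact hghc (this ▸ one_mem _)
    rcases mul_eq_zero.1 e' with e0 | e0
    · -- trace 0: an involution
      refine hq 2 ?_ h5 (by norm_num)
      apply Subtype.ext
      rw [Matrix.SpecialLinearGroup.coe_pow, pow_two, cayley, show tr w = 0 from e0, zero_smul, zero_sub,
        Matrix.SpecialLinearGroup.coe_one]
      ext i j; fin_cases i <;> fin_cases j <;> simp <;> linear_combination -h20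
    · refine hq 3 ?_ h5 (by norm_num)
      apply Subtype.ext
      rw [Matrix.SpecialLinearGroup.coe_pow, pow_succ, pow_two, cayley, show tr w = 1 from sub_eq_zero.1 e0,
        one_smul, sub_mul, cayley, show tr w = 1 from sub_eq_zero.1 e0, one_smul, one_mul,
        Matrix.SpecialLinearGroup.coe_one]
      ext i j; fin_cases i <;> fin_cases j <;> simp <;> linear_combination -h20
  obtain ⟨b, hb, hbq⟩ := FiniteField.card F 2
  have hbeven : 2 ∣ (b : ℕ) := by
    by_contra hbo
    apply hu2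
    obtain ⟨k, hk⟩ : ∃ k, (b : ℕ) = 2 * k + 1 := ⟨(b : ℕ) / 2, by omega⟩
    have hk' : ∀ j : ℕ, u ^ (2 ^ (2 * j)) = u := by
      intro j
      induction j with
      | zero => simp
      | succ j ih => rw [Nat.mul_succ, pow_add, pow_mul, ih, hu4]
    have hF := FiniteField.pow_card u
    rw [hbq, hk, pow_succ, pow_mul, hk'] at hF
    exact hF
  obtain ⟨K, hK⟩ := exists_subfield_card (F := F) 2 hbq two_ne_zero hbeven
  obtain ⟨-, x, y, hm, h1⟩ := a5_comm
  have hgh' : tr (h * g) = u := by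
    rw [hu, show h * g = h * (g * h) * h⁻¹ by group, tr_conj]
  obtain ⟨P, hP⟩ := exists_closure_le_range K (g := h) (h := g) (by rw [t1]; exact one_mem K)
    (by rw [t0]; exact zero_mem K) (by rw [hgh']; exact (subfield_mem_iff_pow K).2 (by rw [hK]; exact hu4))
    (by rw [t1]; intro e; exact one_ne_zero (α := F) (by linear_combination e + 2 * h20))
    (fun P hPh hPg => no_borel_of_range 2 f hf a5_closure hg hh (by norm_num : ¬ 2 ∣ 3) h1 hm P hPg hPh)
  refine ⟨P, K, hK, le_trans (Subgroup.map_mono (le_trans (map_range_le_of_closure f a5_closure hg hh) ?_)) hP⟩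
  rw [Set.pair_comm]

include p in
/-- Field case: a maximal subgroup inside a conjugate of a proper subfield subgroup. -/
theorem field_case (M : Subgroup G2) (hM : IsCoatom M) (P : GL (Fin 2) F) (K : Subfield F)
    (hle : M.map (cjP P).toMonoidHom ≤ projField K) (hlt : Nat.card K < Fintype.card F) :
    ∃ r : ℕ, r.Prime ∧ Fintype.card F = Nat.card K ^ r ∧ M.map (cjP P).toMonoidHom = projField K := by
  have hM' : IsCoatom (M.map (cjP P).toMonoidHom) := (OrderIso.isCoatom_iff (cjP P).mapSubgroup M).2 hM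
  have heq : M.map (cjP P).toMonoidHom = projField K := by
    rcases eq_or_lt_of_le hle with h | h
    · exact h
    · exact absurd (hM'.2 _ h) (projField_ne_top hlt)
  obtain ⟨m, hm0, hm⟩ := subfield_card_pow K
  have hm1 : m ≠ 1 := by rintro rfl; rw [pow_one] at hm; omega
  refine ⟨m, ?_, hm, heq⟩
  by_contra hnp
  obtain ⟨j, hjd, hj2, hjm⟩ := Nat.exists_dvd_of_not_prime2 (by omega) hnp
  obtain ⟨i, rfl⟩ := hjd
  obtain ⟨a, ha0, ha⟩ := subfield_card_eq_pow (p := p) K
  have hFp : Fintype.card F = p ^ (a * (j * i)) := by rw [hm, ha, ← pow_mul]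
  obtain ⟨L, hL⟩ := exists_subfield_card (F := F) p (a := a * j) hFp
    (Nat.mul_ne_zero ha0.ne' (by omega)) (by rw [← mul_assoc]; exact dvd_mul_right _ _)
  have hK1 : 1 < Nat.card K := Finite.one_lt_card
  have hLK : Nat.card L = Nat.card K ^ j := by rw [hL, ha, ← pow_mul]
  have hKL : K ≤ L := subfield_le_of_card_pow hLK
  have hLlt : Nat.card L < Fintype.card F := by
    rw [hLK, hm]; exact Nat.pow_lt_pow_right hK1 hjm
  have hproj : projField L = projField K := by
    rcases eq_or_lt_of_le (projField_mono hKL) with h | h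
    · exact h.symm
    · exact absurd ((heq ▸ hM').2 _ h) (projField_ne_top hLlt)
  have hLK' : L ≤ K := subfield_le_of_projField_le (1 : GL (Fin 2) F) (by
    rintro _ ⟨x, hx, rfl⟩
    have hone : cjP (1 : GL (Fin 2) F) x = x := by
      obtain ⟨g, rfl⟩ := proj_surjective x
      rw [cjP_proj]; congr 1
      apply Subtype.ext
      show ((1 : GL (Fin 2) F) : Matrix (Fin 2) (Fin 2) F) * g * ((1⁻¹ : GL (Fin 2) F) : Matrix (Fin 2) (Fin 2) F) = g
      simp
    show cjP (1 : GL (Fin 2) F) x ∈ _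
    rw [hone]; rw [← hproj]; exact hx)
  have h1 : Nat.card L ≤ Nat.card K := Nat.card_le_card_of_injective _ (Subfield.inclusion hLK').injective
  have h2 : Nat.card K < Nat.card L := by rw [hLK]; exact lt_self_pow₀ hK1 (by omega)
  omega

end H42
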