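import Mathlib
import Cfsg.Agent.H39.Dickson
import Cfsg.Agent.H42.PSL2Subfield

/-!
Maximality of subfield subgroups of `PSL₂(F)`.
-/

set_option autoImplicit false
set_option linter.style.haveILetI false
set_option linter.unusedSectionVars false

namespace H42

open Matrix H39
open scoped MatrixGroups

universe u

variable {F : Type u} [Field F] [Fintype F] (p : ℕ) [Fact p.Prime] [CharP F p]

lemma commute_of_borel {x y : Matrix.ProjectiveSpecialLinearGroup (Fin 2) F} (hx : x ∈ borelP)
    (hy : y ∈ borelP) (hxp : x ^ p = 1) (hyp : y ^ p = 1) : Commute x y := by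
  rw [eq_transl_of_mult_one hx ((mult_eq_one_iff p hx).2 hxp),
    eq_transl_of_mult_one hy ((mult_eq_one_iff p hy).2 hyp)]
  show transl _ * transl _ = transl _ * transl _
  rw [transl_mul, transl_mul, add_comm]

lemma transl_one_pow : (transl (1 : F)) ^ p = 1 :=
  (mult_eq_one_iff p (transl_mem_borelP _)).1 (mult_transl _)

/-- lower unitriangular element. -/
def lowSL : SL(2, F) := ⟨!![1, 0; 1, 1], by simp [Matrix.det_fin_two]⟩

lemma transl_mem_projField (K : Subfield F) {t : F} (ht : t ∈ K) : transl t ∈ projField K :=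
  ⟨upSL t, rfl, 1, one_ne_zero, fun i j => by
    rw [one_mul]; fin_cases i <;> fin_cases j <;> simp [ht]⟩

include p in
lemma not_map_projField_le_borel (K : Subfield F) (P : GL (Fin 2) F) :
    ¬ (projField K).map (cjP P).toMonoidHom ≤ borelP := by
  intro h
  have hl : proj (lowSL : SL(2, F)) ∈ projField K := ⟨lowSL, rfl, 1, one_ne_zero, fun i j => by
    rw [one_mul]; fin_cases i <;> fin_cases j <;> simp [lowSL]⟩
  have hlp : (proj (lowSL : SL(2, F))) ^ p = 1 := by
    rw [pow_char_eq_one_iff p, tr_def]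
    simp [lowSL]; norm_num
  have hu := transl_mem_projField K (one_mem K)
  have hc : Commute (cjP P (transl 1)) (cjP P (proj lowSL)) :=
    commute_of_borel p (h ⟨_, hu, rfl⟩) (h ⟨_, hl, rfl⟩)
      (by rw [← map_pow, transl_one_pow p, map_one]) (by rw [← map_pow, hlp, map_one])
  have hc' : transl (1 : F) * proj lowSL = proj lowSL * transl 1 := by
    apply (cjP P).injective
    rw [map_mul, map_mul, hc.eq]
  rw [transl, ← map_mul, ← map_mul] at hc'
  rcases proj_eq_proj_iff.1 hc' with e | e
  · have := congrArg (fun M : Matrix (Fin 2) (Fin 2) F => M 0 0) (congrArg Subtype.val e)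
    simp only [Matrix.SpecialLinearGroup.coe_mul, coe_upSL] at this
    simp [lowSL, Matrix.mul_apply, Fin.sum_univ_two] at this
  · have e' := congrArg Subtype.val e
    simp only [Matrix.SpecialLinearGroup.coe_mul, Matrix.SpecialLinearGroup.coe_neg, coe_upSL] at e'
    have h0 := congrArg (fun M : Matrix (Fin 2) (Fin 2) F => M 0 1) e'
    have h1 := congrArg (fun M : Matrix (Fin 2) (Fin 2) F => M 1 1) e'
    simp [lowSL, Matrix.mul_apply, Fin.sum_univ_two] at h0 h1
    exact one_ne_zero (α := F) (by linear_combination h1 - h0)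

lemma card_PSL2_nat :
    Nat.gcd 2 (Fintype.card F - 1) * Nat.card (Matrix.ProjectiveSpecialLinearGroup (Fin 2) F) =
      Fintype.card F * (Fintype.card F ^ 2 - 1) := card_PSL2_mul

lemma card_projField_odd (K : Subfield F) {m : ℕ} (hm : Fintype.card F = Nat.card K ^ m)
    (ho : Odd m ∨ ringChar F = 2) :
    Nat.gcd 2 (Nat.card K - 1) * Nat.card (projField K) = Nat.card K * (Nat.card K ^ 2 - 1) := by
  rw [Nat.card_congr (projFieldPSL K hm ho).toEquiv, card_PSL2_subfield]

lemma card_projField_even (K : Subfield F) {m : ℕ} (hm : Fintype.card F = Nat.card K ^ m)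
    (he : Even m ∨ ringChar F = 2) :
    Nat.card (projField K) = Nat.card K * (Nat.card K ^ 2 - 1) := by
  rw [Nat.card_congr (projFieldPGL K hm he).toEquiv, card_PGL2_subfield]

include p in
/-- Subfield subgroups of prime index are maximal, apart from `|K| = 2`. -/
theorem isCoatom_projField (K : Subfield F) {r : ℕ} (hr : r.Prime)
    (hF : Fintype.card F = Nat.card K ^ r) (hq : Nat.card K ≠ 2) : IsCoatom (projField K) := by
  classical
  set Q := Nat.card K with hQ
  set L := projField K with hL
  have hQ3 : 3 ≤ Q := by have : 1 < Q := Finite.one_lt_card; omega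
  have hQF : Q < Fintype.card F := by
    rw [hF]; exact lt_self_pow₀ (by omega) hr.one_lt
  refine ⟨projField_ne_top hQF, fun H hlt => ?_⟩
  by_contra hH
  have hLH : Nat.card L ∣ Nat.card H := Subgroup.card_dvd_of_le hlt.le
  have hLlt : Nat.card L < Nat.card H := by
    rcases (Nat.le_of_dvd Nat.card_pos hLH).lt_or_eq with h | h
    · exact h
    · exact absurd (Subgroup.eq_of_le_of_card_ge hlt.le h.ge) hlt.ne
  obtain ⟨a, ha0, ha⟩ := subfield_card_eq_pow (p := p) K
  have hp := (Fact.out : p.Prime)
  have hpQ : p ∣ Q := by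
    rw [hQ, ha]; exact dvd_pow_self p ha0.ne'
  have hFp : p ∣ Fintype.card F := by rw [hF]; exact hpQ.trans (dvd_pow_self Q hr.ne_zero)
  have hpH : p ∣ Nat.card H := by
    have ho : orderOf (transl (1 : F)) = p :=
      orderOf_eq_prime (transl_one_pow p) (transl_ne_one one_ne_zero)
    have := Subgroup.orderOf_dvd_natCard H (hlt.le (transl_mem_projField K (one_mem K)))
    rwa [ho] at this
  have hFpos : 1 < Fintype.card F := Fintype.one_lt_card
  have hnd : ∀ k : ℕ, (k ∣ (Fintype.card F + 1) / Nat.gcd 2 (Fintype.card F - 1) ∨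
      k ∣ (Fintype.card F - 1) / Nat.gcd 2 (Fintype.card F - 1)) →
      k ∣ Fintype.card F + 1 ∨ k ∣ Fintype.card F - 1 := by
    intro k hk
    have hdd := Nat.gcd_dvd_right 2 (Fintype.card F - 1)
    have hd2 : Nat.gcd 2 (Fintype.card F - 1) ∣ Fintype.card F + 1 := by
      rw [show Fintype.card F + 1 = Fintype.card F - 1 + 2 by omega]
      exact dvd_add hdd (Nat.gcd_dvd_left _ _)
    exact hk.imp (fun h => h.trans (Nat.div_dvd_of_dvd hd2)) (fun h => h.trans (Nat.div_dvd_of_dvd hdd))
  have hnp : ∀ k : ℕ, (k ∣ Fintype.card F + 1 ∨ k ∣ Fintype.card F - 1) → ¬ p ∣ k := by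
    intro k hk hpk
    have h1 : p ∣ 1 := by
      rcases hk with h | h
      · exact (Nat.dvd_add_right hFp).1 (hpk.trans h)
      · have := Nat.dvd_sub hFp (hpk.trans h)
        rwa [show Fintype.card F - (Fintype.card F - 1) = 1 by omega] at this
    exact hp.one_lt.ne' (Nat.dvd_one.1 h1)
  -- lower bounds for |L|
  have hringp : ringChar F = p := ringChar.eq F p
  have hcases : Nat.gcd 2 (Q - 1) * Nat.card L = Q * (Q ^ 2 - 1) ∨ Nat.card L = Q * (Q ^ 2 - 1) := by
    rcases Nat.even_or_odd r with he | ho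
    · exact Or.inr (card_projField_even K hF (Or.inl he))
    · exact Or.inl (card_projField_odd K hF (Or.inl ho))
  have hbig : 4 ≤ Q → 60 ≤ Nat.card L := by
    intro h4
    rcases eq_or_lt_of_le h4 with h5 | h5
    · rw [← h5, show Nat.gcd 2 (4 - 1) = 1 from rfl, show 4 * (4 ^ 2 - 1) = 60 from rfl, one_mul] at hcases
      omega
    · have h1 : 5 * (5 ^ 2 - 1) ≤ Q * (Q ^ 2 - 1) :=
        Nat.mul_le_mul (by omega) (Nat.sub_le_sub_right (Nat.pow_le_pow_left (by omega) 2) 1)
      have h2 : Nat.gcd 2 (Q - 1) ≤ 2 := Nat.le_of_dvd two_pos (Nat.gcd_dvd_left _ _)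
      rcases hcases with h | h
      · have := Nat.mul_le_mul_right (Nat.card L) h2
        omega
      · omega
  have hsmall : ∀ m, Nat.card H = m → m ∈ ({12, 24, 60} : Finset ℕ) → False := by
    intro m hm hmem
    simp only [Finset.mem_insert, Finset.mem_singleton] at hmem
    rcases Nat.lt_or_ge Q 4 with hQ4 | hQ4
    · have hQ3' : Q = 3 := by omega
      rcases Nat.even_or_odd r with he | ho
      · have hL24 := card_projField_even K hF (Or.inl he)
        rw [← hQ, hQ3', ← hL, show 3 * (3 ^ 2 - 1) = 24 from rfl] at hL24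
        rcases hmem with rfl | rfl | rfl <;> rw [hm, hL24] at hLH hLlt <;> omega
      · have hL12 := card_projField_odd K hF (Or.inl ho)
        rw [← hQ, hQ3', ← hL, show 3 * (3 ^ 2 - 1) = 24 from rfl, show Nat.gcd 2 (3 - 1) = 2 from rfl] at hL12
        have hG := card_PSL2_nat (F := F)
        rw [hF, hQ3'] at hG
        obtain ⟨i, rfl⟩ := ho
        have h9 : 3 ^ (2 * i + 1) % 80 = 3 ∨ 3 ^ (2 * i + 1) % 80 = 27 := by
          rcases Nat.even_or_odd i with ⟨j, rfl⟩ | ⟨j, rfl⟩
          · left; rw [show 2 * (j + j) + 1 = 4 * j + 1 by ring, pow_succ, pow_mul, Nat.mul_mod, Nat.pow_mod]; norm_num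
          · right; rw [show 2 * (2 * j + 1) + 1 = 4 * j + 3 by ring, pow_add, pow_mul, Nat.mul_mod, Nat.pow_mod]; norm_num
        set N := 3 ^ (2 * i + 1) with hN
        have hgcd : Nat.gcd 2 (N - 1) = 2 := Nat.gcd_eq_left (by omega)
        rw [hgcd] at hG
        have hsq : N ^ 2 % 80 = 9 := by
          rcases h9 with h | h <;> rw [Nat.pow_mod, h]
        have hdvd : Nat.card H ∣ Nat.card (Matrix.ProjectiveSpecialLinearGroup (Fin 2) F) :=
          Subgroup.card_subgroup_dvd_card H
        have h2G : 2 * Nat.card H ∣ N * (N ^ 2 - 1) := hG ▸ Nat.mul_dvd_mul_left 2 hdvd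
        have hmod : N * (N ^ 2 - 1) % 80 = 24 ∨ N * (N ^ 2 - 1) % 80 = 56 := by
          have hsub : (N ^ 2 - 1) % 80 = 8 := by omega
          rcases h9 with h | h <;> simp [Nat.mul_mod, h, hsub]
        rcases hmem with rfl | rfl | rfl
        · omega
        · rw [hm] at h2G
          have : 16 ∣ N * (N ^ 2 - 1) := dvd_trans (by norm_num) h2G
          omega
        · rw [hm] at h2G
          have : 5 ∣ N * (N ^ 2 - 1) := dvd_trans (by norm_num) h2G
          omega
    · have := hbig hQ4
      rcases hmem with rfl | rfl | rfl <;> omega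
  cases dickson p H with
  | cyclic hc hk => exact hnp _ (hnd _ hk) hpH
  | dihedral k hc hk =>
    obtain ⟨e⟩ := hc
    have hHk : Nat.card H = 2 * k := by rw [Nat.card_congr e.toEquiv, DihedralGroup.nat_card]
    have hpk := hnp k (hnd _ hk)
    rw [hHk] at hpH hLH
    have hp2 : p = 2 := by
      rcases hp.eq_two_or_odd with h | h
      · exact h
      · rcases (hp.dvd_mul).1 hpH with h2 | h2
        · exact (Nat.prime_dvd_prime_iff_eq hp Nat.prime_two).1 h2
        · exact absurd h2 hpk
    subst hp2
    have h4 : 4 ∣ Nat.card L := by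
      have hQe : 4 ∣ Q := by
        rw [hQ, ha]
        have : 2 ≤ a := by
          by_contra h; have : a = 1 := by omega
          rw [this] at ha; exact hq (by rw [hQ, ha]; rfl)
        exact pow_dvd_pow 2 this
      have hg : Nat.gcd 2 (Q - 1) = 1 := by
        have := Nat.gcd_dvd_right 2 (Q - 1)
        rcases (Nat.dvd_prime Nat.prime_two).1 (Nat.gcd_dvd_left 2 (Q - 1)) with h | h
        · exact h
        · rw [h] at this; omega
      rcases hcases with h | h
      · rw [hg, one_mul] at h; rw [h]; exact dvd_mul_of_dvd_left hQe _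
      · rw [h]; exact dvd_mul_of_dvd_left hQe _
    have := h4.trans hLH
    omega
  | borel P h hz =>
    exact not_map_projField_le_borel p K P (le_trans (Subgroup.map_mono hlt.le) h)
  | a4 h =>
    obtain ⟨e⟩ := h
    exact hsmall 12 (by rw [Nat.card_congr e.toEquiv, Nat.card_eq_fintype_card]; rfl) (by simp)
  | s4 h =>
    obtain ⟨e⟩ := h
    exact hsmall 24 (by rw [Nat.card_congr e.toEquiv, Nat.card_eq_fintype_card]; rfl) (by simp)
  | a5 h =>
    obtain ⟨e⟩ := h
    exact hsmall 60 (by rw [Nat.card_congr e.toEquiv, Nat.card_eq_fintype_card]; rfl) (by simp)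
  | field P K' h he =>
    have hle : K ≤ K' := subfield_le_of_projField_le P (le_trans (Subgroup.map_mono hlt.le) h)
    obtain ⟨a', ha0', ha'⟩ := subfield_card_eq_pow (p := p) K'
    obtain ⟨m', hm0', hm'⟩ := subfield_card_pow K'
    -- the degree of `K'` over `K`
    obtain ⟨j, hj⟩ : ∃ j, Nat.card K' = Q ^ j := by
      letI : Algebra K K' := (Subfield.inclusion hle).toAlgebra
      haveI : Fintype K := Fintype.ofFinite K
      haveI : Fintype K' := Fintype.ofFinite K'
      exact ⟨Module.finrank K K', by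
        rw [hQ, Nat.card_eq_fintype_card, Nat.card_eq_fintype_card]; exact Module.card_eq_pow_finrank⟩
    have hrj : r = j * m' := by
      rw [hj, ← pow_mul] at hm'
      exact Nat.pow_right_injective (show 2 ≤ Q by omega) (hF.symm.trans hm')
    rcases (Nat.prime_mul_iff.1 (hrj ▸ hr)) with ⟨-, hm1⟩ | ⟨-, hj1⟩
    · -- `K' = F`
      rw [hm1, pow_one] at hm'
      haveI : Fintype K' := Fintype.ofFinite K'
      haveI : Finite (Matrix.ProjGenLinGroup (Fin 2) K') :=
        Finite.of_surjective _ Matrix.ProjGenLinGroup.mk_surjective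
      have hcard : Nat.card (Matrix.ProjectiveSpecialLinearGroup (Fin 2) F) ≤ Nat.card H := by
        have h2 := card_PSL2_nat (F := F)
        have hdpos : 0 < Nat.gcd 2 (Fintype.card F - 1) := Nat.gcd_pos_of_pos_left _ two_pos
        rcases he with ⟨⟨e⟩⟩ | ⟨⟨e⟩⟩
        · rw [Nat.card_congr e.toEquiv, card_PGL2_subfield, ← hm', ← h2]
          exact Nat.le_mul_of_pos_left _ hdpos
        · have h3 := card_PSL2_subfield K'
          rw [← hm'] at h3
          rw [Nat.card_congr e.toEquiv]
          exact le_of_eq (Nat.eq_of_mul_eq_mul_left hdpos (h2.trans h3.symm))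
      exact hH (Subgroup.eq_top_of_le_card _ hcard)
    · rw [hj1, pow_one] at hj
      have hKK : K' ≤ K := subfield_le_of_card_pow (j := 1) (by rw [pow_one, hj, hQ])
      have h2 : H.map (cjP P).toMonoidHom ≤ projField K := le_trans h (projField_mono hKK)
      have h3 : Nat.card H ≤ Nat.card L := by
        rw [Nat.card_congr (Subgroup.equivMapOfInjective H _ (cjP P).injective).toEquiv]
        exact Nat.card_le_card_of_injective _ (Subgroup.inclusion_injective h2)
      omega

end H42
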