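import Mathlib
import Cfsg.Agent.H42.PSL2Descend
import Cfsg.Agent.H42.PSL2Maximal
import Cfsg.Agent.H39.KleinNormalizer
import Cfsg.Agent.H39.KleinClasses

/-!
The structure of a maximal subgroup of `PSL₂(F)`.
-/

set_option autoImplicit false
set_option linter.style.haveILetI false
set_option linter.unusedSectionVars false

namespace H42

open Matrix H39
open scoped MatrixGroups

variable {F : Type*} [Field F] [Fintype F] (p : ℕ) [Fact p.Prime] [CharP F p]

local notation "G2" => Matrix.ProjectiveSpecialLinearGroup (Fin 2) F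
local notation "qq" => Fintype.card F
local notation "dq" => Nat.gcd 2 (Fintype.card F - 1)

lemma card_G2_lower (h4 : 4 ≤ qq) : 2 ≤ (qq - 1) / dq ∧ 2 * (qq + 1) < Nat.card G2 ∧
    qq * ((qq - 1) / dq) < Nat.card G2 := by
  have hh : 2 ≤ (qq - 1) / dq := by
    rcases gcd_two_cases (F := F) with e | e <;> rw [e]
    · omega
    · rcases Nat.lt_or_ge qq 5 with h | h
      · have h5 : qq = 4 := by omega
        rw [h5] at e; norm_num at e
      · omega
  refine ⟨hh, ?_, ?_⟩ <;> rw [card_G2_eq]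
  · have : 4 * 2 ≤ qq * ((qq - 1) / dq) := Nat.mul_le_mul h4 hh
    nlinarith
  · have : 4 * 2 ≤ qq * ((qq - 1) / dq) := Nat.mul_le_mul h4 hh
    nlinarith

lemma card_lt_of_proper_ne_top {H : Subgroup G2} (h : Nat.card H < Nat.card G2) : H ≠ ⊤ := by
  rintro rfl
  rw [Subgroup.card_top] at h
  exact lt_irrefl _ h

lemma normalizer_tor_ne_top (h4 : 4 ≤ qq) {y : G2} (hy : y ^ p ≠ 1) :
    Subgroup.normalizer (tor y : Set G2) ≠ ⊤ := by
  apply card_lt_of_proper_ne_top
  obtain ⟨h1, h2, -⟩ := tor_trichotomy p hy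
  rw [h2]
  have h3 := (card_G2_lower h4).2.1
  have hle : ∀ k : ℕ, k / dq ≤ k := fun k => Nat.div_le_self _ _
  have := hle (qq + 1)
  have := hle (qq - 1)
  rcases h1 with e | e <;> rw [e] <;> omega

lemma borelP_ne_top (h4 : 4 ≤ qq) : (borelP : Subgroup G2) ≠ ⊤ := by
  apply card_lt_of_proper_ne_top
  rw [card_borelP]
  exact (card_G2_lower h4).2.2

lemma mem_normalizer_tor {c g : G2} (hc : c ≠ 1) (h : g * c * g⁻¹ ∈ tor c) :
    g ∈ Subgroup.normalizer (tor c : Set G2) := by
  have h1 : tor c = (tor c).map (MulAut.conj g).toMonoidHom := by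
    rw [← tor_conj]
    exact (tor_eq_of_mem hc h (fun e => hc (conj_eq_one_iff.1 e))).symm
  rw [Subgroup.mem_normalizer_iff]
  intro y
  constructor
  · intro hy
    show g * y * g⁻¹ ∈ tor c
    rw [h1]; exact ⟨y, hy, rfl⟩
  · intro hy
    have hy' : g * y * g⁻¹ ∈ (tor c).map (MulAut.conj g).toMonoidHom := h1 ▸ hy
    obtain ⟨z, hz, hze⟩ := hy'
    have : z = y := by
      have hze' : g * z * g⁻¹ = g * y * g⁻¹ := hze
      exact mul_left_cancel (mul_right_cancel hze')
    exact this ▸ hz

lemma cjP_map_isCoatom {M : Subgroup G2} (hM : IsCoatom M) (P : GL (Fin 2) F) :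
    IsCoatom (M.map (cjP P).toMonoidHom) := (OrderIso.isCoatom_iff (cjP P).mapSubgroup M).2 hM

lemma eq_of_coatom_le {M L : Subgroup G2} (hM : IsCoatom M) (hle : M ≤ L) (hL : L ≠ ⊤) : M = L := by
  rcases eq_or_lt_of_le hle with h | h
  · exact h
  · exact absurd (hM.2 L h) hL

/-- A maximal subgroup moving a non-trivial element only inside its torus. -/
theorem torus_or_borel (h4 : 4 ≤ qq) {M : Subgroup G2} (hM : IsCoatom M) {c : G2} (hc : c ≠ 1)
    (h : ∀ g ∈ M, g * c * g⁻¹ ∈ tor c) :
    (∃ P : GL (Fin 2) F, M.map (cjP P).toMonoidHom = borelP) ∨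
    (c ^ p ≠ 1 ∧ M = Subgroup.normalizer (tor c : Set G2)) := by
  by_cases hcp : c ^ p = 1
  · left
    obtain ⟨P, hP⟩ := exists_cjP_eq_transl p hc hcp
    refine ⟨P, eq_of_coatom_le (cjP_map_isCoatom hM P) ?_ (borelP_ne_top h4)⟩
    rintro _ ⟨g, hg, rfl⟩
    rw [← normalizer_transl (F := F)]
    refine mem_normalizer_tor (transl_ne_one one_ne_zero) ?_
    show cjP P g * transl 1 * (cjP P g)⁻¹ ∈ tor (transl 1)
    rw [← hP, ← map_inv, ← map_mul, ← map_mul, cjP_mem_tor]
    exact h g hg
  · exact Or.inr ⟨hcp, eq_of_coatom_le hM (fun g hg => mem_normalizer_tor hc (h g hg))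
      (normalizer_tor_ne_top p h4 hcp)⟩

lemma conj_rot {k : ℕ} (g : DihedralGroup k) :
    g * DihedralGroup.r 1 * g⁻¹ = DihedralGroup.r 1 ∨ g * DihedralGroup.r 1 * g⁻¹ = (DihedralGroup.r 1)⁻¹ := by
  cases g with
  | r i => left; simp
  | sr i => right; simp

/-- Maximal subgroups: the coarse list. -/
theorem maximal_cases (h4 : 4 ≤ qq) (M : Subgroup G2) (hM : IsCoatom M) :
    (∃ P : GL (Fin 2) F, M.map (cjP P).toMonoidHom = borelP) ∨
    (∃ c : G2, c ^ p ≠ 1 ∧ M = Subgroup.normalizer (tor c : Set G2)) ∨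
    (∃ (P : GL (Fin 2) F) (K : Subfield F) (r : ℕ), r.Prime ∧ Fintype.card F = Nat.card K ^ r ∧
      M.map (cjP P).toMonoidHom = projField K) ∨
    (Odd qq ∧ qq = p ∧ Nonempty (M ≃* alternatingGroup (Fin 4))) ∨
    (Odd qq ∧ qq = p ∧ Nonempty (M ≃* Equiv.Perm (Fin 4))) ∨
    (Odd qq ∧ (qq = p ∨ (qq = p ^ 2 ∧ (p % 5 = 2 ∨ p % 5 = 3))) ∧ Nonempty (M ≃* alternatingGroup (Fin 5))) := by
  classical
  have hp := (Fact.out : p.Prime)
  obtain ⟨b, hb, hbq⟩ := FiniteField.card F p
  have hpq : p ∣ qq := hbq ▸ dvd_pow_self p b.ne_zero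
  have tb : ∀ {c : G2}, c ≠ 1 → (∀ g ∈ M, g * c * g⁻¹ ∈ tor c) →
      (∃ P : GL (Fin 2) F, M.map (cjP P).toMonoidHom = borelP) ∨
      (∃ c : G2, c ^ p ≠ 1 ∧ M = Subgroup.normalizer (tor c : Set G2)) := fun {c} hc h =>
    (torus_or_borel p h4 hM hc h).imp_right fun h => ⟨c, h⟩
  have sub : ∀ (P : GL (Fin 2) F) (K : Subfield F), M.map (cjP P).toMonoidHom ≤ projField K →
      Nat.card K < qq → (∃ (P : GL (Fin 2) F) (K : Subfield F) (r : ℕ), r.Prime ∧
        Fintype.card F = Nat.card K ^ r ∧ M.map (cjP P).toMonoidHom = projField K) := by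
    intro P K hle hlt
    obtain ⟨r, hr, hq, he⟩ := field_case p M hM P K hle hlt
    exact ⟨P, K, r, hr, hq, he⟩
  have hrange : ∀ {X : Type} [Group X] (e : M ≃* X), (M.subtype.comp e.symm.toMonoidHom).range = M := by
    intro X _ e
    ext x
    constructor
    · rintro ⟨y, rfl⟩; exact (e.symm y).2
    · intro hx; exact ⟨e ⟨x, hx⟩, by simp⟩
  have hkle : ∀ K : Subfield F, Nat.card K < qq ∨ Nat.card K = qq := fun K => by
    obtain ⟨m, hm0, hm⟩ := subfield_card_pow K
    rcases Nat.eq_or_lt_of_le (Nat.le_self_pow hm0.ne' (Nat.card K)) with h | h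
    · exact Or.inr (h.trans hm.symm)
    · exact Or.inl (hm ▸ h)
  cases dickson p M with
  | cyclic hc hk =>
    obtain ⟨c, hcg⟩ := IsCyclic.exists_generator (α := M)
    by_cases hc1 : (c : G2) = 1
    · exfalso
      have hbot : M = ⊥ := by
        rw [eq_bot_iff]
        intro x hx
        obtain ⟨m, hm⟩ := Subgroup.mem_zpowers_iff.1 (hcg ⟨x, hx⟩)
        have := congrArg Subtype.val hm
        rw [SubgroupClass.coe_zpow, hc1, _root_.one_zpow] at this
        exact Subgroup.mem_bot.2 this.symm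
      have h1 : (⊥ : Subgroup G2) < borelP := by
        rw [bot_lt_iff_ne_bot]
        intro h
        exact transl_ne_one (one_ne_zero (α := F)) (Subgroup.mem_bot.1 (h ▸ transl_mem_borelP 1))
      exact borelP_ne_top h4 ((hbot ▸ hM).2 _ h1)
    · refine (tb hc1 fun g hg => ?_).imp_right Or.inl
      obtain ⟨m, hm⟩ := Subgroup.mem_zpowers_iff.1 (hcg ⟨g, hg⟩)
      have hgc : g = (c : G2) ^ m := by
        have := congrArg Subtype.val hm; rw [SubgroupClass.coe_zpow] at this; exact this.symm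
      have : g * c * g⁻¹ = c := by rw [hgc]; group
      rw [this]; exact self_mem_tor _
  | dihedral k hc hk =>
    obtain ⟨e⟩ := hc
    have hk0 : k ≠ 0 := by
      rintro rfl
      haveI : Finite (DihedralGroup 0) := Finite.of_equiv _ e.toEquiv
      exact not_finite (DihedralGroup 0)
    rcases Nat.lt_or_ge k 2 with hk2 | hk2
    · -- order two
      have hk1 : k = 1 := by omega
      subst hk1
      set c : M := e.symm (DihedralGroup.sr 0)
      have hc1 : (c : G2) ≠ 1 := fun h => by
        have : DihedralGroup.sr (0 : ZMod 1) = 1 := by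
          have h' := congrArg e (show c = 1 from Subtype.ext h)
          simpa [c] using h'
        exact absurd this (by decide)
      refine (tb hc1 fun g hg => ?_).imp_right Or.inl
      have : (⟨g, hg⟩ : M) * c * (⟨g, hg⟩ : M)⁻¹ = c := by
        apply e.injective
        simp only [map_mul, map_inv, c, MulEquiv.apply_symm_apply]
        generalize e ⟨g, hg⟩ = u
        revert u; decide
      have h' := congrArg Subtype.val this
      simp only [Subgroup.coe_mul, Subgroup.coe_inv] at h'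
      rw [h']; exact self_mem_tor _
    · set c : M := e.symm (DihedralGroup.r 1)
      have hc1 : (c : G2) ≠ 1 := fun h => by
        have h' := congrArg orderOf (show (DihedralGroup.r 1 : DihedralGroup k) = 1 by
          have h' := congrArg e (show c = 1 from Subtype.ext h)
          simpa [c] using h')
        rw [DihedralGroup.orderOf_r_one, orderOf_one] at h'
        omega
      refine (tb hc1 fun g hg => ?_).imp_right Or.inl
      have : (⟨g, hg⟩ : M) * c * (⟨g, hg⟩ : M)⁻¹ = c ∨ (⟨g, hg⟩ : M) * c * (⟨g, hg⟩ : M)⁻¹ = c⁻¹ := by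
        refine (conj_rot (e ⟨g, hg⟩)).imp (fun h => ?_) (fun h => ?_) <;> apply e.injective <;>
          simpa [c] using h
      rcases this with h | h <;> have h' := congrArg Subtype.val h <;>
        simp only [Subgroup.coe_mul, Subgroup.coe_inv] at h' <;> rw [h']
      · exact self_mem_tor _
      · exact inv_mem (self_mem_tor _)
  | borel P h hz =>
    exact Or.inl ⟨P, eq_of_coatom_le (cjP_map_isCoatom hM P) h (borelP_ne_top h4)⟩
  | a4 h =>
    obtain ⟨e⟩ := h
    set f := M.subtype.comp e.symm.toMonoidHom with hfdef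
    have hf : Function.Injective f := Subtype.val_injective.comp e.symm.injective
    by_cases hp2 : p = 2
    · subst hp2
      obtain ⟨r2, -, -, n2, -, -⟩ := a4_rel
      have hc1 : f a4a ≠ 1 := fun h => n2 ((map_eq_one_iff f hf).1 h)
      refine (tb hc1 fun g hg => ?_).imp_right Or.inl
      have hg' : g = f (e ⟨g, hg⟩) := by simp [f]
      have hcomm : ∀ u : alternatingGroup (Fin 4), u * a4a * u⁻¹ * a4a = a4a * (u * a4a * u⁻¹) := by decide
      refine mem_tor_of_commute 2 (by rw [← map_pow, r2, map_one]) ?_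
      rw [hg', ← map_inv, ← map_mul, ← map_mul]
      exact (show Commute (e ⟨g, hg⟩ * a4a * (e ⟨g, hg⟩)⁻¹) a4a from hcomm (e ⟨g, hg⟩)).map f
    · have hodd : Odd qq := by rw [hbq]; exact (hp.odd_of_ne_two hp2).pow
      obtain ⟨P, K, hK, hle⟩ := alt4_descend p hodd f hf
      rw [hrange e] at hle
      have hle' := le_trans hle (fun x hx => by obtain ⟨y, rfl⟩ := hx; exact slToProj_mem K y)
      rcases hkle K with h | h
      · exact Or.inr (Or.inr (Or.inl (sub P K hle' h)))
      · exact Or.inr (Or.inr (Or.inr (Or.inl ⟨hodd, h.symm.trans hK, ⟨e⟩⟩)))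
  | s4 h =>
    obtain ⟨e⟩ := h
    set f := M.subtype.comp e.symm.toMonoidHom with hfdef
    have hf : Function.Injective f := Subtype.val_injective.comp e.symm.injective
    have h16 : qq ^ 2 % 16 = 1 := (exists_perm4_iff p).1 ⟨M, ⟨e⟩⟩
    have hodd : Odd qq := by
      by_contra hne
      obtain ⟨j, hj⟩ := Nat.not_odd_iff_even.1 hne
      have : 4 ∣ qq ^ 2 := by rw [hj]; exact ⟨j ^ 2, by ring⟩
      omega
    obtain ⟨P, K, hK, hle⟩ := perm4_descend p hodd f hf
    rw [hrange e] at hle
    rcases hkle K with h | h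
    · exact Or.inr (Or.inr (Or.inl (sub P K hle h)))
    · exact Or.inr (Or.inr (Or.inr (Or.inr (Or.inl ⟨hodd, h.symm.trans hK, ⟨e⟩⟩))))
  | a5 h =>
    obtain ⟨e⟩ := h
    set f := M.subtype.comp e.symm.toMonoidHom with hfdef
    have hf : Function.Injective f := Subtype.val_injective.comp e.symm.injective
    by_cases hp2 : p = 2
    · subst hp2
      obtain ⟨P, K, hK, hle⟩ := alt5_descend_two f hf
      rw [hrange e] at hle
      have hle' := le_trans hle (fun x hx => by obtain ⟨y, rfl⟩ := hx; exact slToProj_mem K y)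
      rcases hkle K with h | h
      · exact Or.inr (Or.inr (Or.inl (sub P K hle' h)))
      · exfalso
        apply hM.1
        apply Subgroup.eq_top_of_card_eq
        rw [Nat.card_congr e.toEquiv, card_G2_eq, ← h, hK, Nat.card_eq_fintype_card]
        rfl
    · have hodd : Odd qq := by rw [hbq]; exact (hp.odd_of_ne_two hp2).pow
      obtain ⟨P, K, hK, hle⟩ := alt5_descend p hodd f hf
      rw [hrange e] at hle
      have hle' := le_trans hle (fun x hx => by obtain ⟨y, rfl⟩ := hx; exact slToProj_mem K y)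
      rcases hkle K with h | h
      · exact Or.inr (Or.inr (Or.inl (sub P K hle' h)))
      · refine Or.inr (Or.inr (Or.inr (Or.inr (Or.inr ⟨hodd, ?_, ⟨e⟩⟩))))
        rw [← h]; exact hK
  | field P K h he =>
    rcases hkle K with hlt | heq
    · exact Or.inr (Or.inr (Or.inl (sub P K h hlt)))
    · exfalso
      apply hM.1
      apply Subgroup.eq_top_of_le_card
      have h2 := card_PSL2_nat (F := F)
      rcases he with ⟨⟨e⟩⟩ | ⟨⟨e⟩⟩
      · rw [Nat.card_congr e.toEquiv, card_PGL2_subfield, heq, ← h2]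
        exact Nat.le_mul_of_pos_left _ (Nat.gcd_pos_of_pos_left _ two_pos)
      · have h3 := card_PSL2_subfield K
        rw [heq] at h3
        rw [Nat.card_congr e.toEquiv]
        exact le_of_eq (Nat.eq_of_mul_eq_mul_left (Nat.gcd_pos_of_pos_left _ two_pos) (h2.trans h3.symm))

end H42
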