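import Mathlib
import Cfsg.Prelude.Def_JordanBlocks
import Cfsg.Agent.H37.Card

/-!
The invertible matrices commuting with a unipotent matrix of given Jordan type.
-/

set_option autoImplicit false
set_option linter.style.haveILetI false

namespace H42

variable {F : Type*} [Field F] {t : ℕ} {d : Fin t → ℕ}

/-- The index type of the Jordan matrix. -/
abbrev JIdx (d : Fin t → ℕ) : Type := (k : Fin t) × Fin (d k)

/-- Matrices indexed by the Jordan basis. -/
abbrev JMat (d : Fin t → ℕ) (F : Type*) : Type _ := Matrix (JIdx d) (JIdx d) F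

/-- The nilpotent part of `jordanTypeMatrix`. -/
def jNil (d : Fin t → ℕ) (F : Type*) [Field F] : JMat d F :=
  Matrix.of fun a b => if a.1 = b.1 ∧ (a.2 : ℕ) = (b.2 : ℕ) + 1 then 1 else 0

lemma jordanTypeMatrix_eq : Cfsg.jordanTypeMatrix d F = 1 + jNil d F := by
  ext ⟨k, r⟩ ⟨l, s⟩
  rw [Cfsg.jordanTypeMatrix, Matrix.blockDiagonal'_apply, Matrix.add_apply]
  by_cases hkl : k = l
  · subst hkl
    by_cases hrs : r = s
    · subst hrs
      simp [jNil, Cfsg.jordanBlock]
    · have h1 : (r : ℕ) ≠ (s : ℕ) := fun h => hrs (Fin.ext h)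
      simp [jNil, Cfsg.jordanBlock, Matrix.one_apply, hrs, h1]
  · simp [jNil, hkl, Matrix.one_apply]

/-- The commutant of the Jordan matrix. -/
def JComm (d : Fin t → ℕ) (F : Type*) [Field F] : Subalgebra F (JMat d F) :=
  Subalgebra.centralizer F {jNil d F}

lemma mem_JComm {M : JMat d F} : M ∈ JComm d F ↔ M * jNil d F = jNil d F * M := by
  simp [JComm, Subalgebra.mem_centralizer_iff, eq_comm]

lemma commute_jordan_iff {M : JMat d F} :
    M * Cfsg.jordanTypeMatrix d F = Cfsg.jordanTypeMatrix d F * M ↔ M ∈ JComm d F := by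
  rw [mem_JComm, jordanTypeMatrix_eq, mul_add, add_mul, mul_one, one_mul, add_right_inj]

lemma mul_jNil_apply (M : JMat d F) (k l : Fin t) (r : Fin (d k)) (s : Fin (d l)) :
    (M * jNil d F) ⟨k, r⟩ ⟨l, s⟩ =
      if h : (s : ℕ) + 1 < d l then M ⟨k, r⟩ ⟨l, ⟨(s : ℕ) + 1, h⟩⟩ else 0 := by
  rw [Matrix.mul_apply]
  split_ifs with h
  · rw [Finset.sum_eq_single ⟨l, ⟨(s : ℕ) + 1, h⟩⟩]
    · simp [jNil]
    · rintro ⟨m, x⟩ _ hne
      simp only [jNil, Matrix.of_apply, mul_ite, mul_one, mul_zero, ite_eq_right_iff]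
      rintro ⟨rfl, hx⟩
      exact absurd (by rw [show x = ⟨(s : ℕ) + 1, h⟩ from Fin.ext hx]) hne
    · simp
  · refine Finset.sum_eq_zero ?_
    rintro ⟨m, x⟩ _
    simp only [jNil, Matrix.of_apply, mul_ite, mul_one, mul_zero, ite_eq_right_iff]
    rintro ⟨rfl, hx⟩
    have := x.isLt; omega

lemma jNil_mul_apply (M : JMat d F) (k l : Fin t) (r : Fin (d k)) (s : Fin (d l)) :
    (jNil d F * M) ⟨k, r⟩ ⟨l, s⟩ =
      if 1 ≤ (r : ℕ) then M ⟨k, ⟨(r : ℕ) - 1, by omega⟩⟩ ⟨l, s⟩ else 0 := by
  rw [Matrix.mul_apply]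
  split_ifs with h
  · rw [Finset.sum_eq_single ⟨k, ⟨(r : ℕ) - 1, by omega⟩⟩]
    · simp only [jNil, Matrix.of_apply]
      rw [if_pos ⟨trivial, (Nat.sub_add_cancel h).symm⟩, one_mul]
    · rintro ⟨m, x⟩ _ hne
      simp only [jNil, Matrix.of_apply, ite_mul, one_mul, zero_mul, ite_eq_right_iff]
      rintro ⟨rfl, hx⟩
      exact absurd (by rw [show x = ⟨(r : ℕ) - 1, by omega⟩ from Fin.ext (by simp; omega)]) hne
    · simp
  · refine Finset.sum_eq_zero ?_
    rintro ⟨m, x⟩ _
    simp only [jNil, Matrix.of_apply, ite_mul, one_mul, zero_mul, ite_eq_right_iff]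
    rintro ⟨rfl, hx⟩
    omega

lemma JComm_shift {M : JMat d F} (hM : M ∈ JComm d F) {k l : Fin t} (r : Fin (d k)) (s : Fin (d l)) :
    M ⟨k, r⟩ ⟨l, s⟩ = if (s : ℕ) ≤ r then M ⟨k, ⟨(r : ℕ) - s, by omega⟩⟩ ⟨l, ⟨0, s.pos⟩⟩ else 0 := by
  obtain ⟨s, hs⟩ := s
  induction s generalizing r with
  | zero => simp
  | succ s ih =>
    have h := congrFun (congrFun (mem_JComm.1 hM) ⟨k, r⟩) ⟨l, ⟨s, by omega⟩⟩
    rw [mul_jNil_apply, jNil_mul_apply, dif_pos (show s + 1 < d l from hs)] at h
    change M ⟨k, r⟩ ⟨l, ⟨s + 1, hs⟩⟩ = _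
    rw [h]
    simp only [ih]
    by_cases hr : 1 ≤ (r : ℕ)
    · rw [if_pos hr]
      by_cases hsr : s + 1 ≤ (r : ℕ)
      · rw [if_pos (by omega), if_pos hsr]
        congr 3
        omega
      · rw [if_neg (by omega), if_neg hsr]
    · rw [if_neg hr, if_neg (by omega)]

lemma JComm_low {M : JMat d F} (hM : M ∈ JComm d F) {k l : Fin t} (r : Fin (d k)) (s : Fin (d l))
    (h : (r : ℕ) < (s : ℕ) + (d k - d l)) : M ⟨k, r⟩ ⟨l, s⟩ = 0 := by
  have hl := s.isLt
  rw [JComm_shift hM]
  split_ifs with hsr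
  swap; · rfl
  have hk := r.isLt
  have hrk : (r : ℕ) - s + (d l - 1) + 1 < d k := by omega
  have h2 := congrFun (congrFun (mem_JComm.1 hM) ⟨k, ⟨(r : ℕ) - s + (d l - 1) + 1, hrk⟩⟩)
    ⟨l, ⟨d l - 1, by omega⟩⟩
  rw [mul_jNil_apply, jNil_mul_apply, dif_neg (by simp; omega), if_pos (by simp)] at h2
  rw [JComm_shift hM, if_pos (by simp)] at h2
  simp only [Nat.add_sub_cancel] at h2
  exact h2.symm

/-- The leading coefficients between blocks of equal size. -/
def jLead (d : Fin t → ℕ) (hd : ∀ k, 1 ≤ d k) (M : JMat d F) : Matrix (Fin t) (Fin t) F :=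
  Matrix.of fun k l => if d k = d l then M ⟨k, ⟨0, hd k⟩⟩ ⟨l, ⟨0, hd l⟩⟩ else 0

/-- The embedding of block-preserving small matrices. -/
def jSec (d : Fin t → ℕ) (B : Matrix (Fin t) (Fin t) F) : JMat d F :=
  Matrix.of fun a b => if d a.1 = d b.1 ∧ (a.2 : ℕ) = b.2 then B a.1 b.1 else 0

lemma jSec_add (B C : Matrix (Fin t) (Fin t) F) : jSec d (B + C) = jSec d B + jSec d C := by
  ext ⟨k, r⟩ ⟨l, s⟩
  simp only [jSec, Matrix.of_apply, Matrix.add_apply]
  split_ifs <;> simp

lemma jSec_mem (B : Matrix (Fin t) (Fin t) F) : jSec d B ∈ JComm d F := by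
  rw [mem_JComm]
  ext ⟨k, r⟩ ⟨l, s⟩
  rw [mul_jNil_apply, jNil_mul_apply]
  have hr := r.isLt
  simp only [jSec, Matrix.of_apply]
  by_cases hkl : d k = d l
  · simp only [hkl, true_and]
    split_ifs <;> first | rfl | omega
  · simp [hkl]

variable (hd : ∀ k, 1 ≤ d k)

lemma jLead_jSec {B : Matrix (Fin t) (Fin t) F} (hB : ∀ k l, d k ≠ d l → B k l = 0) :
    jLead d hd (jSec d B) = B := by
  ext k l
  simp only [jLead, jSec, Matrix.of_apply]
  by_cases h : d k = d l
  · simp [h]
  · simp [h, hB k l h]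

lemma jLead_sub (M M' : JMat d F) : jLead d hd (M - M') = jLead d hd M - jLead d hd M' := by
  ext k l
  simp only [jLead, Matrix.of_apply, Matrix.sub_apply]
  split_ifs <;> simp

lemma jLead_one : jLead d hd (1 : JMat d F) = 1 := by
  ext k l
  simp only [jLead, Matrix.of_apply]
  by_cases h : k = l
  · subst h; simp
  · simp [h, Matrix.one_apply]

lemma jLead_off (M : JMat d F) (k l : Fin t) (h : d k ≠ d l) : jLead d hd M k l = 0 := by
  simp [jLead, h]

lemma jLead_mul {M M' : JMat d F} (hM : M ∈ JComm d F) (hM' : M' ∈ JComm d F) :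
    jLead d hd (M * M') = jLead d hd M * jLead d hd M' := by
  ext k l
  by_cases hkl : d k = d l
  swap
  · rw [jLead_off hd _ _ _ hkl, Matrix.mul_apply]
    refine (Finset.sum_eq_zero fun m _ => ?_).symm
    by_cases h1 : d k = d m
    · rw [jLead_off hd M' m l (by omega), mul_zero]
    · rw [jLead_off hd M k m h1, zero_mul]
  simp only [jLead, Matrix.of_apply, if_pos hkl, Matrix.mul_apply]
  rw [Fintype.sum_sigma]
  refine Finset.sum_congr rfl fun m _ => ?_
  rw [Finset.sum_eq_single ⟨0, hd m⟩]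
  · by_cases h1 : d k = d m
    · rw [if_pos h1, if_pos (by omega)]
    · rw [if_neg h1]
      rcases Nat.lt_or_gt_of_ne h1 with h2 | h2
      · rw [JComm_low hM' ⟨0, hd m⟩ ⟨0, hd l⟩ (by simp; omega)]; simp
      · rw [JComm_low hM ⟨0, hd k⟩ ⟨0, hd m⟩ (by simp; omega)]; simp
  · intro x _ hx
    have hx' : (x : ℕ) ≠ 0 := fun h => hx (Fin.ext h)
    rw [JComm_low hM ⟨0, hd k⟩ x (by simp; omega), zero_mul]
  · simp

/-- A commutant element with vanishing leading part is nilpotent. -/
lemma isNilpotent_of_jLead_eq_zero {M : JMat d F} (hM : M ∈ JComm d F) (h0 : jLead d hd M = 0) :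
    IsNilpotent M := by
  let D := Finset.univ.sup d
  let w : JIdx d → ℕ := fun a => (a.2 : ℕ) * (D + 1) + (D - d a.1)
  have hstrict : ∀ a b, M a b ≠ 0 → w b + 1 ≤ w a := by
    rintro ⟨k, r⟩ ⟨l, s⟩ hne
    have hk : d k ≤ D := Finset.le_sup (Finset.mem_univ k)
    have hl : d l ≤ D := Finset.le_sup (Finset.mem_univ l)
    have hlow : ¬ (r : ℕ) < (s : ℕ) + (d k - d l) := fun h => hne (JComm_low hM r s h)
    simp only [w]
    rcases Nat.eq_or_lt_of_le (show (s : ℕ) ≤ r by omega) with hsr | hsr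
    · have hkl : d k ≠ d l := by
        intro hkl
        apply hne
        rw [JComm_shift hM, if_pos (by omega)]
        have := congrFun (congrFun h0 k) l
        simp only [jLead, Matrix.of_apply, if_pos hkl, Matrix.zero_apply] at this
        rw [show (⟨(r : ℕ) - s, by omega⟩ : Fin (d k)) = ⟨0, hd k⟩ from Fin.ext (by simp; omega)]
        exact this
      rw [hsr]; omega
    · have : ((s : ℕ) + 1) * (D + 1) ≤ (r : ℕ) * (D + 1) := Nat.mul_le_mul_right _ hsr
      rw [add_mul, one_mul] at this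
      omega
  have hpow : ∀ j a b, (M ^ j) a b ≠ 0 → w b + j ≤ w a := by
    intro j
    induction j with
    | zero =>
      intro a b h
      by_cases hab : a = b
      · subst hab; omega
      · rw [pow_zero, Matrix.one_apply_ne hab] at h; exact absurd rfl h
    | succ j ih =>
      intro a b h
      rw [pow_succ, Matrix.mul_apply] at h
      obtain ⟨c, -, hc⟩ := Finset.exists_ne_zero_of_sum_ne_zero h
      have h1 := ih a c (left_ne_zero_of_mul hc)
      have h2 := hstrict c b (right_ne_zero_of_mul hc)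
      omega
  refine ⟨Finset.univ.sup w + 1, Matrix.ext fun a b => ?_⟩
  by_contra h
  have h1 := hpow _ a b h
  have h2 : w a ≤ Finset.univ.sup w := Finset.le_sup (Finset.mem_univ a)
  omega

/-- The leading map splits the invertible commutant. -/
def jSplit : {g : GL (JIdx d) F // (g : JMat d F) ∈ JComm d F} →
    {B : Matrix (Fin t) (Fin t) F // ∀ k l, d k ≠ d l → B k l = 0} × {M : JMat d F // M ∈ JComm d F ∧ jLead d hd M = 0} :=
  fun g => (⟨jLead d hd g.1, jLead_off hd _⟩,
    ⟨(g.1 : JMat d F) - jSec d (jLead d hd g.1), (JComm d F).sub_mem g.2 (jSec_mem _),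
      by rw [jLead_sub, jLead_jSec hd (jLead_off hd _), sub_self]⟩)

lemma isUnit_iff_isUnit_jLead {M : JMat d F} (hM : M ∈ JComm d F) :
    IsUnit M ↔ IsUnit (jLead d hd M) := by
  constructor
  · rintro ⟨g, rfl⟩
    have hinv : ((g⁻¹ : GL (JIdx d) F) : JMat d F) ∈ JComm d F := by
      rw [mem_JComm]
      calc ((g⁻¹ : GL (JIdx d) F) : JMat d F) * jNil d F
          = ((g⁻¹ : GL (JIdx d) F) : JMat d F) * (jNil d F * (g : JMat d F)) * ((g⁻¹ : GL (JIdx d) F) : JMat d F) := by
            rw [mul_assoc, mul_assoc, Units.mul_inv, mul_one]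
        _ = ((g⁻¹ : GL (JIdx d) F) : JMat d F) * ((g : JMat d F) * jNil d F) * ((g⁻¹ : GL (JIdx d) F) : JMat d F) := by
            rw [mem_JComm.1 hM]
        _ = _ := by rw [← mul_assoc, Units.inv_mul, one_mul]
    exact ⟨⟨jLead d hd g, jLead d hd (g⁻¹ : GL (JIdx d) F),
      by rw [← jLead_mul hd hM hinv, Units.mul_inv, jLead_one],
      by rw [← jLead_mul hd hinv hM, Units.inv_mul, jLead_one]⟩, rfl⟩
  · rintro ⟨B, hB⟩
    let B' : Matrix (Fin t) (Fin t) F := Matrix.of fun k l =>
      if d k = d l then ((B⁻¹ : GL (Fin t) F) : Matrix (Fin t) (Fin t) F) k l else 0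
    have hBB' : (B : Matrix (Fin t) (Fin t) F) * B' = 1 := by
      ext k l
      rw [Matrix.mul_apply]
      by_cases hkl : d k = d l
      · have h1 := congrFun (congrFun (show (B : Matrix (Fin t) (Fin t) F) * ((B⁻¹ : GL (Fin t) F) : Matrix (Fin t) (Fin t) F) = 1 from Units.mul_inv B) k) l
        rw [Matrix.mul_apply] at h1
        rw [← h1]
        refine Finset.sum_congr rfl fun m _ => ?_
        by_cases hm : d k = d m
        · simp [B', show d m = d l by omega]
        · rw [hB, jLead_off hd M k m hm, zero_mul, zero_mul]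
      · rw [Matrix.one_apply_ne (fun h => hkl (by rw [h]))]
        refine Finset.sum_eq_zero fun m _ => ?_
        by_cases hm : d k = d m
        · simp [B', show d m ≠ d l by omega]
        · rw [hB, jLead_off hd M k m hm, zero_mul]
    have hB'off : ∀ k l, d k ≠ d l → B' k l = 0 := fun k l h => by simp [B', h]
    have hB'mem := jSec_mem (d := d) B'
    have hz : jLead d hd (M * jSec d B' - 1) = 0 := by
      rw [jLead_sub, jLead_mul hd hM hB'mem, jLead_jSec hd hB'off, jLead_one, ← hB, hBB', sub_self]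
    have hu := (isNilpotent_of_jLead_eq_zero hd
      ((JComm d F).sub_mem ((JComm d F).mul_mem hM hB'mem) (JComm d F).one_mem) hz).isUnit_add_one
    rw [sub_add_cancel] at hu
    rw [Matrix.isUnit_iff_isUnit_det, Matrix.det_mul] at hu
    rw [Matrix.isUnit_iff_isUnit_det]
    exact isUnit_of_mul_isUnit_left hu

/-- Coefficient index set for the nilpotent part of the commutant. -/
abbrev JKerIdx (d : Fin t → ℕ) : Type :=
  {p : (k : Fin t) × (l : Fin t) × Fin (min (d k) (d l)) // ¬ (d p.1 = d p.2.1 ∧ (p.2.2 : ℕ) = 0)}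

/-- Coefficients to matrices. -/
def jOfCoeff (c : JKerIdx d → F) : JMat d F :=
  Matrix.of fun a b =>
    if h : (b.2 : ℕ) + (d a.1 - d b.1) ≤ a.2 ∧ ¬ (d a.1 = d b.1 ∧ (a.2 : ℕ) = b.2) then
      c ⟨⟨a.1, b.1, ⟨(a.2 : ℕ) - b.2 - (d a.1 - d b.1), by have := a.2.isLt; omega⟩⟩,
        by intro hh; simp only at hh; exact h.2 ⟨hh.1, by omega⟩⟩
    else 0

lemma jOfCoeff_mem (c : JKerIdx d → F) : jOfCoeff c ∈ JComm d F := by
  rw [mem_JComm]
  ext ⟨k, r⟩ ⟨l, s⟩
  rw [mul_jNil_apply, jNil_mul_apply]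
  have hr := r.isLt
  have hs := s.isLt
  simp only [jOfCoeff, Matrix.of_apply]
  split_ifs <;> first
    | rfl
    | omega
    | (congr 1; apply Subtype.ext; simp only [Sigma.mk.injEq, heq_eq_eq, Fin.mk.injEq, true_and]; omega)

/-- The kernel of the leading map as a coefficient space. -/
def jKerEquiv : {M : JMat d F // M ∈ JComm d F ∧ jLead d hd M = 0} ≃ (JKerIdx d → F) where
  toFun M p := M.1 ⟨p.1.1, ⟨(p.1.2.2 : ℕ) + (d p.1.1 - d p.1.2.1), by have := p.1.2.2.isLt; omega⟩⟩
    ⟨p.1.2.1, ⟨0, by have := p.1.2.2.isLt; omega⟩⟩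
  invFun c := ⟨jOfCoeff c, jOfCoeff_mem c, by
    ext k l
    simp only [jLead, jOfCoeff, Matrix.of_apply, Matrix.zero_apply]
    split_ifs with h1 h2
    · exact absurd ⟨h1, trivial⟩ h2.2
    · rfl
    · rfl⟩
  left_inv := by
    rintro ⟨M, hM, h0⟩
    apply Subtype.ext
    ext ⟨k, r⟩ ⟨l, s⟩
    simp only [jOfCoeff, Matrix.of_apply]
    split_ifs with h
    · rw [JComm_shift hM r s, if_pos (by omega)]
      congr 3
      omega
    · by_cases hlow : (r : ℕ) < (s : ℕ) + (d k - d l)
      · rw [JComm_low hM r s hlow]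
      · have hkl : d k = d l ∧ (r : ℕ) = s := by
          by_contra hne; exact h ⟨by omega, hne⟩
        rw [JComm_shift hM, if_pos (by omega)]
        have h1 := congrFun (congrFun h0 k) l
        simp only [jLead, Matrix.of_apply, if_pos hkl.1, Matrix.zero_apply] at h1
        rw [show (⟨(r : ℕ) - s, by omega⟩ : Fin (d k)) = ⟨0, hd k⟩ from Fin.ext (by simp; omega)]
        exact h1.symm
  right_inv := by
    intro c
    funext p
    obtain ⟨⟨k, l, x⟩, hp⟩ := p
    simp only [jOfCoeff, Matrix.of_apply]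
    rw [dif_pos ⟨by omega, fun hh => hp ⟨hh.1, by simp at hh ⊢; omega⟩⟩]
    congr 1
    apply Subtype.ext
    simp only [Sigma.mk.injEq, heq_eq_eq, true_and]
    exact Fin.ext (by simp)

/-- The invertible commutant as invertible block-preserving matrices times coefficients. -/
noncomputable def jUnitsEquiv : {g : GL (JIdx d) F // (g : JMat d F) * Cfsg.jordanTypeMatrix d F = Cfsg.jordanTypeMatrix d F * (g : JMat d F)} ≃
    {B : GL (Fin t) F // ∀ k l, d k ≠ d l → (B : Matrix (Fin t) (Fin t) F) k l = 0} × (JKerIdx d → F) where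
  toFun g := (⟨((isUnit_iff_isUnit_jLead hd (commute_jordan_iff.1 g.2)).1 g.1.isUnit).unit,
      by rw [IsUnit.unit_spec]; exact jLead_off hd _⟩,
    jKerEquiv hd (jSplit hd ⟨g.1, commute_jordan_iff.1 g.2⟩).2)
  invFun x :=
    ⟨((isUnit_iff_isUnit_jLead hd ((JComm d F).add_mem (jSec_mem (x.1.1 : Matrix (Fin t) (Fin t) F))
        ((jKerEquiv hd).symm x.2).2.1)).2 (by
        have h0 := ((jKerEquiv hd).symm x.2).2.2
        have h1 : jLead d hd (jSec d (x.1.1 : Matrix (Fin t) (Fin t) F) + ((jKerEquiv hd).symm x.2).1)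
            = x.1.1 := by
          rw [← sub_neg_eq_add, jLead_sub, jLead_jSec hd x.1.2,
            show jLead d hd (-((jKerEquiv hd).symm x.2).1) = -jLead d hd ((jKerEquiv hd).symm x.2).1 by
              ext k l; simp only [jLead, Matrix.of_apply, Matrix.neg_apply]; split_ifs <;> simp,
            h0, neg_zero, sub_zero]
        rw [h1]; exact x.1.1.isUnit)).unit,
      by rw [IsUnit.unit_spec, commute_jordan_iff]; exact (JComm d F).add_mem (jSec_mem _) ((jKerEquiv hd).symm x.2).2.1⟩
  left_inv g := by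
    apply Subtype.ext
    apply Units.ext
    simp only [IsUnit.unit_spec, Equiv.symm_apply_apply, jSplit]
    abel
  right_inv x := by
    have h0 := ((jKerEquiv hd).symm x.2).2.2
    have h1 : jLead d hd (jSec d (x.1.1 : Matrix (Fin t) (Fin t) F) + ((jKerEquiv hd).symm x.2).1)
        = x.1.1 := by
      rw [← sub_neg_eq_add, jLead_sub, jLead_jSec hd x.1.2,
        show jLead d hd (-((jKerEquiv hd).symm x.2).1) = -jLead d hd ((jKerEquiv hd).symm x.2).1 by
          ext k l; simp only [jLead, Matrix.of_apply, Matrix.neg_apply]; split_ifs <;> simp,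
        h0, neg_zero, sub_zero]
    refine Prod.ext (Subtype.ext (Units.ext ?_)) ?_
    · simp only [IsUnit.unit_spec]
      exact h1
    · simp only [jSplit, IsUnit.unit_spec]
      rw [Equiv.apply_eq_iff_eq_symm_apply]
      apply Subtype.ext
      simp only [h1]
      abel

/-- Block-preserving invertible matrices are tuples of invertible blocks. -/
lemma card_blockPreserving [Fintype F] (D : ℕ) (hD : ∀ k, d k ≤ D) :
    Nat.card {B : GL (Fin t) F // ∀ k l, d k ≠ d l → (B : Matrix (Fin t) (Fin t) F) k l = 0} =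
      ∏ i ∈ Finset.range (D + 1), ∏ j : Fin ((Finset.univ.filter (fun k : Fin t => d k = i)).card),
        (Fintype.card F ^ (Finset.univ.filter (fun k : Fin t => d k = i)).card - Fintype.card F ^ (j : ℕ)) := by
  classical
  let φ : Fin t → Fin (D + 1) := fun k => ⟨d k, Nat.lt_succ_of_le (hD k)⟩
  let e : (Σ i : Fin (D + 1), {k // φ k = i}) ≃ Fin t := Equiv.sigmaFiberEquiv φ
  have hre : ∀ (k : Fin t), ((e.symm k).2 : Fin t) = k := fun k => e.apply_symm_apply k
  let f : (∀ i : Fin (D + 1), GL {k // φ k = i} F) →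
      {B : GL (Fin t) F // ∀ k l, d k ≠ d l → (B : Matrix (Fin t) (Fin t) F) k l = 0} := fun A =>
    ⟨Units.map ((Matrix.reindexAlgEquiv F F e).toAlgHom.toMonoidHom.comp
      (Matrix.blockDiagonal'RingHom (fun i : Fin (D + 1) => {k // φ k = i}) F).toMonoidHom) (MulEquiv.piUnits.symm A), by
      intro k l hkl
      change Matrix.blockDiagonal' (fun i => (A i : Matrix {k // φ k = i} {k // φ k = i} F)) (e.symm k) (e.symm l) = 0
      refine Matrix.blockDiagonal'_apply_ne _ _ _ ?_
      intro h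
      apply hkl
      have h1 : φ k = φ l := h
      simpa [φ] using congrArg Fin.val h1⟩
  have hfv : ∀ A (i : Fin (D + 1)) (a b : {k // φ k = i}),
      ((f A).1 : Matrix (Fin t) (Fin t) F) a b = (A i : Matrix {k // φ k = i} {k // φ k = i} F) a b := by
    rintro A i ⟨a, ha⟩ ⟨b, hb⟩
    subst ha
    change Matrix.blockDiagonal' (fun i => (A i : Matrix {k // φ k = i} {k // φ k = i} F)) (e.symm a) (e.symm b) = _
    have hb' : e.symm b = ⟨φ a, ⟨b, hb⟩⟩ := by rw [Equiv.symm_apply_eq]; rfl
    have ha' : e.symm a = ⟨φ a, ⟨a, rfl⟩⟩ := by rw [Equiv.symm_apply_eq]; rfl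
    rw [ha', hb', Matrix.blockDiagonal'_apply_eq]
  have hbij : Function.Bijective f := by
    constructor
    · intro A A' h
      funext i
      apply Units.ext
      ext a b
      rw [← hfv A i a b, ← hfv A' i a b, h]
    · rintro ⟨B, hB⟩
      let blk : ∀ i : Fin (D + 1), Matrix {k // φ k = i} {k // φ k = i} F := fun i =>
        (B : Matrix (Fin t) (Fin t) F).submatrix Subtype.val Subtype.val
      have hrec : (B : Matrix (Fin t) (Fin t) F) = Matrix.reindexAlgEquiv F F e (Matrix.blockDiagonal' blk) := by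
        ext k l
        rw [Matrix.coe_reindexAlgEquiv, Matrix.reindex_apply, Matrix.submatrix_apply]
        by_cases h : φ k = φ l
        · have hl' : e.symm l = ⟨φ k, ⟨l, h.symm⟩⟩ := by rw [Equiv.symm_apply_eq]; rfl
          have hk' : e.symm k = ⟨φ k, ⟨k, rfl⟩⟩ := by rw [Equiv.symm_apply_eq]; rfl
          rw [hk', hl', Matrix.blockDiagonal'_apply_eq]
          rfl
        · rw [Matrix.blockDiagonal'_apply_ne blk _ _ (show (e.symm k).1 ≠ (e.symm l).1 from h)]
          exact hB k l fun hd => h (Fin.ext hd)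
      have hu : ∀ i, IsUnit (blk i) := by
        intro i
        rw [← Matrix.mulVec_injective_iff_isUnit]
        intro x y hxy
        let ext : ({k // φ k = i} → F) → (Fin t → F) := fun x k => if h : φ k = i then x ⟨k, h⟩ else 0
        have key : ∀ x, (B : Matrix (Fin t) (Fin t) F).mulVec (ext x) = ext ((blk i).mulVec x) := by
          intro x
          funext k
          change ∑ l, (B : Matrix (Fin t) (Fin t) F) k l * ext x l = _
          by_cases hk : φ k = i
          · simp only [ext, dif_pos hk]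
            rw [← Finset.sum_subset (Finset.subset_univ (Finset.univ.filter fun l => φ l = i)) (by
              intro l _ hl
              rw [dif_neg (by simpa using hl), mul_zero])]
            rw [Finset.sum_subtype (p := fun l => φ l = i) (Finset.univ.filter fun l => φ l = i) (by simp)]
            refine Finset.sum_congr rfl fun l _ => ?_
            rw [dif_pos l.2]
            rfl
          · simp only [ext, dif_neg hk]
            refine Finset.sum_eq_zero fun l _ => ?_
            split_ifs with hl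
            · rw [hB k l fun hd => hk ((show φ k = φ l from Fin.ext hd).trans hl), zero_mul]
            · rw [mul_zero]
        have h1 : ext x = ext y := Matrix.mulVec_injective_of_isUnit B.isUnit (by
          change (B : Matrix (Fin t) (Fin t) F).mulVec (ext x) = (B : Matrix (Fin t) (Fin t) F).mulVec (ext y)
          rw [key, key, show (blk i).mulVec x = (blk i).mulVec y from hxy])
        funext k
        have h2 := congrFun h1 k.1
        simpa [ext, k.2] using h2
      refine ⟨fun i => (hu i).unit, Subtype.ext (Units.ext ?_)⟩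
      rw [hrec]
      rfl
  rw [← Nat.card_eq_of_bijective f hbij, Nat.card_pi,
    ← Fin.prod_univ_eq_prod_range (fun i => ∏ j : Fin ((Finset.univ.filter (fun k : Fin t => d k = i)).card),
      (Fintype.card F ^ (Finset.univ.filter (fun k : Fin t => d k = i)).card - Fintype.card F ^ (j : ℕ)))]
  refine Finset.prod_congr rfl fun i _ => ?_
  have hc : Fintype.card {k // φ k = i} = (Finset.univ.filter (fun k : Fin t => d k = (i : ℕ))).card := by
    rw [Fintype.card_subtype]
    congr 1
    ext k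
    simp [φ, Fin.ext_iff]
  rw [Nat.card_congr (Units.mapEquiv (Matrix.reindexAlgEquiv F F (Fintype.equivFinOfCardEq hc)).toMulEquiv).toEquiv]
  exact Matrix.card_GL_field _

lemma card_jKerIdx (D : ℕ) (hD : ∀ k, d k ≤ D) :
    Fintype.card (JKerIdx d) =
      2 * (∑ i ∈ Finset.range (D + 1), ∑ j ∈ Finset.range (D + 1), if i < j then i *
          (Finset.univ.filter (fun k : Fin t => d k = i)).card *
          (Finset.univ.filter (fun k : Fin t => d k = j)).card else 0) +
        ∑ i ∈ Finset.range (D + 1), (i - 1) * (Finset.univ.filter (fun k : Fin t => d k = i)).card ^ 2 := by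
  classical
  set a : ℕ → ℕ := fun i => (Finset.univ.filter (fun k : Fin t => d k = i)).card with ha
  have hm : ∀ k : Fin t, d k ∈ Finset.range (D + 1) := fun k => Finset.mem_range.2 (Nat.lt_succ_of_le (hD k))
  have hfib : ∀ g : ℕ → ℕ, ∑ k : Fin t, g (d k) = ∑ i ∈ Finset.range (D + 1), a i * g i := by
    intro g
    rw [← Finset.sum_fiberwise_of_maps_to (g := d) (fun k _ => hm k)]
    refine Finset.sum_congr rfl fun i _ => ?_
    rw [Finset.sum_congr rfl (fun k hk => by rw [(Finset.mem_filter.1 hk).2]), Finset.sum_const, smul_eq_mul]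
  have hfib2 : ∀ g : ℕ → ℕ → ℕ, ∑ k : Fin t, ∑ l : Fin t, g (d k) (d l) =
      ∑ i ∈ Finset.range (D + 1), ∑ j ∈ Finset.range (D + 1), a i * a j * g i j := by
    intro g
    rw [hfib (fun i => ∑ l : Fin t, g i (d l))]
    refine Finset.sum_congr rfl fun i _ => ?_
    rw [hfib, Finset.mul_sum]
    simp [mul_assoc]
  have hcard : Fintype.card (JKerIdx d) = ∑ k : Fin t, ∑ l : Fin t,
      (min (d k) (d l) - if d k = d l then 1 else 0) := by
    rw [Fintype.card_subtype, Finset.card_filter, Fintype.sum_sigma]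
    refine Finset.sum_congr rfl fun k _ => ?_
    rw [Fintype.sum_sigma]
    refine Finset.sum_congr rfl fun l _ => ?_
    rw [← Finset.card_filter]
    by_cases h : d k = d l
    · simp only [h, true_and, if_true]
      rw [Finset.filter_not, Finset.card_sdiff, Finset.card_univ, Fintype.card_fin, Finset.inter_univ]
      by_cases h0 : min (d l) (d l) = 0
      · omega
      · rw [show Finset.univ.filter (fun x : Fin (min (d k) (d l)) => (x : ℕ) = 0) = {⟨0, by omega⟩} from by
          ext x; simp [Fin.ext_iff], Finset.card_singleton, h]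
    · simp [h]
  rw [hcard, hfib2 (fun i j => min i j - if i = j then 1 else 0)]
  have hsplit : ∀ i j, a i * a j * (min i j - if i = j then 1 else 0) =
      ((if i < j then i * a i * a j else 0) + (if j < i then j * a j * a i else 0)) +
        (if i = j then (i - 1) * a i ^ 2 else 0) := by
    intro i j
    rcases Nat.lt_trichotomy i j with h | rfl | h
    · simp [h, h.ne, not_lt.2 h.le, min_eq_left h.le]; ring
    · simp; ring
    · simp [h, h.ne', not_lt.2 h.le, min_eq_right h.le]; ring
  simp only [hsplit, Finset.sum_add_distrib]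
  rw [two_mul]
  congr 1
  · congr 1
    exact Finset.sum_comm
  · refine Finset.sum_congr rfl fun i hi => ?_
    rw [Finset.sum_ite_eq, if_pos hi]

end H42
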