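import Mathlib

/-!
Regular nilpotent matrices: cyclic basis and commutant.
-/

set_option autoImplicit false

namespace H42

variable {F : Type*} [Field F] {n : ℕ}

/-- A nilpotent matrix with corank one has non-zero `(n-1)`-st power. -/
lemma pow_pred_ne_zero_of_rank (N : Matrix (Fin n) (Fin n) F) (hn : 1 ≤ n) (hr : N.rank = n - 1) :
    N ^ (n - 1) ≠ 0 := by
  set L : Module.End F (Fin n → F) := Matrix.toLinAlgEquiv' N with hL
  have hker1 : Module.finrank F (LinearMap.ker L) ≤ 1 := by
    have h := LinearMap.finrank_range_add_finrank_ker L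
    have h2 : Module.finrank F (LinearMap.range L) = n - 1 := by rw [← hr]; rfl
    rw [h2, Module.finrank_fin_fun] at h
    omega
  have hk : ∀ k, Module.finrank F (LinearMap.ker (L ^ k)) ≤ k := by
    intro k
    induction k with
    | zero => rw [pow_zero, Module.End.one_eq_id, LinearMap.ker_id, finrank_bot]
    | succ k ih =>
      have hle : ∀ x ∈ LinearMap.ker (L ^ (k + 1)), L x ∈ LinearMap.ker (L ^ k) := by
        intro x hx
        rw [LinearMap.mem_ker, ← Module.End.mul_apply, ← pow_succ]
        exact hx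
      set f := L.restrict hle with hf
      have h := LinearMap.finrank_range_add_finrank_ker f
      have h1 : Module.finrank F (LinearMap.range f) ≤ k := (Submodule.finrank_le _).trans ih
      have h2 : Module.finrank F (LinearMap.ker f) ≤ 1 := by
        refine le_trans ?_ hker1
        let g : LinearMap.ker f →ₗ[F] LinearMap.ker L :=
          { toFun := fun x => ⟨(x.1 : Fin n → F), congrArg Subtype.val x.2⟩
            map_add' := fun _ _ => rfl
            map_smul' := fun _ _ => rfl }
        exact LinearMap.finrank_le_finrank_of_injective (f := g) fun x y hxy => by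
          have := congrArg Subtype.val hxy
          exact Subtype.ext (Subtype.ext this)
      omega
  intro h0
  have h := hk (n - 1)
  rw [hL, ← map_pow, h0, map_zero, LinearMap.ker_zero, finrank_top, Module.finrank_fin_fun] at h
  omega

/-- The lower shift matrix. -/
def shiftMat (n : ℕ) (F : Type*) [Field F] : Matrix (Fin n) (Fin n) F :=
  Matrix.of fun i j => if (i : ℕ) = (j : ℕ) + 1 then 1 else 0

lemma exists_cyclic_conj (N : Matrix (Fin n) (Fin n) F) (hn : 1 ≤ n) (hnil : N ^ n = 0)
    (hne : N ^ (n - 1) ≠ 0) :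
    ∃ P : GL (Fin n) F, N * (P : Matrix (Fin n) (Fin n) F) = (P : Matrix (Fin n) (Fin n) F) * shiftMat n F := by
  obtain ⟨v, hv⟩ : ∃ v, (N ^ (n - 1)).mulVec v ≠ 0 := by
    by_contra h
    push Not at h
    exact hne (Matrix.ext_iff_mulVec.2 fun v => by rw [h v, Matrix.zero_mulVec])
  have hhigh : ∀ k, n ≤ k → N ^ k = 0 := fun k hk => pow_eq_zero_of_le hk hnil
  have hli : LinearIndependent F (fun i : Fin n => (N ^ (i : ℕ)).mulVec v) := by
    rw [Fintype.linearIndependent_iff]
    intro a ha i
    induction hi : (i : ℕ) using Nat.strong_induction_on generalizing i with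
    | _ m ih =>
      have h := congrArg (fun x => (N ^ (n - 1 - m)).mulVec x) ha
      simp only [Matrix.mulVec_sum, Matrix.mulVec_smul, Matrix.mulVec_mulVec, ← pow_add,
        Matrix.mulVec_zero] at h
      rw [Finset.sum_eq_single i] at h
      · rw [hi, show n - 1 - m + m = n - 1 by omega] at h
        rcases smul_eq_zero.1 h with h' | h'
        · exact h'
        · exact absurd h' hv
      · intro j _ hji
        rcases Nat.lt_trichotomy (j : ℕ) m with hj | hj | hj
        · rw [ih _ hj j rfl, zero_smul]
        · exact absurd (Fin.ext (hj.trans hi.symm)) hji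
        · rw [hhigh _ (by omega), Matrix.zero_mulVec, smul_zero]
      · simp
  let P : Matrix (Fin n) (Fin n) F := Matrix.of fun i j => ((N ^ (j : ℕ)).mulVec v) i
  have hP : IsUnit P := by
    rw [← Matrix.linearIndependent_cols_iff_isUnit]
    exact hli
  refine ⟨hP.unit, ?_⟩
  rw [IsUnit.unit_spec]
  ext i j
  have h1 : (N * P) i j = ((N ^ ((j : ℕ) + 1)).mulVec v) i := by
    rw [pow_succ', ← Matrix.mulVec_mulVec]; rfl
  rw [h1, Matrix.mul_apply]
  by_cases hj : (j : ℕ) + 1 < n
  · rw [Finset.sum_eq_single ⟨(j : ℕ) + 1, hj⟩]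
    · simp [P, shiftMat]
    · intro k _ hk
      have : (k : ℕ) ≠ (j : ℕ) + 1 := fun h => hk (Fin.ext h)
      simp [shiftMat, this]
    · simp
  · rw [hhigh _ (by omega), Matrix.zero_mulVec]
    refine (Finset.sum_eq_zero fun k _ => ?_).symm
    have hk : (k : ℕ) ≠ (j : ℕ) + 1 := by omega
    simp [shiftMat, hk]

/-- `det (c + nilpotent) = c ^ n`. -/
lemma det_smul_one_add_of_isNilpotent (c : F) (X : Matrix (Fin n) (Fin n) F) (hX : IsNilpotent X) :
    (c • (1 : Matrix (Fin n) (Fin n) F) + X).det = c ^ n := by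
  have hc := (Matrix.isNilpotent_charpoly_sub_pow_of_isNilpotent hX.neg).eq_zero
  rw [sub_eq_zero] at hc
  have h := congrArg (Polynomial.eval c) hc
  rw [Matrix.eval_charpoly, Polynomial.eval_pow, Polynomial.eval_X, sub_neg_eq_add, Fintype.card_fin] at h
  rwa [Matrix.scalar_apply, ← Matrix.smul_one_eq_diagonal] at h

lemma shiftMat_apply_pow (k : ℕ) (i j : Fin n) :
    (shiftMat n F ^ k) i j = if (i : ℕ) = (j : ℕ) + k then 1 else 0 := by
  induction k generalizing j with
  | zero => simp [Matrix.one_apply, Fin.ext_iff]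
  | succ k ih =>
    rw [pow_succ, Matrix.mul_apply]
    by_cases hj : (j : ℕ) + 1 < n
    · rw [Finset.sum_eq_single ⟨(j : ℕ) + 1, hj⟩]
      · rw [ih]
        simp [shiftMat, add_assoc, add_comm k]
      · intro l _ hl
        have : (l : ℕ) ≠ (j : ℕ) + 1 := fun h => hl (Fin.ext h)
        simp [shiftMat, this]
      · simp
    · rw [if_neg (by omega)]
      refine Finset.sum_eq_zero fun l _ => ?_
      have hl : (l : ℕ) ≠ (j : ℕ) + 1 := by omega
      simp [shiftMat, hl]

lemma shiftMat_pow_self : shiftMat n F ^ n = 0 := by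
  ext i j
  rw [shiftMat_apply_pow, if_neg (by omega), Matrix.zero_apply]

/-- A matrix commuting with the shift has a power of a scalar as determinant. -/
lemma exists_det_eq_pow_of_commute (hn : 1 ≤ n) (M : Matrix (Fin n) (Fin n) F)
    (hM : Commute M (shiftMat n F)) : ∃ c : F, M.det = c ^ n := by
  let z : Fin n := ⟨0, hn⟩
  have hcol : M = ∑ k : Fin n, M k z • shiftMat n F ^ (k : ℕ) := by
    ext i j
    have h := congrFun (congrFun (hM.pow_right (j : ℕ)).eq i) z
    have hl : (M * shiftMat n F ^ (j : ℕ)) i z = M i j := by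
      rw [Matrix.mul_apply, Finset.sum_eq_single j]
      · simp [shiftMat_apply_pow, z]
      · intro l _ hl
        have : (l : ℕ) ≠ (j : ℕ) := fun h => hl (Fin.ext h)
        simp [shiftMat_apply_pow, z, this]
      · simp
    rw [← hl, h, Matrix.mul_apply, Matrix.sum_apply]
    refine Finset.sum_congr rfl fun l _ => ?_
    rw [Matrix.smul_apply, shiftMat_apply_pow, shiftMat_apply_pow, smul_eq_mul, mul_comm (M l z)]
    congr 1
    exact if_congr (by omega) rfl rfl
  refine ⟨M z z, ?_⟩
  have hnil : IsNilpotent (M - M z z • (1 : Matrix (Fin n) (Fin n) F)) := by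
    have : M - M z z • (1 : Matrix (Fin n) (Fin n) F)
        = ∑ k ∈ Finset.univ.erase z, M k z • shiftMat n F ^ (k : ℕ) := by
      have hsplit := hcol.trans
        (Finset.add_sum_erase Finset.univ (fun k : Fin n => M k z • shiftMat n F ^ (k : ℕ)) (Finset.mem_univ z)).symm
      rw [show shiftMat n F ^ (z : ℕ) = 1 from pow_zero _] at hsplit
      rw [sub_eq_iff_eq_add']
      exact hsplit
    rw [this]
    refine ⟨n, ?_⟩
    have hfac : ∑ k ∈ Finset.univ.erase z, M k z • shiftMat n F ^ (k : ℕ)
        = shiftMat n F * ∑ k ∈ Finset.univ.erase z, M k z • shiftMat n F ^ ((k : ℕ) - 1) := by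
      rw [Finset.mul_sum]
      refine Finset.sum_congr rfl fun k hk => ?_
      have hk0 : (k : ℕ) ≠ 0 := fun h => (Finset.mem_erase.1 hk).1 (Fin.ext h)
      rw [Matrix.mul_smul, ← pow_succ', show (k : ℕ) - 1 + 1 = k by omega]
    rw [hfac, Commute.mul_pow, shiftMat_pow_self, zero_mul]
    exact Commute.sum_right _ _ _ fun k _ => ((Commute.refl _).pow_right _).smul_right _
  have h := det_smul_one_add_of_isNilpotent (M z z) _ hnil
  rwa [add_sub_cancel] at h

lemma shiftMat_mulVec_succ (x : Fin n → F) (j : ℕ) (hj : j + 1 < n) :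
    (shiftMat n F).mulVec x ⟨j + 1, hj⟩ = x ⟨j, by omega⟩ := by
  rw [Matrix.mulVec, dotProduct, Finset.sum_eq_single ⟨j, by omega⟩]
  · simp [shiftMat]
  · intro l _ hl
    have : (l : ℕ) ≠ j := fun h => hl (Fin.ext h)
    simp [shiftMat, Ne.symm this]
  · simp

lemma rank_shiftMat (hn : 1 ≤ n) : (shiftMat n F).rank = n - 1 := by
  let L := (shiftMat n F).mulVecLin
  let last : Fin n := ⟨n - 1, by omega⟩
  have h := LinearMap.finrank_range_add_finrank_ker L
  rw [Module.finrank_fin_fun] at h
  have h1 : Module.finrank F (LinearMap.ker L) ≤ 1 := by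
    refine le_trans (LinearMap.finrank_le_finrank_of_injective
      (f := (LinearMap.proj last).comp (LinearMap.ker L).subtype) ?_) (le_of_eq (Module.finrank_self F))
    rw [injective_iff_map_eq_zero]
    rintro ⟨x, hx⟩ (h0 : x last = 0)
    refine Subtype.ext (funext fun i => ?_)
    by_cases hi : (i : ℕ) + 1 < n
    · have h2 := congrFun (show (shiftMat n F).mulVec x = 0 from hx) ⟨(i : ℕ) + 1, hi⟩
      rw [shiftMat_mulVec_succ] at h2
      exact h2
    · rw [show i = last from Fin.ext (by simp only [last]; omega)]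
      exact h0
  have h2 : LinearMap.ker L ≠ ⊥ := by
    intro hb
    have hmem : Pi.single last (1 : F) ∈ LinearMap.ker L := by
      rw [LinearMap.mem_ker]
      funext i
      simp [L, shiftMat, last]
      omega
    rw [hb, Submodule.mem_bot] at hmem
    have := congrFun hmem last
    simp at this
  have h3 : 0 < Module.finrank F (LinearMap.ker L) :=
    Nat.pos_of_ne_zero fun h0 => h2 (Submodule.finrank_eq_zero.1 h0)
  have h4 : (shiftMat n F).rank = Module.finrank F (LinearMap.range L) := rfl
  omega

end H42
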