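import Mathlib

/-!
Overgroups of `SL_m(E)` inside `GL_{mr}(F)`, `E/F` of prime degree `r`: basic bookkeeping.
-/

set_option autoImplicit false
set_option linter.style.haveILetI false
set_option linter.unusedSectionVars false

namespace H42.ExtField

open Module

variable {F E V : Type*} [Field F] [Fintype F] [Field E] [Algebra F E] [FiniteDimensional F E]
  [AddCommGroup V] [Module F V] [Module E V] [IsScalarTower F E V] [FiniteDimensional F V]

/-- The map `c ↦ c • v`. -/
noncomputable def lineMap (v : V) : E →ₗ[F] V := (LinearMap.toSpanSingleton E V v).restrictScalars F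

theorem lineMap_apply (v : V) (c : E) : lineMap (F := F) v c = c • v := rfl

theorem lineMap_injective {v : V} (hv : v ≠ 0) : Function.Injective (lineMap (F := F) (E := E) v) :=
  smul_left_injective E hv

/-- The `E`-line through `v`, as an `F`-subspace. -/
noncomputable def eLine (F E : Type*) {V : Type*} [Field F] [Field E] [Algebra F E]
    [AddCommGroup V] [Module F V] [Module E V] [IsScalarTower F E V] (v : V) : Submodule F V :=
  LinearMap.range ((LinearMap.toSpanSingleton E V v).restrictScalars F)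

theorem mem_eLine {v x : V} : x ∈ eLine F E v ↔ ∃ c : E, c • v = x := Iff.rfl

theorem smul_mem_eLine (v : V) (c : E) : c • v ∈ eLine F E v := ⟨c, rfl⟩

/-- An `E`-functional vanishing on `v` with value one at `x`. -/
theorem exists_efun {v x : V} (hx : x ∉ eLine F E v) : ∃ φ : V →ₗ[E] E, φ v = 0 ∧ φ x = 1 := by
  have hx' : x ∉ Submodule.span E {v} := fun h => hx (Submodule.mem_span_singleton.1 h)
  obtain ⟨f, hf, hf'⟩ := Submodule.exists_dual_map_eq_bot_of_notMem hx' inferInstance
  have hfv : f v = 0 := by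
    have : f v ∈ (Submodule.span E {v}).map f := ⟨v, Submodule.mem_span_singleton_self v, rfl⟩
    rwa [hf', Submodule.mem_bot] at this
  exact ⟨(f x)⁻¹ • f, by simp [hfv], by simp [hf]⟩

theorem exists_efun_one {v : V} (hv : v ≠ 0) : ∃ φ : V →ₗ[E] E, φ v = 1 := by
  obtain ⟨f, hf⟩ := Module.Projective.exists_dual_ne_zero E hv
  exact ⟨(f v)⁻¹ • f, by simp [hf]⟩

/-- `G` contains the map `x ↦ x + A x`. -/
def Mem (G : Subgroup (V ≃ₗ[F] V)) (A : V →ₗ[F] V) : Prop :=
  ∃ g ∈ G, ∀ x, g x = x + A x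

/-- The automorphism `x ↦ x + A x` for `A` of square zero. -/
def unip (A : V →ₗ[F] V) (hA : ∀ x, A (A x) = 0) : V ≃ₗ[F] V :=
  { LinearMap.id + A with
    invFun := fun x => x - A x
    left_inv := fun x => by simp [hA]
    right_inv := fun x => by simp [hA] }

theorem unip_apply (A : V →ₗ[F] V) (hA : ∀ x, A (A x) = 0) (x : V) : unip A hA x = x + A x := rfl

/-- The hypotheses: prime degree, dimension at least two, and `G` contains the `E`-linear maps of determinant 1. -/
structure Over (E : Type*) [Field E] [Algebra F E] [Module E V] (G : Subgroup (V ≃ₗ[F] V)) : Prop where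
  prime : (finrank F E).Prime
  proper : ∀ v : V, ∃ x, x ∉ Submodule.span E {v}
  mem_of_linear : ∀ f : V ≃ₗ[F] V, (∀ (c : E) (x : V), f (c • x) = c • f x) →
    LinearMap.det (f : V →ₗ[F] V) = 1 → f ∈ G

variable {G : Subgroup (V ≃ₗ[F] V)}

theorem Mem.of_eq {A B : V →ₗ[F] V} (h : Mem G A) (e : ∀ x, A x = B x) : Mem G B := by
  obtain ⟨g, hg, hgx⟩ := h
  exact ⟨g, hg, fun x => by rw [hgx, e]⟩

theorem mem_zero : Mem G (0 : V →ₗ[F] V) := ⟨1, one_mem G, fun x => by simp⟩

theorem Mem.add {A B : V →ₗ[F] V} (hA : Mem G A) (hB : Mem G B) (h : ∀ x, A (B x) = 0) :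
    Mem G (A + B) := by
  obtain ⟨a, ha, hax⟩ := hA
  obtain ⟨b, hb, hbx⟩ := hB
  refine ⟨a * b, mul_mem ha hb, fun x => ?_⟩
  show a (b x) = _
  rw [hbx, hax, map_add, h, LinearMap.add_apply]
  abel

theorem Mem.neg {A : V →ₗ[F] V} (hA : Mem G A) (h : ∀ x, A (A x) = 0) : Mem G (-A) := by
  obtain ⟨a, ha, hax⟩ := hA
  refine ⟨a⁻¹, inv_mem ha, fun x => ?_⟩
  show a.symm x = _
  rw [LinearEquiv.symm_apply_eq, hax, map_add, LinearMap.neg_apply, map_neg, h]
  abel

theorem Mem.conj {A : V →ₗ[F] V} (hA : Mem G A) {g : V ≃ₗ[F] V} (hg : g ∈ G) :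
    Mem G (g.toLinearMap.comp (A.comp g.symm.toLinearMap)) := by
  obtain ⟨a, ha, hax⟩ := hA
  refine ⟨g * a * g⁻¹, mul_mem (mul_mem hg ha) (inv_mem hg), fun x => ?_⟩
  show g (a (g.symm x)) = _
  rw [hax, map_add, LinearEquiv.apply_symm_apply]
  rfl

theorem det_unip (A : V →ₗ[F] V) (hA : ∀ x, A (A x) = 0) :
    LinearMap.det (unip A hA : V →ₗ[F] V) = 1 := by
  obtain ⟨p, hp⟩ := CharP.exists F
  have hpp : p.Prime := CharP.char_is_prime F p
  haveI : Fact p.Prime := ⟨hpp⟩
  set f := unip A hA with hf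
  have hpow : ∀ (k : ℕ) (x : V), (f ^ k) x = x + k • A x := by
    intro k
    induction k with
    | zero => intro x; simp
    | succ k ih =>
      intro x
      rw [pow_succ', succ_nsmul]
      show f ((f ^ k) x) = _
      rw [ih, hf, unip_apply, map_add, map_nsmul, hA, smul_zero]
      abel
  have hfp : f ^ p = 1 := by
    refine LinearEquiv.ext fun x => ?_
    rw [hpow, ← Nat.cast_smul_eq_nsmul F, CharP.cast_eq_zero, zero_smul, add_zero]
    rfl
  have h := congrArg (fun u : Fˣ => (u : F)) (map_pow (LinearEquiv.det (R := F) (M := V)) f p)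
  simp only [hfp, map_one, Units.val_one, Units.val_pow_eq_pow_val, LinearEquiv.coe_det] at h
  have h1 : (LinearMap.det (f : V →ₗ[F] V) - 1) ^ p = 0 := by
    rw [sub_pow_char, one_pow, ← h, sub_self]
  exact sub_eq_zero.1 (pow_eq_zero_iff hpp.ne_zero |>.1 h1)

/-- `G` contains the `E`-transvections. -/
theorem Over.etv (hG : Over E G) (φ : V →ₗ[E] E) (v : V) (h : φ v = 0) :
    Mem G ((φ.smulRight v).restrictScalars F) := by
  have hA : ∀ x, ((φ.smulRight v).restrictScalars F) (((φ.smulRight v).restrictScalars F) x) = 0 :=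
    fun x => by simp [h]
  refine ⟨unip _ hA, hG.mem_of_linear _ (fun c x => ?_) (det_unip _ hA), fun x => rfl⟩
  simp [unip_apply, smul_add, mul_smul]

theorem Over.exists_etv (hG : Over E G) (φ : V →ₗ[E] E) (v : V) (h : φ v = 0) :
    ∃ g ∈ G, ∀ x, g x = x + φ x • v := by
  obtain ⟨g, hg, hgx⟩ := hG.etv φ v h
  exact ⟨g, hg, hgx⟩

/-- `G` is transitive on non-zero vectors through `E`-linear elements. -/
theorem Over.transitive (hG : Over E G) {v u : V} (hv : v ≠ 0) (hu : u ≠ 0) :
    ∃ g ∈ G, (∀ (c : E) (x : V), g (c • x) = c • g x) ∧ g v = u := by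
  have step : ∀ v u : V, v ≠ 0 → u ∉ eLine F E v →
      ∃ g ∈ G, (∀ (c : E) (x : V), g (c • x) = c • g x) ∧ g v = u := by
    intro v u hv hu
    have hv' : v ∉ eLine F E (u - v) := by
      rintro ⟨c, hc⟩
      change c • (u - v) = v at hc
      by_cases hc0 : c = 0
      · rw [hc0, zero_smul] at hc; exact hv hc.symm
      · refine hu ⟨c⁻¹ + 1, ?_⟩
        show (c⁻¹ + 1) • v = u
        conv_lhs => rw [add_smul, one_smul]; arg 1; rw [← hc, smul_smul, inv_mul_cancel₀ hc0, one_smul]
        abel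
    obtain ⟨φ, h0, h1⟩ := exists_efun hv'
    obtain ⟨g, hg, hgx⟩ := hG.exists_etv φ (u - v) h0
    refine ⟨g, hg, fun c x => ?_, by rw [hgx, h1, one_smul]; abel⟩
    rw [hgx, hgx, map_smul, smul_eq_mul, smul_add, mul_smul]
  by_cases h : u ∈ eLine F E v
  · obtain ⟨z, hz⟩ := hG.proper v
    have hz' : z ∉ eLine F E v := fun ⟨c, hc⟩ => hz (Submodule.mem_span_singleton.2 ⟨c, hc⟩)
    obtain ⟨c, rfl⟩ := h
    change c • v ≠ 0 at hu
    obtain ⟨g, hg, hgl, hgv⟩ := step v z hv hz'
    have hz0 : z ≠ 0 := fun e => hz' (by rw [e]; exact zero_mem _)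
    obtain ⟨k, hk, hkl, hkz⟩ := step z (c • v) hz0 (by
      rintro ⟨d, hd⟩
      change d • z = c • v at hd
      by_cases hd0 : d = 0
      · rw [hd0, zero_smul] at hd; exact hu hd.symm
      · exact hz' ⟨d⁻¹ * c, by
          show (d⁻¹ * c) • v = z
          rw [mul_smul, ← hd, smul_smul, inv_mul_cancel₀ hd0, one_smul]⟩)
    exact ⟨k * g, mul_mem hk hg, fun a x => by
      show k (g (a • x)) = a • k (g x)
      rw [hgl, hkl], by show k (g v) = _; rw [hgv, hkz]; rfl⟩
  · exact step v u hv h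

/-- An additive map sending every vector into its line is a homothety. -/
theorem homothety_of_lines (hE : ∀ v : V, ∃ x, x ∉ Submodule.span E {v}) (J : V → V)
    (hadd : ∀ x y, J (x + y) = J x + J y) (h : ∀ x, J x ∈ eLine F E x) :
    ∃ a : E, ∀ x, J x = a • x := by
  have indep : ∀ x y : V, x ≠ 0 → y ∉ eLine F E x → ∀ a b : E, J x = a • x → J y = b • y → a = b := by
    intro x y hx hy a b ha hb
    obtain ⟨c, hc : c • (x + y) = J (x + y)⟩ := h (x + y)
    rw [hadd, ha, hb] at hc
    have h1 : (c - b) • y = (a - c) • x := by linear_combination (norm := module) hc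
    by_cases hcb : c - b = 0
    · rw [hcb, zero_smul] at h1
      have := (smul_eq_zero.1 h1.symm).resolve_right hx
      rw [sub_eq_zero] at hcb this
      rw [this, hcb]
    · exact absurd ⟨(c - b)⁻¹ * (a - c), by
        show ((c - b)⁻¹ * (a - c)) • x = y
        rw [mul_smul, ← h1, smul_smul, inv_mul_cancel₀ hcb, one_smul]⟩ hy
  obtain ⟨x0, hx0⟩ := hE 0
  have hx0' : x0 ≠ 0 := fun e => hx0 (by rw [e]; exact zero_mem _)
  obtain ⟨a, ha : a • x0 = J x0⟩ := h x0
  refine ⟨a, fun x => ?_⟩
  by_cases hx : x = 0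
  · subst hx
    have := hadd 0 0
    rw [add_zero] at this
    rw [smul_zero]
    simpa using this
  obtain ⟨b, hb : b • x = J x⟩ := h x
  by_cases hxl : x ∈ eLine F E x0
  · obtain ⟨y, hy⟩ := hE x0
    have hy' : y ∉ eLine F E x0 := fun ⟨c, hc⟩ => hy (Submodule.mem_span_singleton.2 ⟨c, hc⟩)
    obtain ⟨d, hd : d • y = J y⟩ := h y
    have h1 : a = d := indep x0 y hx0' hy' a d ha.symm hd.symm
    have hy'' : y ∉ eLine F E x := by
      obtain ⟨c, rfl⟩ := hxl
      rintro ⟨e, he : e • (c • x0) = y⟩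
      exact hy' ⟨e * c, by show (e * c) • x0 = y; rw [mul_smul, he]⟩
    have h2 : b = d := indep x y hx hy'' b d hb.symm hd.symm
    rw [← hb, h1, h2]
  · rw [← hb, indep x0 x hx0' hxl a b ha.symm hb.symm]

/-- A stabiliser of a proper non-zero subspace of `E` consists of scalars. -/
theorem stab_scalar (hr : (finrank F E).Prime) (L : Submodule F E) (hb : L ≠ ⊥) (ht : L ≠ ⊤) {a : E}
    (ha : ∀ e ∈ L, a * e ∈ L) : ∃ c : F, algebraMap F E c = a := by
  let S : Subalgebra F E :=
    { carrier := {x | ∀ e ∈ L, x * e ∈ L}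
      mul_mem' := fun {x y} hx hy e he => by rw [mul_assoc]; exact hx _ (hy e he)
      add_mem' := fun {x y} hx hy e he => by rw [add_mul]; exact L.add_mem (hx e he) (hy e he)
      algebraMap_mem' := fun c e he => by rw [← Algebra.smul_def]; exact L.smul_mem c he }
  haveI := Subalgebra.isSimpleOrder_of_finrank_prime F E hr
  rcases IsSimpleOrder.eq_bot_or_eq_top S with h | h
  · have : a ∈ (⊥ : Subalgebra F E) := h ▸ (show a ∈ S from ha)
    exact Algebra.mem_bot.1 this
  · exfalso
    obtain ⟨e, he, he0⟩ := Submodule.exists_mem_ne_zero_of_ne_bot hb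
    refine ht (eq_top_iff.2 fun x _ => ?_)
    have hx : x * e⁻¹ ∈ S := h ▸ Algebra.mem_top
    have := hx e he
    rwa [inv_mul_cancel_right₀ he0] at this

/-- The `(q - 1)`-st powers generate `E` as a ring. -/
theorem eq_univ_of_powers (hr : (finrank F E).Prime) (P : Set E) (h0 : (0 : E) ∈ P) (h1 : (1 : E) ∈ P)
    (hadd : ∀ x ∈ P, ∀ y ∈ P, x + y ∈ P) (hmul : ∀ x ∈ P, ∀ y ∈ P, x * y ∈ P)
    (hpow : ∀ u : Eˣ, ((u ^ (Fintype.card F - 1) : Eˣ) : E) ∈ P) (x : E) : x ∈ P := by
  haveI : Finite E := Module.finite_of_finite F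
  haveI := Fintype.ofFinite E
  obtain ⟨p, hp⟩ := CharP.exists F
  have hpp : p.Prime := CharP.char_is_prime F p
  haveI : CharP E p := charP_of_injective_algebraMap (algebraMap F E).injective p
  have hnsmul : ∀ x ∈ P, ∀ k : ℕ, k • x ∈ P := by
    intro x hx k
    induction k with
    | zero => simpa using h0
    | succ k ih => rw [succ_nsmul]; exact hadd _ ih _ hx
  have hneg : ∀ x ∈ P, -x ∈ P := by
    intro x hx
    have h := hnsmul x hx (p - 1)
    have e : (p - 1) • x = -x := by
      rw [nsmul_eq_mul, Nat.cast_sub hpp.one_le, CharP.cast_eq_zero, Nat.cast_one, zero_sub, neg_one_mul]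
    rwa [e] at h
  have hpw : ∀ x ∈ P, ∀ k : ℕ, x ^ k ∈ P := by
    intro x hx k
    induction k with
    | zero => simpa using h1
    | succ k ih => rw [pow_succ]; exact hmul _ ih _ hx
  let S : Subfield E :=
    { carrier := P
      zero_mem' := h0
      one_mem' := h1
      add_mem' := fun {x y} hx hy => hadd x hx y hy
      mul_mem' := fun {x y} hx hy => hmul x hx y hy
      neg_mem' := fun {x} hx => hneg x hx
      inv_mem' := fun x hx => by
        by_cases hx0 : x = 0
        · rw [hx0, inv_zero]; exact h0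
        · have hcard : 2 ≤ Fintype.card E := Fintype.one_lt_card
          have e : x⁻¹ = x ^ (Fintype.card E - 2) := by
            refine inv_eq_of_mul_eq_one_right ?_
            rw [← pow_succ', show Fintype.card E - 2 + 1 = Fintype.card E - 1 by omega]
            exact FiniteField.pow_card_sub_one_eq_one x hx0
          rw [e]; exact hpw x hx _ }
  by_contra hxP
  set q := Fintype.card F with hq
  set r := finrank F E with hrdef
  have hq2 : 2 ≤ q := Fintype.one_lt_card
  have hr2 : 2 ≤ r := hr.two_le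
  have hEcard : Nat.card E = q ^ r := by
    rw [Module.natCard_eq_pow_finrank (K := F), Nat.card_eq_fintype_card]
  obtain ⟨g, hg⟩ := IsCyclic.exists_ofOrder_eq_natCard (α := Eˣ)
  have hqr : (q ^ (r - 1) + 1) * (q - 1) ≤ q ^ r - 1 := by
    have e : q ^ r = q ^ (r - 1) * q := by rw [← pow_succ, show r - 1 + 1 = r by omega]
    have hle : q ≤ q ^ (r - 1) := Nat.le_self_pow (by omega) q
    obtain ⟨t, ht⟩ : ∃ t, q = t + 1 := ⟨q - 1, by omega⟩
    rw [e]
    have h' : q - 1 = t := by omega
    rw [h']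
    have : (q ^ (r - 1) + 1) * t + 1 ≤ q ^ (r - 1) * q := by nlinarith
    omega
  have hdvd : q - 1 ∣ q ^ r - 1 := by simpa using Nat.pow_sub_one_dvd_pow_sub_one q (one_dvd r)
  set a : Eˣ := g ^ (q - 1) with ha
  have hord : q ^ (r - 1) + 1 ≤ orderOf a := by
    rw [ha, orderOf_pow_of_dvd (by omega)
      (by rw [hg, Nat.card_units, hEcard]; exact hdvd), hg, Nat.card_units, hEcard]
    exact (Nat.le_div_iff_mul_le (by omega)).2 hqr
  have hScard : q ^ (r - 1) + 1 ≤ Nat.card ↥S := by
    refine hord.trans ?_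
    haveI : Nonempty ↥S := ⟨0⟩
    let b : ↥S := ⟨(a : E), hpow g⟩
    have : orderOf b = orderOf a := by
      rw [← orderOf_units (y := a), ← orderOf_injective S.subtype.toMonoidHom Subtype.val_injective b]
      rfl
    rw [← this]
    exact orderOf_le_card
  have hdim : 2 ≤ finrank ↥S E := by
    by_contra hlt
    have hpos : 0 < finrank ↥S E := finrank_pos
    have h1 : finrank ↥S E = 1 := by omega
    have hEq : Nat.card E = Nat.card ↥S := by rw [Module.natCard_eq_pow_finrank (K := ↥S), h1, pow_one]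
    have hsurj : Function.Surjective (Subtype.val : ↥S → E) :=
      (Nat.bijective_iff_injective_and_card _).2 ⟨Subtype.val_injective, hEq.symm⟩ |>.2
    obtain ⟨y, rfl⟩ := hsurj x
    exact hxP y.2
  have h2 : Nat.card ↥S ^ 2 ≤ Nat.card E := by
    rw [Module.natCard_eq_pow_finrank (K := ↥S) (V := E)]
    exact Nat.pow_le_pow_right Nat.card_pos hdim
  rw [hEcard] at h2
  have h3 : (q ^ (r - 1) + 1) ^ 2 ≤ q ^ r := le_trans (Nat.pow_le_pow_left hScard 2) h2
  have h4 : q ^ r ≤ q ^ (2 * (r - 1)) := Nat.pow_le_pow_right (by omega) (by omega)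
  have h5 : q ^ (2 * (r - 1)) = (q ^ (r - 1)) ^ 2 := by rw [← pow_mul, mul_comm]
  nlinarith [Nat.zero_le (q ^ (r - 1))]

/-- A hom from `Eˣ` into the `E`-linear maps sends `(q - 1)`-st powers into `G`. -/
theorem Over.hom_pow_mem (hG : Over E G) (ρ : Eˣ →* (V ≃ₗ[F] V))
    (hρ : ∀ (u : Eˣ) (c : E) (x : V), ρ u (c • x) = c • ρ u x) (u : Eˣ) :
    ρ (u ^ (Fintype.card F - 1)) ∈ G := by
  classical
  refine hG.mem_of_linear _ (hρ _) ?_
  rw [← LinearEquiv.coe_det, map_pow, map_pow, ← Fintype.card_units, pow_card_eq_one, Units.val_one]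

/-- Scalar multiplication by units of `E`. -/
def scalarHom : Eˣ →* (V ≃ₗ[F] V) where
  toFun u :=
    { toFun := fun x => (u : E) • x
      invFun := fun x => ((u⁻¹ : Eˣ) : E) • x
      map_add' := fun x y => smul_add _ x y
      map_smul' := fun c x => smul_comm _ c x
      left_inv := fun x => by simp [smul_smul]
      right_inv := fun x => by simp [smul_smul] }
  map_one' := LinearEquiv.ext fun x => by simp
  map_mul' u v := LinearEquiv.ext fun x => by
    show ((u * v : Eˣ) : E) • x = (u : E) • (v : E) • x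
    rw [Units.val_mul, mul_smul]

theorem scalarHom_apply (u : Eˣ) (x : V) : scalarHom (F := F) u x = (u : E) • x := rfl

theorem scalarHom_symm_apply (u : Eˣ) (x : V) :
    (scalarHom (F := F) u).symm x = ((u⁻¹ : Eˣ) : E) • x := rfl

theorem dil_comp (φ : V →ₗ[E] E) (v : V) (h : φ v = 1) (a b : E) (x : V) :
    (x + ((b - 1) * φ x) • v) + ((a - 1) * φ (x + ((b - 1) * φ x) • v)) • v = x + ((a * b - 1) * φ x) • v := by
  rw [map_add, map_smul, smul_eq_mul, h, add_assoc, ← add_smul]
  congr 2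
  ring

/-- The dilatation `x ↦ x + (u - 1) φ(x) v` for `φ v = 1`. -/
def dilHom (φ : V →ₗ[E] E) (v : V) (h : φ v = 1) : Eˣ →* (V ≃ₗ[F] V) where
  toFun u :=
    { toFun := fun x => x + (((u : E) - 1) * φ x) • v
      invFun := fun x => x + ((((u⁻¹ : Eˣ) : E) - 1) * φ x) • v
      map_add' := fun x y => by rw [map_add, mul_add, add_smul]; abel
      map_smul' := fun c x => by
        rw [LinearMap.map_smul_of_tower, mul_smul_comm, smul_assoc, RingHom.id_apply, smul_add]
      left_inv := fun x => by dsimp only; rw [dil_comp φ v h, Units.inv_mul, sub_self, zero_mul, zero_smul, add_zero]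
      right_inv := fun x => by dsimp only; rw [dil_comp φ v h, Units.mul_inv, sub_self, zero_mul, zero_smul, add_zero] }
  map_one' := LinearEquiv.ext fun x => by
    show x + ((((1 : Eˣ) : E) - 1) * φ x) • v = x
    simp
  map_mul' a b := LinearEquiv.ext fun x => (dil_comp φ v h (a : E) (b : E) x).symm

theorem dilHom_apply (φ : V →ₗ[E] E) (v : V) (h : φ v = 1) (u : Eˣ) (x : V) :
    dilHom (F := F) φ v h u x = x + (((u : E) - 1) * φ x) • v := rfl

theorem dilHom_linear (φ : V →ₗ[E] E) (v : V) (h : φ v = 1) (u : Eˣ) (c : E) (x : V) :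
    dilHom (F := F) φ v h u (c • x) = c • dilHom (F := F) φ v h u x := by
  rw [dilHom_apply, dilHom_apply, map_smul, smul_eq_mul, smul_add, smul_smul]
  congr 2
  ring

end H42.ExtField
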