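import Cfsg.Agent.H42.ExtFieldBase

/-!
Overgroups of `SL_m(E)`: a conjugate of an `E`-line meeting the line in a hyperplane.
-/

set_option autoImplicit false
set_option linter.style.haveILetI false
set_option linter.unusedSectionVars false

namespace H42.ExtField

open Module

variable {F E V : Type*} [Field F] [Fintype F] [Field E] [Algebra F E] [FiniteDimensional F E]
  [AddCommGroup V] [Module F V] [Module E V] [IsScalarTower F E V] [FiniteDimensional F V]
  {G : Subgroup (V ≃ₗ[F] V)}

/-- `g` restricted to the line through `v`. -/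
noncomputable def lineImg (g : V ≃ₗ[F] V) (v : V) : E →ₗ[F] V := g.toLinearMap.comp (lineMap v)

theorem lineImg_apply (g : V ≃ₗ[F] V) (v : V) (c : E) : lineImg g v c = g (c • v) := rfl

/-- The `c` with `g (c • v)` on the line through `v`. -/
noncomputable def preSet (E : Type*) [Field E] [Algebra F E] [Module E V] [IsScalarTower F E V]
    (g : V ≃ₗ[F] V) (v : V) : Submodule F E :=
  (eLine F E v).comap (lineImg (E := E) g v)

/-- The `c` with `c • v` on the image of that line. -/
noncomputable def postSet (E : Type*) [Field E] [Algebra F E] [Module E V] [IsScalarTower F E V]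
    (g : V ≃ₗ[F] V) (v : V) : Submodule F E :=
  (LinearMap.range (lineImg (E := E) g v)).comap (lineMap (E := E) v)

theorem mem_preSet {g : V ≃ₗ[F] V} {v : V} {c : E} :
    c ∈ preSet E g v ↔ ∃ d : E, d • v = g (c • v) := Iff.rfl

theorem mem_postSet {g : V ≃ₗ[F] V} {v : V} {c : E} :
    c ∈ postSet E g v ↔ ∃ d : E, g (d • v) = c • v := Iff.rfl

theorem lineImg_injective (g : V ≃ₗ[F] V) {v : V} (hv : v ≠ 0) :
    Function.Injective (lineImg (E := E) g v) :=
  g.injective.comp (lineMap_injective hv)

theorem finrank_preSet (g : V ≃ₗ[F] V) {v : V} (hv : v ≠ 0) :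
    finrank F (preSet E g v) = finrank F (postSet E g v) := by
  rw [LinearEquiv.finrank_eq (Submodule.equivMapOfInjective _ (lineImg_injective g hv) (preSet E g v)),
    LinearEquiv.finrank_eq (Submodule.equivMapOfInjective _ (lineMap_injective hv) (postSet E g v))]
  rw [preSet, postSet, Submodule.map_comap_eq, Submodule.map_comap_eq, inf_comm]
  rfl

theorem eq_top_of_finrank_eq {L : Submodule F E} (h : finrank F L = finrank F E) : L = ⊤ :=
  Submodule.eq_top_of_finrank_eq h

/-- There is `g` in `G` mapping the line through `v` to a subspace meeting it in a hyperplane. -/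
theorem Over.exists_hyper (hG : Over E G) {v : V} (hv : v ≠ 0)
    (h0 : ∃ g ∈ G, preSet E g v ≠ ⊥ ∧ preSet E g v ≠ ⊤) :
    ∃ g ∈ G, finrank F (preSet E g v) + 1 = finrank F E := by
  classical
  set r := finrank F E with hr
  let P : ℕ → Prop := fun d => ∃ g ∈ G, preSet E g v ≠ ⊥ ∧ preSet E g v ≠ ⊤ ∧ finrank F (preSet E g v) = d
  obtain ⟨g0, hg0, hb0, ht0⟩ := h0
  have hP0 : P (finrank F (preSet E g0 v)) := ⟨g0, hg0, hb0, ht0, rfl⟩
  have hle : finrank F (preSet E g0 v) ≤ r := Submodule.finrank_le _
  obtain ⟨g, hg, hb, ht, hd⟩ := Nat.findGreatest_spec (P := P) hle hP0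
  set d := Nat.findGreatest P r with hdd
  have hmax : ∀ k ≤ r, P k → k ≤ d := fun k hk h => Nat.le_findGreatest hk h
  have hdlt : d < r := by
    rcases (Submodule.finrank_le (preSet E g v)).lt_or_eq with h | h
    · rwa [hd] at h
    · exact absurd (eq_top_of_finrank_eq h) ht
  refine ⟨g, hg, ?_⟩
  rw [hd]
  by_contra hne
  have hk : d + 2 ≤ r := by omega
  -- an element of the image outside the line
  obtain ⟨c₀, hc₀⟩ : ∃ c, c ∉ preSet E g v := by
    by_contra! h
    exact ht (eq_top_iff.2 fun x _ => h x)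
  obtain ⟨φ, hφv, hφy⟩ := exists_efun (F := F) (v := v) (x := g (c₀ • v)) hc₀
  let ψ : E →ₗ[F] E := (φ.restrictScalars F).comp (lineImg g v)
  have hψ : ∀ c, ψ c = φ (g (c • v)) := fun _ => rfl
  have hker : preSet E g v ≤ LinearMap.ker ψ := by
    intro c hc
    obtain ⟨a, ha⟩ := hc
    change a • v = g (c • v) at ha
    rw [LinearMap.mem_ker, hψ, ← ha, map_smul, hφv, smul_zero]
  have hψ0 : ψ c₀ = 1 := by rw [hψ, hφy]
  have hpost : finrank F (postSet E g v) = d := by rw [← finrank_preSet g hv, hd]
  have hL0 : postSet E g v ≠ ⊥ := by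
    intro h
    rw [h, finrank_bot] at hpost
    exact hb (Submodule.finrank_eq_zero.1 (by omega))
  have hL1 : postSet E g v ≠ ⊤ := by
    intro h
    rw [h, finrank_top] at hpost
    omega
  -- the key choice
  obtain ⟨b, hb1, hb2⟩ : ∃ b : E, (∃ c, b * ψ c ∉ postSet E g v) ∧
      d < finrank F ((postSet E g v).comap (LinearMap.mulLeft F b ∘ₗ ψ)) := by
    have hsub : ∀ b : E, LinearMap.ker ψ ≤ (postSet E g v).comap (LinearMap.mulLeft F b ∘ₗ ψ) := by
      intro b c hc
      rw [LinearMap.mem_ker] at hc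
      rw [Submodule.mem_comap, LinearMap.comp_apply, hc, map_zero]
      exact zero_mem _
    have hdk : d ≤ finrank F (LinearMap.ker ψ) := hd ▸ Submodule.finrank_mono hker
    rcases lt_or_eq_of_le hdk with h | h
    · obtain ⟨b, hb'⟩ : ∃ b, b ∉ postSet E g v := by
        by_contra! h'
        exact hL1 (eq_top_iff.2 fun x _ => h' x)
      exact ⟨b, ⟨c₀, by rwa [hψ0, mul_one]⟩, h.trans_le (Submodule.finrank_mono (hsub b))⟩
    · by_contra! hno
      have hcl : ∀ c e, e ∈ postSet E g v → ψ c * e ∈ postSet E g v := by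
        intro c e he
        by_contra hcon
        have h1 := hno e ⟨c, by rwa [mul_comm]⟩
        have h2 : c₀ ∈ (postSet E g v).comap (LinearMap.mulLeft F e ∘ₗ ψ) := by
          rw [Submodule.mem_comap, LinearMap.comp_apply, LinearMap.mulLeft_apply, hψ0, mul_one]
          exact he
        have h3 := Submodule.eq_of_le_of_finrank_le (hsub e) (by omega)
        rw [← h3, LinearMap.mem_ker, hψ0] at h2
        exact one_ne_zero h2
      have hrange : LinearMap.range ψ ≤ Submodule.span F {(1 : E)} := by
        rintro x ⟨c, rfl⟩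
        obtain ⟨a, ha⟩ := stab_scalar hG.prime _ hL0 hL1 (hcl c)
        rw [Submodule.mem_span_singleton]
        exact ⟨a, by rw [← ha, Algebra.smul_def, mul_one]⟩
      have h4 := Submodule.finrank_mono hrange
      rw [finrank_span_singleton (one_ne_zero (α := E))] at h4
      have h5 := LinearMap.finrank_range_add_finrank_ker ψ
      omega
  obtain ⟨T, hT, hTx⟩ := hG.exists_etv (b • φ) v (by simp [hφv])
  have hmem : g⁻¹ * T * g ∈ G := mul_mem (mul_mem (inv_mem hg) hT) hg
  have hpre : preSet E (g⁻¹ * T * g) v = (postSet E g v).comap (LinearMap.mulLeft F b ∘ₗ ψ) := by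
    ext c
    rw [mem_preSet, Submodule.mem_comap, mem_postSet]
    refine ⟨?_, ?_⟩
    · rintro ⟨a, ha⟩
      refine ⟨a - c, ?_⟩
      change a • v = g.symm (T (g (c • v))) at ha
      have ha' : g (a • v) = T (g (c • v)) := by rw [ha, LinearEquiv.apply_symm_apply]
      rw [sub_smul, map_sub, ha', hTx]
      show g (c • v) + (b • φ (g (c • v))) • v - g (c • v) = (b * φ (g (c • v))) • v
      rw [smul_eq_mul]; abel
    · rintro ⟨a, ha⟩
      refine ⟨a + c, ?_⟩
      show (a + c) • v = g.symm (T (g (c • v)))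
      rw [LinearEquiv.eq_symm_apply, add_smul, map_add, ha, hTx]
      show (b * φ (g (c • v))) • v + g (c • v) = g (c • v) + (b • φ (g (c • v))) • v
      rw [smul_eq_mul]; abel
  have hne1 : preSet E (g⁻¹ * T * g) v ≠ ⊤ := by
    rw [hpre]
    intro h
    obtain ⟨c, hc⟩ := hb1
    apply hc
    have : c ∈ (postSet E g v).comap (LinearMap.mulLeft F b ∘ₗ ψ) := h ▸ Submodule.mem_top
    exact this
  have hgt : d < finrank F (preSet E (g⁻¹ * T * g) v) := by rw [hpre]; exact hb2
  have hne0 : preSet E (g⁻¹ * T * g) v ≠ ⊥ := by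
    intro h
    rw [h, finrank_bot] at hgt
    omega
  have := hmax _ (Submodule.finrank_le _) ⟨_, hmem, hne0, hne1, rfl⟩
  omega

end H42.ExtField
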