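import Cfsg.Agent.H42.ExtFieldTwo

/-!
Overgroups of `SL_m(E)`: a conjugated line meeting the line in a hyperplane yields a transvection.
-/

set_option autoImplicit false
set_option linter.style.haveILetI false
set_option linter.unusedSectionVars false

namespace H42.ExtField

open Module

variable {F E V : Type*} [Field F] [Fintype F] [Field E] [Algebra F E] [FiniteDimensional F E]
  [AddCommGroup V] [Module F V] [Module E V] [IsScalarTower F E V] [FiniteDimensional F V]
  {G : Subgroup (V ≃ₗ[F] V)} {v : V}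

/-- Left operators of `Phi`. -/
def LOp (G : Subgroup (V ≃ₗ[F] V)) (v : V) (X : E →ₗ[F] E) : Prop :=
  ∀ f : V →ₗ[F] E, Phi G v f → Phi G v (X.comp f)

theorem hasRankOne_of_lop (hG : Over E G) (hv : v ≠ 0) (ν : E →ₗ[F] F) (c : E) (hν : ν ≠ 0) (hc : c ≠ 0)
    (h : LOp G v (ν.smulRight c)) : HasRankOne G E v := by
  obtain ⟨x, hx⟩ := hG.proper v
  have hx' : x ∉ eLine F E v := fun ⟨a, ha⟩ => hx (Submodule.mem_span_singleton.2 ⟨a, ha⟩)
  obtain ⟨φ, hφv, hφx⟩ := exists_efun hx'
  refine ⟨ν.comp (φ.restrictScalars F), fun h0 => hν (LinearMap.ext fun a => ?_),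
    ((h _ (phi_of_linear hG φ hφv)).left hG hv c⁻¹).of_eq fun y => ?_⟩
  · have := LinearMap.congr_fun h0 (a • x)
    simpa [hφx] using this
  · show c⁻¹ * (ν (φ y) • c) = algebraMap F E (ν (φ y))
    rw [Algebra.smul_def, mul_comm, mul_assoc, mul_inv_cancel₀ hc, mul_one]

theorem exists_coords (hr : finrank F E = 2) {ω : E} (hω : ∀ c : F, algebraMap F E c ≠ ω) (a : E) :
    ∃ s t : F, a = s • (1 : E) + t • ω := by
  have hli : LinearIndependent F ![(1 : E), ω] := by
    rw [LinearIndependent.pair_iff' one_ne_zero]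
    intro c hc
    exact hω c (by rw [← hc, Algebra.smul_def, mul_one])
  have htop := hli.span_eq_top_of_card_eq_finrank (by simp [hr])
  have ha : a ∈ Submodule.span F (Set.range ![(1 : E), ω]) := htop ▸ Submodule.mem_top
  simp only [Matrix.range_cons, Matrix.range_empty, Set.union_empty, Set.singleton_union,
    Submodule.mem_span_pair] at ha
  obtain ⟨s, t, h⟩ := ha
  exact ⟨s, t, h.symm⟩

/-- The hyperplane case gives an `F`-valued member of `Phi`. -/
theorem Over.hasRankOne (hG : Over E G) (hv : v ≠ 0) {g : V ≃ₗ[F] V} (hg : g ∈ G)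
    (hd : finrank F (preSet E g v) + 1 = finrank F E) : HasRankOne G E v := by
  classical
  set r := finrank F E with hr
  have hr2 : 2 ≤ r := hG.prime.two_le
  rw [finrank_preSet g hv] at hd
  set L := postSet E g v with hLdef
  have hLb : L ≠ ⊥ := fun h => by rw [h, finrank_bot] at hd; omega
  have hLt : L ≠ ⊤ := fun h => by rw [h, finrank_top] at hd; omega
  obtain ⟨a₀, ha₀⟩ : ∃ a, a ∉ L := by
    by_contra! h
    exact hLt (eq_top_iff.2 fun x _ => h x)
  obtain ⟨μ₁, hμ₁, hμ₁'⟩ := Submodule.exists_dual_map_eq_bot_of_notMem ha₀ inferInstance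
  set μ : E →ₗ[F] F := (μ₁ a₀)⁻¹ • μ₁ with hμdef
  have hμa : μ a₀ = 1 := by simp [hμdef, hμ₁]
  have hμL : ∀ a, μ a = 0 ↔ a ∈ L := by
    have hle : L ≤ LinearMap.ker μ := fun a ha => by
      have : μ₁ a ∈ L.map μ₁ := ⟨a, ha, rfl⟩
      rw [hμ₁', Submodule.mem_bot] at this
      simp [hμdef, this]
    have hne : finrank F (LinearMap.ker μ) ≠ r := fun h => by
      have := Submodule.eq_top_of_finrank_eq h
      have h1 : a₀ ∈ LinearMap.ker μ := this ▸ Submodule.mem_top
      rw [LinearMap.mem_ker, hμa] at h1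
      exact one_ne_zero h1
    have := Submodule.finrank_le (LinearMap.ker μ)
    have heq := Submodule.eq_of_le_of_finrank_le hle (by omega)
    intro a
    rw [heq, LinearMap.mem_ker]
  set y : V := g.symm (a₀ • v) with hydef
  have hy : y ∉ eLine F E v := by
    rintro ⟨c, hc⟩
    change c • v = y at hc
    exact ha₀ ⟨c, by show g (c • v) = a₀ • v; rw [hc, hydef, LinearEquiv.apply_symm_apply]⟩
  obtain ⟨φ, hφv, hφy⟩ := exists_efun hy
  have hφline : ∀ a : E, φ (g.symm (a • v)) = algebraMap F E (μ a) := by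
    intro a
    have hmem : a - μ a • a₀ ∈ L := by
      rw [← hμL]; simp [hμa]
    obtain ⟨c, hc⟩ := hmem
    change g (c • v) = (a - μ a • a₀) • v at hc
    have e : a • v = g (c • v) + μ a • (a₀ • v) := by rw [hc, sub_smul, smul_assoc]; abel
    rw [e, map_add, LinearEquiv.symm_apply_apply, map_add, map_smul φ c v, hφv, smul_zero, zero_add,
      map_smul g.symm (μ a), ← hydef, LinearMap.map_smul_of_tower, hφy, Algebra.smul_def, mul_one]
  have hφW : ∀ c : E, φ (g.symm (g (c • v))) = 0 := fun c => by
    rw [LinearEquiv.symm_apply_apply, map_smul, hφv, smul_zero]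
  -- the elements h
  have hexh : ∀ c : E, ∃ h ∈ G, ∀ x, h x = x + g ((c * φ (g.symm x)) • v) := by
    intro c
    obtain ⟨T, hT, hTx⟩ := hG.exists_etv (c • φ) v (by simp [hφv])
    refine ⟨g * T * g⁻¹, mul_mem (mul_mem hg hT) (inv_mem hg), fun x => ?_⟩
    show g (T (g.symm x)) = _
    rw [hTx, map_add, LinearEquiv.apply_symm_apply]
    rfl
  choose hfun hfunG hfunx using hexh
  have hfun_inv : ∀ c z, hfun c (hfun (-c) z) = z := by
    intro c z
    simp only [hfunx, map_add, hφW, add_zero, neg_mul, neg_smul, map_neg]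
    abel
  have hfun_line : ∀ c e : E, g (c • v) = e • v → ∀ a : E, hfun c (a • v) = (a + μ a • e) • v := by
    intro c e hce a
    rw [hfunx, hφline, mul_comm, ← Algebra.smul_def, smul_assoc, map_smul, hce, add_smul, smul_assoc]
  let π : E → (E →ₗ[F] E) := fun e => LinearMap.id + μ.smulRight e
  have hπ : ∀ e a, π e a = a + μ a • e := fun _ _ => rfl
  -- the left operators K
  let K : E → E → (E →ₗ[F] E) := fun b e => (π e).comp ((LinearMap.mulLeft F b).comp (π (-e))) - LinearMap.mulLeft F b
  have hKLop : ∀ (b e : E), e ∈ L → LOp G v (K b e) := by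
    intro b e he f hf
    obtain ⟨c, hc⟩ := he
    change g (c • v) = e • v at hc
    have hc' : g ((-c) • v) = (-e) • v := by rw [neg_smul, map_neg, hc, neg_smul]
    have f1 := (hf.conj hv (hfunG (-c)) (π (-e)) (fun a => hfun_line (-c) (-e) hc' a)).left hG hv b
    have f3 := f1.conj hv (hfunG c) (π e) (fun a => hfun_line c e hc a)
    refine (f3.sub hG (hf.left hG hv b) hv).of_eq fun x => ?_
    have hx : (hfun (-c)).symm ((hfun c).symm x) = x := by
      rw [LinearEquiv.symm_apply_eq, LinearEquiv.symm_apply_eq, hfun_inv]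
    show π e (b * π (-e) (f ((hfun (-c)).symm ((hfun c).symm x)))) - b * f x =
      π e (b * π (-e) (f x)) - b * f x
    rw [hx]
  have hKval : ∀ b e a, K b e a = (μ (b * a) - μ a * μ (b * e)) • e - μ a • (b * e) := by
    intro b e a
    show π e (b * π (-e) a) - b * a = _
    rw [hπ, hπ, smul_neg, mul_add, mul_neg, mul_smul_comm, map_add, map_neg, map_smul, smul_eq_mul]
    simp only [sub_smul, add_smul, neg_smul]
    abel
  by_cases hr3 : 3 ≤ r
  · -- large r
    obtain ⟨e, he, he0⟩ := Submodule.exists_mem_ne_zero_of_ne_bot hLb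
    obtain ⟨e', he', hne'⟩ : ∃ e' ∈ L, e' ∉ Submodule.span F {e} := by
      by_contra! h
      have := Submodule.finrank_mono (show L ≤ Submodule.span F {e} from h)
      rw [finrank_span_singleton he0] at this
      omega
    set b := e' / e with hbdef
    have hbe : b * e = e' := div_mul_cancel₀ e' he0
    have hb : ∀ c : F, algebraMap F E c ≠ b := fun c hc => hne' (Submodule.mem_span_singleton.2
      ⟨c, by rw [← hbe, ← hc, Algebra.smul_def]⟩)
    have hb0 : b ≠ 0 := fun h => hb 0 (by rw [h, map_zero])
    have hKb : ∀ a, K b e a = μ (b * a) • e - μ a • e' := fun a => by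
      rw [hKval, hbe, (hμL e').2 he', mul_zero, sub_zero]
    set N : Submodule F E := L ⊓ L.comap (LinearMap.mulLeft F b) with hN
    have hN0 : N ≠ ⊥ := by
      intro h
      have hdim : finrank F (L.comap (LinearMap.mulLeft F b)) = finrank F L := by
        have hmap : (L.comap (LinearMap.mulLeft F b)).map (LinearMap.mulLeft F b) = L := by
          rw [Submodule.map_comap_eq]
          refine inf_eq_right.2 fun a _ => ⟨b⁻¹ * a, ?_⟩
          rw [LinearMap.mulLeft_apply, ← mul_assoc, mul_inv_cancel₀ hb0, one_mul]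
        rw [LinearEquiv.finrank_eq (Submodule.equivMapOfInjective (LinearMap.mulLeft F b)
          (fun p q h => mul_left_cancel₀ hb0 h) _), hmap]
      have h1 := Submodule.finrank_sup_add_finrank_inf_eq L (L.comap (LinearMap.mulLeft F b))
      rw [← hN, h, finrank_bot, hdim, add_zero] at h1
      have h2 := Submodule.finrank_le (L ⊔ L.comap (LinearMap.mulLeft F b))
      omega
    have hNt : N ≠ ⊤ := fun h => hLt (eq_top_iff.2 (h ▸ (inf_le_left : N ≤ L)))
    obtain ⟨n, hn, hn'⟩ : ∃ n ∈ N, b⁻¹ * n ∉ N := by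
      by_contra! h
      obtain ⟨c, hc⟩ := stab_scalar hG.prime N hN0 hNt h
      exact hb c⁻¹ (by rw [map_inv₀, hc, inv_inv])
    have hKn : K b e n = 0 := by
      rw [hKb, (hμL n).2 hn.1, (hμL (b * n)).2 hn.2, zero_smul, zero_smul, sub_zero]
    have hKbn : K b e (b⁻¹ * n) ≠ 0 := by
      intro h
      rw [hKb, ← mul_assoc, mul_inv_cancel₀ hb0, one_mul, (hμL n).2 hn.1, zero_smul, zero_sub,
        neg_eq_zero, smul_eq_zero] at h
      rcases h with h | h
      · refine hn' ⟨(hμL _).1 h, ?_⟩
        show b * (b⁻¹ * n) ∈ L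
        rw [← mul_assoc, mul_inv_cancel₀ hb0, one_mul]
        exact hn.1
      · exact hne' (h ▸ zero_mem _)
    refine hasRankOne_of_lop hG hv (μ.comp (LinearMap.mulLeft F b)) (K b e (b⁻¹ * n)) ?_ hKbn fun f hf => ?_
    · intro h
      have := LinearMap.congr_fun h (b⁻¹ * a₀)
      simp only [LinearMap.comp_apply, LinearMap.mulLeft_apply, ← mul_assoc, mul_inv_cancel₀ hb0, one_mul,
        hμa, LinearMap.zero_apply] at this
      exact one_ne_zero this
    · have hK := hKLop b e he
      refine (hK _ ((hK f hf).left hG hv (n / e'))).of_eq fun x => ?_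
      show K b e ((n / e') * K b e (f x)) = μ (b * f x) • K b e (b⁻¹ * n)
      have he'0 : e' ≠ 0 := fun h => hne' (h ▸ zero_mem _)
      have he1 : (n / e') * e = b⁻¹ * n := by rw [hbdef]; field_simp
      rw [hKb (f x), mul_sub, mul_smul_comm, mul_smul_comm, div_mul_cancel₀ n he'0, he1, map_sub,
        map_smul, map_smul, hKn, smul_zero, sub_zero]
  · -- r = 2
    have hr' : r = 2 := by omega
    by_cases hnl : ∃ b e, e ∈ L ∧ ∃ a, K b e a ≠ K b e 1 * a
    · obtain ⟨b, e, he, a, ha⟩ := hnl
      set D : E →ₗ[F] E := K b e - LinearMap.mulLeft F (K b e 1) with hD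
      have hD1 : D 1 = 0 := by simp [hD]
      have hDa : D a ≠ 0 := by
        simp only [hD, LinearMap.sub_apply, LinearMap.mulLeft_apply]
        exact sub_ne_zero.2 ha
      have haF : ∀ c : F, algebraMap F E c ≠ a := by
        intro c hc
        apply hDa
        rw [← hc, Algebra.algebraMap_eq_smul_one, map_smul, hD1, smul_zero]
      obtain ⟨θ, hθ⟩ := Module.Projective.exists_dual_ne_zero F hDa
      set θ' : E →ₗ[F] F := (θ (D a))⁻¹ • θ with hθ'
      refine hasRankOne_of_lop hG hv (θ'.comp D) (D a) (fun h => ?_) hDa fun f hf => ?_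
      · have := LinearMap.congr_fun h a
        simp [hθ', hθ] at this
      · refine ((hKLop b e he f hf).sub hG (hf.left hG hv (K b e 1)) hv).of_eq fun x => ?_
        show D (f x) = θ' (D (f x)) • D a
        obtain ⟨s, t, hst⟩ := exists_coords hr' haF (f x)
        rw [hst, map_add, map_smul, map_smul, hD1, smul_zero, zero_add, map_smul, smul_eq_mul]
        simp [hθ', hθ]
    push Not at hnl
    obtain ⟨e, he, he0⟩ := Submodule.exists_mem_ne_zero_of_ne_bot hLb
    have hμe : μ e = 0 := (hμL e).2 he
    have hKe : ∀ (b : E) (t : F), t ≠ 0 → K b (t • e) 1 = algebraMap F E (t * μ (b * e)) := by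
      intro b t ht
      have h1 := hnl b (t • e) (L.smul_mem t he) (t • e)
      rw [hKval, mul_smul_comm, map_smul, map_smul, smul_eq_mul, smul_eq_mul, hμe, mul_zero, zero_mul,
        zero_smul, sub_zero, sub_zero] at h1
      have hte : t • e ≠ 0 := smul_ne_zero ht he0
      exact (mul_right_cancel₀ hte (h1.symm.trans (Algebra.smul_def _ _)))
    have hrel : ∀ (b : E) (t : F), t ≠ 0 →
        (μ (b * a₀) - t * μ (b * e)) • e - b * e = μ (b * e) • a₀ := by
      intro b t ht
      have h1 := hnl b (t • e) (L.smul_mem t he) a₀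
      rw [hKe b t ht, hKval, mul_smul_comm, map_smul, hμa, smul_eq_mul, one_mul, one_smul,
        ← Algebra.smul_def, smul_smul, mul_comm _ t, mul_smul, ← smul_sub, mul_smul] at h1
      exact smul_right_injective E ht h1
    have hone : ∀ t : F, t ≠ 0 → t = 1 := by
      intro t ht
      by_contra ht1
      have h1 := hrel (a₀ / e) t ht
      have h2 := hrel (a₀ / e) 1 one_ne_zero
      rw [div_mul_cancel₀ a₀ he0, hμa] at h1 h2
      rw [← h2, sub_left_inj] at h1
      have := smul_left_injective F he0 h1
      rw [sub_right_inj, mul_one, mul_one] at this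
      exact ht1 this
    have hq : Fintype.card F = 2 := by
      have h2 : (Finset.univ : Finset F) = {0, 1} := by
        ext t
        simp only [Finset.mem_univ, true_iff, Finset.mem_insert, Finset.mem_singleton]
        by_cases ht : t = 0
        · exact Or.inl ht
        · exact Or.inr (hone t ht)
      rw [← Finset.card_univ, h2, Finset.card_pair zero_ne_one]
    obtain ⟨ω, hω, h2, hall⟩ := four_field hq (hr ▸ hr' : finrank F E = 2)
    obtain ⟨c, hc⟩ := id he
    change g (c • v) = e • v at hc
    have hcneg : -c = c := neg_eq_of_add_eq_zero_left (h2 c)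
    have heneg : -e = e := neg_eq_of_add_eq_zero_left (h2 e)
    have hω0 : ω ≠ 0 := fun h => one_ne_zero (α := E) (by rw [h] at hω; linear_combination -hω)
    have hω1 : ω ≠ 1 := fun h => one_ne_zero (α := E) (by rw [h] at hω; linear_combination -hω)
    have hμωe : μ (ω * e) = 1 := by
      refine (eq_zero_or_one_of_card_two hq _).resolve_left fun h => ?_
      have hle : Submodule.span F {e} ≤ L := by simpa using he
      have hsp := Submodule.eq_of_le_of_finrank_le hle (by rw [finrank_span_singleton he0]; omega)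
      have hm : ω * e ∈ Submodule.span F {e} := hsp ▸ (hμL _).1 h
      obtain ⟨s, hs⟩ := Submodule.mem_span_singleton.1 hm
      rcases eq_zero_or_one_of_card_two hq s with rfl | rfl
      · rw [zero_smul] at hs; exact mul_ne_zero hω0 he0 hs.symm
      · rw [one_smul] at hs; exact hω1 (mul_right_cancel₀ he0 (by rw [← hs, one_mul]))
    set h := hfun c with hhdef
    have hinv : ∀ z, h (h z) = z := fun z => by
      have := hfun_inv c z; rwa [hcneg] at this
    have hsymm : ∀ z, h.symm z = h z := fun z => by rw [LinearEquiv.symm_apply_eq, hinv]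
    have hπω : ∀ a, π e (ω * π e a) = (ω + 1) * a := by
      intro a
      have h1 := hnl ω e he a
      have h3 : K ω e 1 = 1 := by
        have := hKe ω 1 one_ne_zero
        rwa [one_smul, one_mul, hμωe, (algebraMap F E).map_one] at this
      rw [h3, one_mul] at h1
      change π e (ω * π (-e) a) - ω * a = a at h1
      rw [heneg] at h1
      linear_combination h1
    have hhline : ∀ a : E, h (a • v) = π e a • v := fun a => hfun_line c e hc a
    by_cases hψ : ∃ ψ : V →ₗ[E] E, ψ v = 0 ∧ ∃ z, π e (ψ (h (ω • z))) ≠ ω * π e (ψ (h z))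
    · obtain ⟨ψ, hψv, z, hz⟩ := hψ
      have hf := (phi_of_linear hG ψ hψv).conj hv (hfunG c) (π e) hhline
      refine hasRankOne_of_nonlinear hG hv hq hω h2 hall hf (z₀ := z) ?_
      show π e (ψ (h.symm (ω • z))) ≠ ω * π e (ψ (h.symm z))
      rwa [hsymm, hsymm]
    push Not at hψ
    have hπinv : ∀ a, π e (π e a) = a := fun a => by
      have h1 := hhline (π e a)
      rw [← hhline a, hinv] at h1
      exact smul_left_injective E hv h1.symm
    have hquot : ∀ z, h (ω • z) - (ω + 1) • h z ∈ eLine F E v := by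
      intro z
      by_contra hcon
      obtain ⟨ψ, hψv, hψ1⟩ := exists_efun hcon
      have h1 := congrArg (π e) (hψ ψ hψv z)
      rw [hπinv, hπω] at h1
      rw [map_sub, ψ.map_smul, smul_eq_mul, h1, sub_self] at hψ1
      exact zero_ne_one hψ1
    have hwG : scalarHom (F := F) (V := V) (Units.mk0 ω hω0) ∈ G := by
      refine hG.mem_of_linear _ (fun a x => by rw [scalarHom_apply, scalarHom_apply, smul_comm]) ?_
      exact (eq_zero_or_one_of_card_two hq _).resolve_left (LinearEquiv.isUnit_det' _).ne_zero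
    set w := scalarHom (F := F) (V := V) (Units.mk0 ω hω0) with hwdef
    have hw : ∀ z, w z = ω • z := fun z => rfl
    set u₂ : V ≃ₗ[F] V := w * h * w * h with hu2def
    have hu2G : u₂ ∈ G := mul_mem (mul_mem (mul_mem hwG (hfunG c)) hwG) (hfunG c)
    have hu2 : ∀ z, u₂ z = ω • h (ω • h z) := fun z => rfl
    have hω3 : ω * (ω + 1) = 1 := by linear_combination hω + h2 ω
    have hu2line : ∀ z, u₂ z - z ∈ eLine F E v := by
      intro z
      have h1 := Submodule.smul_mem (Submodule.span E {v}) ω
        (Submodule.mem_span_singleton.2 (hquot (h z)))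
      rw [smul_sub, hinv, smul_smul, hω3, one_smul, Submodule.mem_span_singleton] at h1
      rw [hu2]
      exact h1
    obtain ⟨φ₁, hφ₁⟩ := exists_efun_one (E := E) hv
    set f : V →ₗ[F] E := (φ₁.restrictScalars F).comp (u₂.toLinearMap - LinearMap.id) with hfdef
    have hfz : ∀ z, u₂ z = z + f z • v := by
      intro z
      obtain ⟨a, ha⟩ := hu2line z
      change a • v = u₂ z - z at ha
      show u₂ z = z + φ₁ (u₂ z - z) • v
      rw [← ha, map_smul, hφ₁, smul_eq_mul, mul_one, ha]
      abel
    have hfline : ∀ a : E, f (a • v) = 0 := by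
      intro a
      have e1 : u₂ (a • v) = a • v := by
        rw [hu2, hhline, smul_smul, hhline, smul_smul, hπω, ← mul_assoc, hω3, one_mul]
      show φ₁ (u₂ (a • v) - a • v) = 0
      rw [e1, sub_self, map_zero]
    have hfPhi : Phi G v f := ⟨hfline, u₂, hu2G, hfz⟩
    by_cases hflin : ∃ z, f (ω • z) ≠ ω * f z
    · obtain ⟨z, hz⟩ := hflin
      exact hasRankOne_of_nonlinear hG hv hq hω h2 hall hfPhi hz
    push Not at hflin
    -- u = h ω h has order three
    have hu : ∀ z, h (ω • h z) = (ω + 1) • z + ((ω + 1) * f z) • v := by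
      intro z
      have h1 := congrArg (fun x => (ω + 1) • x) (hfz z)
      simp only [hu2, smul_smul, smul_add] at h1
      rwa [mul_comm (ω + 1) ω, hω3, one_smul] at h1
    have hf0 : ∀ z, f z = 0 := by
      intro z
      have hcube : h (ω • h (h (ω • h (h (ω • h z))))) = z := by
        rw [hinv, hinv, smul_smul, smul_smul]
        have : ω * ω * ω = 1 := by linear_combination (ω + 1) * hω + h2 ω
        rw [this, one_smul, hinv]
      have hfl : ∀ x : V, f ((ω + 1) • x) = (ω + 1) * f x := fun x => by
        rw [add_smul, one_smul, map_add, hflin]; ring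
      have hfU : ∀ (x : V) (a : E), f ((ω + 1) • x + a • v) = (ω + 1) * f x := fun x a => by
        rw [map_add, hfl, hfline, add_zero]
      rw [hu z, hu, hu] at hcube
      simp only [hfU] at hcube
      simp only [smul_add, smul_smul] at hcube
      have h3 : (ω + 1) * ((ω + 1) * (ω + 1)) = 1 := by
        linear_combination (ω + 2 + 2) * hω + h2 ω * (1 : E) + (3 * ω + 2) * h2 1
      rw [h3, one_smul, add_assoc, add_assoc, add_eq_left, ← add_smul, ← add_smul, smul_eq_zero] at hcube
      rcases hcube with h4 | h4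
      · linear_combination h4 - 3 * (f z) * h3 - h2 (f z)
      · exact absurd h4 hv
    have hsemi : ∀ z, h (ω • z) = (ω + 1) • h z := fun z => by
      have := hu (h z)
      rwa [hinv, hf0, mul_zero, zero_smul, add_zero] at this
    -- the two vectors
    set v₁ := g v with hv₁
    set v₂ := g (ω • v) with hv₂
    set A : V → V := fun z => g ((c * φ (g.symm z)) • v) with hAdef
    have hhA : ∀ z, h z = z + A z := hfunx c
    have hW : ∀ a : E, ∃ p q : E, g (a • v) = p • v₁ + q • v₂ := by
      intro a
      rcases hall a with rfl | rfl | rfl | rfl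
      · exact ⟨0, 0, by simp⟩
      · exact ⟨1, 0, by simp [hv₁]⟩
      · exact ⟨0, 1, by simp [hv₂]⟩
      · exact ⟨1, 1, by simp [hv₁, hv₂, add_smul, add_comm]⟩
    have hAzero : ∀ z, z = A (ω • z) + (ω + 1) • A z := by
      intro z
      have h1 := hsemi z
      rw [hhA, hhA, smul_add, add_smul, one_smul, add_smul, one_smul] at h1
      have hz2 : A z + A z = 0 := by rw [← one_smul E (A z), ← add_smul, h2, zero_smul]
      rw [add_smul, one_smul]
      have hwz : ω • A z + ω • A z = 0 := by rw [← add_smul, h2, zero_smul]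
      linear_combination (norm := module) -h1 - hz2 - hwz
    have hspan : ∀ z, ∃ a b : E, z = a • v₁ + b • v₂ := by
      intro z
      obtain ⟨p, q, hpq⟩ := hW (c * φ (g.symm (ω • z)))
      obtain ⟨p', q', hpq'⟩ := hW (c * φ (g.symm z))
      refine ⟨p + (ω + 1) * p', q + (ω + 1) * q', ?_⟩
      conv_lhs => rw [hAzero z]
      rw [hAdef]
      simp only
      rw [hpq, hpq']
      module
    have hind : v₂ ∉ eLine F E v₁ ∧ v₁ ∉ eLine F E v₂ := by
      have key : ∀ x : V, (∀ z : V, ∃ a : E, a • x = z) → False := fun x hx => by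
        obtain ⟨z, hz⟩ := hG.proper x
        exact hz (Submodule.mem_span_singleton.2 (hx z))
      constructor
      · rintro ⟨p, hp : p • v₁ = v₂⟩
        refine key v₁ fun z => ?_
        obtain ⟨a, b, rfl⟩ := hspan z
        exact ⟨a + b * p, by rw [add_smul, mul_smul, hp]⟩
      · rintro ⟨p, hp : p • v₂ = v₁⟩
        refine key v₂ fun z => ?_
        obtain ⟨a, b, rfl⟩ := hspan z
        exact ⟨a * p + b, by rw [add_smul, mul_smul, hp]⟩
    have hA1 : ∀ a : E, A (g (a • v)) = 0 := fun a => by
      show g ((c * φ (g.symm (g (a • v)))) • v) = 0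
      rw [hφW, mul_zero, zero_smul, map_zero]
    have hval : ∀ a : E, A (ω • g (a • v)) = g (a • v) := fun a => by
      have := hAzero (g (a • v))
      rw [hA1, smul_zero, add_zero] at this
      exact this.symm
    have hcoef : ∀ a : E, c * φ (g.symm (ω • g (a • v))) = a := fun a =>
      smul_left_injective E hv (g.injective (hval a))
    have hk : ∀ a : E, hfun (ω * c) (g (a • v)) = g (a • v) ∧
        hfun (ω * c) (ω • g (a • v)) = ω • g (a • v) + g ((ω * a) • v) := by
      intro a
      refine ⟨by rw [hfunx, hφW, mul_zero, zero_smul, map_zero, add_zero], ?_⟩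
      rw [hfunx, mul_assoc, hcoef]
    have hh : ∀ a : E, h (g (a • v)) = g (a • v) ∧ h (ω • g (a • v)) = ω • g (a • v) + g (a • v) := by
      intro a
      exact ⟨by rw [hhA, hA1, add_zero], by rw [hhA, hval]⟩
    refine hasRankOne_small hG hv hq hω h2 hall hind.1 hind.2 hspan (hfunG c) (hfunG (ω * c)) ?_ ?_ ?_ ?_ ?_ ?_ ?_ ?_
    · simpa [hv₁] using (hh 1).1
    · exact (hh ω).1
    · simpa [hv₁] using (hh 1).2
    · exact (hh ω).2
    · simpa [hv₁] using (hk 1).1
    · exact (hk ω).1
    · simpa [hv₁, hv₂] using (hk 1).2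
    · rw [hv₂, (hk ω).2, hω, add_smul, one_smul, map_add, hv₁, add_assoc]
      congr 1
      exact add_comm _ _

end H42.ExtField
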