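import Cfsg.Prelude.Def_GeometricClasses
import Cfsg.Agent.H49.Transvec
import Cfsg.Agent.H42.FieldSubalgebra
import Cfsg.Agent.H42.ExtFieldRankOne

/-!
The normaliser of a field subalgebra of prime degree is maximal in `GL_n` and in `SL_n`.
-/

set_option autoImplicit false
set_option linter.style.haveILetI false
set_option linter.unusedSectionVars false

open scoped MatrixGroups

namespace H42.ExtField

open Module

variable {F E V : Type*} [Field F] [Fintype F] [Field E] [Algebra F E] [FiniteDimensional F E]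
  [AddCommGroup V] [Module F V] [Module E V] [IsScalarTower F E V] [FiniteDimensional F V]

/-- An overgroup of `SL_m(E)` not permuting the `E`-lines contains all transvections. -/
theorem Over.transvection_mem {G : Subgroup (V ≃ₗ[F] V)} (hG : Over E G)
    (hne : ∃ g ∈ G, ∃ (v : V) (c : E), g (c • v) ∉ eLine F E (g v))
    (w : V) (μ : V →ₗ[F] F) (hμ : μ w = 0) : Mem G (μ.smulRight w) := by
  obtain ⟨g, hg, v, c, hgc⟩ := hne
  have hv : v ≠ 0 := by
    rintro rfl
    rw [smul_zero, map_zero] at hgc
    exact hgc (zero_mem _)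
  have hgv : g v ≠ 0 := g.map_ne_zero_iff.2 hv
  obtain ⟨k, hk, hkl, hkv⟩ := hG.transitive hgv hv
  have h0 : preSet E (k * g) v ≠ ⊥ := fun h => by
    have h1 : (1 : E) ∈ preSet E (k * g) v := ⟨1, by
      show (1 : E) • v = k (g ((1 : E) • v)); rw [one_smul, hkv]⟩
    rw [h, Submodule.mem_bot] at h1
    exact one_ne_zero h1
  have h1 : preSet E (k * g) v ≠ ⊤ := fun h => by
    obtain ⟨a, ha⟩ := (h ▸ Submodule.mem_top : c ∈ preSet E (k * g) v)
    change a • v = k (g (c • v)) at ha
    refine hgc ⟨a, k.injective ?_⟩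
    show k (a • g v) = _
    rw [hkl, hkv, ha]
  obtain ⟨g₁, hg₁, hd⟩ := hG.exists_hyper hv ⟨k * g, mul_mem hk hg, h0, h1⟩
  have hr := hG.prime.two_le
  have hd' := finrank_preSet (E := E) g₁ hv ▸ hd
  refine hG.mem_transvection hv (hG.hasRankOne hv hg₁ hd) hg₁ ?_ ?_ w μ hμ
  · intro h; rw [h, finrank_bot] at hd'; omega
  · intro h; rw [h, finrank_top] at hd'; omega

/-- Matrices as linear automorphisms. -/
noncomputable def glEquiv (F : Type*) [Field F] (n : ℕ) : GL (Fin n) F ≃* ((Fin n → F) ≃ₗ[F] (Fin n → F)) :=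
  Matrix.GeneralLinearGroup.toLin.trans (LinearMap.GeneralLinearGroup.generalLinearEquiv F (Fin n → F))

theorem glEquiv_apply {n : ℕ} (g : GL (Fin n) F) (x : Fin n → F) :
    glEquiv F n g x = (g : Matrix (Fin n) (Fin n) F).mulVec x := rfl

theorem det_glEquiv {n : ℕ} (g : GL (Fin n) F) :
    LinearMap.det (glEquiv F n g : (Fin n → F) →ₗ[F] (Fin n → F)) = (g : Matrix (Fin n) (Fin n) F).det := by
  rw [← LinearMap.det_toLin' (g : Matrix (Fin n) (Fin n) F)]
  congr 1

/-- The action of `E` on column vectors through `ρ`. -/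
abbrev colModule {n : ℕ} (ρ : E →ₐ[F] Matrix (Fin n) (Fin n) F) : Module E (Fin n → F) :=
  Module.compHom (Fin n → F) ((Matrix.toLinAlgEquiv' (R := F) (n := Fin n)).toAlgHom.comp ρ).toRingHom

/-- Overgroups of the centraliser in `SL` of an embedded field of prime degree. -/
theorem sl_le_or_le_normalizer_hom {n : ℕ} (hr : (finrank F E).Prime) (hlt : finrank F E < n)
    (ρ : E →ₐ[F] Matrix (Fin n) (Fin n) F) (M : Subgroup (GL (Fin n) F))
    (hM : ∀ g : GL (Fin n) F, g ∈ Cfsg.Geo.specialLinear (Fin n) F →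
      (∀ y : E, (g : Matrix (Fin n) (Fin n) F) * ρ y = ρ y * (g : Matrix (Fin n) (Fin n) F)) → g ∈ M) :
    Cfsg.Geo.specialLinear (Fin n) F ≤ M ∨ M ≤ Cfsg.Geo.subalgebraNormalizer ρ.range := by
  haveI : NeZero n := ⟨by omega⟩
  haveI : Nontrivial (Fin n) := Fin.nontrivial_iff_two_le.2 (by have := hr.two_le; omega)
  letI : Module E (Fin n → F) := colModule ρ
  have hsmul : ∀ (y : E) (v : Fin n → F), y • v = (ρ y).mulVec v :=
    fun y v => Matrix.toLin'_apply _ v
  haveI : IsScalarTower F E (Fin n → F) := ⟨fun c y v => by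
    rw [hsmul, hsmul, map_smul, Matrix.smul_mulVec]⟩
  have hproper : ∀ v : Fin n → F, ∃ x, x ∉ Submodule.span E {v} := by
    intro v
    by_contra! h
    have htop : (eLine F E v) = ⊤ := eq_top_iff.2 fun x _ => Submodule.mem_span_singleton.1 (h x)
    have h1 := LinearMap.finrank_range_le ((LinearMap.toSpanSingleton E (Fin n → F) v).restrictScalars F)
    rw [show LinearMap.range ((LinearMap.toSpanSingleton E (Fin n → F) v).restrictScalars F) = ⊤ from htop,
      finrank_top, Module.finrank_fin_fun] at h1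
    omega
  set G := M.map (glEquiv F n).toMonoidHom with hGdef
  have hG : Over E G := by
    refine ⟨hr, hproper, fun f hf hdet => ?_⟩
    set g := (glEquiv F n).symm f with hgdef
    have hgf : glEquiv F n g = f := MulEquiv.apply_symm_apply _ _
    refine ⟨g, hM g ?_ ?_, hgf⟩
    · rw [Cfsg.Geo.specialLinear, MonoidHom.mem_ker]
      apply Units.ext
      rw [Matrix.GeneralLinearGroup.val_det_apply, Units.val_one, ← det_glEquiv, hgf, hdet]
    · intro y
      refine Matrix.ext_of_mulVec_single fun i => ?_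
      rw [← Matrix.mulVec_mulVec, ← Matrix.mulVec_mulVec, ← glEquiv_apply, ← glEquiv_apply, hgf]
      have := hf y (Pi.single i 1)
      rwa [hsmul, hsmul] at this
  by_cases hne : ∃ g ∈ G, ∃ (v : Fin n → F) (c : E), g (c • v) ∉ eLine F E (g v)
  · refine Or.inl fun g hg => ?_
    refine H49.sl_le_of_elem_mem M (fun i j hij a => ?_) g ?_
    · let μ : (Fin n → F) →ₗ[F] F :=
        { toFun := fun x => a * x j
          map_add' := fun x y => mul_add a _ _
          map_smul' := fun c x => mul_left_comm a c _ }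
      obtain ⟨e, ⟨m, hm, hme⟩, hex⟩ := hG.transvection_mem hne (Pi.single i 1) μ (by
        show a * (Pi.single i (1 : F) : Fin n → F) j = 0
        rw [Pi.single_eq_of_ne hij.symm, mul_zero])
      have hem : H49.elem i j hij a = m := by
        refine H49.gl_ext_mulVec fun x => funext fun k => ?_
        rw [H49.elem_mulVec]
        have := congrFun (hex x) k
        rw [← hme] at this
        change ((m : Matrix (Fin n) (Fin n) F).mulVec x) k =
          x k + (a * x j) * (Pi.single i (1 : F) : Fin n → F) k at this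
        rw [this]
        by_cases hki : k = i <;> simp [hki]
      rw [hem]
      exact hm
    · rw [Cfsg.Geo.specialLinear, MonoidHom.mem_ker] at hg
      rw [← Matrix.GeneralLinearGroup.val_det_apply, hg, Units.val_one]
  · push Not at hne
    refine Or.inr fun g hg => ?_
    have hg' : glEquiv F n g ∈ G := ⟨g, hg, rfl⟩
    have key : ∀ y : E, ∃ a : E, (g : Matrix (Fin n) (Fin n) F) * ρ y *
        ((g⁻¹ : GL (Fin n) F) : Matrix (Fin n) (Fin n) F) = ρ a := by
      intro y
      obtain ⟨a, ha⟩ := homothety_of_lines (F := F) hproper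
        (fun z => glEquiv F n g (y • (glEquiv F n g).symm z))
        (fun x z => by simp only [map_add, smul_add])
        (fun z => by
          have := hne _ hg' ((glEquiv F n g).symm z) y
          rwa [LinearEquiv.apply_symm_apply] at this)
      refine ⟨a, Matrix.ext_of_mulVec_single fun i => ?_⟩
      rw [← hsmul a, ← ha, ← Matrix.mulVec_mulVec, ← Matrix.mulVec_mulVec, glEquiv_apply, hsmul]
      congr 2
    choose T hT using key
    haveI : Finite E := Module.finite_of_finite F
    have hρinj : Function.Injective ρ := ρ.toRingHom.injective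
    have hTinj : Function.Injective T := by
      intro a b hab
      have h1 := (hT a).trans (hab ▸ (hT b).symm)
      exact hρinj ((Units.mul_right_inj g).1 ((Units.mul_left_inj g⁻¹).1 h1))
    intro k
    refine ⟨?_, fun hk => ?_⟩
    · rintro ⟨y, rfl⟩
      exact ⟨T y, (hT y).symm⟩
    · obtain ⟨a, ha : ρ a = _⟩ := hk
      obtain ⟨y, rfl⟩ := Finite.injective_iff_surjective.1 hTinj a
      rw [← hT y] at ha
      exact ⟨y, (Units.mul_right_inj g).1 ((Units.mul_left_inj g⁻¹).1 ha)⟩

/-- Every determinant occurs in the centraliser of an embedded field. -/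
theorem exists_centralizing_det_hom {n : ℕ} (hlt : finrank F E < n)
    (ρ : E →ₐ[F] Matrix (Fin n) (Fin n) F) (δ : Fˣ) :
    ∃ g : GL (Fin n) F, Matrix.GeneralLinearGroup.det g = δ ∧
      ∀ y : E, (g : Matrix (Fin n) (Fin n) F) * ρ y = ρ y * (g : Matrix (Fin n) (Fin n) F) := by
  haveI : NeZero n := ⟨by omega⟩
  letI : Module E (Fin n → F) := colModule ρ
  have hsmul : ∀ (y : E) (v : Fin n → F), y • v = (ρ y).mulVec v :=
    fun y v => Matrix.toLin'_apply _ v
  haveI : IsScalarTower F E (Fin n → F) := ⟨fun c y v => by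
    rw [hsmul, hsmul, map_smul, Matrix.smul_mulVec]⟩
  haveI : Module.Finite E (Fin n → F) := Module.Finite.of_restrictScalars_finite F E _
  haveI : Finite E := Module.finite_of_finite F
  obtain ⟨u, hu⟩ := FiniteField.norm_surjective F E (δ : F)
  let b := Module.finBasis E (Fin n → F)
  have hm : 0 < Module.finrank E (Fin n → F) := Module.finrank_pos
  set f : (Fin n → F) →ₗ[E] (Fin n → F) :=
    Matrix.toLin b b (Matrix.diagonal (Function.update 1 ⟨0, hm⟩ u)) with hf
  have hdetE : LinearMap.det f = u := by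
    classical
    rw [hf, LinearMap.det_toLin, Matrix.det_diagonal, Finset.prod_update_of_mem (Finset.mem_univ _)]
    simp
  have hdet : LinearMap.det (f.restrictScalars F) = (δ : F) := by
    rw [LinearMap.det_restrictScalars, hdetE, hu]
  let e := LinearMap.equivOfDetNeZero _ (hdet ▸ δ.ne_zero)
  set g := (glEquiv F n).symm e with hg
  have hge : glEquiv F n g = e := MulEquiv.apply_symm_apply _ _
  refine ⟨g, Units.ext ?_, fun y => ?_⟩
  · rw [Matrix.GeneralLinearGroup.val_det_apply, ← det_glEquiv, hge]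
    exact hdet
  · refine Matrix.ext_of_mulVec_single fun i => ?_
    rw [← Matrix.mulVec_mulVec, ← Matrix.mulVec_mulVec, ← glEquiv_apply, ← glEquiv_apply, hge]
    have := f.map_smul y (Pi.single i 1)
    rwa [hsmul, hsmul] at this

omit [Fintype F] in
/-- Centralising elements normalise. -/
theorem mem_normalizer_of_commute {n : ℕ} (K : Subalgebra F (Matrix (Fin n) (Fin n) F)) {x : GL (Fin n) F}
    (hc : ∀ k ∈ K, (x : Matrix (Fin n) (Fin n) F) * k = k * (x : Matrix (Fin n) (Fin n) F)) :
    x ∈ Cfsg.Geo.subalgebraNormalizer K := by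
  intro k
  constructor
  · intro hk
    rw [hc k hk, Units.mul_inv_cancel_right]
    exact hk
  · intro hk
    have h1 := hc _ hk
    rw [Units.inv_mul_cancel_right] at h1
    have h3 := (Units.mul_right_inj x).1 h1
    rwa [h3] at hk

variable {n r : ℕ}

/-- Overgroups of the centraliser in `SL` of a field subalgebra of prime degree. -/
theorem sl_le_or_le_normalizer (hr : r.Prime) (hlt : r < n)
    (K : Subalgebra F (Matrix (Fin n) (Fin n) F)) (hK : Cfsg.Geo.IsFieldSubalgebra r K)
    (M : Subgroup (GL (Fin n) F))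
    (hM : Cfsg.Geo.subalgebraNormalizer K ⊓ Cfsg.Geo.specialLinear (Fin n) F ≤ M) :
    Cfsg.Geo.specialLinear (Fin n) F ≤ M ∨ M ≤ Cfsg.Geo.subalgebraNormalizer K := by
  haveI : NeZero n := ⟨by omega⟩
  letI : Field ↥K := (isField_of_isFieldSubalgebra hK).toField
  have h := sl_le_or_le_normalizer_hom (F := F) (E := ↥K) (by rw [hK.finrank_eq]; exact hr)
    (by rw [hK.finrank_eq]; exact hlt) K.val M
    (fun g hg hc => hM ⟨mem_normalizer_of_commute K fun k hk => hc ⟨k, hk⟩, hg⟩)
  rwa [Subalgebra.range_val] at h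

/-- The normaliser of a field subalgebra has every determinant. -/
theorem exists_normalizing_det (hlt : r < n)
    (K : Subalgebra F (Matrix (Fin n) (Fin n) F)) (hK : Cfsg.Geo.IsFieldSubalgebra r K) (δ : Fˣ) :
    ∃ g : GL (Fin n) F, Matrix.GeneralLinearGroup.det g = δ ∧ g ∈ Cfsg.Geo.subalgebraNormalizer K := by
  haveI : NeZero n := ⟨by omega⟩
  letI : Field ↥K := (isField_of_isFieldSubalgebra hK).toField
  obtain ⟨g, h1, h2⟩ := exists_centralizing_det_hom (F := F) (E := ↥K)
    (by rw [hK.finrank_eq]; exact hlt) K.val δ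
  exact ⟨g, h1, mem_normalizer_of_commute K fun k hk => h2 ⟨k, hk⟩⟩

end H42.ExtField
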