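import Cfsg.Agent.H42.ExtFieldInter

/-!
Overgroups of `SL_m(E)`: the maps `f : V → E` with `x ↦ x + f(x) v` in the group.
-/

set_option autoImplicit false
set_option linter.style.haveILetI false
set_option linter.unusedSectionVars false

namespace H42.ExtField

open Module

variable {F E V : Type*} [Field F] [Fintype F] [Field E] [Algebra F E] [FiniteDimensional F E]
  [AddCommGroup V] [Module F V] [Module E V] [IsScalarTower F E V] [FiniteDimensional F V]
  {G : Subgroup (V ≃ₗ[F] V)} {v : V}

/-- The maps vanishing on the line through `v` whose rank one extension lies in `G`. -/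
def Phi (G : Subgroup (V ≃ₗ[F] V)) (v : V) (f : V →ₗ[F] E) : Prop :=
  (∀ c : E, f (c • v) = 0) ∧ Mem G ((lineMap v).comp f)

theorem Phi.of_eq {f f' : V →ₗ[F] E} (h : Phi G v f) (e : ∀ x, f x = f' x) : Phi G v f' :=
  ⟨fun c => by rw [← e, h.1], h.2.of_eq fun x => by simp [e]⟩

theorem phi_zero : Phi G v (0 : V →ₗ[F] E) :=
  ⟨fun _ => rfl, mem_zero.of_eq fun x => by simp⟩

theorem Phi.add {f f' : V →ₗ[F] E} (h : Phi G v f) (h' : Phi G v f') : Phi G v (f + f') := by
  refine ⟨fun c => by simp [h.1, h'.1], (h.2.add h'.2 fun x => ?_).of_eq fun x => ?_⟩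
  · show f (f' x • v) • v = 0
    rw [h.1, zero_smul]
  · show f x • v + f' x • v = (f + f') x • v
    rw [LinearMap.add_apply, add_smul]

/-- Conjugation by an element of `G` stabilising the line. -/
theorem Phi.conj {f : V →ₗ[F] E} (h : Phi G v f) (hv : v ≠ 0) {g : V ≃ₗ[F] V} (hg : g ∈ G)
    (π : E →ₗ[F] E) (hπ : ∀ c : E, g (c • v) = π c • v) :
    Phi G v (π.comp (f.comp g.symm.toLinearMap)) := by
  have hinj : Function.Injective π := fun a b hab =>
    lineImg_injective g hv (by rw [lineImg_apply, lineImg_apply, hπ, hπ, hab])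
  have hsurj : Function.Surjective π := LinearMap.surjective_of_injective hinj
  refine ⟨fun c => ?_, (h.2.conj hg).of_eq fun x => ?_⟩
  · obtain ⟨d, rfl⟩ := hsurj c
    show π (f (g.symm (π d • v))) = 0
    rw [← hπ, LinearEquiv.symm_apply_apply, h.1, map_zero]
  · show g (f (g.symm x) • v) = π (f (g.symm x)) • v
    rw [hπ]

/-- `Phi` is closed under left multiplication. -/
theorem Phi.left (hG : Over E G) {f : V →ₗ[F] E} (h : Phi G v f) (hv : v ≠ 0) (b : E) :
    Phi G v ((LinearMap.mulLeft F b).comp f) := by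
  revert f
  refine eq_univ_of_powers hG.prime {b | ∀ {f : V →ₗ[F] E}, Phi G v f → Phi G v ((LinearMap.mulLeft F b).comp f)}
    ?_ ?_ ?_ ?_ ?_ b
  · intro f h; exact phi_zero.of_eq fun x => by simp
  · intro f h; exact h.of_eq fun x => by simp
  · intro x hx y hy f h
    exact ((hx h).add (hy h)).of_eq fun z => by simp [add_mul]
  · intro x hx y hy f h
    exact (hx (hy h)).of_eq fun z => by simp [mul_assoc]
  · intro u f h
    obtain ⟨φ, hφ⟩ := exists_efun_one (E := E) hv
    have hD := hG.hom_pow_mem (dilHom φ v hφ) (fun a => dilHom_linear φ v hφ a) u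
    set a : Eˣ := u ^ (Fintype.card F - 1)
    have hline : ∀ c : E, dilHom (F := F) φ v hφ a (c • v) = LinearMap.mulLeft F (a : E) c • v := by
      intro c
      rw [dilHom_apply, map_smul, hφ, smul_eq_mul, mul_one, ← add_smul, LinearMap.mulLeft_apply]
      congr 1
      ring
    refine (h.conj hv hD _ hline).of_eq fun x => ?_
    show (a : E) * f ((dilHom (F := F) φ v hφ a).symm x) = (a : E) * f x
    congr 1
    show f (x + ((((a⁻¹ : Eˣ) : E) - 1) * φ x) • v) = f x
    rw [map_add, h.1, add_zero]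

theorem Phi.smul (hG : Over E G) {f : V →ₗ[F] E} (h : Phi G v f) (hv : v ≠ 0) (c : F) :
    Phi G v (c • f) :=
  (h.left hG hv (algebraMap F E c)).of_eq fun x => by
    rw [LinearMap.comp_apply, LinearMap.mulLeft_apply, LinearMap.smul_apply, Algebra.smul_def]

theorem Phi.sub (hG : Over E G) {f f' : V →ₗ[F] E} (h : Phi G v f) (h' : Phi G v f') (hv : v ≠ 0) :
    Phi G v (f - f') :=
  (h.add (h'.smul hG hv (-1))).of_eq fun x => by simp [sub_eq_add_neg]

/-- `Phi` is closed under scalars on the right. -/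
theorem Phi.right (hG : Over E G) {f : V →ₗ[F] E} (h : Phi G v f) (hv : v ≠ 0) (b : E) :
    Phi G v (f.comp ((LinearMap.lsmul E V b).restrictScalars F)) := by
  revert f
  refine eq_univ_of_powers hG.prime
    {b | ∀ {f : V →ₗ[F] E}, Phi G v f → Phi G v (f.comp ((LinearMap.lsmul E V b).restrictScalars F))}
    ?_ ?_ ?_ ?_ ?_ b
  · intro f h; exact phi_zero.of_eq fun x => by simp
  · intro f h; exact h.of_eq fun x => by simp
  · intro x hx y hy f h
    exact ((hx h).add (hy h)).of_eq fun z => by simp [add_smul]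
  · intro x hx y hy f h
    exact (hx (hy h)).of_eq fun z => by simp [mul_smul]
  · intro u f h
    set a : Eˣ := u ^ (Fintype.card F - 1)
    have hD := hG.hom_pow_mem (scalarHom (F := F) (V := V)) (fun w c x => by
      rw [scalarHom_apply, scalarHom_apply, smul_comm]) (u⁻¹)
    rw [inv_pow] at hD
    have hline : ∀ c : E, scalarHom (F := F) a⁻¹ (c • v) = LinearMap.mulLeft F ((a⁻¹ : Eˣ) : E) c • v := by
      intro c
      rw [scalarHom_apply, smul_smul, LinearMap.mulLeft_apply]
    refine ((h.conj hv hD _ hline).left hG hv (a : E)).of_eq fun x => ?_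
    show (a : E) * (((a⁻¹ : Eˣ) : E) * f (((a⁻¹⁻¹ : Eˣ) : E) • x)) = f ((a : E) • x)
    rw [← mul_assoc, Units.mul_inv, one_mul, inv_inv]

/-- `Phi` is closed under `E`-transvections fixing `v` on the right. -/
theorem Phi.trans (hG : Over E G) {f : V →ₗ[F] E} (h : Phi G v f) (hv : v ≠ 0) (φ : V →ₗ[E] E) (w : V)
    (hφv : φ v = 0) (hφw : φ w = 0) :
    Phi G v (f.comp (LinearMap.id + (φ.smulRight w).restrictScalars F)) := by
  obtain ⟨g, hg, hgx⟩ := hG.exists_etv (-φ) w (by simp [hφw])
  have hline : ∀ c : E, g (c • v) = (LinearMap.id : E →ₗ[F] E) c • v := fun c => by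
    rw [hgx]; simp [hφv]
  refine (h.conj hv hg _ hline).of_eq fun x => ?_
  show f (g.symm x) = f (x + φ x • w)
  congr 1
  rw [LinearEquiv.symm_apply_eq, hgx]
  simp [hφw]

/-- `E`-linear maps vanishing at `v` lie in `Phi`. -/
theorem phi_of_linear (hG : Over E G) (ψ : V →ₗ[E] E) (h : ψ v = 0) :
    Phi G v (ψ.restrictScalars F) :=
  ⟨fun c => by simp [h], (hG.etv ψ v h).of_eq fun _ => rfl⟩

/-- A non-zero `F`-valued member of `Phi`. -/
def HasRankOne (G : Subgroup (V ≃ₗ[F] V)) (E : Type*) [Field E] [Algebra F E] [Module E V]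
    [IsScalarTower F E V] (v : V) : Prop :=
  ∃ μ : V →ₗ[F] F, μ ≠ 0 ∧ Phi G v ((Algebra.linearMap F E).comp μ)

theorem exists_span_pair {v w z : V} (hz : z ∉ Submodule.span E {v, w}) :
    ∃ φ : V →ₗ[E] E, φ v = 0 ∧ φ w = 0 ∧ φ z = 1 := by
  obtain ⟨f, hf, hf'⟩ := Submodule.exists_dual_map_eq_bot_of_notMem hz inferInstance
  have hker : ∀ y ∈ Submodule.span E {v, w}, f y = 0 := fun y hy => by
    have : f y ∈ (Submodule.span E {v, w}).map f := ⟨y, hy, rfl⟩
    rwa [hf', Submodule.mem_bot] at this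
  exact ⟨(f z)⁻¹ • f, by simp [hker v (Submodule.subset_span (by simp))],
    by simp [hker w (Submodule.subset_span (by simp))], by simp [hf]⟩

/-- One rank one member gives all of them. -/
theorem Over.transvection_of_hasRankOne (hG : Over E G) (hv : v ≠ 0) (h : HasRankOne G E v)
    (μ : V →ₗ[F] F) (hμ : ∀ c : E, μ (c • v) = 0) : Mem G (μ.smulRight v) := by
  let Ψ : Submodule F (Module.Dual F V) :=
    { carrier := {ν | Phi G v ((Algebra.linearMap F E).comp ν)}
      zero_mem' := phi_zero.of_eq fun x => by simp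
      add_mem' := fun {a b} ha hb => (Phi.add (ha) hb).of_eq fun x => by simp
      smul_mem' := fun c a ha => (Phi.smul hG ha hv c).of_eq fun x => by simp [Algebra.smul_def] }
  obtain ⟨μ₀, hμ0, hμ₀⟩ := h
  have hR : ∀ z ∈ Ψ.dualCoannihilator, z ∈ eLine F E v := by
    intro z hz
    rw [Submodule.mem_dualCoannihilator] at hz
    by_contra hzl
    apply hμ0
    refine LinearMap.ext fun w => ?_
    have hright : ∀ ν ∈ Ψ, ∀ b : E, ν.comp ((LinearMap.lsmul E V b).restrictScalars F) ∈ Ψ :=
      fun ν hν b => (Phi.right hG hν hv b).of_eq fun x => rfl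
    show μ₀ w = 0
    by_cases hzw : z ∈ Submodule.span E {v, w}
    · obtain ⟨a, b, hab⟩ := Submodule.mem_span_pair.1 hzw
      have hb : b ≠ 0 := by
        rintro rfl
        exact hzl ⟨a, by rw [← hab, zero_smul, add_zero]; rfl⟩
      have hw : w = b⁻¹ • z + (-(b⁻¹ * a)) • v := by
        rw [← hab, smul_add, smul_smul, smul_smul, inv_mul_cancel₀ hb, one_smul, neg_smul]
        abel
      have h1 := hz _ (hright μ₀ hμ₀ b⁻¹)
      have h2 : algebraMap F E (μ₀ ((-(b⁻¹ * a)) • v)) = 0 := hμ₀.1 _
      rw [map_eq_zero] at h2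
      rw [hw, map_add, h2, add_zero]
      exact h1
    · obtain ⟨φ, hφv, hφw, hφz⟩ := exists_span_pair hzw
      have h1 := hz μ₀ hμ₀
      have h2 := hz (μ₀.comp (LinearMap.id + (φ.smulRight w).restrictScalars F))
        ((Phi.trans hG hμ₀ hv φ w hφv hφw).of_eq fun x => rfl)
      simp only [LinearMap.comp_apply, LinearMap.add_apply, LinearMap.id_apply,
        LinearMap.coe_restrictScalars, LinearMap.smulRight_apply, hφz, one_smul, map_add, h1,
        zero_add] at h2
      exact h2
  have hμΨ : μ ∈ Ψ := by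
    rw [← Subspace.dualCoannihilator_dualAnnihilator_eq (W := Ψ), Submodule.mem_dualAnnihilator]
    intro z hz
    obtain ⟨c, rfl⟩ := hR z hz
    exact hμ c
  refine (hμΨ : Phi G v _).2.of_eq fun x => ?_
  show algebraMap F E (μ x) • v = μ x • v
  rw [algebraMap_smul]

/-- Transvection groups of every centre, once every centre sees the hyperplanes through its line. -/
theorem Over.mem_transvection (hG : Over E G) (hv : v ≠ 0) (h : HasRankOne G E v)
    {g : V ≃ₗ[F] V} (hg : g ∈ G) (hb : postSet E g v ≠ ⊥) (ht : postSet E g v ≠ ⊤)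
    (w : V) (μ : V →ₗ[F] F) (hμ : μ w = 0) : Mem G (μ.smulRight w) := by
  by_cases hw : w = 0
  · exact mem_zero.of_eq fun x => by simp [hw]
  -- transport
  have hconj : ∀ (k : V ≃ₗ[F] V), k ∈ G → ∀ (x : V) (ν : V →ₗ[F] F), Mem G (ν.smulRight x) →
      Mem G ((ν.comp k.symm.toLinearMap).smulRight (k x)) := fun k hk x ν hν =>
    (hν.conj hk).of_eq fun y => by simp
  have hline : ∀ x : V, x ≠ 0 → ∀ ν : V →ₗ[F] F, (∀ c : E, ν (c • x) = 0) → Mem G (ν.smulRight x) := by
    intro x hx ν hν
    obtain ⟨k, hk, hkl, hkv⟩ := hG.transitive hv hx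
    have h1 := hG.transvection_of_hasRankOne hv h (ν.comp k.toLinearMap) (fun c => by
      show ν (k (c • v)) = 0
      rw [hkl, hkv, hν])
    exact (hconj k hk v _ h1).of_eq fun y => by simp [hkv]
  let P : Submodule F (Module.Dual F V) :=
    { carrier := {ν | ν v = 0 ∧ ∀ c : F, Mem G ((c • ν).smulRight v)}
      zero_mem' := ⟨rfl, fun c => mem_zero.of_eq fun x => by simp⟩
      add_mem' := fun {a b} ha hb => ⟨by simp [ha.1, hb.1], fun c =>
        ((ha.2 c).add (hb.2 c) fun x => by simp [ha.1]).of_eq fun x => by simp [mul_add, add_smul]⟩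
      smul_mem' := fun d a ha => ⟨by simp [ha.1], fun c =>
        (ha.2 (c * d)).of_eq fun x => by simp [mul_assoc]⟩ }
  have hR : ∀ z ∈ P.dualCoannihilator, ∃ a : F, z = a • v := by
    intro z hz
    rw [Submodule.mem_dualCoannihilator] at hz
    have hzl : z ∈ eLine F E v := by
      by_contra hzl
      obtain ⟨f, hf, hf'⟩ := Submodule.exists_dual_map_eq_bot_of_notMem hzl inferInstance
      have hfl : ∀ c : E, f (c • v) = 0 := fun c => by
        have : f (c • v) ∈ (eLine F E v).map f := ⟨_, smul_mem_eLine v c, rfl⟩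
        rwa [hf', Submodule.mem_bot] at this
      exact hf (hz f ⟨by simpa using hfl 1, fun c => hline v hv _ fun d => by simp [hfl d]⟩)
    obtain ⟨a, rfl⟩ := hzl
    obtain ⟨a₀, ha₀⟩ : ∃ c : F, algebraMap F E c = a := by
      refine stab_scalar hG.prime _ hb ht fun e he => ?_
      by_cases he0 : e = 0
      · rw [he0, mul_zero]; exact zero_mem _
      have hev : e • v ≠ 0 := smul_ne_zero he0 hv
      obtain ⟨c, hc⟩ := he
      change g (c • v) = e • v at hc
      have hcv : c • v ≠ 0 := fun h0 => hev (by rw [← hc, h0, map_zero])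
      by_contra hae
      have hae' : (a * e) • v ∉ LinearMap.range (lineImg (E := E) g v) := fun h' => hae h'
      obtain ⟨f, hf, hf'⟩ := Submodule.exists_dual_map_eq_bot_of_notMem hae' inferInstance
      have hfW : ∀ d : E, f (g (d • v)) = 0 := fun d => by
        have : f (g (d • v)) ∈ (LinearMap.range (lineImg (E := E) g v)).map f := ⟨_, ⟨d, rfl⟩, rfl⟩
        rwa [hf', Submodule.mem_bot] at this
      obtain ⟨k, hk, hkl, hkv⟩ := hG.transitive hev hv
      have hPk : ((f.comp k.symm.toLinearMap : V →ₗ[F] F)) ∈ P := by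
        have hev' : f (e • v) = 0 := by rw [← hc, hfW]
        refine ⟨?_, fun t => ?_⟩
        · show f (k.symm v) = 0
          rw [show k.symm v = e • v from k.symm_apply_eq.2 hkv.symm, hev']
        · have h1 := hline (c • v) hcv ((t • f).comp g.toLinearMap) (fun d => by simp [smul_smul, hfW])
          have h2 := hconj g hg _ _ h1
          rw [hc] at h2
          have h3 := hconj k hk _ _ h2
          rw [hkv] at h3
          exact h3.of_eq fun y => by simp
      have := hz _ hPk
      apply hf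
      have hk2 : k.symm (a • v) = (a * e) • v := by
        rw [LinearEquiv.symm_apply_eq, mul_smul, hkl, hkv]
      change f (k.symm (a • v)) = 0 at this
      rwa [hk2] at this
    exact ⟨a₀, by show a • v = a₀ • v; rw [← ha₀, algebraMap_smul]⟩
  obtain ⟨k, hk, -, hkv⟩ := hG.transitive hv hw
  have hP : μ.comp k.toLinearMap ∈ P := by
    rw [← Subspace.dualCoannihilator_dualAnnihilator_eq (W := P), Submodule.mem_dualAnnihilator]
    intro z hz
    obtain ⟨a, rfl⟩ := hR z hz
    simp [hkv, hμ]
  exact (hconj k hk v _ (hP.2 1)).of_eq fun y => by simp [hkv]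

end H42.ExtField
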