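import Cfsg.Agent.H42.ExtFieldPhi

/-!
Overgroups of `SL_m(4)` in `GL_{2m}(2)`: the small case.
-/

set_option autoImplicit false
set_option linter.style.haveILetI false
set_option linter.unusedSectionVars false

namespace H42.ExtField

open Module

variable {F E V : Type*} [Field F] [Fintype F] [Field E] [Algebra F E] [FiniteDimensional F E]
  [AddCommGroup V] [Module F V] [Module E V] [IsScalarTower F E V] [FiniteDimensional F V]
  {G : Subgroup (V ≃ₗ[F] V)} {v : V}

theorem eq_zero_or_one_of_card_two (hq : Fintype.card F = 2) (x : F) : x = 0 ∨ x = 1 := by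
  classical
  by_contra h
  push Not at h
  have h3 : ({0, 1, x} : Finset F).card = 3 := Finset.card_eq_three.2
    ⟨0, 1, x, zero_ne_one, h.1.symm, h.2.symm, rfl⟩
  have := Finset.card_le_univ ({0, 1, x} : Finset F)
  omega

/-- The field with four elements. -/
theorem four_field (hq : Fintype.card F = 2) (hr : finrank F E = 2) :
    ∃ ω : E, ω * ω = ω + 1 ∧ (∀ x : E, x + x = 0) ∧ ∀ c : E, c = 0 ∨ c = 1 ∨ c = ω ∨ c = ω + 1 := by
  classical
  haveI : Finite E := Module.finite_of_finite F
  haveI := Fintype.ofFinite E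
  have hE : Fintype.card E = 4 := by
    rw [Module.card_eq_pow_finrank (K := F), hq, hr]; rfl
  have hF : (1 : F) + 1 = 0 := by
    rcases eq_zero_or_one_of_card_two hq (1 + 1) with h | h
    · exact h
    · simp at h
  have h2 : ∀ x : E, x + x = 0 := fun x => by
    have : (algebraMap F E) (1 + 1) * x = 0 := by rw [hF, map_zero, zero_mul]
    rwa [map_add, map_one, add_mul, one_mul] at this
  obtain ⟨ω, -, hω⟩ := Finset.exists_mem_notMem_of_card_lt_card
    (s := ({0, 1} : Finset E)) (t := Finset.univ) (by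
      rw [Finset.card_univ, hE]
      exact lt_of_le_of_lt Finset.card_le_two (by norm_num))
  simp only [Finset.mem_insert, Finset.mem_singleton, not_or] at hω
  have h3 : ω ^ 3 = 1 := by
    have := FiniteField.pow_card_sub_one_eq_one ω hω.1
    rwa [hE] at this
  have hsq : ω * ω = ω + 1 := by
    have h4 : (ω - 1) * (ω * ω + ω + 1) = 0 := by linear_combination h3
    have h5 := (mul_eq_zero.1 h4).resolve_left (sub_ne_zero.2 hω.2)
    linear_combination h5 - h2 (ω + 1)
  refine ⟨ω, hsq, h2, fun c => ?_⟩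
  have h10 : (ω + 1 : E) ≠ 0 := fun h => hω.2 (by linear_combination h - h2 1)
  have h11 : (ω + 1 : E) ≠ 1 := fun h => hω.1 (by linear_combination h)
  have h12 : (ω + 1 : E) ≠ ω := fun h => one_ne_zero (by linear_combination h : (1 : E) = 0)
  have hall : ({0, 1, ω, ω + 1} : Finset E) = Finset.univ := by
    apply Finset.eq_univ_of_card
    rw [hE]
    rw [Finset.card_insert_of_notMem, Finset.card_insert_of_notMem, Finset.card_pair] <;>
      simp [Ne.symm hω.1, Ne.symm hω.2, h10.symm, h11.symm, h12.symm]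
  have := Finset.mem_univ c
  rw [← hall] at this
  simpa using this

/-- A member of `Phi` which is not linear gives a rank one member. -/
theorem hasRankOne_of_nonlinear (hG : Over E G) (hv : v ≠ 0) (hq : Fintype.card F = 2) {ω : E}
    (hω : ω * ω = ω + 1) (h2 : ∀ x : E, x + x = 0)
    (hall : ∀ c : E, c = 0 ∨ c = 1 ∨ c = ω ∨ c = ω + 1)
    {f : V →ₗ[F] E} (hf : Phi G v f) {z₀ : V} (hz₀ : f (ω • z₀) ≠ ω * f z₀) : HasRankOne G E v := by
  set f' : V →ₗ[F] E := f.comp ((LinearMap.lsmul E V ω).restrictScalars F) + (LinearMap.mulLeft F ω).comp f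
    with hf'
  have hPf' : Phi G v f' := (hf.right hG hv ω).add (hf.left hG hv ω)
  have hf'z : ∀ z, f' z = f (ω • z) + ω * f z := fun z => rfl
  have h20 : (2 : E) = 0 := by linear_combination h2 1
  have hsemi : ∀ z, f' (ω • z) = (ω + 1) * f' z := by
    intro z
    rw [hf'z, hf'z, smul_smul, hω, add_smul, one_smul, map_add]
    linear_combination -(f z) * hω - ω * (f z) * h20
  have hsqadd : ∀ x y : E, (x + y) * (x + y) = x * x + y * y := fun x y => by
    linear_combination h2 (x * y)
  let ψ : V →ₗ[E] E :=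
    { toFun := fun z => f' z * f' z
      map_add' := fun x y => by rw [map_add, hsqadd]
      map_smul' := fun c z => by
        rw [RingHom.id_apply, smul_eq_mul]
        rcases hall c with hc' | hc' | hc' | hc' <;> rw [hc']
        · simp
        · simp
        · rw [hsemi]
          linear_combination (f' z * f' z) * hω + (f' z * f' z) * (ω + 1) * h20
        · rw [add_smul, one_smul, map_add, hsqadd, hsemi]
          linear_combination (f' z * f' z) * hω + (f' z * f' z) * (ω + 1) * h20 }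
  have hψv : ψ v = 0 := by
    show f' v * f' v = 0
    rw [← one_smul E v, hPf'.1, zero_mul]
  have hsum := hPf'.add (phi_of_linear hG ψ hψv)
  obtain ⟨θ, hθ⟩ := Module.Projective.exists_dual_ne_zero F (one_ne_zero (α := E))
  set t : V →ₗ[F] E := f' + ψ.restrictScalars F with ht
  have hfix : ∀ x, t x = 0 ∨ t x = 1 := by
    intro x
    have h4 : t x * t x = t x := by
      show (f' x + f' x * f' x) * (f' x + f' x * f' x) = f' x + f' x * f' x
      have hy : ∀ y : E, y * y * y * y = y := by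
        intro y
        rcases hall y with hc' | hc' | hc' | hc' <;> rw [hc']
        · simp
        · simp
        · linear_combination (ω * ω + ω + 2) * hω + (ω + 1) * h20
        · linear_combination (ω * ω + ω + 2) * hω + (ω + 1 + 2 * ω ^ 3 + 3 * ω ^ 2 + 2 * ω) * h20
      linear_combination hy (f' x) + (f' x * f' x * f' x) * h20
    rcases eq_or_ne (t x) 0 with h | h
    · exact Or.inl h
    · exact Or.inr (mul_left_cancel₀ h (by rw [h4, mul_one]))
  have hθ1 : θ 1 = 1 := (eq_zero_or_one_of_card_two hq (θ 1)).resolve_left hθ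
  have heq : ∀ x, algebraMap F E (θ (t x)) = t x := by
    intro x
    rcases hfix x with h | h <;> simp [h, hθ1]
  refine ⟨θ.comp t, fun h0 => ?_, hsum.of_eq fun x => (heq x).symm⟩
  have hy0 : f' z₀ ≠ 0 := fun h => hz₀ (by rw [hf'z] at h; linear_combination h - h2 (ω * f z₀))
  have hscale : ∀ c : E, f' (c • z₀) = c * c * f' z₀ := by
    intro c
    rcases hall c with hc' | hc' | hc' | hc' <;> rw [hc']
    · simp
    · simp
    · rw [hsemi]; linear_combination -(f' z₀) * hω
    · rw [add_smul, one_smul, map_add, hsemi]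
      linear_combination -(f' z₀) * hω - (f' z₀) * ω * h20
  obtain ⟨c, hc⟩ : ∃ c : E, c * c * f' z₀ = ω := by
    rcases hall (f' z₀) with h | h | h | h
    · exact absurd h hy0
    · exact ⟨ω + 1, by rw [h]; linear_combination hω + (ω + 1) * h20⟩
    · exact ⟨1, by rw [h]; ring⟩
    · exact ⟨ω, by rw [h]; linear_combination (ω + 2) * hω + (ω + 1) * h20⟩
  have := congrArg (algebraMap F E) (LinearMap.congr_fun h0 (c • z₀))
  rw [LinearMap.comp_apply, heq, LinearMap.zero_apply, map_zero] at this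
  change f' (c • z₀) + f' (c • z₀) * f' (c • z₀) = 0 at this
  rw [hscale, hc] at this
  exact one_ne_zero (α := E) (by linear_combination this - hω - ω * h20)

/-- The group containing `ΓL_2(4)` and a further unipotent element contains a transvection. -/
theorem hasRankOne_small (hG : Over E G) (hv : v ≠ 0) (hq : Fintype.card F = 2) {ω : E}
    (hω : ω * ω = ω + 1) (h2 : ∀ x : E, x + x = 0)
    (hall : ∀ c : E, c = 0 ∨ c = 1 ∨ c = ω ∨ c = ω + 1)
    {v₁ v₂ : V} (hv₂ : v₂ ∉ eLine F E v₁) (hv₁ : v₁ ∉ eLine F E v₂)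
    (hspan : ∀ z : V, ∃ a b : E, z = a • v₁ + b • v₂)
    {h k : V ≃ₗ[F] V} (hh : h ∈ G) (hk : k ∈ G)
    (hh1 : h v₁ = v₁) (hh2 : h v₂ = v₂) (hh3 : h (ω • v₁) = ω • v₁ + v₁) (hh4 : h (ω • v₂) = ω • v₂ + v₂)
    (hk1 : k v₁ = v₁) (hk2 : k v₂ = v₂) (hk3 : k (ω • v₁) = ω • v₁ + v₂)
    (hk4 : k (ω • v₂) = ω • v₂ + v₁ + v₂) : HasRankOne G E v := by
  have hlin : ∀ g : V ≃ₗ[F] V, (∀ (c : E) (x : V), g (c • x) = c • g x) → g ∈ G := by
    intro g hg
    refine hG.mem_of_linear g hg ?_
    exact (eq_zero_or_one_of_card_two hq _).resolve_left (LinearEquiv.isUnit_det' g).ne_zero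
  obtain ⟨φA, hA2, hA1⟩ := exists_efun (F := F) hv₁
  obtain ⟨φB, hB1, hB2⟩ := exists_efun (F := F) hv₂
  have hdec : ∀ z, z = φA z • v₁ + φB z • v₂ := by
    intro z
    obtain ⟨a, b, rfl⟩ := hspan z
    simp [hA1, hA2, hB1, hB2]
  let pE : V →ₗ[E] V := φB.smulRight v₁ + φA.smulRight v₂
  have hpE : ∀ z, pE z = φB z • v₁ + φA z • v₂ := fun z => rfl
  let p : V ≃ₗ[E] V := LinearEquiv.ofInvolutive pE (fun z => by
    conv_rhs => rw [hdec z]
    rw [hpE, hpE]; simp [hA1, hA2, hB1, hB2])
  have hp : p.restrictScalars F ∈ G := hlin _ fun c x => map_smul p c x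
  have hω0 : ω ≠ 0 := fun h => one_ne_zero (α := E) (by rw [h] at hω; linear_combination -hω)
  set u : Eˣ := Units.mk0 ω hω0
  have hd : dilHom (F := F) φA v₁ hA1 u ∈ G := hlin _ fun c x => dilHom_linear φA v₁ hA1 u c x
  have hw : scalarHom (F := F) (V := V) u ∈ G := hlin _ fun c x => by
    rw [scalarHom_apply, scalarHom_apply, smul_comm]
  set x : V ≃ₗ[F] V := k * scalarHom (F := F) u * k * scalarHom (F := F) u * p.restrictScalars F *
    dilHom (F := F) φA v₁ hA1 u * h with hx
  have hxG : x ∈ G := mul_mem (mul_mem (mul_mem (mul_mem (mul_mem (mul_mem hk hw) hk) hw) hp) hd) hh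
  have hp1 : p.restrictScalars F v₁ = v₂ := by show pE v₁ = v₂; simp [hpE, hA1, hB1]
  have hp2 : p.restrictScalars F v₂ = v₁ := by show pE v₂ = v₁; simp [hpE, hA2, hB2]
  have hp3 : p.restrictScalars F (ω • v₁) = ω • v₂ := by
    show pE (ω • v₁) = ω • v₂; simp [hpE, hA1, hB1]
  have hp4 : p.restrictScalars F (ω • v₂) = ω • v₁ := by
    show pE (ω • v₂) = ω • v₁; simp [hpE, hA2, hB2]
  have hωω : ∀ z : V, ω • ω • z = ω • z + z := fun z => by rw [smul_smul, hω, add_smul, one_smul]
  have hV2 : ∀ z : V, z + z = 0 := fun z => by rw [← one_smul E z, ← add_smul, h2, zero_smul]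
  have hw' : ∀ z : V, scalarHom (F := F) u z = ω • z := fun z => rfl
  have hd1 : dilHom (F := F) φA v₁ hA1 u v₁ = ω • v₁ := by
    rw [dilHom_apply, hA1]; simp [u, sub_smul]
  have hd2 : dilHom (F := F) φA v₁ hA1 u v₂ = v₂ := by
    rw [dilHom_apply, hA2]; simp
  have hd3 : dilHom (F := F) φA v₁ hA1 u (ω • v₁) = ω • v₁ + v₁ := by
    rw [dilHom_linear, hd1, hωω]
  have hd4 : dilHom (F := F) φA v₁ hA1 u (ω • v₂) = ω • v₂ := by rw [dilHom_linear, hd2]
  have hmul : ∀ (g g' : V ≃ₗ[F] V) (z : V), (g * g') z = g (g' z) := fun _ _ _ => rfl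
  set w : V := ω • v₁ + v₂ + ω • v₂ with hwdef
  have hV2' : ∀ a b : V, a + (a + b) = b := fun a b => by rw [← add_assoc, hV2, zero_add]
  have e1 : x v₁ = v₁ + w := by
    simp only [hx, hwdef, hmul, map_add, smul_add, hh1, hh2, hh3, hh4, hk1, hk2, hk3, hk4, hp1, hp2, hp3,
      hp4, hd1, hd2, hd3, hd4, hw', hωω, add_comm, add_left_comm, add_assoc, hV2, hV2', add_zero]
  have e2 : x (ω • v₁) = ω • v₁ + (0 : F) • w := by
    simp only [hx, hwdef, hmul, map_add, smul_add, hh1, hh2, hh3, hh4, hk1, hk2, hk3, hk4, hp1, hp2, hp3,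
      hp4, hd1, hd2, hd3, hd4, hw', hωω, add_comm, add_left_comm, add_assoc, hV2, hV2', add_zero, zero_smul]
  have e3 : x v₂ = v₂ + w := by
    simp only [hx, hwdef, hmul, map_add, smul_add, hh1, hh2, hh3, hh4, hk1, hk2, hk3, hk4, hp1, hp2, hp3,
      hp4, hd1, hd2, hd3, hd4, hw', hωω, add_comm, add_left_comm, add_assoc, hV2, hV2', add_zero]
  have e4 : x (ω • v₂) = ω • v₂ + w := by
    simp only [hx, hwdef, hmul, map_add, smul_add, hh1, hh2, hh3, hh4, hk1, hk2, hk3, hk4, hp1, hp2, hp3,
      hp4, hd1, hd2, hd3, hd4, hw', hωω, add_comm, add_left_comm, add_assoc, hV2, hV2', add_zero]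
  rw [zero_smul, add_zero] at e2
  have hgen : ∀ T : V →ₗ[F] V, T v₁ = 0 → T (ω • v₁) = 0 → T v₂ = 0 → T (ω • v₂) = 0 → T = 0 := by
    intro T t1 t2 t3 t4
    refine LinearMap.ext fun z => ?_
    obtain ⟨a, b, rfl⟩ := hspan z
    rw [map_add, LinearMap.zero_apply]
    rcases hall a with ha | ha | ha | ha <;> rcases hall b with hb | hb | hb | hb <;>
      simp [ha, hb, add_smul, t1, t2, t3, t4]
  have hw0 : w ≠ 0 := fun h0 => hω0 (by
    have := congrArg φA h0
    simpa [hwdef, hA1, hA2] using this)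
  obtain ⟨θ, hθ⟩ := Module.Projective.exists_dual_ne_zero F hw0
  have hθ1 : θ w = 1 := (eq_zero_or_one_of_card_two hq (θ w)).resolve_left hθ
  set A : V →ₗ[F] V := x.toLinearMap - LinearMap.id with hAdef
  have hA : ∀ z, A z = x z - z := fun _ => rfl
  have hAform : A = (θ.comp A).smulRight w := by
    rw [← sub_eq_zero]
    apply hgen <;>
      simp [hA, e1, e2, e3, e4, hθ1]
  have hAw : ∀ c : E, A (c • w) = 0 := by
    have a1 : A w = 0 := by
      rw [hwdef, map_add, map_add, hA, hA, hA, e2, e3, e4]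
      simp [hV2]
    have a2 : A (ω • w) = 0 := by
      rw [hwdef, smul_add, smul_add, hωω, hωω, map_add, map_add, map_add, map_add, hA, hA, hA, hA,
        e1, e2, e3, e4]
      simp [hV2, hV2', add_assoc, add_left_comm, add_comm]
    intro c
    rcases hall c with hc' | hc' | hc' | hc' <;> simp [hc', add_smul, a1, a2]
  have hMemA : Mem G A := ⟨x, hxG, fun z => by rw [hA]; abel⟩
  obtain ⟨g, hg, hgl, hgw⟩ := hG.transitive hw0 hv
  refine ⟨(θ.comp A).comp g.symm.toLinearMap, fun h0 => ?_, fun c => ?_, ?_⟩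
  · have := LinearMap.congr_fun h0 (g v₁)
    simp [hA, e1, hθ1] at this
  · show algebraMap F E (θ (A (g.symm (c • v)))) = 0
    rw [show g.symm (c • v) = c • w from g.symm_apply_eq.2 (by rw [hgl, hgw]), hAw, map_zero, map_zero]
  · refine (hMemA.conj hg).of_eq fun z => ?_
    show g (A (g.symm z)) = algebraMap F E (θ (A (g.symm z))) • v
    conv_lhs => rw [hAform]
    rw [LinearMap.smulRight_apply, map_smul, hgw, algebraMap_smul]
    rfl

end H42.ExtField
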