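import Mathlib
import Cfsg.Prelude.Def_GeometricClasses

/-!
Eigenspaces of elements normalising an absolutely irreducible extraspecial group times scalars.
-/

set_option autoImplicit false
set_option linter.style.haveILetI false
set_option linter.unusedSectionVars false

namespace H42

open Matrix

variable {F : Type*} [Field F] {n : ℕ}

/-- eigenspace of a matrix unit -/
noncomputable def eSp (g : GL (Fin n) F) (c : F) : Submodule F (Fin n → F) :=
  Module.End.eigenspace (Matrix.toLin' (g : Matrix (Fin n) (Fin n) F)) c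

lemma mem_eSp {g : GL (Fin n) F} {c : F} {v : Fin n → F} :
    v ∈ eSp g c ↔ (g : Matrix (Fin n) (Fin n) F) *ᵥ v = c • v := by
  rw [eSp, Module.End.mem_eigenspace_iff, Matrix.toLin'_apply]

lemma mulVec_inv_cancel (g : GL (Fin n) F) (v : Fin n → F) :
    ((g⁻¹ : GL (Fin n) F) : Matrix (Fin n) (Fin n) F) *ᵥ ((g : Matrix (Fin n) (Fin n) F) *ᵥ v) = v := by
  rw [Matrix.mulVec_mulVec, ← Units.val_mul, inv_mul_cancel, Units.val_one, Matrix.one_mulVec]

lemma toLin_injective_unit (g : GL (Fin n) F) :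
    Function.Injective (Matrix.toLin' (g : Matrix (Fin n) (Fin n) F)) := fun x y h => by
  simpa [Matrix.toLin'_apply, mulVec_inv_cancel] using
    congrArg (((g⁻¹ : GL (Fin n) F) : Matrix (Fin n) (Fin n) F) *ᵥ ·) h

lemma eSp_zero (g : GL (Fin n) F) : eSp g 0 = ⊥ := by
  rw [eq_bot_iff]
  intro v hv
  rw [mem_eSp, zero_smul] at hv
  rw [Submodule.mem_bot, ← mulVec_inv_cancel g v, hv, Matrix.mulVec_zero]

/-- Independent subspaces inside `U`. -/
lemma sum_finrank_le_of_indep {ι : Type*} (s : Finset ι) (D : ι → Submodule F (Fin n → F))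
    (U : Submodule F (Fin n → F)) (hle : ∀ i ∈ s, D i ≤ U) (h : s.SupIndep D) :
    ∑ i ∈ s, Module.finrank F (D i) ≤ Module.finrank F U := by
  classical
  induction s using Finset.induction generalizing U with
  | empty => simp
  | insert a s ha ih =>
    rw [Finset.sum_insert ha]
    have h' : s.SupIndep D := h.subset (Finset.subset_insert a s)
    have hd : Disjoint (D a) (s.sup D) :=
      h (Finset.subset_insert a s) (Finset.mem_insert_self a s) ha
    have h2 := ih (s.sup D) (fun i hi => Finset.le_sup hi) h'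
    have h3 := Submodule.finrank_sup_add_finrank_inf_eq (D a) (s.sup D)
    rw [disjoint_iff.1 hd, finrank_bot] at h3
    have h4 : Module.finrank F (D a ⊔ s.sup D : Submodule F (Fin n → F)) ≤ Module.finrank F U :=
      Submodule.finrank_mono (sup_le (hle a (Finset.mem_insert_self a s))
        (Finset.sup_le fun i hi => hle i (Finset.mem_insert_of_mem hi)))
    omega

/-- Distinct eigenvalues inside `U`. -/
lemma sum_eSp_inf_le (g : GL (Fin n) F) (s : Finset F) (U : Submodule F (Fin n → F)) :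
    ∑ c ∈ s, Module.finrank F (eSp g c ⊓ U : Submodule F (Fin n → F)) ≤ Module.finrank F U := by
  classical
  refine sum_finrank_le_of_indep s _ U (fun i _ => inf_le_right) ?_
  have h := Module.End.eigenspaces_iSupIndep (Matrix.toLin' (g : Matrix (Fin n) (Fin n) F))
  have h2 : iSupIndep fun c : F => eSp g c ⊓ U := h.mono (fun c => inf_le_left)
  exact h2.supIndep' s

/-- `y x y⁻¹ = ζ x`, `ζ` a primitive `r`-th root: eigenspaces of `x` have dimension `≤ n/r`. -/
lemma mul_finrank_eSp_le {r : ℕ} (hr : 0 < r) (x y : GL (Fin n) F) (ζ : F) (hζ : IsPrimitiveRoot ζ r)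
    (h : ((y * x * y⁻¹ : GL (Fin n) F) : Matrix (Fin n) (Fin n) F) = ζ • (x : Matrix (Fin n) (Fin n) F))
    (c : F) : r * Module.finrank F (eSp x c) ≤ n := by
  classical
  by_cases hc : c = 0
  · rw [hc, eSp_zero, finrank_bot]; simp
  have hyx : (x : Matrix (Fin n) (Fin n) F) * y = ζ⁻¹ • ((y : Matrix (Fin n) (Fin n) F) * x) := by
    have hζ0 : ζ ≠ 0 := hζ.ne_zero hr.ne'
    have h1 : (y : Matrix (Fin n) (Fin n) F) * x = ζ • ((x : Matrix (Fin n) (Fin n) F) * y) := by
      rw [← Units.val_mul y x, show y * x = (y * x * y⁻¹) * y by group, Units.val_mul, h, smul_mul_assoc]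
    rw [h1, smul_smul, inv_mul_cancel₀ hζ0, one_smul]
  have hshift : ∀ l : F, Module.finrank F (eSp x l) ≤ Module.finrank F (eSp x (ζ⁻¹ * l)) := by
    intro l
    rw [(Submodule.equivMapOfInjective _ (toLin_injective_unit y) (eSp x l)).finrank_eq]
    refine Submodule.finrank_mono ?_
    rintro _ ⟨v, hv, rfl⟩
    rw [SetLike.mem_coe, mem_eSp] at hv
    rw [mem_eSp, Matrix.toLin'_apply, Matrix.mulVec_mulVec, hyx, Matrix.smul_mulVec,
      ← Matrix.mulVec_mulVec, hv, Matrix.mulVec_smul, smul_smul]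
  have hk : ∀ k : ℕ, Module.finrank F (eSp x c) ≤ Module.finrank F (eSp x (ζ⁻¹ ^ k * c)) := by
    intro k
    induction k with
    | zero => rw [pow_zero, one_mul]
    | succ k ih =>
      refine ih.trans ((hshift _).trans (le_of_eq ?_))
      rw [pow_succ', mul_assoc]
  have hinj : Set.InjOn (fun k => ζ⁻¹ ^ k * c) (Finset.range r : Set ℕ) := by
    intro i hi j hj hij
    exact hζ.inv.pow_inj (Finset.mem_range.1 hi) (Finset.mem_range.1 hj) (mul_right_cancel₀ hc hij)
  have h1 := sum_eSp_inf_le x ((Finset.range r).image fun k => ζ⁻¹ ^ k * c) ⊤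
  rw [Finset.sum_image hinj, finrank_top, Module.finrank_fin_fun] at h1
  refine le_trans ?_ h1
  have h2 := Finset.card_nsmul_le_sum (Finset.range r)
    (fun k => Module.finrank F (eSp x (ζ⁻¹ ^ k * c) ⊓ ⊤ : Submodule F (Fin n → F)))
    (Module.finrank F (eSp x c)) (fun k _ => by rw [inf_top_eq]; exact hk k)
  simpa using h2

lemma card_choose_two_fibre {r : ℕ} [Fact r.Prime] (hr2 : r ≠ 2) (γ b : ZMod r) (h : γ ≠ 0 ∨ b ≠ 0)
    (w : ZMod r) :
    ((Finset.range r).filter fun j : ℕ => γ * ((j.choose 2 : ℕ) : ZMod r) + b * (j : ZMod r) = w).card ≤ 2 := by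
  classical
  have hr := (Fact.out : r.Prime)
  have h2 : (2 : ZMod r) ≠ 0 := by
    intro h0
    have : ((2 : ℕ) : ZMod r) = 0 := by exact_mod_cast h0
    rw [ZMod.natCast_eq_zero_iff] at this
    exact hr2 ((Nat.prime_dvd_prime_iff_eq hr Nat.prime_two).1 this)
  let P : Polynomial (ZMod r) :=
    Polynomial.C γ * Polynomial.X ^ 2 + Polynomial.C (2 * b - γ) * Polynomial.X + Polynomial.C (-(2 * w))
  have hdeg : P.natDegree ≤ 2 := Polynomial.natDegree_quadratic_le
  have hP : P ≠ 0 := by
    intro h0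
    have h1 := congrArg (fun Q => Q.coeff 2) h0
    have h3 := congrArg (fun Q => Q.coeff 1) h0
    simp [P, Polynomial.coeff_X_pow, Polynomial.coeff_X, Polynomial.coeff_C] at h1 h3
    subst h1
    rcases h with h | h
    · exact h rfl
    · simp at h3; rcases h3 with h3 | h3
      · exact h2 h3
      · exact h h3
  refine le_trans ?_ (le_trans (Polynomial.card_roots' P) hdeg)
  refine le_trans ?_ (Multiset.toFinset_card_le _)
  refine Finset.card_le_card_of_injOn (fun j => (j : ZMod r)) ?_ ?_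
  · intro j hj
    rw [Finset.mem_coe, Finset.mem_filter] at hj
    rw [Finset.mem_coe, Multiset.mem_toFinset, Polynomial.mem_roots hP]
    have hch : (2 : ZMod r) * ((j.choose 2 : ℕ) : ZMod r) = (j : ZMod r) * ((j : ZMod r) - 1) := by
      rcases j with _ | j
      · simp
      · have h5 : 2 * (j + 1).choose 2 = (j + 1) * j := by
          rw [Nat.choose_two_right, Nat.add_sub_cancel]
          exact Nat.two_mul_div_two_of_even (by rw [mul_comm]; exact Nat.even_mul_succ_self j)
        have h6 := congrArg (fun m : ℕ => (m : ZMod r)) h5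
        push_cast at h6 ⊢
        linear_combination h6
    simp [P, Polynomial.IsRoot]
    linear_combination -γ * hch + 2 * hj.2
  · intro i hi j hj hij
    rw [Finset.mem_coe, Finset.mem_filter, Finset.mem_range] at hi hj
    exact Nat.ModEq.eq_of_lt_of_lt ((ZMod.natCast_eq_natCast_iff _ _ _).1 hij) hi.1 hj.1

/-- The count for an element `g` of order `r ≥ 5` acting unipotently:
`x g x⁻¹ = u⁻¹ g`, `g u = u g`, `x u x⁻¹ = ω^γ u`, with `u` of order `r` and eigenspaces of dimension `≤ n/r`. -/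
lemma two_finrank_le_of_quadratic {r : ℕ} [Fact r.Prime] (hr5 : 5 ≤ r) (ω : F)
    (hω : IsPrimitiveRoot ω r) (g x u : GL (Fin n) F) (γ : ℕ)
    (hxg : x * g * x⁻¹ = u⁻¹ * g) (hgu : g * u = u * g)
    (hxu : ((x * u * x⁻¹ : GL (Fin n) F) : Matrix (Fin n) (Fin n) F) = ω ^ γ • (u : Matrix (Fin n) (Fin n) F))
    (hu : u ^ r = 1) (husmall : r * Module.finrank F (eSp u 1) ≤ n) (c : F) :
    2 * Module.finrank F (eSp g c) ≤ n := by
  classical
  have hr := (Fact.out : r.Prime)
  haveI : NeZero r := ⟨hr.ne_zero⟩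
  by_cases hc : c = 0
  · rw [hc, eSp_zero, finrank_bot]; simp
  have hω0 : ω ≠ 0 := hω.ne_zero hr.ne_zero
  set W : ℕ → Submodule F (Fin n → F) :=
    fun j => (eSp g c).map (Matrix.toLin' ((x ^ j : GL (Fin n) F) : Matrix (Fin n) (Fin n) F)) with hW
  have hWd : ∀ j, Module.finrank F (W j) = Module.finrank F (eSp g c) := fun j =>
    ((Submodule.equivMapOfInjective _ (toLin_injective_unit (x ^ j)) (eSp g c)).finrank_eq).symm
  -- conjugates of `g`
  have hconj : ∀ j : ℕ, ((x ^ j * g * (x ^ j)⁻¹ : GL (Fin n) F) : Matrix (Fin n) (Fin n) F) =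
      (ω⁻¹ ^ (γ * j.choose 2)) • (((u⁻¹) ^ j * g : GL (Fin n) F) : Matrix (Fin n) (Fin n) F) := by
    have hxui : ∀ j : ℕ, ((x * (u⁻¹) ^ j * x⁻¹ : GL (Fin n) F) : Matrix (Fin n) (Fin n) F) =
        ω⁻¹ ^ (γ * j) • (((u⁻¹) ^ j : GL (Fin n) F) : Matrix (Fin n) (Fin n) F) := by
      have h1 : ((x * u⁻¹ * x⁻¹ : GL (Fin n) F) : Matrix (Fin n) (Fin n) F) =
          ω⁻¹ ^ γ • ((u⁻¹ : GL (Fin n) F) : Matrix (Fin n) (Fin n) F) := by
        have h2 : ((x * u⁻¹ * x⁻¹ : GL (Fin n) F) : Matrix (Fin n) (Fin n) F) *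
            ((x * u * x⁻¹ : GL (Fin n) F) : Matrix (Fin n) (Fin n) F) = 1 := by
          rw [← Units.val_mul, show x * u⁻¹ * x⁻¹ * (x * u * x⁻¹) = 1 by group, Units.val_one]
        rw [hxu, mul_smul_comm] at h2
        have h3 := congrArg (fun M => (ω⁻¹ ^ γ) • (M * ((u⁻¹ : GL (Fin n) F) : Matrix (Fin n) (Fin n) F))) h2
        simp only [smul_mul_assoc, smul_smul, mul_assoc, one_mul] at h3
        rw [← Units.val_mul u, mul_inv_cancel, Units.val_one, mul_one, ← mul_pow, inv_mul_cancel₀ hω0,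
          one_pow, one_smul] at h3
        rw [mul_assoc x]; exact h3
      intro j
      induction j with
      | zero => simp
      | succ j ih =>
        rw [pow_succ, show x * ((u⁻¹) ^ j * u⁻¹) * x⁻¹ = (x * (u⁻¹) ^ j * x⁻¹) * (x * u⁻¹ * x⁻¹) by group,
          Units.val_mul _ (x * u⁻¹ * x⁻¹), ih, h1, smul_mul_smul_comm, ← pow_add, ← Units.val_mul,
          ← Nat.mul_succ]
    intro j
    induction j with
    | zero => simp
    | succ j ih =>
      rw [show x ^ (j + 1) * g * (x ^ (j + 1))⁻¹ = x * (x ^ j * g * (x ^ j)⁻¹) * x⁻¹ by rw [pow_succ']; group,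
        Units.val_mul, Units.val_mul, ih, mul_smul_comm, smul_mul_assoc, ← Units.val_mul, ← Units.val_mul,
        show x * ((u⁻¹) ^ j * g) * x⁻¹ = (x * (u⁻¹) ^ j * x⁻¹) * (x * g * x⁻¹) by group, hxg,
        Units.val_mul _ (u⁻¹ * g), hxui, smul_mul_assoc, smul_smul, ← pow_add, ← Units.val_mul, ← mul_assoc,
        ← pow_succ, Nat.choose_succ_succ, Nat.choose_one_right, Nat.mul_add, add_comm (γ * j.choose 2)]
  -- `W j` is an eigenspace of the conjugate
  have hWmem : ∀ j, ∀ v ∈ W j,
      (((u⁻¹) ^ j * g : GL (Fin n) F) : Matrix (Fin n) (Fin n) F) *ᵥ v = (ω ^ (γ * j.choose 2) * c) • v := by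
    rintro j _ ⟨w, hw, rfl⟩
    rw [SetLike.mem_coe, mem_eSp] at hw
    have h1 : ((x ^ j * g * (x ^ j)⁻¹ : GL (Fin n) F) : Matrix (Fin n) (Fin n) F) *ᵥ
        (((x ^ j : GL (Fin n) F) : Matrix (Fin n) (Fin n) F) *ᵥ w) =
        c • (((x ^ j : GL (Fin n) F) : Matrix (Fin n) (Fin n) F) *ᵥ w) := by
      rw [Matrix.mulVec_mulVec, ← Units.val_mul, inv_mul_cancel_right, Units.val_mul,
        ← Matrix.mulVec_mulVec, hw, Matrix.mulVec_smul]
    rw [hconj, Matrix.smul_mulVec] at h1
    have h2 := congrArg (fun v : Fin n → F => ω ^ (γ * j.choose 2) • v) h1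
    simp only [smul_smul, ← mul_pow, mul_inv_cancel₀ hω0, one_pow, one_smul] at h2
    exact h2
  have hWu : ∀ j, ∀ v ∈ W j, (u : Matrix (Fin n) (Fin n) F) *ᵥ v ∈ W j := by
    intro j v hv
    obtain ⟨w, hw, rfl⟩ := hv
    refine ⟨((((x ^ j)⁻¹ * u * x ^ j : GL (Fin n) F)) : Matrix (Fin n) (Fin n) F) *ᵥ w, ?_, ?_⟩
    · rw [SetLike.mem_coe, mem_eSp] at hw ⊢
      have hcomm : g * ((x ^ j)⁻¹ * u * x ^ j) = ((x ^ j)⁻¹ * u * x ^ j) * g := by
        have h1 := hconj j
        have h2 : ((u * (x ^ j * g * (x ^ j)⁻¹) : GL (Fin n) F) : Matrix (Fin n) (Fin n) F) =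
            (((x ^ j * g * (x ^ j)⁻¹) * u : GL (Fin n) F) : Matrix (Fin n) (Fin n) F) := by
          rw [Units.val_mul u, Units.val_mul _ u, h1, mul_smul_comm, smul_mul_assoc, ← Units.val_mul,
            ← Units.val_mul, ← mul_assoc, ((Commute.refl u).inv_right.pow_right j).eq, mul_assoc, ← hgu, ← mul_assoc]
        have h3 := Units.ext h2
        calc g * ((x ^ j)⁻¹ * u * x ^ j) = (x ^ j)⁻¹ * ((x ^ j * g * (x ^ j)⁻¹) * u) * x ^ j := by group
          _ = (x ^ j)⁻¹ * (u * (x ^ j * g * (x ^ j)⁻¹)) * x ^ j := by rw [h3]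
          _ = _ := by group
      rw [Matrix.mulVec_mulVec, ← Units.val_mul, hcomm, Units.val_mul, ← Matrix.mulVec_mulVec, hw,
        Matrix.mulVec_smul]
    · rw [Matrix.toLin'_apply, Matrix.toLin'_apply, Matrix.mulVec_mulVec, Matrix.mulVec_mulVec,
        ← Units.val_mul, ← Units.val_mul, show x ^ j * ((x ^ j)⁻¹ * u * x ^ j) = u * x ^ j by group]
  have hrF : (r : F) ≠ 0 := by
    haveI := hω.neZero'
    exact NeZero.ne _
  -- decomposition under `u`
  have hdec : ∀ j, Module.finrank F (W j) ≤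
      ∑ i ∈ Finset.range r, Module.finrank F (W j ⊓ eSp u (ω ^ i) : Submodule F (Fin n → F)) := by
    intro j
    have hle : W j ≤ (Finset.range r).sup fun i => W j ⊓ eSp u (ω ^ i) := by
      intro v hv
      have hpow : ∀ k : ℕ, ((u ^ k : GL (Fin n) F) : Matrix (Fin n) (Fin n) F) *ᵥ v ∈ W j := by
        intro k
        induction k with
        | zero => simpa using hv
        | succ k ih => rw [pow_succ', Units.val_mul, ← Matrix.mulVec_mulVec]; exact hWu j _ ih
      let f : ℕ → ℕ → (Fin n → F) := fun i k => (ω⁻¹ ^ (i * k)) • (((u ^ k : GL (Fin n) F) : Matrix (Fin n) (Fin n) F) *ᵥ v)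
      let P : ℕ → (Fin n → F) := fun i => ∑ k ∈ Finset.range r, f i k
      have hP : ∀ i, P i ∈ (W j ⊓ eSp u (ω ^ i) : Submodule F (Fin n → F)) := by
        intro i
        refine ⟨Submodule.sum_mem _ fun k _ => Submodule.smul_mem _ _ (hpow k), ?_⟩
        show P i ∈ eSp u (ω ^ i)
        rw [mem_eSp]
        have hstep : ∀ k, (u : Matrix (Fin n) (Fin n) F) *ᵥ f i k = ω ^ i • f i (k + 1) := by
          intro k
          simp only [f]
          rw [Matrix.mulVec_smul, Matrix.mulVec_mulVec, ← Units.val_mul, ← pow_succ', smul_smul]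
          congr 1
          rw [Nat.mul_succ, pow_add, mul_comm (ω⁻¹ ^ (i * k)), ← mul_assoc, ← mul_pow, mul_inv_cancel₀ hω0, one_pow,
            one_mul]
        have hper : f i r = f i 0 := by
          simp only [f]
          rw [hu, pow_zero, Nat.mul_zero, pow_zero, mul_comm, pow_mul, inv_pow, hω.pow_eq_one, inv_one, one_pow]
        show (u : Matrix (Fin n) (Fin n) F) *ᵥ (∑ k ∈ Finset.range r, f i k) = ω ^ i • ∑ k ∈ Finset.range r, f i k
        rw [Matrix.mulVec_sum, Finset.smul_sum, Finset.sum_congr rfl fun k _ => hstep k]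
        have h1 := Finset.sum_range_succ' (fun k => ω ^ i • f i k) r
        rw [Finset.sum_range_succ, hper] at h1
        exact (add_right_cancel h1).symm
      have hsum : ∑ i ∈ Finset.range r, P i = (r : F) • v := by
        simp only [P, f]
        rw [Finset.sum_comm, Finset.sum_eq_single 0]
        · ext l; simp [← Finset.sum_smul]
        · intro k hk hk0
          rw [← Finset.sum_smul]
          have hne : ω⁻¹ ^ k ≠ 1 := by
            intro h
            exact hk0 (hω.inv.pow_inj (Finset.mem_range.1 hk) hr.pos (by rw [h, pow_zero]))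
          have : ∑ i ∈ Finset.range r, ω⁻¹ ^ (i * k) = 0 := by
            rw [Finset.sum_congr rfl fun i _ => by rw [mul_comm, pow_mul], geom_sum_eq hne, ← pow_mul,
              mul_comm, pow_mul, inv_pow, hω.pow_eq_one, inv_one, one_pow, sub_self, zero_div]
          rw [this, zero_smul]
        · intro h; exact absurd (Finset.mem_range.2 hr.pos) h
      have hv' : v = (r : F)⁻¹ • ∑ i ∈ Finset.range r, P i := by
        rw [hsum, smul_smul, inv_mul_cancel₀ hrF, one_smul]
      rw [hv']
      exact Submodule.smul_mem _ _ (Submodule.sum_mem _ fun i hi =>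
        Finset.le_sup (f := fun i => W j ⊓ eSp u (ω ^ i)) hi (hP i))
    refine le_trans (Submodule.finrank_mono hle) ?_
    clear hle
    generalize Finset.range r = s
    induction s using Finset.induction with
    | empty => simp
    | insert a s ha ih =>
      rw [Finset.sum_insert ha, Finset.sup_insert]
      have := Submodule.finrank_sup_add_finrank_inf_eq (W j ⊓ eSp u (ω ^ a))
        (s.sup fun i => W j ⊓ eSp u (ω ^ i))
      omega
  -- each `u`-eigenspace
  have hV : ∑ i ∈ Finset.range r, Module.finrank F (eSp u (ω ^ i)) ≤ n := by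
    have h1 := sum_eSp_inf_le u ((Finset.range r).image fun i => ω ^ i) ⊤
    rw [Finset.sum_image (fun i hi j hj h => hω.pow_inj (Finset.mem_range.1 hi) (Finset.mem_range.1 hj) h),
      finrank_top, Module.finrank_fin_fun] at h1
    refine le_trans (Finset.sum_le_sum fun i _ => le_of_eq ?_) h1
    exact (LinearEquiv.ofEq _ _ (inf_top_eq _)).symm.finrank_eq
  let lam : ℕ → ℕ → F := fun i j => ω ^ (γ * j.choose 2 + i * j) * c
  have hsub : ∀ i j, W j ⊓ eSp u (ω ^ i) ≤ eSp g (lam i j) ⊓ eSp u (ω ^ i) := by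
    intro i j v hv
    obtain ⟨hvW, hvu⟩ := Submodule.mem_inf.1 hv
    refine Submodule.mem_inf.2 ⟨?_, hvu⟩
    rw [mem_eSp] at hvu ⊢
    have h1 := hWmem j v hvW
    have hpk : ∀ k, ((u ^ k : GL (Fin n) F) : Matrix (Fin n) (Fin n) F) *ᵥ v = ω ^ (i * k) • v := by
      intro k
      induction k with
      | zero => simp
      | succ k ih =>
        rw [pow_succ', Units.val_mul, ← Matrix.mulVec_mulVec, ih, Matrix.mulVec_smul, hvu, smul_smul, ← pow_add,
          Nat.mul_succ]
    have h2 := congrArg (((u ^ j : GL (Fin n) F) : Matrix (Fin n) (Fin n) F) *ᵥ ·) h1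
    simp only [Matrix.mulVec_mulVec, ← Units.val_mul, Matrix.mulVec_smul, hpk, smul_smul] at h2
    rw [inv_pow, mul_inv_cancel_left] at h2
    rw [h2]
    simp only [lam]
    congr 1
    rw [pow_add]; ring
  have hcount : ∀ i ∈ Finset.range r,
      ∑ j ∈ Finset.range r, Module.finrank F (W j ⊓ eSp u (ω ^ i) : Submodule F (Fin n → F)) ≤
        (if γ % r = 0 ∧ i = 0 then r else if γ % r = 0 then 1 else 2) * Module.finrank F (eSp u (ω ^ i)) := by
    intro i hi
    set M := (if γ % r = 0 ∧ i = 0 then r else if γ % r = 0 then 1 else 2) with hM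
    refine le_trans (Finset.sum_le_sum fun j _ => Submodule.finrank_mono (hsub i j)) ?_
    rw [← Finset.sum_fiberwise_of_maps_to (g := lam i) (t := (Finset.range r).image (lam i))
      (fun j hj => Finset.mem_image_of_mem _ hj)]
    refine le_trans (Finset.sum_le_sum (g := fun l => M * Module.finrank F (eSp g l ⊓ eSp u (ω ^ i) : Submodule F (Fin n → F))) ?_) ?_
    · intro l hl
      have heq : ∀ j ∈ (Finset.range r).filter (fun j => lam i j = l),
          Module.finrank F (eSp g (lam i j) ⊓ eSp u (ω ^ i) : Submodule F (Fin n → F)) =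
          Module.finrank F (eSp g l ⊓ eSp u (ω ^ i) : Submodule F (Fin n → F)) := by
        intro j hj; rw [(Finset.mem_filter.1 hj).2]
      rw [Finset.sum_congr rfl heq, Finset.sum_const, smul_eq_mul]
      refine Nat.mul_le_mul_right _ ?_
      obtain ⟨j0, hj0, rfl⟩ := Finset.mem_image.1 hl
      have hfil : ∀ j, lam i j = lam i j0 ↔ (γ : ZMod r) * ((j.choose 2 : ℕ) : ZMod r) + (i : ZMod r) * (j : ZMod r) =
          (γ : ZMod r) * ((j0.choose 2 : ℕ) : ZMod r) + (i : ZMod r) * (j0 : ZMod r) := by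
        intro j
        simp only [lam]
        rw [mul_left_inj' hc, ← pow_mod_orderOf ω, ← pow_mod_orderOf ω (γ * j0.choose 2 + i * j0), ← hω.eq_orderOf]
        constructor
        · intro h
          have h' := hω.pow_inj (Nat.mod_lt _ hr.pos) (Nat.mod_lt _ hr.pos) h
          have h'' := congrArg (fun m : ℕ => (m : ZMod r)) h'
          simpa [ZMod.natCast_mod] using h''
        · intro h
          have h' : ((γ * j.choose 2 + i * j : ℕ) : ZMod r) = ((γ * j0.choose 2 + i * j0 : ℕ) : ZMod r) := by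
            push_cast; exact h
          rw [(ZMod.natCast_eq_natCast_iff _ _ _).1 h']
      by_cases hγ : γ % r = 0
      · by_cases hi0 : i = 0
        · rw [hM, if_pos ⟨hγ, hi0⟩]
          exact (Finset.card_filter_le _ _).trans (by rw [Finset.card_range])
        · rw [hM, if_neg (fun h => hi0 h.2), if_pos hγ]
          refine Finset.card_le_one.2 fun a ha b hb => ?_
          rw [Finset.mem_filter] at ha hb
          have hγ0 : (γ : ZMod r) = 0 := by
            rw [ZMod.natCast_eq_zero_iff]; exact Nat.dvd_of_mod_eq_zero hγ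
          have e := ((hfil a).1 ha.2).trans ((hfil b).1 hb.2).symm
          simp only [hγ0, zero_mul, zero_add] at e
          have hiz : (i : ZMod r) ≠ 0 := by
            rw [Ne, ZMod.natCast_eq_zero_iff]
            intro h
            have := Nat.le_of_dvd (Nat.pos_of_ne_zero hi0) h
            have := Finset.mem_range.1 hi
            omega
          exact Nat.ModEq.eq_of_lt_of_lt ((ZMod.natCast_eq_natCast_iff _ _ _).1 (mul_left_cancel₀ hiz e))
            (Finset.mem_range.1 ha.1) (Finset.mem_range.1 hb.1)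
      · rw [hM, if_neg (fun h => hγ h.1), if_neg hγ]
        have hγ0 : (γ : ZMod r) ≠ 0 := by
          rw [Ne, ZMod.natCast_eq_zero_iff]; exact fun h => hγ (Nat.mod_eq_zero_of_dvd h)
        refine le_trans (le_of_eq ?_) (card_choose_two_fibre (by omega) (γ : ZMod r) (i : ZMod r) (Or.inl hγ0)
          ((γ : ZMod r) * ((j0.choose 2 : ℕ) : ZMod r) + (i : ZMod r) * (j0 : ZMod r)))
        exact congrArg Finset.card (Finset.filter_congr fun j _ => hfil j)
    · rw [← Finset.mul_sum]
      exact Nat.mul_le_mul_left M (sum_eSp_inf_le g _ _)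
  have htot : r * Module.finrank F (eSp g c) ≤ ∑ i ∈ Finset.range r,
      (if γ % r = 0 ∧ i = 0 then r else if γ % r = 0 then 1 else 2) * Module.finrank F (eSp u (ω ^ i)) := by
    calc r * Module.finrank F (eSp g c) = ∑ j ∈ Finset.range r, Module.finrank F (W j) := by
            rw [Finset.sum_congr rfl fun j _ => hWd j, Finset.sum_const, Finset.card_range, smul_eq_mul]
      _ ≤ ∑ j ∈ Finset.range r, ∑ i ∈ Finset.range r, Module.finrank F (W j ⊓ eSp u (ω ^ i) : Submodule F (Fin n → F)) :=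
            Finset.sum_le_sum fun j _ => hdec j
      _ ≤ _ := by rw [Finset.sum_comm]; exact Finset.sum_le_sum hcount
  by_cases hγ : γ % r = 0
  · have h0 : (0 : ℕ) ∈ Finset.range r := Finset.mem_range.2 hr.pos
    rw [← Finset.add_sum_erase _ _ h0] at htot hV
    rw [if_pos ⟨hγ, rfl⟩, pow_zero,
      Finset.sum_congr rfl (fun i hi => by rw [if_neg (fun h => (Finset.ne_of_mem_erase hi) h.2), if_pos hγ, one_mul])] at htot
    rw [pow_zero] at hV
    set e := Module.finrank F (eSp u 1)
    set S := ∑ i ∈ (Finset.range r).erase 0, Module.finrank F (eSp u (ω ^ i))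
    nlinarith
  · rw [Finset.sum_congr rfl (fun i _ => by rw [if_neg (fun h => hγ h.1), if_neg hγ]), ← Finset.mul_sum] at htot
    nlinarith

end H42
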