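import Mathlib
import Cfsg.Prelude.Def_GeometricClasses

/-!
Fixed spaces in irreducible primitive linear groups: abelian normal subgroups act semiregularly,
and commutators keep large fixed spaces.
-/

set_option autoImplicit false
set_option linter.style.haveILetI false
set_option linter.unusedSectionVars false

namespace H42

open Matrix

variable {F : Type*} [Field F] {n : ℕ}

/-- Fixed space of an invertible matrix. -/
noncomputable def fixSp (g : GL (Fin n) F) : Submodule F (Fin n → F) :=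
  Module.End.eigenspace (Matrix.toLin' (g : Matrix (Fin n) (Fin n) F)) 1

lemma mem_fixSp {g : GL (Fin n) F} {v : Fin n → F} :
    v ∈ fixSp g ↔ (g : Matrix (Fin n) (Fin n) F) *ᵥ v = v := by
  rw [fixSp, Module.End.mem_eigenspace_iff, one_smul, Matrix.toLin'_apply]

lemma fixSp_inv (g : GL (Fin n) F) : fixSp g⁻¹ = fixSp g := by
  have key : ∀ h : GL (Fin n) F, fixSp h ≤ fixSp h⁻¹ := by
    intro h v hv
    rw [mem_fixSp] at hv ⊢
    conv_lhs => rw [← hv]
    rw [Matrix.mulVec_mulVec, ← Units.val_mul, inv_mul_cancel, Units.val_one, Matrix.one_mulVec]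
  exact le_antisymm (by simpa using key g⁻¹) (key g)

lemma fixSp_mul_le (g h : GL (Fin n) F) :
    Module.finrank F (fixSp g) + Module.finrank F (fixSp h) ≤ Module.finrank F (fixSp (g * h)) + n := by
  have h1 : fixSp g ⊓ fixSp h ≤ fixSp (g * h) := by
    intro v hv
    obtain ⟨hg, hh⟩ := Submodule.mem_inf.1 hv
    rw [mem_fixSp] at hg hh ⊢
    rw [Units.val_mul, ← Matrix.mulVec_mulVec, hh, hg]
  have h2 := Submodule.finrank_sup_add_finrank_inf_eq (fixSp g) (fixSp h)
  have h3 := Submodule.finrank_mono h1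
  have h4 : Module.finrank F (fixSp g ⊔ fixSp h : Submodule F (Fin n → F)) ≤ n :=
    le_trans (Submodule.finrank_le _) (by simp)
  omega

lemma finrank_fixSp_conj (b g : GL (Fin n) F) :
    Module.finrank F (fixSp g) ≤ Module.finrank F (fixSp (b * g * b⁻¹)) := by
  have hinj : Function.Injective (Matrix.toLin' (b : Matrix (Fin n) (Fin n) F)) := by
    intro x y hxy
    have := congrArg (fun v => ((b⁻¹ : GL (Fin n) F) : Matrix (Fin n) (Fin n) F) *ᵥ v) hxy
    simpa [Matrix.toLin'_apply, Matrix.mulVec_mulVec, ← Units.val_mul] using this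
  rw [LinearEquiv.finrank_eq (Submodule.equivMapOfInjective _ hinj (fixSp g))]
  refine Submodule.finrank_mono ?_
  rintro _ ⟨v, hv, rfl⟩
  rw [mem_fixSp]
  rw [SetLike.mem_coe, mem_fixSp] at hv
  rw [Matrix.toLin'_apply, Units.val_mul, Units.val_mul, Matrix.mulVec_mulVec, mul_assoc,
    ← Units.val_mul (b⁻¹) b, inv_mul_cancel, Units.val_one, mul_one, ← Matrix.mulVec_mulVec, hv]

/-- A commutator fixes at least `2d - n` dimensions. -/
lemma finrank_fixSp_commutator (g b : GL (Fin n) F) :
    2 * Module.finrank F (fixSp g) ≤ Module.finrank F (fixSp (g * b * g⁻¹ * b⁻¹)) + n := by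
  have h1 := fixSp_mul_le g (b * g⁻¹ * b⁻¹)
  have h2 := finrank_fixSp_conj b g⁻¹
  rw [fixSp_inv] at h2
  rw [show g * (b * g⁻¹ * b⁻¹) = g * b * g⁻¹ * b⁻¹ by group] at h1
  omega

variable [Fintype F]

/-- In an irreducible primitive group, non-trivial elements of abelian normalised subgroups fix no vector. -/
theorem fixSp_eq_bot_of_abelian (G : Subgroup (GL (Fin n) F))
    (hirr : Cfsg.Geo.ActsIrreducibly (Cfsg.Geo.matrixSet G))
    (hprim : ∀ (m t : ℕ) (D : Fin t → Submodule F (Fin n → F)), 2 ≤ t → Cfsg.Geo.IsMDecomposition m D →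
      ¬ G ≤ Cfsg.Geo.decompositionStabilizer D)
    (A : Subgroup (GL (Fin n) F)) (hA : ∀ a ∈ A, ∀ b ∈ A, Commute a b)
    (hnorm : ∀ g ∈ G, ∀ a ∈ A, g * a * g⁻¹ ∈ A) {a : GL (Fin n) F} (ha : a ∈ A) (ha1 : a ≠ 1) :
    fixSp a = ⊥ := by
  classical
  set C := Algebra.adjoin F ((fun x : GL (Fin n) F => (x : Matrix (Fin n) (Fin n) F)) '' (A : Set (GL (Fin n) F)))
    with hC
  have hcomm : ∀ x ∈ C, ∀ y ∈ C, x * y = y * x := by
    have hgen : ∀ x ∈ (fun x : GL (Fin n) F => (x : Matrix (Fin n) (Fin n) F)) '' (A : Set (GL (Fin n) F)),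
        ∀ y ∈ C, x * y = y * x := by
      rintro _ ⟨u, hu, rfl⟩ y hy
      induction hy using Algebra.adjoin_induction with
      | mem z hz =>
        obtain ⟨w, hw, rfl⟩ := hz
        exact congrArg Units.val (hA u hu w hw).eq
      | algebraMap r => exact (Algebra.commutes r _).symm
      | add z w _ _ h1 h2 => rw [mul_add, add_mul, h1, h2]
      | mul z w _ _ h1 h2 => rw [← mul_assoc, h1, mul_assoc, h2, mul_assoc]
    intro x hx y hy
    induction hx using Algebra.adjoin_induction with
    | mem z hz => exact hgen z hz y hy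
    | algebraMap r => exact Algebra.commutes r y
    | add z w _ _ h1 h2 => rw [mul_add, add_mul, h1, h2]
    | mul z w _ _ h1 h2 => rw [mul_assoc, h2, ← mul_assoc, h1, mul_assoc]
  have hconj : ∀ g ∈ G, ∀ x ∈ C,
      (g : Matrix (Fin n) (Fin n) F) * x * ((g⁻¹ : GL (Fin n) F) : Matrix (Fin n) (Fin n) F) ∈ C := by
    intro g hg x hx
    induction hx using Algebra.adjoin_induction with
    | mem z hz =>
      obtain ⟨w, hw, rfl⟩ := hz
      exact Algebra.subset_adjoin ⟨g * w * g⁻¹, hnorm g hg w hw, by simp only [Units.val_mul]⟩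
    | algebraMap r =>
      rw [← Algebra.commutes r (g : Matrix (Fin n) (Fin n) F), mul_assoc, ← Units.val_mul,
        mul_inv_cancel, Units.val_one, mul_one]
      exact C.algebraMap_mem r
    | add z w _ _ h1 h2 => rw [mul_add, add_mul]; exact C.add_mem h1 h2
    | mul z w _ _ h1 h2 =>
      rw [show (g : Matrix (Fin n) (Fin n) F) * (z * w) * ((g⁻¹ : GL (Fin n) F) : Matrix (Fin n) (Fin n) F) =
          ((g : Matrix (Fin n) (Fin n) F) * z * ((g⁻¹ : GL (Fin n) F) : Matrix (Fin n) (Fin n) F)) *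
          ((g : Matrix (Fin n) (Fin n) F) * w * ((g⁻¹ : GL (Fin n) F) : Matrix (Fin n) (Fin n) F)) by
        simp [mul_assoc]]
      exact C.mul_mem h1 h2
  have gl_mv : ∀ (g : GL (Fin n) F) (v : Fin n → F),
      ((g⁻¹ : GL (Fin n) F) : Matrix (Fin n) (Fin n) F) *ᵥ ((g : Matrix (Fin n) (Fin n) F) *ᵥ v) = v := by
    intro g v; rw [Matrix.mulVec_mulVec, ← Units.val_mul, inv_mul_cancel, Units.val_one, Matrix.one_mulVec]
  have conj_back : ∀ (g : GL (Fin n) F) (x : Matrix (Fin n) (Fin n) F),
      (g : Matrix (Fin n) (Fin n) F) *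
        (((g⁻¹ : GL (Fin n) F) : Matrix (Fin n) (Fin n) F) * x * (g : Matrix (Fin n) (Fin n) F)) *
        ((g⁻¹ : GL (Fin n) F) : Matrix (Fin n) (Fin n) F) = x := by
    intro g x; simp [mul_assoc]
  -- no non-zero nilpotents
  have hred : ∀ z ∈ C, IsNilpotent z → z = 0 := by
    let W : Submodule F (Fin n → F) := ⨅ z : {z // z ∈ C ∧ IsNilpotent z}, LinearMap.ker (Matrix.toLin' z.1)
    have hWmem : ∀ v, v ∈ W ↔ ∀ z ∈ C, IsNilpotent z → z *ᵥ v = 0 := by
      intro v
      simp [W, Submodule.mem_iInf, LinearMap.mem_ker, Matrix.toLin'_apply]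
    have hinv : ∀ s ∈ Cfsg.Geo.matrixSet G, W.map (Matrix.toLin' s) ≤ W := by
      rintro _ ⟨g, hg, rfl⟩ _ ⟨v, hv, rfl⟩
      rw [hWmem]
      intro z hz hzn
      have hv' := (hWmem v).1 hv (((g⁻¹ : GL (Fin n) F) : Matrix (Fin n) (Fin n) F) * z * (g : Matrix (Fin n) (Fin n) F))
        (by simpa using hconj g⁻¹ (inv_mem hg) z hz)
        (by
          obtain ⟨k, hk⟩ := hzn
          refine ⟨k, ?_⟩
          rw [Units.conj_pow' g, hk, mul_zero, zero_mul])
      have h2 := congrArg ((g : Matrix (Fin n) (Fin n) F) *ᵥ ·) hv'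
      simp only [Matrix.mulVec_mulVec, Matrix.mulVec_zero] at h2
      rw [Matrix.toLin'_apply, Matrix.mulVec_mulVec, ← h2]
      congr 1
      simp [← mul_assoc]
    rcases hirr W hinv with hW | hW
    · intro z hz hzn
      by_contra hz0
      -- commuting nilpotents have a common kernel vector
      have key : ∀ S : Finset (Matrix (Fin n) (Fin n) F), (∀ z ∈ S, z ∈ C ∧ IsNilpotent z) →
          ∃ v : Fin n → F, v ≠ 0 ∧ ∀ z ∈ S, z *ᵥ v = 0 := by
        intro S
        induction S using Finset.induction with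
        | empty =>
          intro _
          haveI : Nonempty (Fin n) := by
            by_contra hne
            rw [not_nonempty_iff] at hne
            exact hz0 (Subsingleton.elim _ _)
          exact ⟨fun _ => 1, fun h => one_ne_zero (congrFun h (Classical.arbitrary _)), by simp⟩
        | insert y S hy ih =>
          intro hS
          obtain ⟨v, hv0, hv⟩ := ih fun z hz => hS z (Finset.mem_insert_of_mem hz)
          obtain ⟨hyC, hyn⟩ := hS y (Finset.mem_insert_self y S)
          obtain ⟨k, hk⟩ := hyn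
          have hex : ∃ j, (y ^ j) *ᵥ v = 0 := ⟨k, by rw [hk, Matrix.zero_mulVec]⟩
          have hj : Nat.find hex ≠ 0 := fun h => hv0 (by simpa [h] using Nat.find_spec hex)
          refine ⟨(y ^ (Nat.find hex - 1)) *ᵥ v, Nat.find_min hex (by omega), fun z hz' => ?_⟩
          rcases Finset.mem_insert.1 hz' with rfl | hz'
          · rw [Matrix.mulVec_mulVec, ← pow_succ', Nat.sub_add_cancel (by omega)]
            exact Nat.find_spec hex
          · rw [Matrix.mulVec_mulVec, hcomm z (hS z (Finset.mem_insert_of_mem hz')).1 _ (pow_mem hyC _),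
              ← Matrix.mulVec_mulVec, hv z hz', Matrix.mulVec_zero]
      obtain ⟨v, hv0, hv⟩ := key (Finset.univ.filter fun z => z ∈ C ∧ IsNilpotent z)
        (fun z hz => (Finset.mem_filter.1 hz).2)
      have : v ∈ W := (hWmem v).2 fun y hy hyn => hv y (by simp [hy, hyn])
      rw [hW, Submodule.mem_bot] at this
      exact hv0 this
    · intro z hz hzn
      have h3 : ∀ v, z *ᵥ v = 0 := fun v => (hWmem v).1 (by rw [hW]; trivial) z hz hzn
      ext i j
      have := congrFun (h3 (Pi.single j 1)) i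
      simpa using this
  -- idempotent powers
  have hpow : ∀ z ∈ C, ∃ k, 0 < k ∧ z ^ k * z ^ k = z ^ k ∧ z * z ^ k = z := by
    intro z hz
    obtain ⟨i, j, hij, heq⟩ := Finite.exists_ne_map_eq_of_infinite fun k : ℕ => z ^ k
    wlog hlt : i < j generalizing i j
    · exact this j i hij.symm heq.symm (by omega)
    have hper : ∀ c m, i ≤ m → z ^ (m + c * (j - i)) = z ^ m := by
      intro c
      induction c with
      | zero => simp
      | succ c ih =>
        intro m hm
        rw [show m + (c + 1) * (j - i) = (m - i + c * (j - i)) + j by rw [add_mul, one_mul]; omega,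
          pow_add, ← show z ^ i = z ^ j from heq, ← pow_add,
          show m - i + c * (j - i) + i = m + c * (j - i) by omega]
        exact ih m hm
    set k := (i + 1) * (j - i) with hk
    have hik : i ≤ k := le_trans (Nat.le_succ i) (Nat.le_mul_of_pos_right _ (by omega))
    have hkk : z ^ k * z ^ k = z ^ k := by
      rw [← pow_add]; exact hper (i + 1) k hik
    have hk0 : 0 < k := Nat.mul_pos (by omega) (by omega)
    refine ⟨k, hk0, hkk, ?_⟩
    have hn : IsNilpotent (z - z * z ^ k) := by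
      refine ⟨k, ?_⟩
      have hc : Commute z (1 - z ^ k) := (Commute.one_right z).sub_right (Commute.self_pow z k)
      rw [← mul_one_sub, hc.mul_pow, show (1 - z ^ k) ^ k = 1 - z ^ k from
        IsIdempotentElem.pow_eq (by
          show (1 - z ^ k) * (1 - z ^ k) = 1 - z ^ k
          rw [sub_mul, mul_sub, mul_sub, one_mul, mul_one, one_mul, hkk]; abel) hk0.ne']
      rw [mul_sub, mul_one, hkk, sub_self]
    exact (sub_eq_zero.1 (hred _ (C.sub_mem hz (C.mul_mem hz (pow_mem hz k))) hn)).symm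
  -- atoms
  let E : Finset (Matrix (Fin n) (Fin n) F) :=
    Finset.univ.filter fun e => e ∈ C ∧ e * e = e ∧ e ≠ 0
  have hE : ∀ e, e ∈ E ↔ e ∈ C ∧ e * e = e ∧ e ≠ 0 := fun e => by simp [E]
  let S : Finset (Matrix (Fin n) (Fin n) F) := E.filter fun e => ∀ f ∈ E, e * f = e ∨ e * f = 0
  have hS : ∀ e, e ∈ S ↔ e ∈ E ∧ ∀ f ∈ E, e * f = e ∨ e * f = 0 := fun e => by simp [S]
  have hidem_mul : ∀ e ∈ C, ∀ f ∈ C, e * e = e → f * f = f → e * f * (e * f) = e * f := by
    intro e he f hf h1 h2
    calc e * f * (e * f) = e * (f * e) * f := by simp [mul_assoc]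
      _ = e * (e * f) * f := by rw [hcomm f hf e he]
      _ = (e * e) * (f * f) := by simp [mul_assoc]
      _ = e * f := by rw [h1, h2]
  have hatom : ∀ f ∈ E, ∃ e ∈ S, e * f = e := by
    intro f hf
    obtain ⟨e, he, hmin⟩ := Finset.exists_min_image (E.filter fun e => e * f = e)
      (fun e => Module.finrank F (LinearMap.range (Matrix.toLin' e)))
      ⟨f, Finset.mem_filter.2 ⟨hf, ((hE f).1 hf).2.1⟩⟩
    obtain ⟨heE, hef⟩ := Finset.mem_filter.1 he
    obtain ⟨heC, hee, he0⟩ := (hE e).1 heE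
    refine ⟨e, (hS e).2 ⟨heE, fun g hg => ?_⟩, hef⟩
    by_contra hne
    rw [not_or] at hne
    obtain ⟨hgC, hgg, -⟩ := (hE g).1 hg
    have hegE : e * g ∈ E.filter fun e => e * f = e := by
      refine Finset.mem_filter.2 ⟨(hE _).2 ⟨C.mul_mem heC hgC, hidem_mul e heC g hgC hee hgg, hne.2⟩, ?_⟩
      rw [mul_assoc, hcomm g hgC f ((hE f).1 hf).1, ← mul_assoc, hef]
    have h1 := hmin _ hegE
    have hle : LinearMap.range (Matrix.toLin' (e * g)) ≤ LinearMap.range (Matrix.toLin' e) := by
      rintro _ ⟨v, rfl⟩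
      exact ⟨g *ᵥ v, by simp [Matrix.toLin'_apply, Matrix.mulVec_mulVec]⟩
    have heq := Submodule.eq_of_le_of_finrank_le hle h1
    apply hne.1
    have h2 : ∀ v, (e * g) *ᵥ (e *ᵥ v) = e *ᵥ v := by
      intro v
      obtain ⟨w, hw⟩ : Matrix.toLin' e v ∈ LinearMap.range (Matrix.toLin' (e * g)) := by
        rw [heq]; exact ⟨v, rfl⟩
      rw [Matrix.toLin'_apply, Matrix.toLin'_apply] at hw
      rw [← hw, Matrix.mulVec_mulVec, hidem_mul e heC g hgC hee hgg]
    have h3 : e * g * e = e := by
      ext i j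
      have := congrFun (h2 (Pi.single j 1)) i
      rw [Matrix.mulVec_mulVec] at this
      simpa using this
    rw [mul_assoc, hcomm g hgC e heC, ← mul_assoc, hee] at h3
    exact h3
  have horth : ∀ e ∈ S, ∀ f ∈ S, e ≠ f → e * f = 0 := by
    intro e he f hf hne
    obtain ⟨heE, h1⟩ := (hS e).1 he
    obtain ⟨hfE, h2⟩ := (hS f).1 hf
    rcases h1 f hfE with h | h
    · rcases h2 e heE with h' | h'
      · exact absurd (h.symm.trans ((hcomm e ((hE e).1 heE).1 f ((hE f).1 hfE).1).trans h')) hne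
      · rw [hcomm e ((hE e).1 heE).1 f ((hE f).1 hfE).1]; exact h'
    · exact h
  have hsum : ∑ e ∈ S, e = 1 := by
    by_contra hne
    set s := ∑ e ∈ S, e with hs
    have hsC : s ∈ C := C.sum_mem fun e he => ((hE e).1 ((hS e).1 he).1).1
    have hes : ∀ e ∈ S, e * s = e := by
      intro e he
      rw [hs, Finset.mul_sum, Finset.sum_eq_single e (fun f hf hfe => horth e he f hf (Ne.symm hfe))
        (fun h => absurd he h)]
      exact ((hE e).1 ((hS e).1 he).1).2.1
    have hss : s * s = s := by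
      conv_lhs => arg 1; rw [hs]
      rw [Finset.sum_mul]
      exact Finset.sum_congr rfl hes
    have hf : (1 - s) ∈ E := (hE _).2 ⟨C.sub_mem C.one_mem hsC, by
      rw [sub_mul, mul_sub, mul_sub, one_mul, mul_one, one_mul, hss]; abel,
      sub_ne_zero.2 fun h => hne h.symm⟩
    obtain ⟨e, he, hef⟩ := hatom _ hf
    rw [mul_sub, mul_one, hes e he, sub_self] at hef
    exact ((hE e).1 ((hS e).1 he).1).2.2 hef.symm
  -- conjugation permutes atoms
  have hperm : ∀ g ∈ G, ∀ e ∈ S,
      (g : Matrix (Fin n) (Fin n) F) * e * ((g⁻¹ : GL (Fin n) F) : Matrix (Fin n) (Fin n) F) ∈ S := by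
    have hEconj : ∀ g ∈ G, ∀ e ∈ E,
        (g : Matrix (Fin n) (Fin n) F) * e * ((g⁻¹ : GL (Fin n) F) : Matrix (Fin n) (Fin n) F) ∈ E := by
      intro g hg e he
      obtain ⟨h1, h2, h3⟩ := (hE e).1 he
      refine (hE _).2 ⟨hconj g hg e h1, ?_, fun h0 => h3 ?_⟩
      · conv_rhs => rw [← h2]
        simp [mul_assoc]
      · have := congrArg (fun M => ((g⁻¹ : GL (Fin n) F) : Matrix (Fin n) (Fin n) F) * M * (g : Matrix (Fin n) (Fin n) F)) h0
        simpa [mul_assoc] using this
    intro g hg e he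
    obtain ⟨heE, hea⟩ := (hS e).1 he
    refine (hS _).2 ⟨hEconj g hg e heE, fun f hf => ?_⟩
    have hf' := hEconj g⁻¹ (inv_mem hg) f hf
    rw [inv_inv] at hf'
    have hx : (g : Matrix (Fin n) (Fin n) F) * e * ((g⁻¹ : GL (Fin n) F) : Matrix (Fin n) (Fin n) F) * f =
        (g : Matrix (Fin n) (Fin n) F) * (e * (((g⁻¹ : GL (Fin n) F) : Matrix (Fin n) (Fin n) F) * f *
          (g : Matrix (Fin n) (Fin n) F))) * ((g⁻¹ : GL (Fin n) F) : Matrix (Fin n) (Fin n) F) := by
      simp [mul_assoc]
    rcases hea _ hf' with h | h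
    · left; rw [hx, h]
    · right; rw [hx, h, mul_zero, zero_mul]
  -- only one atom
  have hone : S.card ≤ 1 := by
    by_contra hc
    push Not at hc
    let D : Fin S.card → Submodule F (Fin n → F) := fun i => LinearMap.range (Matrix.toLin' (S.equivFin.symm i).1)
    have hmemD : ∀ i v, v ∈ D i → (S.equivFin.symm i).1 *ᵥ v = v := by
      rintro i _ ⟨w, rfl⟩
      rw [Matrix.toLin'_apply, Matrix.mulVec_mulVec, ((hE _).1 ((hS _).1 (S.equivFin.symm i).2).1).2.1]
    have hstab : G ≤ Cfsg.Geo.decompositionStabilizer D := by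
      intro g hg
      let σ : Fin S.card → Fin S.card := fun i =>
        S.equivFin ⟨_, hperm g hg _ (S.equivFin.symm i).2⟩
      have hσ : Function.Injective σ := by
        intro i j hij
        apply S.equivFin.symm.injective
        apply Subtype.ext
        have := congrArg (fun M => ((g⁻¹ : GL (Fin n) F) : Matrix (Fin n) (Fin n) F) * M * (g : Matrix (Fin n) (Fin n) F))
          (congrArg Subtype.val (S.equivFin.injective hij))
        simpa [mul_assoc] using this
      refine ⟨Equiv.ofBijective σ (Finite.injective_iff_bijective.1 hσ), fun i => ?_⟩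
      simp only [D, Equiv.ofBijective_apply, σ, Equiv.symm_apply_apply]
      apply le_antisymm
      · rintro _ ⟨_, ⟨w, rfl⟩, rfl⟩
        refine ⟨(g : Matrix (Fin n) (Fin n) F) *ᵥ w, ?_⟩
        simp only [Matrix.toLin'_apply, Matrix.mulVec_mulVec]
        congr 1
        simp [mul_assoc]
      · rintro _ ⟨w, rfl⟩
        refine ⟨_, ⟨((g⁻¹ : GL (Fin n) F) : Matrix (Fin n) (Fin n) F) *ᵥ w, rfl⟩, ?_⟩
        simp only [Matrix.toLin'_apply, Matrix.mulVec_mulVec]
        congr 1
        simp [mul_assoc]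
    have hrank : ∀ i j, Module.finrank F (D i) = Module.finrank F (D j) := by
      intro i j
      let O : Finset (Fin S.card) := Finset.univ.filter fun k => ∃ g ∈ G,
        (g : Matrix (Fin n) (Fin n) F) * (S.equivFin.symm i).1 * ((g⁻¹ : GL (Fin n) F) : Matrix (Fin n) (Fin n) F) =
          (S.equivFin.symm k).1
      by_cases hj : j ∈ O
      · obtain ⟨g, hg, hgj⟩ := (Finset.mem_filter.1 hj).2
        have hinj : Function.Injective (Matrix.toLin' (g : Matrix (Fin n) (Fin n) F)) := fun x y h => by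
          simpa [Matrix.toLin'_apply, gl_mv] using congrArg (((g⁻¹ : GL (Fin n) F) : Matrix (Fin n) (Fin n) F) *ᵥ ·) h
        rw [(Submodule.equivMapOfInjective _ hinj (D i)).finrank_eq]
        suffices hmap : (D i).map (Matrix.toLin' (g : Matrix (Fin n) (Fin n) F)) = D j by rw [hmap]
        apply le_antisymm
        · rintro _ ⟨_, ⟨w, rfl⟩, rfl⟩
          refine ⟨(g : Matrix (Fin n) (Fin n) F) *ᵥ w, ?_⟩
          simp only [Matrix.toLin'_apply, Matrix.mulVec_mulVec, ← hgj]
          congr 1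
          simp [mul_assoc]
        · rintro _ ⟨w, rfl⟩
          refine ⟨_, ⟨((g⁻¹ : GL (Fin n) F) : Matrix (Fin n) (Fin n) F) *ᵥ w, rfl⟩, ?_⟩
          simp only [Matrix.toLin'_apply, Matrix.mulVec_mulVec, ← hgj]
          congr 1
          simp [mul_assoc]
      · exfalso
        let W : Submodule F (Fin n → F) := ⨆ k ∈ O, D k
        have hWinv : ∀ s ∈ Cfsg.Geo.matrixSet G, W.map (Matrix.toLin' s) ≤ W := by
          rintro _ ⟨g, hg, rfl⟩
          simp only [W, Submodule.map_iSup]
          refine iSup₂_le fun k hk => ?_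
          obtain ⟨h, hh, hhk⟩ := (Finset.mem_filter.1 hk).2
          have hk' : S.equivFin ⟨_, hperm g hg _ (S.equivFin.symm k).2⟩ ∈ O := by
            refine Finset.mem_filter.2 ⟨Finset.mem_univ _, g * h, mul_mem hg hh, ?_⟩
            rw [Equiv.symm_apply_apply]
            show _ = (g : Matrix (Fin n) (Fin n) F) * (S.equivFin.symm k).1 * ((g⁻¹ : GL (Fin n) F) : Matrix (Fin n) (Fin n) F)
            rw [← hhk]
            simp [mul_assoc, Units.val_mul]
          refine le_trans ?_ (le_iSup₂ (f := fun k _ => D k) _ hk')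
          rintro _ ⟨_, ⟨w, rfl⟩, rfl⟩
          refine ⟨(g : Matrix (Fin n) (Fin n) F) *ᵥ w, ?_⟩
          simp only [Equiv.symm_apply_apply, Matrix.toLin'_apply, Matrix.mulVec_mulVec]
          congr 1
          simp [mul_assoc]
        have hiO : i ∈ O := Finset.mem_filter.2 ⟨Finset.mem_univ _, 1, one_mem _, by simp⟩
        rcases hirr W hWinv with h | h
        · have h1 : D i = ⊥ := le_bot_iff.1 (h ▸ le_iSup₂ (f := fun k _ => D k) i hiO)
          apply ((hE _).1 ((hS _).1 (S.equivFin.symm i).2).1).2.2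
          have h2 : Matrix.toLin' (S.equivFin.symm i).1 = 0 := LinearMap.range_eq_bot.1 h1
          exact (LinearEquiv.map_eq_zero_iff _).1 h2
        · have h1 : ⊤ ≤ LinearMap.ker (Matrix.toLin' (S.equivFin.symm j).1) := by
            rw [← h]
            refine iSup₂_le fun k hk => ?_
            rintro _ ⟨w, rfl⟩
            rw [LinearMap.mem_ker, Matrix.toLin'_apply, Matrix.toLin'_apply, Matrix.mulVec_mulVec,
              horth _ (S.equivFin.symm j).2 _ (S.equivFin.symm k).2
                (fun e => hj (by rwa [← S.equivFin.symm.injective (Subtype.ext e)] at hk)),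
              Matrix.zero_mulVec]
          apply ((hE _).1 ((hS _).1 (S.equivFin.symm j).2).1).2.2
          have h2 : Matrix.toLin' (S.equivFin.symm j).1 = 0 := LinearMap.ker_eq_top.1 (top_le_iff.1 h1)
          exact (LinearEquiv.map_eq_zero_iff _).1 h2
    have i0 : Fin S.card := ⟨0, by omega⟩
    refine hprim (Module.finrank F (D i0)) S.card D (by omega) ⟨by omega, ?_, fun i => hrank i i0, ?_, ?_⟩ hstab
    · rw [Nat.pos_iff_ne_zero, Ne, Submodule.finrank_eq_zero]
      intro h
      apply ((hE _).1 ((hS _).1 (S.equivFin.symm i0).2).1).2.2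
      exact (LinearEquiv.map_eq_zero_iff _).1 (LinearMap.range_eq_bot.1 h)
    · intro i
      rw [Submodule.disjoint_def]
      intro v hv hv'
      have hle : (⨆ j, ⨆ (_ : j ≠ i), D j) ≤ LinearMap.ker (Matrix.toLin' (S.equivFin.symm i).1) := by
        refine iSup₂_le fun k hk => ?_
        rintro _ ⟨w, rfl⟩
        rw [LinearMap.mem_ker, Matrix.toLin'_apply, Matrix.toLin'_apply, Matrix.mulVec_mulVec,
          horth _ (S.equivFin.symm i).2 _ (S.equivFin.symm k).2
            (fun e => hk (S.equivFin.symm.injective (Subtype.ext e)).symm), Matrix.zero_mulVec]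
      have := hle hv'
      rwa [LinearMap.mem_ker, Matrix.toLin'_apply, hmemD i v hv] at this
    · refine eq_top_iff.2 fun v _ => ?_
      have hv : (∑ e ∈ S, e) *ᵥ v = v := by rw [hsum, Matrix.one_mulVec]
      rw [← hv, Matrix.sum_mulVec]
      refine Submodule.sum_mem _ fun e he => ?_
      refine Submodule.mem_iSup_of_mem (S.equivFin ⟨e, he⟩) ⟨v, ?_⟩
      simp [Matrix.toLin'_apply]
  -- conclude
  set z := (a : Matrix (Fin n) (Fin n) F) - 1 with hzdef
  have hzC : z ∈ C := C.sub_mem (Algebra.subset_adjoin ⟨a, ha, rfl⟩) C.one_mem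
  have hz0 : z ≠ 0 := fun h => ha1 (Units.ext (sub_eq_zero.1 h))
  obtain ⟨k, hk, hkk, hzk⟩ := hpow z hzC
  have hzkE : z ^ k ∈ E := (hE _).2 ⟨pow_mem hzC k, hkk, fun h => hz0 (by rw [← hzk, h, mul_zero])⟩
  obtain ⟨e, he, hek⟩ := hatom _ hzkE
  have he1 : e = 1 := by
    rw [← hsum, Finset.eq_singleton_iff_unique_mem.2 ⟨he, fun y hy => Finset.card_le_one.1 hone y hy e he⟩,
      Finset.sum_singleton]
  rw [he1, one_mul] at hek
  rw [eq_bot_iff]
  intro v hv
  rw [mem_fixSp] at hv
  rw [Submodule.mem_bot, ← Matrix.one_mulVec v, ← hek, show k = k - 1 + 1 by omega, pow_succ,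
    ← Matrix.mulVec_mulVec, hzdef, Matrix.sub_mulVec, Matrix.one_mulVec, hv, sub_self, Matrix.mulVec_zero]

end H42
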