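import Mathlib

/-!
Lang's theorem for GL_n: injective Frobenius-semilinear maps over an algebraically closed field have a
basis of fixed vectors.
-/

set_option autoImplicit false
set_option linter.style.haveILetI false
set_option linter.unusedSectionVars false

open Polynomial

namespace H42

variable {K : Type*} [Field K] [IsAlgClosed K] {p : ℕ} [Fact p.Prime] [CharP K p] {f : ℕ}
  {V : Type*} [AddCommGroup V] [Module K V] [FiniteDimensional K V]

/-- The auxiliary polynomials `x₀ = a₀ X ^ q`, `x_{i+1} = x_i ^ q + a_{i+1} X ^ q`. -/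
noncomputable def langPoly (q : ℕ) (a : ℕ → K) : ℕ → K[X]
  | 0 => C (a 0) * X ^ q
  | i + 1 => langPoly q a i ^ q + C (a (i + 1)) * X ^ q

lemma langPoly_natDegree (q : ℕ) (hq : 2 ≤ q) (a : ℕ → K) (ha : a 0 ≠ 0) (i : ℕ) :
    (langPoly q a i).natDegree = q ^ (i + 1) := by
  induction i with
  | zero => simp [langPoly, natDegree_C_mul_X_pow q _ ha]
  | succ i ih =>
    rw [langPoly, natDegree_add_eq_left_of_natDegree_lt]
    · rw [natDegree_pow, ih]; ring
    · rw [natDegree_pow, ih]
      refine lt_of_le_of_lt (natDegree_C_mul_X_pow_le _ _) ?_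
      have : 2 ≤ q ^ (i + 1) := le_trans hq (Nat.le_self_pow (by omega) q)
      calc q = q * 1 := (mul_one q).symm
        _ < q * q ^ (i + 1) := Nat.mul_lt_mul_of_pos_left (by omega) (by omega)

lemma langPoly_derivative (q : ℕ) (hq : (q : K) = 0) (a : ℕ → K) (i : ℕ) :
    derivative (langPoly q a i) = 0 := by
  cases i <;> simp [langPoly, derivative_pow, hq]

lemma langPoly_eval_zero (q : ℕ) (hq : q ≠ 0) (a : ℕ → K) (i : ℕ) :
    (langPoly q a i).eval 0 = 0 := by
  induction i with
  | zero => simp [langPoly, hq]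
  | succ i ih => simp [langPoly, hq, ih]

/-- An injective `q`-semilinear map on a non-zero space fixes a non-zero vector. -/
theorem exists_fixed_vector (hf : 1 ≤ f) [Nontrivial V] (φ : V →ₛₗ[iterateFrobenius K p f] V)
    (hφ : Function.Injective φ) : ∃ w : V, w ≠ 0 ∧ φ w = w := by
  classical
  have hq2 : 2 ≤ p ^ f := le_trans (Fact.out : p.Prime).two_le (Nat.le_self_pow (by omega) p)
  have hqK : ((p ^ f : ℕ) : K) = 0 := by
    rw [Nat.cast_pow, CharP.cast_eq_zero K p, zero_pow (by omega)]
  obtain ⟨v, hv⟩ := exists_ne (0 : V)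
  set u : ℕ → V := fun i => φ^[i] v with hu
  have hus : ∀ i, u (i + 1) = φ (u i) := fun i => Function.iterate_succ_apply' φ i v
  have hex : ∃ k, u k ∈ Submodule.span K (Set.range fun i : Fin k => u i) := by
    by_contra h
    push Not at h
    have hli : ∀ k, LinearIndependent K (fun i : Fin k => u i) := by
      intro k
      induction k with
      | zero => exact linearIndependent_empty_type
      | succ k ih =>
        rw [show (fun i : Fin (k + 1) => u i) = Fin.snoc (fun i : Fin k => u i) (u k) from by
          funext i; refine Fin.lastCases ?_ ?_ i <;> simp, linearIndependent_finSnoc]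
        exact ⟨ih, h k⟩
    have := (hli (Module.finrank K V + 1)).fintype_card_le_finrank
    simp at this
  set k := Nat.find hex with hk
  have hk0 : k ≠ 0 := by
    intro h
    have h1 := Nat.find_spec hex
    rw [← hk, h] at h1
    simp [hu] at h1
    exact hv h1
  obtain ⟨j, hj⟩ : ∃ j, k = j + 1 := ⟨k - 1, by omega⟩
  have hmin : ∀ m < k, u m ∉ Submodule.span K (Set.range fun i : Fin m => u i) :=
    fun m hm => Nat.find_min hex hm
  have hli : ∀ m ≤ k, LinearIndependent K (fun i : Fin m => u i) := by
    intro m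
    induction m with
    | zero => intro _; exact linearIndependent_empty_type
    | succ m ih =>
      intro hm
      rw [show (fun i : Fin (m + 1) => u i) = Fin.snoc (fun i : Fin m => u i) (u m) from by
        funext i; refine Fin.lastCases ?_ ?_ i <;> simp, linearIndependent_finSnoc]
      exact ⟨ih (by omega), hmin m (by omega)⟩
  obtain ⟨c, hc⟩ : ∃ c : Fin k → K, ∑ i, c i • u i = u k :=
    (Submodule.mem_span_range_iff_exists_fun K).1 (Nat.find_spec hex)
  set a : ℕ → K := fun i => if h : i < k then c ⟨i, h⟩ else 0 with ha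
  have hrel : u k = ∑ i ∈ Finset.range k, a i • u i := by
    rw [← hc, ← Fin.sum_univ_eq_sum_range (fun i => a i • u i) k]
    exact Finset.sum_congr rfl fun i _ => by simp [ha]
  have ha0 : a 0 ≠ 0 := by
    intro h0
    apply hmin j (by omega)
    have hroot : ∀ i, ∃ b : K, b ^ p ^ f = a (i + 1) := fun i =>
      IsAlgClosed.exists_pow_nat_eq _ (by omega)
    choose b hb using hroot
    have : φ (u j) = φ (∑ i ∈ Finset.range j, b i • u i) := by
      rw [← hus, ← hj, hrel, hj, Finset.sum_range_succ', h0, zero_smul, add_zero, map_sum]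
      exact Finset.sum_congr rfl fun i _ => by
        rw [LinearMap.map_smulₛₗ, iterateFrobenius_def, hb, hus]
    rw [hφ this]
    exact Submodule.sum_mem _ fun i hi =>
      Submodule.smul_mem _ _ (Submodule.subset_span ⟨⟨i, Finset.mem_range.1 hi⟩, rfl⟩)
  set P := langPoly (p ^ f) a j - X with hP
  have hdeg : 2 ≤ P.natDegree := by
    rw [hP, natDegree_sub_eq_left_of_natDegree_lt, langPoly_natDegree _ hq2 a ha0]
    · exact le_trans hq2 (Nat.le_self_pow (by omega) _)
    · rw [langPoly_natDegree _ hq2 a ha0, natDegree_X]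
      exact lt_of_lt_of_le hq2 (Nat.le_self_pow (by omega) _)
  have hsep : P.Separable := by
    rw [separable_def, hP, derivative_sub, langPoly_derivative _ hqK, derivative_X, zero_sub]
    exact ⟨0, -1, by ring⟩
  obtain ⟨t, ht, ht0⟩ : ∃ t, P.IsRoot t ∧ t ≠ 0 := by
    by_contra h
    push Not at h
    have hle : P.roots.toFinset ⊆ {0} := fun t ht => by
      simp only [Finset.mem_singleton]
      exact h t (Polynomial.isRoot_of_mem_roots (Multiset.mem_toFinset.1 ht))
    have h1 := Finset.card_le_card hle
    rw [Multiset.toFinset_card_of_nodup (nodup_roots hsep),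
      IsAlgClosed.card_roots_eq_natDegree, Finset.card_singleton] at h1
    omega
  set x : ℕ → K := fun i => (langPoly (p ^ f) a i).eval t with hx
  have hxj : x j = t := by
    have h1 : P.eval t = 0 := ht
    rw [hP, eval_sub, eval_X, sub_eq_zero] at h1
    exact h1
  refine ⟨∑ i ∈ Finset.range k, x i • u i, ?_, ?_⟩
  · intro h0
    rw [← Fin.sum_univ_eq_sum_range (fun i => x i • u i) k] at h0
    have := Fintype.linearIndependent_iff.1 (hli k le_rfl) (fun i => x i) h0 ⟨j, by omega⟩
    exact ht0 (hxj ▸ this)
  · rw [map_sum]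
    simp only [LinearMap.map_smulₛₗ, iterateFrobenius_def, ← hus]
    rw [hj, Finset.sum_range_succ, hxj, ← hj, hrel, Finset.smul_sum, hj, Finset.sum_range_succ',
      Finset.sum_range_succ', ← add_assoc, ← Finset.sum_add_distrib]
    congr 1
    · refine Finset.sum_congr rfl fun i _ => ?_
      simp only [hx, langPoly, eval_add, eval_pow, eval_mul, eval_C, eval_X, add_smul, smul_smul]
      rw [mul_comm (a (i + 1))]
    · simp only [hx, langPoly, eval_pow, eval_mul, eval_C, eval_X, smul_smul]
      rw [mul_comm]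

/-- The fixed vectors of an injective `q`-semilinear map span. -/
theorem span_fixed_eq_top (hf : 1 ≤ f) (φ : V →ₛₗ[iterateFrobenius K p f] V)
    (hφ : Function.Injective φ) : Submodule.span K {v : V | φ v = v} = ⊤ := by
  classical
  set W := Submodule.span K {v : V | φ v = v} with hW
  have hq2 : 2 ≤ p ^ f := le_trans (Fact.out : p.Prime).two_le (Nat.le_self_pow (by omega) p)
  have hroot : ∀ y : K, ∃ b : K, b ^ p ^ f = y := fun y => IsAlgClosed.exists_pow_nat_eq y (by omega)
  have hAS : ∀ c : K, ∃ t : K, t ^ p ^ f + c = t := by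
    intro c
    have hd : (X ^ (p ^ f) - (X - C c) : K[X]).degree ≠ 0 := by
      have h1 : (X ^ (p ^ f) - (X - C c) : K[X]).natDegree = p ^ f := by
        rw [natDegree_sub_eq_left_of_natDegree_lt, natDegree_X_pow]
        rw [natDegree_X_pow, natDegree_X_sub_C]; omega
      intro h
      rw [natDegree_eq_of_degree_eq_some (n := 0) h] at h1
      omega
    obtain ⟨t, ht⟩ := IsAlgClosed.exists_root _ hd
    exact ⟨t, by simp [Polynomial.IsRoot] at ht; linear_combination ht⟩
  have hpre : ∀ v ∈ W, ∀ c : K, ∃ w ∈ W, φ w = c • v := fun v hv => by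
    induction hv using Submodule.span_induction with
    | mem v hv =>
      intro c
      obtain ⟨b, hb⟩ := hroot c
      refine ⟨b • v, Submodule.smul_mem _ _ (Submodule.subset_span hv), ?_⟩
      rw [LinearMap.map_smulₛₗ, iterateFrobenius_def, hb, (hv : φ v = v)]
    | zero => intro c; exact ⟨0, zero_mem _, by simp⟩
    | add v w _ _ ihv ihw =>
      intro c
      obtain ⟨v', hv', h1⟩ := ihv c
      obtain ⟨w', hw', h2⟩ := ihw c
      exact ⟨v' + w', add_mem hv' hw', by rw [map_add, h1, h2, smul_add]⟩
    | smul d v _ ih =>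
      intro c
      obtain ⟨v', hv', h1⟩ := ih (c * d)
      exact ⟨v', hv', by rw [h1, smul_smul]⟩
  have hback : ∀ v, φ v ∈ W → v ∈ W := by
    intro v hv
    obtain ⟨w, hw, h⟩ := hpre _ hv 1
    rw [one_smul] at h
    rwa [← hφ h]
  have hfwd : W ≤ W.comap φ := Submodule.span_le.2 fun v (hv : φ v = v) => by
    rw [SetLike.mem_coe, Submodule.mem_comap, hv]; exact Submodule.subset_span hv
  have hsolve : ∀ v ∈ W, ∀ c : K, ∃ w ∈ W, φ w + c • v = w := fun v hv => by
    induction hv using Submodule.span_induction with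
    | mem v hv =>
      intro c
      obtain ⟨t, ht⟩ := hAS c
      refine ⟨t • v, Submodule.smul_mem _ _ (Submodule.subset_span hv), ?_⟩
      rw [LinearMap.map_smulₛₗ, iterateFrobenius_def, (hv : φ v = v), ← add_smul, ht]
    | zero => intro c; exact ⟨0, zero_mem _, by simp⟩
    | add v w _ _ ihv ihw =>
      intro c
      obtain ⟨v', hv', h1⟩ := ihv c
      obtain ⟨w', hw', h2⟩ := ihw c
      exact ⟨v' + w', add_mem hv' hw', by rw [map_add, smul_add, add_add_add_comm, h1, h2]⟩
    | smul d v _ ih =>
      intro c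
      obtain ⟨v', hv', h1⟩ := ih (c * d)
      exact ⟨v', hv', by rw [smul_smul, h1]⟩
  by_contra hne
  haveI : Nontrivial (V ⧸ W) := Submodule.Quotient.nontrivial_iff.2 hne
  have hinj : Function.Injective (W.mapQ W φ hfwd) := by
    rw [injective_iff_map_eq_zero]
    intro x hx
    obtain ⟨v, rfl⟩ := Submodule.Quotient.mk_surjective W x
    rw [Submodule.mapQ_apply, Submodule.Quotient.mk_eq_zero] at hx
    rw [Submodule.Quotient.mk_eq_zero]
    exact hback v hx
  obtain ⟨x, hx0, hx⟩ := exists_fixed_vector hf (W.mapQ W φ hfwd) hinj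
  obtain ⟨v, rfl⟩ := Submodule.Quotient.mk_surjective W x
  rw [Submodule.mapQ_apply, Submodule.Quotient.eq] at hx
  obtain ⟨w, hw, hw'⟩ := hsolve _ hx 1
  rw [one_smul] at hw'
  refine hx0 ((Submodule.Quotient.mk_eq_zero W).2 ?_)
  have hmem : v + w ∈ W := Submodule.subset_span (by
    change φ (v + w) = v + w
    conv_rhs => rw [← hw']
    rw [map_add]; abel)
  simpa using W.sub_mem hmem hw

/-- Lang's theorem for `GL_n`: `x ↦ x * (σ x)⁻¹` is surjective. -/
theorem lang_gl {ι : Type*} [Fintype ι] [DecidableEq ι] (hf : 1 ≤ f) (g : GL ι K) :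
    ∃ x : GL ι K, g = x * (Matrix.GeneralLinearGroup.map (iterateFrobenius K p f) x)⁻¹ := by
  classical
  let φ : (ι → K) →ₛₗ[iterateFrobenius K p f] (ι → K) :=
    { toFun := fun v => (g : Matrix ι ι K).mulVec fun i => iterateFrobenius K p f (v i)
      map_add' := fun v w => by rw [← Matrix.mulVec_add]; congr 1; funext i; simp
      map_smul' := fun c v => by rw [← Matrix.mulVec_smul]; congr 1; funext i; simp }
  have hφ : Function.Injective φ := fun v w h => by
    have h1 := Matrix.mulVec_injective_of_isUnit g.isUnit h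
    funext i
    exact (iterateFrobenius K p f).injective (congrFun h1 i)
  obtain ⟨s, hs, hspan, hli⟩ := exists_linearIndependent K {v : ι → K | φ v = v}
  rw [span_fixed_eq_top hf φ hφ] at hspan
  let b : Module.Basis s K (ι → K) := Module.Basis.mk hli (by rw [Subtype.range_coe, hspan])
  let e : s ≃ ι := b.indexEquiv (Pi.basisFun K ι)
  let M : Matrix ι ι K := Matrix.of fun i j => ((e.symm j : ι → K)) i
  have hM : IsUnit M := by
    rw [← Matrix.linearIndependent_cols_iff_isUnit]
    exact hli.comp _ e.symm.injective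
  refine ⟨hM.unit, ?_⟩
  rw [eq_mul_inv_iff_mul_eq]
  apply Units.ext
  ext i j
  exact congrFun (hs (e.symm j).2) i

end H42
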