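import Mathlib
import Cfsg.Prelude.Def_GeometricClasses
import Cfsg.Agent.H61.DecompBlock
import Cfsg.Agent.H61.MonomialMax

/-!
Geometric maximal subgroups of `SL_n`, `10 ≤ n`.
-/

set_option autoImplicit false
open Cfsg

namespace H42.LinGenDecomp


open scoped Matrix

open Matrix in
theorem exists_adapted {F : Type*} [Field F] {n t m : ℕ} {D : Fin t → Submodule F (Fin n → F)}
    (hD : Cfsg.Geo.IsMDecomposition m D) :
    ∃ (e : Fin n ≃ (_ : Fin t) × Fin m) (P : GL (Fin n) F),
      (∀ x, P.val *ᵥ Pi.single x 1 ∈ D (e x).1) ∧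
      ∀ i, ∀ v ∈ D i, ∀ r, (e r).1 ≠ i → (P⁻¹.val *ᵥ v) r = 0 := by
  classical
  have hI : DirectSum.IsInternal D :=
    DirectSum.isInternal_submodule_of_iSupIndep_of_iSup_eq_top hD.indep hD.iSup_eq_top
  let bas : ∀ i, Module.Basis (Fin m) F (D i) := fun i =>
    (Module.finBasisOfFinrankEq F (D i) (hD.finrank_eq i))
  let C := hI.collectedBasis bas
  have hcard : Fintype.card (Fin n) = Fintype.card ((_ : Fin t) × Fin m) := by
    rw [← Module.finrank_eq_card_basis C, Module.finrank_fintype_fun_eq_card]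
  let e : Fin n ≃ (_ : Fin t) × Fin m := Fintype.equivOfCardEq hcard
  let B : Module.Basis (Fin n) F (Fin n → F) := C.reindex e.symm
  let P : GL (Fin n) F := ⟨(Pi.basisFun F (Fin n)).toMatrix B, B.toMatrix (Pi.basisFun F (Fin n)),
    Module.Basis.toMatrix_mul_toMatrix_flip _ _, Module.Basis.toMatrix_mul_toMatrix_flip _ _⟩
  have hP : ∀ x, P.val *ᵥ Pi.single x 1 = B x := fun x => by
    rw [Matrix.mulVec_single_one]
    ext r
    simp [P, Module.Basis.toMatrix_apply]
  have hB : ∀ x, B x = (bas (e x).1 (e x).2 : Fin n → F) := fun x => by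
    rw [Module.Basis.reindex_apply, Equiv.symm_symm]
    exact congrFun (hI.collectedBasis_coe bas) (e x)
  refine ⟨e, P, fun x => by rw [hP, hB]; exact Submodule.coe_mem _, fun i v hv r hr => ?_⟩
  have hsum : v = ∑ k, (bas i).repr ⟨v, hv⟩ k • (bas i k : Fin n → F) := by
    conv_lhs => rw [show v = ((⟨v, hv⟩ : D i) : Fin n → F) from rfl, ← (bas i).sum_repr ⟨v, hv⟩]
    rw [Submodule.coe_sum]
    rfl
  rw [hsum, Matrix.mulVec_sum, Finset.sum_apply]
  refine Finset.sum_eq_zero fun k _ => ?_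
  have h1 : (bas i k : Fin n → F) = P.val *ᵥ Pi.single (e.symm ⟨i, k⟩) 1 := by
    rw [hP, hB, Equiv.apply_symm_apply]
  rw [Matrix.mulVec_smul, h1, Matrix.mulVec_mulVec, ← Units.val_mul, inv_mul_cancel, Units.val_one,
    Matrix.one_mulVec, Pi.smul_apply, Pi.single_eq_of_ne, smul_zero]
  intro h
  exact hr (by rw [h, Equiv.apply_symm_apply])

/-- The stabiliser is maximal in `SL_n` from dimension ten on. -/
theorem maximal {F : Type*} [Field F] [Fintype F] (n : ℕ) (hn : 10 ≤ n) {t : ℕ} (m : ℕ) (D : Fin t → Submodule F (Fin n → F)) (hD : Cfsg.Geo.IsMDecomposition m D) (h1 : ¬ (m = 1 ∧ Fintype.card F ≤ 4)) (h2 : ¬ (m = 2 ∧ Fintype.card F = 2)) : Cfsg.Geo.IsMaximalIn (Cfsg.Geo.specialLinear (Fin n) F) (Cfsg.Geo.decompositionStabilizer D ⊓ Cfsg.Geo.specialLinear (Fin n) F) := by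
  classical
  obtain ⟨e, P, hP, hPi⟩ := exists_adapted hD
  have ht := hD.two_le
  have hm := hD.pos
  have hnt : n = t * m := by simpa using Fintype.card_congr e
  set N := Cfsg.Geo.decompositionStabilizer D ⊓ Cfsg.Geo.specialLinear (Fin n) F with hN
  have hdet : ∀ g : GL (Fin n) F, g ∈ Cfsg.Geo.specialLinear (Fin n) F ↔ g.val.det = 1 := fun g => by
    rw [Cfsg.Geo.specialLinear, MonoidHom.mem_ker, Units.ext_iff, Matrix.GeneralLinearGroup.val_det_apply,
      Units.val_one]
  have hdc : ∀ g : GL (Fin n) F, (P * g * P⁻¹).val.det = g.val.det := fun g => by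
    rw [Units.val_mul, Units.val_mul, Matrix.det_mul, Matrix.det_mul, mul_right_comm, ← Matrix.det_mul,
      ← Units.val_mul, mul_inv_cancel, Units.val_one, Matrix.det_one, one_mul]
  have hcol : ∀ (g : GL (Fin n) F) c r,
      (P⁻¹.val *ᵥ ((P * g * P⁻¹).val *ᵥ (P.val *ᵥ Pi.single c 1))) r = g.val r c := fun g c r => by
    rw [Matrix.mulVec_mulVec, Matrix.mulVec_mulVec, ← Units.val_mul, ← Units.val_mul,
      show P⁻¹ * (P * g * P⁻¹) * P = g by group, Matrix.mulVec_single_one]
    rfl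
  have hinto : ∀ g : GL (Fin n) F, P * g * P⁻¹ ∈ N → H61.Block.IsBlock e g := by
    intro g hg
    obtain ⟨σ, hσ⟩ := (Subgroup.mem_inf.mp hg).1
    refine ⟨σ, fun r c hrc => ?_⟩
    have h' : (P * g * P⁻¹).val *ᵥ (P.val *ᵥ Pi.single c 1) ∈ D (σ (e c).1) := by
      rw [← hσ]
      exact ⟨_, hP c, Matrix.toLin'_apply _ _⟩
    rw [← hcol g c r]
    exact hPi _ _ h' r hrc
  have hback : ∀ g : GL (Fin n) F, H61.Block.IsBlock e g → g.val.det = 1 → P * g * P⁻¹ ∈ N := by
    rintro g ⟨σ, hσ⟩ hg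
    set h := P * g * P⁻¹ with hh
    have hmap : ∀ i, (D i).map (Matrix.toLin' (h : Matrix (Fin n) (Fin n) F)) ≤ D (σ i) := by
      rintro i _ ⟨v, hv, rfl⟩
      rw [Matrix.toLin'_apply, hh, Units.val_mul, Units.val_mul, ← Matrix.mulVec_mulVec, ← Matrix.mulVec_mulVec,
        pi_eq_sum_univ' (g.val *ᵥ (P⁻¹.val *ᵥ v)), Matrix.mulVec_sum]
      refine Submodule.sum_mem _ fun r _ => ?_
      rw [Matrix.mulVec_smul]
      by_cases hr : (e r).1 = σ i
      · exact Submodule.smul_mem _ _ (hr ▸ hP r)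
      · have h0 : (g.val *ᵥ (P⁻¹.val *ᵥ v)) r = 0 := by
          show ∑ x, g.val r x * (P⁻¹.val *ᵥ v) x = 0
          refine Finset.sum_eq_zero fun x _ => ?_
          by_cases hx : (e x).1 = i
          · show g.val r x * _ = 0
            rw [hσ r x (hx ▸ hr), zero_mul]
          · show _ * (P⁻¹.val *ᵥ v) x = 0
            rw [hPi i v hv x hx, mul_zero]
        rw [h0, zero_smul]
        exact zero_mem _
    have hsurj : Function.Surjective σ := by
      intro k
      by_contra hk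
      push Not at hk
      have htop : (⊤ : Submodule F (Fin n → F)) ≤ ⨆ j, ⨆ (_ : j ≠ k), D j := by
        have hsur : LinearMap.range (Matrix.toLin' (h : Matrix (Fin n) (Fin n) F)) = ⊤ :=
          LinearMap.range_eq_top.mpr fun y => ⟨h⁻¹.val *ᵥ y, by rw [Matrix.toLin'_apply, H49.gl_mulVec_inv]⟩
        rw [← hsur, LinearMap.range_eq_map, ← hD.iSup_eq_top, Submodule.map_iSup]
        exact iSup_le fun i => (hmap i).trans (le_iSup₂_of_le (σ i) (hk i) le_rfl)
      have : D k = ⊥ := disjoint_self.mp ((hD.indep k).mono_right (le_top.trans htop))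
      have h0 := hD.finrank_eq k
      rw [this, finrank_bot] at h0
      omega
    refine Subgroup.mem_inf.mpr ⟨⟨Equiv.ofBijective σ ⟨Finite.injective_iff_surjective.mpr hsurj, hsurj⟩,
      fun i => ?_⟩, (hdet _).mpr (by rw [hdc, hg])⟩
    refine Submodule.eq_of_le_of_finrank_eq (hmap i) ?_
    have hinj : Function.Injective (Matrix.toLin' (h : Matrix (Fin n) (Fin n) F)) := fun x y hxy => by
      rw [Matrix.toLin'_apply, Matrix.toLin'_apply] at hxy
      exact H49.gl_mulVec_injective h hxy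
    rw [← (Submodule.equivMapOfInjective _ hinj (D i)).finrank_eq]
    exact (hD.finrank_eq i).trans (hD.finrank_eq _).symm
  refine ⟨lt_of_le_of_ne inf_le_right fun heq => ?_, fun M hle hMS => ?_⟩
  · -- the stabiliser is proper
    have x0 : Fin n := e.symm ⟨⟨0, by omega⟩, ⟨0, hm⟩⟩
    obtain ⟨x, y, hxy⟩ : ∃ x y, (e x).1 ≠ (e y).1 :=
      ⟨e.symm ⟨⟨0, by omega⟩, ⟨0, hm⟩⟩, e.symm ⟨⟨1, by omega⟩, ⟨0, hm⟩⟩, by simp⟩
    have hne : x ≠ y := fun h => hxy (by rw [h])
    have hmem : P * H49.elem x y hne 1 * P⁻¹ ∈ N := by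
      rw [heq, hdet, hdc]
      exact H61.Block.tr_det _ _ _
    obtain ⟨σ, hσ⟩ := hinto _ hmem
    have a1 : (e x).1 = σ (e y).1 := by
      by_contra h
      have := hσ x y h
      rw [show H49.elem x y hne (1 : F) = H49.tr (Pi.single x 1) (Pi.single y 1) (by simp [hne]) from rfl,
        H61.Block.tr_val_apply] at this
      simp [hne] at this
    have a2 : (e y).1 = σ (e y).1 := by
      by_contra h
      have := hσ y y h
      rw [show H49.elem x y hne (1 : F) = H49.tr (Pi.single x 1) (Pi.single y 1) (by simp [hne]) from rfl,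
        H61.Block.tr_val_apply] at this
      simp [hne.symm] at this
    exact hxy (a1.trans a2.symm)
  rcases hle.eq_or_lt with h | h
  · exact Or.inl h.symm
  refine Or.inr (le_antisymm hMS ?_)
  obtain ⟨g0, hg0M, hg0N⟩ := SetLike.exists_of_lt h
  let X : Subgroup (GL (Fin n) F) := M.comap (MulAut.conj P).toMonoidHom
  have hX : ∀ g, g ∈ X ↔ P * g * P⁻¹ ∈ M := fun g => Iff.rfl
  set g := P⁻¹ * g0 * P with hg
  have hconj : P * g * P⁻¹ = g0 := by rw [hg]; group
  have hgX : g ∈ X := by rw [hX, hconj]; exact hg0M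
  have hgb : ¬ H61.Block.IsBlock e g := fun hb => by
    refine hg0N (hconj ▸ hback g hb ?_)
    rw [← hdc, hconj]
    exact (hdet _).mp (hMS hg0M)
  have hBX : H61.Block.HasBlock e X := fun g hb hg' => (hX g).mpr (hle (hback g hb hg'))
  have hfull : H61.Monomial.Full X := by
    rcases Nat.lt_or_ge m 2 with h1m | h2m
    · have hm1 : m = 1 := by omega
      subst hm1
      have hbij : ∀ a b : Fin n, (e a).1 = (e b).1 → a = b := fun a b h =>
        e.injective (Sigma.ext h (heq_of_eq (Subsingleton.elim _ _)))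
      refine H61.Monomial.full_of_not_mono hn (by by_contra hq; exact h1 ⟨rfl, by omega⟩) (fun g hg hgd => ?_)
        hgX (fun hm' => hgb ?_)
      · refine hBX g ?_ hgd
        obtain ⟨σ, hσ⟩ := hg
        exact ⟨fun i => (e (σ (e.symm ⟨i, 0⟩))).1, fun r c hrc => hσ r c fun h' => hrc (by
          beta_reduce; rw [h', hbij (e.symm ⟨(e c).1, 0⟩) c (by rw [Equiv.apply_symm_apply])])⟩
      · obtain ⟨σ, hσ⟩ := hm'
        exact ⟨fun i => (e (σ (e.symm ⟨i, 0⟩))).1, fun r c hrc => hσ r c fun h' => hrc (by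
          beta_reduce; rw [h', hbij (e.symm ⟨(e c).1, 0⟩) c (by rw [Equiv.apply_symm_apply])])⟩
    · refine H61.Block.full_of_not_block hn h2m (fun hm2 => ?_) hBX hgX hgb
      have hq := Fintype.one_lt_card (α := F)
      by_contra hq3
      exact h2 ⟨hm2, by omega⟩
  intro x hx
  haveI : Nontrivial (Fin n) := Fin.nontrivial_iff_two_le.mpr (by omega)
  have := H49.sl_le_of_elem_mem X hfull (P⁻¹ * x * P) (by
    rw [← hdc, show P * (P⁻¹ * x * P) * P⁻¹ = x by group]; exact (hdet x).mp hx)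
  rwa [hX, show P * (P⁻¹ * x * P) * P⁻¹ = x by group] at this

end H42.LinGenDecomp
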