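import Mathlib
import Cfsg.Prelude.Def_GeometricClasses
import Cfsg.Agent.H42.ExtFieldMax

/-!
Extension-field normalisers are maximal in `SL_n` for prime degree `r < n`.
-/

set_option autoImplicit false

namespace H42.LinGenField

theorem maximal {F : Type*} [Field F] [Fintype F] (n r : ℕ) (hr : r.Prime) (hlt : r < n)
    (K : Subalgebra F (Matrix (Fin n) (Fin n) F)) (hK : Cfsg.Geo.IsFieldSubalgebra r K) :
    Cfsg.Geo.IsMaximalIn (Cfsg.Geo.specialLinear (Fin n) F)
      (Cfsg.Geo.subalgebraNormalizer K ⊓ Cfsg.Geo.specialLinear (Fin n) F) := by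
  obtain ⟨g, hgSL, -, hgN⟩ := H42.exists_centralizing_not_normalizing (F := F) hlt K hK ⊥ (by
    refine lt_of_le_of_ne bot_le fun h => ?_
    have h1 := hK.finrank_eq
    haveI : NeZero n := ⟨by omega⟩
    rw [← h, Subalgebra.finrank_bot] at h1
    exact hr.ne_one h1.symm)
  refine ⟨lt_of_le_of_ne inf_le_right fun h => hgN ((h.symm ▸ hgSL : g ∈
    Cfsg.Geo.subalgebraNormalizer K ⊓ Cfsg.Geo.specialLinear (Fin n) F)).1, fun M hM1 hM2 => ?_⟩
  rcases H42.ExtField.sl_le_or_le_normalizer hr hlt K hK M hM1 with h | h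
  · exact Or.inr (le_antisymm hM2 h)
  · exact Or.inl (le_antisymm (le_inf h hM2) hM1)

end H42.LinGenField
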