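import Mathlib
import Cfsg.Prelude.Def_GeometricClasses
import Cfsg.Agent.H61.OrthSimElem

/-!
Geometric maximal subgroups of `SL_n`, `10 ≤ n`.
-/

set_option autoImplicit false
open Cfsg

namespace H42.LinGenOrth


open scoped Matrix

/-- The stabiliser is maximal in `SL_n` from dimension ten on. -/
theorem maximal {F : Type*} [Field F] [Fintype F] (n : ℕ) (hn : 10 ≤ n) (hodd : Odd (Fintype.card F)) (Q : (Fin n → F) → F) (hQ : Cfsg.Geo.IsNondegenerateQuadraticForm Q) : Cfsg.Geo.IsMaximalIn (Cfsg.Geo.specialLinear (Fin n) F) (Cfsg.Geo.quadSimilarityGroup Q ⊓ Cfsg.Geo.specialLinear (Fin n) F) := by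
  haveI : Nontrivial (Fin n) := Fin.nontrivial_iff_two_le.mpr (by omega)
  have h2 : (2 : F) ≠ 0 := Ring.two_ne_zero fun h => by
    have := FiniteField.even_card_of_char_two h
    rw [Nat.odd_iff] at hodd
    omega
  set B := QuadraticMap.polar Q with hBdef
  have hbil := hQ.polar_bilinear
  have hQB : ∀ v, B v v = 2 * Q v := fun v => by
    show Q (v + v) - Q v - Q v = 2 * Q v
    rw [← two_smul F v, hQ.smul]; ring
  have hf : H61.OrthSim.SymForm B :=
    ⟨hbil.add_left, hbil.smul_left, fun x y => QuadraticMap.polar_comm Q x y,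
      fun v hv => (hQ.nondegenerate v hv).1, h2⟩
  have hsim : Cfsg.Geo.quadSimilarityGroup Q = Cfsg.Geo.similarityGroup B := by
    ext g
    constructor
    · rintro ⟨c, hc⟩
      refine ⟨c, fun u v => ?_⟩
      show Q (g.val *ᵥ u + g.val *ᵥ v) - Q (g.val *ᵥ u) - Q (g.val *ᵥ v) = (c : F) * (Q (u + v) - Q u - Q v)
      rw [← Matrix.mulVec_add, hc, hc, hc]; ring
    · rintro ⟨c, hc⟩
      refine ⟨c, fun v => ?_⟩
      have := hc v v
      rw [hQB, hQB] at this
      exact mul_left_cancel₀ h2 (by rw [this]; ring)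
  set N := Cfsg.Geo.quadSimilarityGroup Q ⊓ Cfsg.Geo.specialLinear (Fin n) F with hN
  have hmem : ∀ g : GL (Fin n) F, g.val.det = 1 → (∀ x y, B (g.val *ᵥ x) (g.val *ᵥ y) = B x y) → g ∈ N := by
    intro g hg hi
    refine Subgroup.mem_inf.mpr ⟨?_, ?_⟩
    · rw [hsim]
      exact ⟨1, fun x y => by rw [hi, Units.val_one, one_mul]⟩
    · show Matrix.GeneralLinearGroup.det g = 1
      exact Units.ext hg
  refine ⟨lt_of_le_of_ne inf_le_right fun heq => ?_, fun M hle hMS => ?_⟩
  · -- a transvection that is not a similarity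
    obtain ⟨e, f, he, hff, hef, -⟩ := H61.OrthSim.exists_hyp hf hn (k := 0) (by omega) ![]
    obtain ⟨φ, hφ⟩ := H61.OrthSim.exists_phi hf e
    have h1 : φ ⬝ᵥ e = 0 := by rw [hφ, he]
    have hg : H49.tr e φ h1 ∈ N := by rw [heq]; exact H49.tr_mem_SL _ _ _
    rw [hN, hsim] at hg
    obtain ⟨⟨c, hc⟩, -⟩ := hg
    have hfe : B f e = 1 := by rw [hf.symm, hef]
    have h := hc f f
    rw [H49.tr_mulVec, hφ, hfe, one_smul, hf.add_left, H61.OrthSim.add_right hf,
      H61.OrthSim.add_right hf, he, hff, hef, hfe] at h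
    exact h2 (by linear_combination h)
  by_cases hs : M ≤ Cfsg.Geo.quadSimilarityGroup Q
  · exact Or.inl (le_antisymm (le_inf hs hMS) hle)
  obtain ⟨g, hg, hns⟩ := SetLike.not_le_iff_exists.mp hs
  rw [hsim] at hns
  have hM : H61.OrthSim.HasOrth B M := by
    refine ⟨fun z w hz hw hzw => ?_, fun a u v ha => ?_⟩
    · obtain ⟨T, hd, hi, he⟩ := H61.OrthSim.exists_root hf z w hz hw hzw
      exact ⟨T, hle (hmem T hd hi), he⟩
    · obtain ⟨T, hd, hi, he⟩ := H61.OrthSim.exists_refl_pair hf hn a u v ha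
      exact ⟨T, hle (hmem T hd hi), hi, he⟩
  refine Or.inr (le_antisymm hMS fun s hs' => ?_)
  exact H49.sl_le_of_elem_mem M (H61.OrthSim.full_of_not_similar hf hn hM hg hns) s
    (congrArg Units.val (show Matrix.GeneralLinearGroup.det s = 1 from hs'))

end H42.LinGenOrth
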