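import Cfsg.Agent.H42.TensorMax

/-!
Maximality of the tensor product group: the column intersection argument.
-/

set_option autoImplicit false
set_option linter.unusedSectionVars false

namespace H42.TensorMax

open scoped Kronecker MatrixGroups Matrix

variable {F : Type*} [Field F] {I J : Type} [Fintype I] [DecidableEq I] [Fintype J] [DecidableEq J]
  {H : Subgroup (GL (I × J) F)} (hS : Small H)
include hS

theorem Small.nonempty : Nonempty I ∧ Nonempty J := by
  have := hS.two_le; have := hS.lt
  exact ⟨Fintype.card_pos_iff.1 (by omega), Fintype.card_pos_iff.1 (by omega)⟩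

/-- Tensor elements of `H` move columns transitively. -/
theorem Small.exists_move (j₀ : J) {v : J → F} (hv : v ≠ 0) :
    ∃ g ∈ H, IsT g ∧
      ∀ x, (g : Matrix (I × J) (I × J) F) *ᵥ col (Pi.single j₀ 1) x ∈ W (I := I) v := by
  set e : J → F := Pi.single j₀ 1 with he
  have he0 : e ≠ 0 := by simp [he]
  by_cases hpar : ∃ c : F, v = c • e
  · obtain ⟨c, hc⟩ := hpar
    have hc0 : c ≠ 0 := by rintro rfl; exact hv (by rw [hc, zero_smul])
    refine ⟨1, one_mem H, ⟨1, 1, by simp⟩, fun x => ⟨c⁻¹ • x, ?_⟩⟩
    rw [Units.val_one, Matrix.one_mulVec, hc, col_smul, smul_smul, mul_inv_cancel₀ hc0, one_smul]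
  · obtain ⟨g, hg, -, hge⟩ := H42.exists_specialLinear_fix_move (⊥ : Submodule F (J → F)) e (v - e) (by
      rw [bot_sup_eq, Submodule.mem_span_singleton]
      rintro ⟨t, ht⟩
      apply hpar
      have ht0 : t ≠ 0 := by rintro rfl; exact he0 (by rw [← ht, zero_smul])
      refine ⟨t⁻¹ + 1, ?_⟩
      have h1 : t⁻¹ • e = v - e := by
        conv_lhs => rw [← ht]
        rw [smul_smul, inv_mul_cancel₀ ht0, one_smul]
      rw [add_smul, one_smul, h1, sub_add_cancel])
    rw [Cfsg.Geo.specialLinear, MonoidHom.mem_ker] at hg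
    have hdet : (g : Matrix J J F).det = 1 := by
      rw [← Matrix.GeneralLinearGroup.val_det_apply, hg, Units.val_one]
    obtain ⟨k, hk, hke, -⟩ := hS.ov.one_add_tensor (one_mul (1 : Matrix I I F))
      (show (g : Matrix J J F) * ((g⁻¹ : GL J F) : Matrix J J F) = 1 by
        rw [← Units.val_mul, mul_inv_cancel, Units.val_one])
      (by rw [Matrix.det_kronecker, hdet, Matrix.det_one]; simp)
    refine ⟨k, hk, ⟨_, _, hke⟩, fun x => ⟨x, ?_⟩⟩
    rw [hke, kron_mulVec_col, Matrix.one_mulVec, hge, add_sub_cancel]

/-- An element mapping a column onto a column is tensor. -/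
theorem Small.isT_of_map {h : GL (I × J) F} (hh : h ∈ H) {u v : J → F} (hu : u ≠ 0) (hv : v ≠ 0)
    (hW : ∀ w ∈ W (I := I) v, (h : Matrix (I × J) (I × J) F) *ᵥ w ∈ W (I := I) u) : IsT h := by
  obtain ⟨hI, ⟨j₀⟩⟩ := hS.nonempty
  haveI : Nonempty J := ⟨j₀⟩
  haveI := hI
  set e : J → F := Pi.single j₀ 1 with he
  have he0 : e ≠ 0 := by simp [he]
  obtain ⟨a, ha, haT, hae⟩ := hS.exists_move j₀ hv
  obtain ⟨b, hb, hbT, hbe⟩ := hS.exists_move j₀ hu
  have hbinv : ∀ w ∈ W (I := I) u, ((b⁻¹ : GL (I × J) F) : Matrix (I × J) (I × J) F) *ᵥ w ∈ W (I := I) e := by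
    intro w hw
    have hle : (W (I := I) e).map (Matrix.toLin' (b : Matrix (I × J) (I × J) F)) ≤ W u := by
      rintro _ ⟨_, ⟨y, rfl⟩, rfl⟩
      exact hbe y
    have heq := Submodule.eq_of_le_of_finrank_eq hle (by
      rw [← (Submodule.equivMapOfInjective (Matrix.toLin' (b : Matrix (I × J) (I × J) F))
        (Matrix.mulVec_injective_of_isUnit b.isUnit) (W (I := I) e)).finrank_eq, finrank_W hu, finrank_W he0])
    obtain ⟨w', hw', hwe⟩ := heq.ge hw
    rw [Matrix.toLin'_apply] at hwe
    rw [← hwe, Matrix.mulVec_mulVec, ← Units.val_mul, inv_mul_cancel, Units.val_one, Matrix.one_mulVec]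
    exact hw'
  have h1 : IsT (b⁻¹ * h * a) := by
    refine hS.isT_of_stab j₀ (mul_mem (mul_mem (inv_mem hb) hh) ha) fun x => ?_
    rw [Units.val_mul, Units.val_mul, ← Matrix.mulVec_mulVec, ← Matrix.mulVec_mulVec]
    exact hbinv _ (hW _ (hae x))
  have : h = b * (b⁻¹ * h * a) * a⁻¹ := by group
  rw [this]
  exact (hbT.mul h1).mul haT.inv

/-- A root element conjugated into the tensor group comes from a tensor element. -/
theorem Small.root_conj {h : GL (I × J) F} (hh : h ∈ H) {v φ : J → F} (hv : v ≠ 0) (hφ : φ ≠ 0)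
    {r : GL (I × J) F}
    (hr : (r : Matrix (I × J) (I × J) F) = 1 + (1 : Matrix I I F) ⊗ₖ Matrix.vecMulVec v φ)
    (hT : IsT (h * r * h⁻¹)) : IsT h := by
  obtain ⟨hI, hJ⟩ := hS.nonempty
  haveI := hI
  haveI := hJ
  set h' : Matrix (I × J) (I × J) F := (h : Matrix (I × J) (I × J) F) with hh'
  set U : Submodule F (I × J → F) := (W (I := I) v).map (Matrix.toLin' h') with hU
  have hinj : Function.Injective (Matrix.toLin' h') := Matrix.mulVec_injective_of_isUnit h.isUnit
  have hUrank : Module.finrank F U = Fintype.card I := by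
    rw [hU, ← (Submodule.equivMapOfInjective _ hinj (W (I := I) v)).finrank_eq, finrank_W hv]
  obtain ⟨x, y, hxy⟩ := hT
  have hA : ∀ w, (x ⊗ₖ y) *ᵥ w - w ∈ U := by
    intro w
    refine ⟨_, ⟨ctr φ (((h⁻¹ : GL (I × J) F) : Matrix (I × J) (I × J) F) *ᵥ w), rfl⟩, ?_⟩
    rw [Matrix.toLin'_apply, ← root_mulVec v φ, ← hxy, Units.val_mul, Units.val_mul, hr, mul_add, mul_one,
      add_mul, ← Units.val_mul, mul_inv_cancel, Units.val_one, Matrix.add_mulVec, Matrix.one_mulVec,
      add_sub_cancel_left, ← Matrix.mulVec_mulVec, ← Matrix.mulVec_mulVec, hh']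
  have hd : ((h * r * h⁻¹ : GL (I × J) F) : Matrix (I × J) (I × J) F).det ≠ 0 :=
    ((Matrix.isUnit_iff_isUnit_det _).1 (h * r * h⁻¹).isUnit).ne_zero
  rw [hxy, Matrix.det_kronecker] at hd
  have hy : y.det ≠ 0 := fun e => hd (by rw [e, zero_pow Fintype.card_ne_zero, mul_zero])
  have hyinj : Function.Injective (y *ᵥ ·) :=
    Matrix.mulVec_injective_of_isUnit ((Matrix.isUnit_iff_isUnit_det _).2 (isUnit_iff_ne_zero.2 hy))
  by_cases hx : ∃ t : F, x = t • 1
  · obtain ⟨t, rfl⟩ := hx
    set N : Matrix J J F := t • y - 1 with hN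
    have hNA : ((t • (1 : Matrix I I F)) ⊗ₖ y) = (1 : Matrix I I F) ⊗ₖ N + 1 := by
      rw [hN, ← Matrix.one_kronecker_one (α := F) (m := I) (n := J), ← Matrix.kronecker_add, sub_add_cancel,
        Matrix.smul_kronecker, Matrix.kronecker_smul]
    have hN0 : N ≠ 0 := by
      intro e
      have h1 : h * r * h⁻¹ = 1 := by
        apply Units.ext
        rw [hxy, hNA, e, Matrix.kronecker_zero, zero_add, Units.val_one]
      have h2 : (r : Matrix (I × J) (I × J) F) = 1 := by rw [conj_eq_one_iff.1 h1, Units.val_one]
      rw [hr, add_eq_left] at h2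
      obtain ⟨i⟩ := hI
      obtain ⟨a, ha⟩ := Function.ne_iff.1 hv
      obtain ⟨c, hc⟩ := Function.ne_iff.1 hφ
      have := congrFun (congrFun h2 (i, a)) (i, c)
      simp only [Pi.zero_apply] at ha hc
      rw [Matrix.kroneckerMap_apply, Matrix.one_apply_eq, one_mul, Matrix.vecMulVec_apply, Matrix.zero_apply] at this
      exact mul_ne_zero ha hc this
    obtain ⟨f, hf⟩ : ∃ f, N *ᵥ f ≠ 0 := by
      by_contra hcon
      push_neg at hcon
      exact hN0 (Matrix.ext_of_mulVec_single fun j => by rw [hcon, Matrix.zero_mulVec])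
    set u := N *ᵥ f with hu
    have hWU : W (I := I) u ≤ U := by
      rintro _ ⟨z, rfl⟩
      have := hA (col f z)
      rwa [hNA, Matrix.add_mulVec, Matrix.one_mulVec, add_sub_cancel_right, kron_mulVec_col,
        Matrix.one_mulVec] at this
    have hEq : W (I := I) u = U := Submodule.eq_of_le_of_finrank_eq hWU (by rw [hUrank, finrank_W hf])
    exact hS.isT_of_map hh hf hv fun w hw => hEq ▸ ⟨w, hw, by rw [Matrix.toLin'_apply, hh']⟩
  · exfalso
    obtain ⟨z, hz⟩ : ∃ z : I → F, ∀ f : J → F, col (y *ᵥ f) (x *ᵥ z) - col f z = 0 → f = 0 := by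
      by_cases hoff : ∃ a b, a ≠ b ∧ x a b ≠ 0
      · obtain ⟨a, b, hab, hxab⟩ := hoff
        refine ⟨Pi.single b 1, fun f hf => hyinj ?_⟩
        show y *ᵥ f = y *ᵥ 0
        funext j
        have := congrFun hf (a, j)
        simp [col, hab, hxab] at this
        simp [this]
      · push_neg at hoff
        obtain ⟨a, b, hab, hne⟩ : ∃ a b, a ≠ b ∧ x a a ≠ x b b := by
          by_contra hcon
          push_neg at hcon
          obtain ⟨i₀⟩ := hI
          refine hx ⟨x i₀ i₀, Matrix.ext fun i j => ?_⟩
          rcases eq_or_ne i j with rfl | hij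
          · rcases eq_or_ne i i₀ with rfl | hi
            · simp
            · simp [hcon i i₀ hi]
          · simp [hij, hoff i j hij]
        refine ⟨Pi.single a 1 + Pi.single b 1, fun f hf => hyinj ?_⟩
        show y *ᵥ f = y *ᵥ 0
        rw [Matrix.mulVec_zero]
        funext j
        have h1 := congrFun hf (a, j)
        have h2 := congrFun hf (b, j)
        simp [col, Matrix.mulVec_add, hab, hab.symm, hoff a b hab, hoff b a hab.symm] at h1 h2
        rw [Pi.zero_apply]
        have h3 : (x a a - x b b) * (y *ᵥ f) j = 0 := by linear_combination h1 - h2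
        exact (mul_eq_zero.1 h3).resolve_left (sub_ne_zero.2 hne)
    let L : (J → F) →ₗ[F] U :=
      { toFun := fun f => ⟨(x ⊗ₖ y) *ᵥ col f z - col f z, hA _⟩
        map_add' := fun f f' => by
          apply Subtype.ext
          have : col (f + f') z = col f z + col f' z := by funext p; simp [col, mul_add]
          simp only [Submodule.coe_add, this, Matrix.mulVec_add]
          abel
        map_smul' := fun c f => by
          apply Subtype.ext
          have : col (c • f) z = c • col f z := by funext p; simp [col, mul_left_comm]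
          simp only [RingHom.id_apply, Submodule.coe_smul, this, Matrix.mulVec_smul, smul_sub] }
    have hL : Function.Injective L := by
      rw [injective_iff_map_eq_zero]
      intro f hf
      have := congrArg Subtype.val hf
      simp only [L, LinearMap.coe_mk, AddHom.coe_mk, kron_mulVec_col, ZeroMemClass.coe_zero] at this
      exact hz f this
    have := LinearMap.finrank_le_finrank_of_injective hL
    rw [hUrank, Module.finrank_pi] at this
    have := hS.lt
    omega

/-- The tensor elements exhaust `H`. -/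
theorem Small.all_isT {h : GL (I × J) F} (hh : h ∈ H) : IsT h := by
  classical
  obtain ⟨hI, hJ⟩ := hS.nonempty
  haveI := hI
  haveI := hJ
  have h2 := hS.two_le
  have hlt := hS.lt
  -- raise the intersection dimension
  have step : ∀ d : ℕ, ∀ g ∈ H, ¬ IsT g → ∀ u v : J → F, u ≠ 0 → v ≠ 0 →
      Module.finrank F ((W (I := I) v).map (Matrix.toLin' (g : Matrix (I × J) (I × J) F)) ⊓ W (I := I) u :
        Submodule F (I × J → F)) + d = Fintype.card I →
      0 < Module.finrank F ((W (I := I) v).map (Matrix.toLin' (g : Matrix (I × J) (I × J) F)) ⊓ W (I := I) u :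
        Submodule F (I × J → F)) → False := by
    intro d
    induction d using Nat.strong_induction_on with
    | _ d ih =>
      intro g hg hgT u v hu hv hk hpos
      set g' : Matrix (I × J) (I × J) F := (g : Matrix (I × J) (I × J) F) with hg'
      have hinj : Function.Injective (Matrix.toLin' g') := Matrix.mulVec_injective_of_isUnit g.isUnit
      set L : Submodule F (I × J → F) := (W (I := I) u).comap (Matrix.toLin' g') with hL
      set P : Submodule F (I → F) := L.comap (col v) with hP
      have hPk : Module.finrank F P = Module.finrank F ((W (I := I) v).map (Matrix.toLin' g') ⊓ W (I := I) u :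
          Submodule F (I × J → F)) := by
        have h1 : (W (I := I) v).map (Matrix.toLin' g') ⊓ W (I := I) u =
            P.map ((Matrix.toLin' g').comp (col v)) := by
          ext w
          constructor
          · rintro ⟨⟨_, ⟨z, rfl⟩, rfl⟩, hw⟩
            exact ⟨z, hw, rfl⟩
          · rintro ⟨z, hz, rfl⟩
            exact ⟨⟨_, ⟨z, rfl⟩, rfl⟩, hz⟩
        rw [h1]
        exact (Submodule.equivMapOfInjective ((Matrix.toLin' g').comp (col v))
          (show Function.Injective ((Matrix.toLin' g').comp (col v)) from hinj.comp (col_injective hv)) P).finrank_eq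
      have hP0 : 0 < Module.finrank F P := hPk ▸ hpos
      -- not all of the column
      have hLrank : Module.finrank F L = Fintype.card I := by
        rw [← finrank_W (I := I) hu, hL]
        have hbij : Function.Surjective (Matrix.toLin' g') := LinearMap.injective_iff_surjective.1 hinj
        conv_rhs => rw [← Submodule.map_comap_eq_of_surjective hbij (W (I := I) u)]
        exact (Submodule.equivMapOfInjective _ hinj _).finrank_eq
      have hnot : ¬ L ≤ W (I := I) v := by
        intro hle
        have heq := Submodule.eq_of_le_of_finrank_eq hle (by rw [hLrank, finrank_W hv])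
        refine hgT (hS.isT_of_map hg hu hv fun w hw => ?_)
        rw [← heq] at hw
        exact hw
      obtain ⟨w, hwL, hwW⟩ := SetLike.not_le_iff_exists.1 hnot
      -- a functional
      let Φ : LinearMap.ker ((dotProductBilin F F).flip v : (J → F) →ₗ[F] F) →ₗ[F] (I → F) ⧸ P :=
        P.mkQ.comp
          ({ toFun := fun φ => ctr (φ : J → F) w
             map_add' := fun a b => by funext i; simp [ctr, add_mul, Finset.sum_add_distrib]
             map_smul' := fun c a => by
               funext i
               simp only [ctr, LinearMap.coe_mk, AddHom.coe_mk, Pi.smul_apply, SetLike.val_smul, smul_eq_mul,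
                 RingHom.id_apply, Finset.mul_sum, mul_assoc] } :
            LinearMap.ker ((dotProductBilin F F).flip v : (J → F) →ₗ[F] F) →ₗ[F] (I → F))
      have hker : LinearMap.ker Φ ≠ ⊥ := by
        intro hbot
        have h1 := LinearMap.finrank_le_finrank_of_injective (LinearMap.ker_eq_bot.1 hbot)
        have h3 := Submodule.finrank_quotient_add_finrank P
        have h4 : Fintype.card J ≤ Module.finrank F (LinearMap.ker ((dotProductBilin F F).flip v : (J → F) →ₗ[F] F)) + 1 := by
          have h5 := LinearMap.finrank_range_add_finrank_ker ((dotProductBilin F F).flip v : (J → F) →ₗ[F] F)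
          have h6 := Submodule.finrank_le (LinearMap.range ((dotProductBilin F F).flip v : (J → F) →ₗ[F] F))
          rw [Module.finrank_self] at h6
          rw [Module.finrank_pi] at h5
          omega
        rw [Module.finrank_pi] at h3
        omega
      obtain ⟨⟨φ, hφv⟩, hφk, hφ0⟩ := Submodule.exists_mem_ne_zero_of_ne_bot hker
      have hφv' : φ ⬝ᵥ v = 0 := hφv
      have hφP : ctr φ w ∈ P := (Submodule.Quotient.mk_eq_zero P).1 hφk
      have hφne : φ ≠ 0 := fun e => hφ0 (Subtype.ext e)
      obtain ⟨r, hr, hre⟩ := hS.root_mem hφv'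
      set b := g * r * g⁻¹ with hb
      have hbH : b ∈ H := mul_mem (mul_mem hg hr) (inv_mem hg)
      have hbT : ¬ IsT b := fun hT => hgT (hS.root_conj hg hv hφne hre hT)
      -- the new intersection
      have hsub : (P.map (col v) ⊔ Submodule.span F {w}).map (Matrix.toLin' ((b * g : GL (I × J) F) : Matrix (I × J) (I × J) F)) ≤
          (W (I := I) u).map (Matrix.toLin' (b : Matrix (I × J) (I × J) F)) ⊓ W (I := I) u := by
        rintro _ ⟨s, hs, rfl⟩
        have hsL : s ∈ L := by
          refine (sup_le ?_ ?_ : _ ≤ L) hs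
          · rw [Submodule.map_le_iff_le_comap]
          · rw [Submodule.span_singleton_le_iff_mem]; exact hwL
        have hsctr : col v (ctr φ s) ∈ L := by
          have hle : P.map (col v) ⊔ Submodule.span F {w} ≤ (L.comap ((col v).comp (ctr φ))) := by
            refine sup_le ?_ ?_
            · rintro _ ⟨z, -, rfl⟩
              show col v (ctr φ (col v z)) ∈ L
              have : ctr φ (col v z) = 0 := by
                funext i
                show ∑ j, φ j * (z i * v j) = 0
                have : ∑ j, φ j * (z i * v j) = z i * (φ ⬝ᵥ v) := by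
                  rw [dotProduct, Finset.mul_sum]
                  exact Finset.sum_congr rfl fun j _ => by ring
                rw [this, hφv', mul_zero]
              rw [this, map_zero]; exact zero_mem L
            · rw [Submodule.span_singleton_le_iff_mem]; exact hφP
          exact hle hs
        rw [Matrix.toLin'_apply, Units.val_mul b g, ← Matrix.mulVec_mulVec]
        refine ⟨⟨_, hsL, rfl⟩, ?_⟩
        have e : (b : Matrix (I × J) (I × J) F) *ᵥ (g' *ᵥ s) = g' *ᵥ (s + col v (ctr φ s)) := by
          rw [hb, Units.val_mul, Units.val_mul, ← hg', Matrix.mulVec_mulVec, mul_assoc (g' * _),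
            hg', ← Units.val_mul g⁻¹, inv_mul_cancel, Units.val_one, mul_one, ← Matrix.mulVec_mulVec, hre,
            Matrix.add_mulVec, Matrix.one_mulVec, root_mulVec]
        rw [e]
        exact L.add_mem hsL hsctr
      have hbig : Module.finrank F P < Module.finrank F
          ((W (I := I) u).map (Matrix.toLin' (b : Matrix (I × J) (I × J) F)) ⊓ W (I := I) u : Submodule F (I × J → F)) := by
        refine lt_of_lt_of_le ?_ (Submodule.finrank_mono hsub)
        rw [← (Submodule.equivMapOfInjective (Matrix.toLin' ((b * g : GL (I × J) F) : Matrix (I × J) (I × J) F))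
          (Matrix.mulVec_injective_of_isUnit (b * g).isUnit) (P.map (col v) ⊔ Submodule.span F {w})).finrank_eq]
        rw [(Submodule.equivMapOfInjective _ (col_injective hv) P).finrank_eq]
        apply Submodule.finrank_lt_finrank_of_lt
        refine lt_of_le_of_ne le_sup_left fun e => hwW ?_
        have : w ∈ P.map (col v) := e ▸ Submodule.mem_sup_right (Submodule.mem_span_singleton_self w)
        obtain ⟨z, -, rfl⟩ := this
        exact ⟨z, rfl⟩
      rw [hPk] at hbig
      have hle' : Module.finrank F ((W (I := I) u).map (Matrix.toLin' (b : Matrix (I × J) (I × J) F)) ⊓ W (I := I) u :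
          Submodule F (I × J → F)) ≤ Fintype.card I :=
        (Submodule.finrank_mono inf_le_right).trans (finrank_W hu).le
      exact ih (Fintype.card I - Module.finrank F ((W (I := I) u).map
        (Matrix.toLin' (b : Matrix (I × J) (I × J) F)) ⊓ W (I := I) u : Submodule F (I × J → F))) (by omega)
        b hbH hbT u u hu hu (by omega) (by omega)
  -- a first pair of meeting columns
  by_contra hhT
  obtain ⟨j₀⟩ := hJ
  obtain ⟨i₀⟩ := hI
  set u : J → F := Pi.single j₀ 1 with hu
  have hu0 : u ≠ 0 := by simp [hu]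
  set w : I × J → F := ((h⁻¹ : GL (I × J) F) : Matrix (I × J) (I × J) F) *ᵥ col u (Pi.single i₀ 1) with hw
  let Ψ : (J → F) →ₗ[F] (I → F) :=
    { toFun := fun φ => ctr φ w
      map_add' := fun a b => by funext i; simp [ctr, add_mul, Finset.sum_add_distrib]
      map_smul' := fun c a => by
        funext i
        simp only [ctr, LinearMap.coe_mk, AddHom.coe_mk, Pi.smul_apply, smul_eq_mul,
          RingHom.id_apply, Finset.mul_sum, mul_assoc] }
  have hker : LinearMap.ker Ψ ≠ ⊥ := by
    intro hbot
    have := LinearMap.finrank_le_finrank_of_injective (LinearMap.ker_eq_bot.1 hbot)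
    rw [Module.finrank_pi, Module.finrank_pi] at this
    omega
  obtain ⟨φ, hφk, hφ0⟩ := Submodule.exists_mem_ne_zero_of_ne_bot hker
  obtain ⟨v, hv0, hφv⟩ : ∃ v : J → F, v ≠ 0 ∧ φ ⬝ᵥ v = 0 := by
    have h1 : LinearMap.ker ((dotProductBilin F F) φ : (J → F) →ₗ[F] F) ≠ ⊥ := by
      intro hbot
      have := LinearMap.finrank_le_finrank_of_injective (LinearMap.ker_eq_bot.1 hbot)
      rw [Module.finrank_pi, Module.finrank_self] at this
      omega
    obtain ⟨v, hv, hv0⟩ := Submodule.exists_mem_ne_zero_of_ne_bot h1
    exact ⟨v, hv0, hv⟩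
  obtain ⟨r, hr, hre⟩ := hS.root_mem hφv
  set b := h * r * h⁻¹ with hb
  have hbT : ¬ IsT b := fun hT => hhT (hS.root_conj hh hv0 hφ0 hre hT)
  have hfix : (b : Matrix (I × J) (I × J) F) *ᵥ col u (Pi.single i₀ 1) = col u (Pi.single i₀ 1) := by
    have h1 : ctr φ w = 0 := hφk
    rw [hb, Units.val_mul, Units.val_mul, ← Matrix.mulVec_mulVec, ← hw, ← Matrix.mulVec_mulVec, hre,
      Matrix.add_mulVec, Matrix.one_mulVec, root_mulVec, h1, map_zero, add_zero, hw, Matrix.mulVec_mulVec,
      ← Units.val_mul, mul_inv_cancel, Units.val_one, Matrix.one_mulVec]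
  have hpos : 0 < Module.finrank F ((W (I := I) u).map (Matrix.toLin' (b : Matrix (I × J) (I × J) F)) ⊓ W (I := I) u :
      Submodule F (I × J → F)) := by
    rw [Nat.pos_iff_ne_zero]
    intro h0
    rw [Submodule.finrank_eq_zero] at h0
    have hmem : col u (Pi.single i₀ 1) ∈ ((W (I := I) u).map (Matrix.toLin' (b : Matrix (I × J) (I × J) F)) ⊓
        W (I := I) u : Submodule F (I × J → F)) :=
      ⟨⟨_, ⟨_, rfl⟩, by rw [Matrix.toLin'_apply]; exact hfix⟩, ⟨_, rfl⟩⟩
    rw [h0, Submodule.mem_bot] at hmem
    have := col_injective (I := I) hu0 (hmem.trans (map_zero (col u)).symm)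
    simp at this
  exact step _ b (mul_mem (mul_mem hh hr) (inv_mem hh)) hbT u u hu0 hu0
    (Nat.add_sub_cancel' ((Submodule.finrank_mono inf_le_right).trans (finrank_W hu0).le)) hpos

end H42.TensorMax
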