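import Mathlib
import Cfsg.Prelude.Def_GeometricClasses
import Cfsg.Agent.H42.TensorMaxMain

/-!
Geometric maximal subgroups of `SL_n`, `10 ≤ n`.
-/

set_option autoImplicit false
open Cfsg

open scoped Kronecker MatrixGroups

namespace H42.LinGenTensor

/-- The stabiliser is maximal in `SL_n` from dimension ten on. -/
theorem maximal {F : Type*} [Field F] [Fintype F] (n : ℕ) (hn : 10 ≤ n) (n₁ n₂ : ℕ) (h1 : 2 ≤ n₁) (h12 : n₁ < n₂) (hex : ¬ (n₁ = 2 ∧ Fintype.card F = 2)) (e : Fin n ≃ Fin n₁ × Fin n₂) (P : Matrix.GeneralLinearGroup (Fin n) F) : Cfsg.Geo.IsMaximalIn (Cfsg.Geo.specialLinear (Fin n) F) (Cfsg.Geo.tensorProductSubgroup n₁ n₂ e P ⊓ Cfsg.Geo.specialLinear (Fin n) F) := by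
  classical
  let φ : GL (Fin n₁ × Fin n₂) F ≃* GL (Fin n) F := (Cfsg.Geo.glReindex e.symm).trans (MulAut.conj P)
  have hdet : ∀ g : GL (Fin n₁ × Fin n₂) F,
      φ g ∈ Cfsg.Geo.specialLinear (Fin n) F ↔ (g : Matrix (Fin n₁ × Fin n₂) (Fin n₁ × Fin n₂) F).det = 1 := by
    intro g
    have h1 : Matrix.GeneralLinearGroup.det (φ g) =
        Matrix.GeneralLinearGroup.det (Cfsg.Geo.glReindex e.symm g : GL (Fin n) F) := by
      show Matrix.GeneralLinearGroup.det (P * Cfsg.Geo.glReindex e.symm g * P⁻¹) = _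
      rw [map_mul, map_mul, map_inv, mul_right_comm, mul_inv_cancel, one_mul]
    rw [Cfsg.Geo.specialLinear, MonoidHom.mem_ker, h1, Units.ext_iff, Units.val_one,
      Matrix.GeneralLinearGroup.val_det_apply]
    show (Matrix.reindexAlgEquiv F F e.symm (g : Matrix _ _ F)).det = 1 ↔ _
    rw [Matrix.det_reindexAlgEquiv]
  have hK : ∀ g : GL (Fin n₁ × Fin n₂) F,
      φ g ∈ Cfsg.Geo.tensorProductSubgroup n₁ n₂ e P ↔ H42.TensorMax.IsT g := by
    intro g
    constructor
    · rintro ⟨k, ⟨g', hg', rfl⟩, hk⟩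
      obtain rfl : g' = g := φ.injective hk
      obtain ⟨a, b, hab⟩ := hg'
      exact ⟨_, _, hab⟩
    · rintro ⟨a, b, hab⟩
      refine ⟨_, ⟨g, ?_, rfl⟩, rfl⟩
      have hd : (g : Matrix (Fin n₁ × Fin n₂) (Fin n₁ × Fin n₂) F).det ≠ 0 :=
        ((Matrix.isUnit_iff_isUnit_det _).1 g.isUnit).ne_zero
      rw [hab, Matrix.det_kronecker] at hd
      have ha : a.det ≠ 0 := fun h => hd (by rw [h, zero_pow (by simp; omega), zero_mul])
      have hb : b.det ≠ 0 := fun h => hd (by rw [h, zero_pow (by simp; omega), mul_zero])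
      exact ⟨Matrix.GeneralLinearGroup.mkOfDetNeZero a ha, Matrix.GeneralLinearGroup.mkOfDetNeZero b hb, hab⟩
  refine ⟨lt_of_le_of_ne inf_le_right ?_, fun M hKM hMS => ?_⟩
  · intro heq
    let i0 : Fin n₁ := ⟨0, by omega⟩
    let i1 : Fin n₁ := ⟨1, by omega⟩
    let j0 : Fin n₂ := ⟨0, by omega⟩
    let j1 : Fin n₂ := ⟨1, by omega⟩
    have hi : i0 ≠ i1 := by simp [i0, i1]
    have hj : j0 ≠ j1 := by simp [j0, j1]
    have hne : (i0, j0) ≠ (i1, j1) := fun h => hi (congrArg Prod.fst h)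
    set g := H49.elem (i0, j0) (i1, j1) hne (1 : F) with hg
    have hm : φ g ∈ Cfsg.Geo.specialLinear (Fin n) F := by
      rw [hdet, hg, H49.elem, H49.tr_val, H49.det_trM]
      simp [hne]
    rw [← heq] at hm
    obtain ⟨a, b, hab⟩ := (hK g).1 (Subgroup.mem_inf.1 hm).1
    have e0 := congrFun (congrFun hab (i0, j0)) (i0, j0)
    have e1 := congrFun (congrFun hab (i0, j0)) (i1, j1)
    have e2 := congrFun (congrFun hab (i0, j0)) (i1, j0)
    simp [hg, H49.elem, H49.tr_val, H49.trM, Matrix.vecMulVec_apply, hne, hi, hj, Matrix.one_apply,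
      Matrix.kroneckerMap_apply, Pi.single_apply, hi.symm] at e0 e1 e2
    rcases e2 with h | h
    · rw [h, zero_mul] at e1; exact one_ne_zero e1
    · rw [h, mul_zero] at e0; exact one_ne_zero e0
  · set H := M.comap φ.toMonoidHom with hH
    have hO : H42.TensorMax.Over H :=
      { det_one := fun g hg => (hdet g).1 (hMS hg)
        tens := fun g a b hd hab => hKM (Subgroup.mem_inf.2 ⟨(hK g).2 ⟨a, b, hab⟩, (hdet g).2 hd⟩) }
    have hbig : 3 ≤ Fintype.card (Fin n₁) ∨ ∃ d : F, d ≠ 0 ∧ d ≠ 1 := by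
      by_cases h3 : 3 ≤ n₁
      · left; simpa using h3
      · right
        by_contra hcon
        push_neg at hcon
        have h2 : (Finset.univ : Finset F) ⊆ {0, 1} := fun x _ => by
          rcases eq_or_ne x 0 with h | h
          · simp [h]
          · simp [hcon x h]
        have h2 := Finset.card_le_card h2
        rw [Finset.card_univ] at h2
        have := (Finset.card_le_two : ({0, 1} : Finset F).card ≤ 2)
        have := Fintype.one_lt_card (α := F)
        exact hex ⟨by omega, by omega⟩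
    by_cases hsc : ∀ (A : Matrix (Fin n₁) (Fin n₁) F) (j l : Fin n₂), j ≠ l →
        H42.TensorMax.OneAdd H (A ⊗ₖ Matrix.single j l 1) → ∃ t : F, A = t • 1
    · left
      have hS : H42.TensorMax.Small H := ⟨hO, by simpa using h1, by simpa using h12, hsc⟩
      refine le_antisymm (fun g hg => ?_) hKM
      obtain ⟨g', rfl⟩ := φ.surjective g
      exact Subgroup.mem_inf.2 ⟨(hK g').2 (hS.all_isT (show g' ∈ H from hg)), hMS hg⟩
    · right
      push_neg at hsc
      obtain ⟨A, j, l, hjl, hA, hns⟩ := hsc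
      refine le_antisymm hMS fun g hg => ?_
      obtain ⟨g', rfl⟩ := φ.surjective g
      exact (show g' ∈ H from hO.sl_le (by simp; omega) (by simpa using h1) hbig
        (hO.allPos_of_one (by simp; omega) hjl hA) hns g' ((hdet g').1 hg))

end H42.LinGenTensor
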