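import Mathlib
import Cfsg.Prelude.Def_GeometricClasses
import Cfsg.Agent.H61.UnitaryMax

/-!
Geometric maximal subgroups of `SL_n`, `10 ≤ n`.
-/

set_option autoImplicit false
open Cfsg

namespace H42.LinGenUnitary


open scoped Matrix

theorem exists_tr {F : Type*} [Field F] {n : ℕ} {σ : F ≃+* F} {f : (Fin n → F) → (Fin n → F) → F}
    (hf : Cfsg.Geo.IsUnitaryForm σ f) (u w : Fin n → F) (h : f u w = 0) :
    ∃ g : GL (Fin n) F, g ∈ Cfsg.Geo.specialLinear (Fin n) F ∧ ∀ x, g.val *ᵥ x = x + f x w • u := by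
  have hdot : ∀ x, (fun j => f (Pi.single j 1) w) ⬝ᵥ x = f x w := fun x => by
    have := LinearMap.pi_apply_eq_sum_univ (H61.Unitary.lf hf w) x
    refine (this.trans ?_).symm
    refine Finset.sum_congr rfl fun j _ => ?_
    rw [smul_eq_mul, mul_comm]
    congr 1
    show f _ w = f _ w
    congr 1
    ext k
    simp [Pi.single_apply, eq_comm]
  refine ⟨H49.tr u _ ((hdot u).trans h), H49.tr_mem_SL _ _ _, fun x => ?_⟩
  rw [H49.tr_mulVec, hdot]

/-- The stabiliser is maximal in `SL_n` from dimension ten on. -/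
theorem maximal {F : Type*} [Field F] [Fintype F] (n : ℕ) (hn : 10 ≤ n) (σ : F ≃+* F) (f : (Fin n → F) → (Fin n → F) → F) (hf : Cfsg.Geo.IsUnitaryForm σ f) : Cfsg.Geo.IsMaximalIn (Cfsg.Geo.specialLinear (Fin n) F) (Cfsg.Geo.similarityGroup f ⊓ Cfsg.Geo.specialLinear (Fin n) F) := by
  haveI : Nontrivial (Fin n) := Fin.nontrivial_iff_two_le.mpr (by omega)
  set N := Cfsg.Geo.similarityGroup f ⊓ Cfsg.Geo.specialLinear (Fin n) F with hN
  have hU : H61.Unitary.HasUnitary σ f N := by
    intro z a hz ha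
    have hσσ : σ (σ a) = a := hf.involutive a
    obtain ⟨g, hg, he⟩ := exists_tr hf z (σ a • z) (by rw [H61.Unitary.smul_right hf, hz, mul_zero])
    have he' : ∀ x, g.val *ᵥ x = x + (a * f x z) • z := fun x => by
      rw [he, H61.Unitary.smul_right hf, hσσ]
    refine ⟨g, Subgroup.mem_inf.mpr ⟨⟨1, fun x y => ?_⟩, hg⟩, he'⟩
    rw [he', he', hf.add_left, hf.smul_left, H61.Unitary.add_right hf, H61.Unitary.add_right hf,
      H61.Unitary.smul_right hf, H61.Unitary.smul_right hf, hz, map_mul, ← hf.herm z y, ha, Units.val_one]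
    ring
  refine ⟨lt_of_le_of_ne inf_le_right fun heq => ?_, fun M hle hMS => ?_⟩
  · -- a transvection that is not a similarity
    have hne : (Pi.single ⟨0, by omega⟩ 1 : Fin n → F) ≠ 0 := by simp
    obtain ⟨y0, hy0⟩ := H61.Unitary.exists_apply_eq_one hf hne
    obtain ⟨u, hu, hu'⟩ := H61.Unitary.exists_iso hf (by omega) (k := 1) (by omega) y0
      ![Pi.single ⟨0, by omega⟩ 1]
    have hu0 : u ≠ 0 := fun e => by
      have h1 : f u _ = f y0 _ := hu' 0
      simp only [Matrix.cons_val_zero] at h1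
      rw [e, H61.Unitary.zero_left hf, hy0] at h1
      exact zero_ne_one h1
    obtain ⟨w, hw, hwu⟩ := H61.Unitary.exists_aniso hf (by omega) (k := 1) (by omega) ![u]
    have hwu : f w u = 0 := by simpa using hwu 0
    have huw : f u w = 0 := H61.Unitary.symm_zero hf hwu
    obtain ⟨g, hg, he⟩ := exists_tr hf u w huw
    have hgN : g ∈ N := by rw [heq]; exact hg
    obtain ⟨⟨c, hc⟩, -⟩ := hgN
    have hexp : ∀ x y, f x y + f x w * f u y + σ (f y w) * f x u = (c : F) * f x y := by
      intro x y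
      have h := hc x y
      rw [he, he, hf.add_left, hf.smul_left, H61.Unitary.add_right hf, H61.Unitary.add_right hf,
        H61.Unitary.smul_right hf, H61.Unitary.smul_right hf, hu] at h
      linear_combination h
    obtain ⟨x0, hx0⟩ := H61.Unitary.exists_apply_eq_one hf hu0
    have hux : f u x0 = 1 := by rw [hf.herm, hx0, map_one]
    have hc1 : (c : F) = 1 := by
      have := hexp u x0
      rw [huw, hu, hux] at this
      linear_combination -this
    obtain ⟨y, hyu, hyw⟩ := H61.Unitary.exists_perp_apply_ne hf (w := w) hu0 fun d hd => hw (by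
      have e : f w w = f w (d • u) := congrArg (f w) hd
      rw [H61.Unitary.smul_right hf, hwu, mul_zero] at e
      exact e)
    have := hexp x0 y
    rw [hc1, H61.Unitary.symm_zero hf hyu, hx0] at this
    exact hyw ((RingEquiv.map_eq_zero_iff σ).mp (by linear_combination this))
  by_cases hs : M ≤ Cfsg.Geo.similarityGroup f
  · exact Or.inl (le_antisymm (le_inf hs hMS) hle)
  obtain ⟨g, hg, hns⟩ := SetLike.not_le_iff_exists.mp hs
  refine Or.inr (le_antisymm hMS fun s hs' => ?_)
  have hUM : H61.Unitary.HasUnitary σ f M := fun z a hz ha => by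
    obtain ⟨T, hT, he⟩ := hU z a hz ha
    exact ⟨T, hle hT, he⟩
  exact H49.sl_le_of_elem_mem M (H61.Unitary.full_of_not_similar hf hn hUM hg hns) s
    (congrArg Units.val (show Matrix.GeneralLinearGroup.det s = 1 from hs'))

end H42.LinGenUnitary
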