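import Cfsg.Agent.H42.PGLMaxField
import Cfsg.Agent.H39.MaxDihedral

/-!
Maximal subgroups of `PGL₂` not containing `PSL₂`: the classification.
-/

set_option autoImplicit false
set_option linter.unusedSectionVars false

namespace H42.PGLMax

open Matrix H39
open scoped MatrixGroups

variable {E : Type*} [Field E] [Fintype E] (p : ℕ) [Fact p.Prime] [CharP E p] {F : Subfield E}
  [Fintype F] [CharP F p]

local notation "S2" => Matrix.ProjectiveSpecialLinearGroup (Fin 2) E
local notation "L2" => Matrix.ProjectiveSpecialLinearGroup (Fin 2) F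
local notation "qF" => Nat.card F

include p

variable {M : Subgroup (Matrix.ProjectiveSpecialLinearGroup (Fin 2) E)}
variable (hC : Ctx F M)
include hC

theorem Ctx.conj_elem {g : S2} (hg : g ∈ M) (x : M.comap (ι F)) :
    ∃ y : M.comap (ι F), ι F (y : L2) = g * ι F (x : L2) * g⁻¹ ∧ orderOf y = orderOf x := by
  obtain ⟨y, hy, hye⟩ := hC.conj_mem hg x.2
  refine ⟨⟨y, hy⟩, hye, ?_⟩
  rw [← Subgroup.orderOf_coe, ← Subgroup.orderOf_coe, ← orderOf_injective (ι F) (ι_injective F), hye,
    show g * ι F (x : L2) * g⁻¹ = MulAut.conj g (ι F (x : L2)) from rfl, MulEquiv.orderOf_eq,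
    orderOf_injective (ι F) (ι_injective F)]

omit hC in
/-- The dihedral shape. -/
theorem dihedral_shape (hQ : Quad F) {k : ℕ} (h3 : 3 ≤ k) (hpk : ¬ p ∣ 2 * k) {N : Subgroup L2}
    (eN : N ≃* DihedralGroup k) (hN : ∀ x ∈ N, ι F x ∈ M) (hle : M ≤ GG F)
    (hback : ∀ x, ι F x ∈ M → x ∈ N) (hcard : Nat.card M = 4 * k) :
    Nonempty (M ≃* DihedralGroup (2 * k)) := by
  let j : DihedralGroup k →* M :=
    ((ι F).comp (N.subtype.comp eN.symm.toMonoidHom)).codRestrict M fun a => hN _ (eN.symm a).2
  have hj : Function.Injective j := fun a b h =>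
    eN.symm.injective (Subtype.ext (ι_injective F (congrArg Subtype.val h)))
  have hr : orderOf (j (DihedralGroup.r 1)) = k := by
    rw [orderOf_injective j hj, DihedralGroup.orderOf_r_one]
  have hpel : ∀ z ∈ M, z ≠ 1 → z ^ p = 1 → False := by
    intro z hz hz1 hzp
    have ho : orderOf z = p := orderOf_eq_prime hzp hz1
    have hodd : Odd (orderOf z) := by
      rw [ho]; exact (Fact.out : p.Prime).odd_of_ne_two (two_ne_p p hQ.oddE)
    obtain ⟨x, hx⟩ := hQ.odd_mem_range (hle hz) hodd
    have hxN := hback x (hx ▸ hz)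
    apply hpk
    have h1 := orderOf_dvd_natCard (⟨x, hxN⟩ : N)
    rwa [Nat.card_congr eN.toEquiv, DihedralGroup.nat_card, ← Subgroup.orderOf_coe,
      ← orderOf_injective (ι F) (ι_injective F) x, hx, ho] at h1
  have hs : j (DihedralGroup.sr 0) * j (DihedralGroup.r 1) * (j (DihedralGroup.sr 0))⁻¹ =
      (j (DihedralGroup.r 1))⁻¹ := by
    rw [← map_inv, ← map_mul, ← map_mul, ← map_inv]
    congr 1
    simp
  cases dickson p M with
  | cyclic hc _ =>
    exfalso
    letI := hc.commGroup
    rw [mul_comm (j (DihedralGroup.sr 0)), mul_inv_cancel_right, eq_inv_iff_mul_eq_one, ← sq] at hs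
    have := Nat.le_of_dvd (by norm_num) (orderOf_dvd_of_pow_eq_one hs)
    omega
  | dihedral m h _ =>
    obtain ⟨e⟩ := h
    have : m = 2 * k := by
      have h1 := Nat.card_congr e.toEquiv
      rw [DihedralGroup.nat_card, hcard] at h1
      omega
    exact ⟨this ▸ e⟩
  | borel P h hz =>
    obtain ⟨z, hzM, hz1, hzp⟩ := hz
    exact (hpel z hzM hz1 hzp).elim
  | a4 h =>
    exfalso
    obtain ⟨e⟩ := h
    have h1 := Nat.card_congr e.toEquiv
    rw [card_alt4, hcard] at h1
    rcases alt4_no_inverting (e (j (DihedralGroup.r 1))) (e (j (DihedralGroup.sr 0))) (by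
      rw [← map_mul, ← map_mul]
      simp) (by
      have h3' := congrArg e hs
      rwa [map_mul, map_mul, map_inv, map_inv] at h3') with h2 | h2
    · rw [← map_mul, ← sq, map_eq_one_iff _ e.injective] at h2
      have := Nat.le_of_dvd (by norm_num) (orderOf_dvd_of_pow_eq_one h2)
      omega
    · rw [map_eq_one_iff _ e.injective, map_eq_one_iff _ hj] at h2
      cases h2
  | s4 h =>
    exfalso
    obtain ⟨e⟩ := h
    have h1 := Nat.card_congr e.toEquiv
    rw [card_perm4, hcard] at h1
    rcases perm4_orders (e (j (DihedralGroup.r 1))) with h2 | h2 <;>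
      · rw [← map_pow, map_eq_one_iff _ e.injective] at h2
        have := Nat.le_of_dvd (by norm_num) (orderOf_dvd_of_pow_eq_one h2)
        omega
  | a5 h =>
    exfalso
    obtain ⟨e⟩ := h
    have h1 := Nat.card_congr e.toEquiv
    rw [card_alt5, hcard] at h1
    rcases alt5_orders (e (j (DihedralGroup.r 1))) with h2 | h2 | h2 <;>
      · rw [← map_pow, map_eq_one_iff _ e.injective] at h2
        have := Nat.le_of_dvd (by norm_num) (orderOf_dvd_of_pow_eq_one h2)
        omega
  | field P K _ he =>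
    exfalso
    haveI : Fintype K := Fintype.ofFinite K
    obtain ⟨a, ha0, ha⟩ := subfield_card_eq_pow (p := p) K
    have hKodd : Odd (Fintype.card K) := by
      rw [← Nat.card_eq_fintype_card, ha]
      exact ((Fact.out : p.Prime).odd_of_ne_two (two_ne_p p hQ.oddE)).pow
    have hdvd : p ∣ Nat.card K := ha ▸ dvd_pow_self p ha0.ne'
    have hpM : p ∣ Nat.card M := by
      rcases he with ⟨⟨e⟩⟩ | ⟨⟨e⟩⟩
      · rw [Nat.card_congr e.toEquiv, card_PGL2_subfield]
        exact hdvd.mul_right _
      · rw [Nat.card_congr e.toEquiv]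
        have h1 := card_PSL2_nat (F := K)
        rw [gcd_eq_two hKodd, ← Nat.card_eq_fintype_card] at h1
        have hcop : Nat.Coprime p 2 := (Nat.coprime_primes Fact.out Nat.prime_two).2 (two_ne_p p hQ.oddE)
        exact hcop.dvd_of_dvd_mul_left (h1 ▸ hdvd.mul_right _)
    obtain ⟨z, hz⟩ := exists_prime_orderOf_dvd_card' p hpM
    exact hpel z z.2 (fun e => (Fact.out : p.Prime).ne_one (by
        rw [← hz, orderOf_eq_one_iff]; exact Subtype.ext e))
      (by rw [← Subgroup.coe_pow, ← hz, pow_orderOf_eq_one]; rfl)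

/-- A stable four-group gives `S₄` or a subfield. -/
theorem Ctx.of_alt4 (e : M.comap (ι F) ≃* alternatingGroup (Fin 4)) : Shape F M := by
  classical
  have hp := (Fact.out : p.Prime)
  have hodd := oddF p hC.quad
  set N := M.comap (ι F) with hN
  set f : alternatingGroup (Fin 4) →* L2 := N.subtype.comp e.symm.toMonoidHom with hf
  have hfinj : Function.Injective f := Subtype.val_injective.comp e.symm.injective
  have hfN : ∀ u, f u ∈ N := fun u => (e.symm u).2
  have hmul : ∀ a b : alternatingGroup (Fin 4), a * a = 1 → b * b = 1 → a * b * (a * b) = 1 := by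
    decide +kernel
  let W : Subgroup (alternatingGroup (Fin 4)) :=
    { carrier := {a | a * a = 1}
      one_mem' := one_mul 1
      mul_mem' := fun {a b} ha hb => hmul a b ha hb
      inv_mem' := fun {a} ha => by
        show a⁻¹ * a⁻¹ = 1
        rw [← _root_.mul_inv_rev, show a * a = 1 from ha, _root_.inv_one] }
  have hWcard : Nat.card W = 4 := by
    have h1 : Nat.card W = Fintype.card {a : alternatingGroup (Fin 4) // a * a = 1} := by
      rw [← Nat.card_eq_fintype_card]
      exact Nat.card_congr (Equiv.subtypeEquivRight fun a => Iff.rfl)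
    rw [h1]; decide +kernel
  set V := W.map f with hVdef
  have hVcard : Nat.card V = 4 := by
    rw [← hWcard]; exact (Nat.card_congr (Subgroup.equivMapOfInjective W f hfinj).toEquiv).symm
  haveI : Nontrivial V := Finite.one_lt_card_iff_nontrivial.1 (by omega)
  have hV2 : ∀ v : V, v ^ 2 = 1 := by
    rintro ⟨_, w, hw, rfl⟩
    refine Subtype.ext ?_
    show f w ^ 2 = 1
    rw [sq, ← map_mul, show w * w = 1 from hw, map_one]
  have hVK : IsKleinFour V := ⟨hVcard, Monoid.exponent_eq_prime_iff Nat.prime_two |>.2 fun v hv =>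
    orderOf_eq_prime (hV2 v) hv⟩
  have hVinv : ∀ g ∈ M, ∀ v ∈ V, ∃ w ∈ V, ι F w = g * ι F v * g⁻¹ := by
    rintro g hg _ ⟨u, hu, rfl⟩
    obtain ⟨y, hy, hye⟩ := hC.conj_mem hg (hfN u)
    refine ⟨y, ⟨e ⟨y, hy⟩, ?_, ?_⟩, hye⟩
    · show e ⟨y, hy⟩ * e ⟨y, hy⟩ = 1
      rw [← map_mul, map_eq_one_iff _ e.injective]
      refine Subtype.ext (ι_injective F ?_)
      show ι F (y * y) = ι F 1
      rw [map_mul, hye, map_one,
        show g * ι F (f u) * g⁻¹ * (g * ι F (f u) * g⁻¹) = g * (ι F (f u * f u)) * g⁻¹ by rw [map_mul]; group,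
        ← map_mul, show u * u = 1 from hu, map_one, map_one, mul_one, mul_inv_cancel]
    · simp [hf]
  have hNV := hC.of_klein p hVK hVinv
  rw [← hN] at hNV
  have hN12 : Nat.card N = 12 := by rw [Nat.card_congr e.toEquiv, card_alt4]
  have h8 : Fintype.card F % 8 = 3 ∨ Fintype.card F % 8 = 5 := by
    have h1 := card_normalizer_klein p hodd hVK
    rw [← hNV, hN12] at h1
    have hne : ¬ 4 ∣ evenHalf (Fintype.card F) := fun h => by rw [if_pos h] at h1; omega
    obtain ⟨j, hj⟩ := hodd
    rw [evenHalf] at hne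
    split_ifs at hne <;> omega
  obtain ⟨b, hb, hbq⟩ := FiniteField.card F p
  by_cases hb1 : (b : ℕ) = 1
  · -- prime field
    rw [hb1, pow_one] at hbq
    have hqF : qF = p := by rw [Nat.card_eq_fintype_card, hbq]
    have hM24 : Nat.card M = 24 := by rw [hC.card_eq, ← hN, hN12]
    have hVM : V.map (ι F) ≤ M := by
      rintro _ ⟨_, ⟨u, hu, rfl⟩, rfl⟩; exact hfN u
    set V' := (V.map (ι F)).subgroupOf M
    have hVS : IsKleinFour (V.map (ι F)) := ⟨by
        rw [← hVcard]; exact (Nat.card_congr (Subgroup.equivMapOfInjective V _ (ι_injective F)).toEquiv).symm,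
      (Monoid.exponent_eq_of_mulEquiv (Subgroup.equivMapOfInjective V _ (ι_injective F))).symm.trans
        hVK.exponent_two⟩
    haveI : V'.Normal := ⟨fun ⟨_, _⟩ ⟨v, hv, hve⟩ g => by
      obtain ⟨w, hw, hwe⟩ := hVinv g g.2 v hv
      refine ⟨w, hw, ?_⟩
      rw [hwe, hve]; rfl⟩
    have hS4 : Nonempty (M ≃* Equiv.Perm (Fin 4)) := by
      refine perm4_of_klein (isKleinFour_subgroupOf hVS hVM) (fun g hg => ?_) hM24
      refine klein_self_centralizing p hC.quad.oddE hVS fun v hv => ?_
      exact congrArg Subtype.val (hg ⟨v, hVM hv⟩ hv)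
    refine .alt4 (hqF ▸ hp) (by rw [Nat.card_eq_fintype_card]; exact h8) ⟨e⟩ hS4
  · obtain ⟨P, K, hK, hPK⟩ := alt4_descend p hodd f hfinj
    have hlt : Nat.card K < qF := by
      rw [hK, Nat.card_eq_fintype_card, hbq]
      exact lt_self_pow₀ hp.one_lt (by have := b.pos; omega)
    have hle : N.map (cjP P).toMonoidHom ≤ projField K := by
      rintro _ ⟨x, hx, rfl⟩
      obtain ⟨a, ha⟩ := hPK ⟨x, ⟨e ⟨x, hx⟩, by simp [hf]⟩, rfl⟩
      rw [← ha]; exact slToProj_mem K a
    obtain ⟨r2, r3, r33, n2, n3, n33, c2, cn⟩ := a4_rel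
    refine hC.of_field p P K hle hlt (hfN a4b) (hfN (a4a * a4b)) ?_ ?_ ?_
    · rw [orderOf_injective f hfinj, orderOf_eq_prime r3 n3]; decide
    · rw [orderOf_injective f hfinj, orderOf_eq_prime r33 n33]; decide
    · intro h
      have h1 : f (a4b * (a4a * a4b)) = f ((a4a * a4b) * a4b) := by rw [map_mul f a4b, map_mul f (a4a * a4b)]; exact h.eq
      exact absurd (hfinj h1) (by decide)

theorem Ctx.no_perm4 (e : M.comap (ι F) ≃* Equiv.Perm (Fin 4)) : False := by
  classical
  have hcard : Nat.card M = 48 := by rw [hC.card_eq, Nat.card_congr e.toEquiv, card_perm4]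
  let f : alternatingGroup (Fin 4) →* M :=
    (((ι F).comp ((M.comap (ι F)).subtype.comp e.symm.toMonoidHom)).codRestrict M fun a =>
      (e.symm a).2).comp (alternatingGroup (Fin 4)).subtype
  have hf : Function.Injective f := fun a b h =>
    Subtype.val_injective (e.symm.injective (Subtype.ext (ι_injective F (congrArg Subtype.val h))))
  obtain ⟨r2, r3, r33, n2, n3, n33, c2, cn⟩ := a4_rel
  cases dickson p M with
  | cyclic hc _ =>
    letI := hc.commGroup
    exact absurd (hf (by rw [map_mul, map_mul, mul_comm] : f (a4a * a4b) = f (a4b * a4a))) (by decide)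
  | dihedral m h _ =>
    obtain ⟨e'⟩ := h
    exact alt4_not_dihedral (e'.toMonoidHom.comp f) (e'.injective.comp hf)
  | borel P h _ =>
    refine no_borel_of_comm p (a := (f a4a : S2)) (b := (f a4b : S2))
      (not_dvd_two_of_odd p hC.quad.oddE) ?_ ?_ P (h ⟨_, (f a4a).2, rfl⟩) (h ⟨_, (f a4b).2, rfl⟩)
    · intro h'
      exact cn ((map_eq_one_iff f hf).1 (Subtype.ext (by simpa using h')))
    · have := congrArg (fun u => ((f u : M) : S2)) c2
      simpa using this
  | a4 h => obtain ⟨e'⟩ := h; rw [Nat.card_congr e'.toEquiv, card_alt4] at hcard; omega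
  | s4 h => obtain ⟨e'⟩ := h; rw [Nat.card_congr e'.toEquiv, card_perm4] at hcard; omega
  | a5 h => obtain ⟨e'⟩ := h; rw [Nat.card_congr e'.toEquiv, card_alt5] at hcard; omega
  | field P K _ he =>
    haveI : Fintype K := Fintype.ofFinite K
    have hk : 1 < Nat.card K := Finite.one_lt_card
    have hK6 : Nat.card K < 6 := by
      by_contra hlt
      have h6 : 6 * (6 ^ 2 - 1) ≤ Nat.card K * (Nat.card K ^ 2 - 1) :=
        Nat.mul_le_mul (by omega) (Nat.sub_le_sub_right (Nat.pow_le_pow_left (by omega) 2) 1)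
      rcases he with ⟨⟨e'⟩⟩ | ⟨⟨e'⟩⟩
      · rw [Nat.card_congr e'.toEquiv, card_PGL2_subfield] at hcard; omega
      · rw [Nat.card_congr e'.toEquiv] at hcard
        have h1 := card_PSL2_nat (F := K)
        rw [hcard, ← Nat.card_eq_fintype_card] at h1
        have : Nat.gcd 2 (Nat.card K - 1) * 48 ≤ 2 * 48 :=
          Nat.mul_le_mul_right _ (Nat.gcd_le_left _ two_pos)
        omega
    rcases he with ⟨⟨e'⟩⟩ | ⟨⟨e'⟩⟩
    · rw [Nat.card_congr e'.toEquiv, card_PGL2_subfield] at hcard
      generalize Nat.card K = k at hk hK6 hcard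
      interval_cases k <;> omega
    · rw [Nat.card_congr e'.toEquiv] at hcard
      have h1 := card_PSL2_nat (F := K)
      rw [hcard, ← Nat.card_eq_fintype_card] at h1
      generalize Nat.card K = k at hk hK6 h1
      interval_cases k <;> simp at h1

theorem Ctx.of_alt5 (e : M.comap (ι F) ≃* alternatingGroup (Fin 5)) : Shape F M := by
  classical
  have hp := (Fact.out : p.Prime)
  have hodd := oddF p hC.quad
  set N := M.comap (ι F) with hN
  set f : alternatingGroup (Fin 5) →* L2 := N.subtype.comp e.symm.toMonoidHom with hf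
  have hfinj : Function.Injective f := Subtype.val_injective.comp e.symm.injective
  have hcard : Nat.card M = 120 := by rw [hC.card_eq, ← hN, Nat.card_congr e.toEquiv, card_alt5]
  -- the characteristic is five
  have hp5 : p = 5 := by
    let g : alternatingGroup (Fin 5) →* M :=
      ((ι F).comp f).codRestrict M fun a => (e.symm a).2
    have hg : Function.Injective g := fun a b h => hfinj (ι_injective F (congrArg Subtype.val h))
    obtain ⟨i4, hi4⟩ := alt4_in_alt5
    obtain ⟨r2, r3, r33, n2, n3, n33, c2, cn⟩ := a4_rel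
    have hg4 : Function.Injective (g.comp i4) := hg.comp hi4
    cases dickson p M with
    | cyclic hc _ =>
      letI := hc.commGroup
      exact absurd (hg4 (by rw [map_mul, map_mul, mul_comm] : g.comp i4 (a4a * a4b) = g.comp i4 (a4b * a4a))) (by decide)
    | dihedral m h _ =>
      obtain ⟨e'⟩ := h
      exact (alt4_not_dihedral (e'.toMonoidHom.comp (g.comp i4)) (e'.injective.comp hg4)).elim
    | borel P h _ =>
      exfalso
      refine no_borel_of_comm p (a := (g (i4 a4a) : S2)) (b := (g (i4 a4b) : S2))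
        (not_dvd_two_of_odd p hC.quad.oddE) ?_ ?_ P (h ⟨_, (g (i4 a4a)).2, rfl⟩) (h ⟨_, (g (i4 a4b)).2, rfl⟩)
      · intro h'
        exact cn ((map_eq_one_iff _ hg4).1 (Subtype.ext (by simpa using h')))
      · have := congrArg (fun u => ((g.comp i4 u : M) : S2)) c2
        simpa using this
    | a4 h => obtain ⟨e'⟩ := h; rw [Nat.card_congr e'.toEquiv, card_alt4] at hcard; omega
    | s4 h => obtain ⟨e'⟩ := h; rw [Nat.card_congr e'.toEquiv, card_perm4] at hcard; omega
    | a5 h => obtain ⟨e'⟩ := h; rw [Nat.card_congr e'.toEquiv, card_alt5] at hcard; omega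
    | field P K _ he =>
      haveI : Fintype K := Fintype.ofFinite K
      have hk : 1 < Nat.card K := Finite.one_lt_card
      obtain ⟨a, ha0, ha⟩ := subfield_card_eq_pow (p := p) K
      suffices hk5 : Nat.card K = 5 by
        rw [ha] at hk5
        exact ((Nat.prime_dvd_prime_iff_eq hp (by norm_num)).1 (hk5 ▸ dvd_pow_self p ha0.ne'))
      have hK8 : Nat.card K < 8 := by
        by_contra hlt
        have h8 : 8 * (8 ^ 2 - 1) ≤ Nat.card K * (Nat.card K ^ 2 - 1) :=
          Nat.mul_le_mul (by omega) (Nat.sub_le_sub_right (Nat.pow_le_pow_left (by omega) 2) 1)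
        rcases he with ⟨⟨e'⟩⟩ | ⟨⟨e'⟩⟩
        · rw [Nat.card_congr e'.toEquiv, card_PGL2_subfield] at hcard; omega
        · rw [Nat.card_congr e'.toEquiv] at hcard
          have h1 := card_PSL2_nat (F := K)
          rw [hcard, ← Nat.card_eq_fintype_card] at h1
          have : Nat.gcd 2 (Nat.card K - 1) * 120 ≤ 2 * 120 :=
            Nat.mul_le_mul_right _ (Nat.gcd_le_left _ two_pos)
          omega
      rcases he with ⟨⟨e'⟩⟩ | ⟨⟨e'⟩⟩
      · rw [Nat.card_congr e'.toEquiv, card_PGL2_subfield] at hcard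
        generalize Nat.card K = k at hk hK8 hcard ⊢
        interval_cases k <;> omega
      · rw [Nat.card_congr e'.toEquiv] at hcard
        have h1 := card_PSL2_nat (F := K)
        rw [hcard, ← Nat.card_eq_fintype_card] at h1
        generalize Nat.card K = k at hk hK8 h1 ⊢
        interval_cases k <;> simp at h1 ⊢
  obtain ⟨P, K, hK, hPK⟩ := alt5_descend p hodd f hfinj
  have hK5 : Nat.card K = 5 := by
    rcases hK with h | ⟨-, h⟩
    · rw [h, hp5]
    · omega
  have hlt : Nat.card K < qF := by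
    rw [hK5]
    rcases hC.quad.big.lt_or_eq with h | h
    · exact h
    · exfalso
      have h2 := hC.quad.card_range
      rw [← h, ← Nat.card_congr (MonoidHom.ofInjective (ι_injective F)).toEquiv] at h2
      have h3 : Nat.card N = 60 := by rw [Nat.card_congr e.toEquiv, card_alt5]
      have : N = ⊤ := Subgroup.eq_top_of_card_eq _ (by omega)
      exact hC.notL fun x ⟨z, hz⟩ => hz ▸ (this ▸ Subgroup.mem_top z : z ∈ N)
  have hle : N.map (cjP P).toMonoidHom ≤ projField K := by
    rintro _ ⟨x, hx, rfl⟩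
    obtain ⟨a, ha⟩ := hPK ⟨x, ⟨e ⟨x, hx⟩, by simp [hf]⟩, rfl⟩
    rw [← ha]; exact slToProj_mem K a
  obtain ⟨r2, r3, r5, n2, n3, n5⟩ := a5_rel
  refine hC.of_field p P K hle hlt (e.symm a5b).2 (e.symm (a5a * a5b)).2 ?_ ?_ ?_
  · show Odd (orderOf (f a5b))
    rw [orderOf_injective f hfinj, orderOf_eq_prime r3 n3]; decide
  · show Odd (orderOf (f (a5a * a5b)))
    rw [orderOf_injective f hfinj, @orderOf_eq_prime _ _ _ 5 ⟨by norm_num⟩ r5 n5]; decide
  · intro h
    have h1 : f (a5b * (a5a * a5b)) = f ((a5a * a5b) * a5b) := by rw [map_mul f a5b, map_mul f (a5a * a5b)]; exact h.eq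
    exact absurd (hfinj h1) (by decide)

/-- From a torus. -/
theorem Ctx.of_torus_elem {d : L2} (hd : d ≠ 1)
    (h : ∀ g ∈ M, ∃ y ∈ tor d, ι F y = g * ι F d * g⁻¹) : Shape F M := by
  have hodd := oddF p hC.quad
  rcases hC.of_torus p hd h with ⟨P, hP⟩ | ⟨hdp, hN⟩
  · exact .borel P hP
  have hN' := hN
  obtain ⟨eD⟩ := normalizer_tor_dihedral p hdp
  have eN := (MulEquiv.subgroupCongr hN).trans eD
  set k := Nat.card (tor d) with hk
  obtain ⟨htri, -, -⟩ := tor_trichotomy p hdp
  rw [gcd_eq_two hodd, ← hk] at htri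
  have h5 := bigF p hC.quad
  have hk2 : 2 ≤ k := by omega
  have h3 : 3 ≤ k := by
    by_contra h'
    have hk' : k = 2 := by omega
    rw [hk'] at eN
    haveI : IsKleinFour (M.comap (ι F)) :=
      ⟨by rw [Nat.card_congr eN.toEquiv, DihedralGroup.nat_card],
        (Monoid.exponent_eq_of_mulEquiv eN).trans (by rw [DihedralGroup.exponent]; rfl)⟩
    have h1 := hC.of_klein p this (fun g hg v hv => hC.conj_mem hg hv)
    have h2 := card_normalizer_klein p hodd this
    rw [← h1, Nat.card_congr eN.toEquiv, DihedralGroup.nat_card] at h2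
    split_ifs at h2 <;> omega
  have hcop : ¬ p ∣ 2 * k := by
    intro hd2
    rcases (Fact.out : p.Prime).dvd_mul.1 hd2 with h' | h'
    · exact two_ne_p p hC.quad.oddE ((Nat.prime_dvd_prime_iff_eq Fact.out Nat.prime_two).1 h')
    · have hkk : k ∣ (Fintype.card F + 1) / 2 ∨ k ∣ (Fintype.card F - 1) / 2 :=
        htri.imp dvd_of_eq dvd_of_eq
      have := coprime_q p (F := F) (k := k) (by rw [gcd_eq_two hodd]; exact hkk)
      obtain ⟨b, hb, hbq⟩ := FiniteField.card F p
      rw [hbq] at this
      exact ((Fact.out : p.Prime).coprime_iff_not_dvd.1 (Nat.Coprime.coprime_dvd_right (dvd_pow_self p b.ne_zero) this).symm) h'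
  have hM := dihedral_shape p hC.quad h3 hcop eN (fun x hx => hx) hC.le (fun x hx => hx) (by
    rw [hC.card_eq, Nat.card_congr eN.toEquiv, DihedralGroup.nat_card]; ring)
  have hdp' : d ^ ringChar E ≠ 1 := by rwa [ringChar.eq E p]
  exact .torus d hdp' hN' h3 hM

/-- Maximal subgroups of `PGL₂(q)` not containing `PSL₂(q)`. -/
theorem Ctx.shape : Shape F M := by
  classical
  have hp := (Fact.out : p.Prime)
  have hodd := oddF p hC.quad
  set N := M.comap (ι F) with hN
  have hbot := hC.comap_ne_bot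
  cases dickson p N with
  | cyclic hc _ =>
    obtain ⟨c, hcg⟩ := IsCyclic.exists_generator (α := N)
    have hc1 : (c : L2) ≠ 1 := by
      intro h
      apply hbot
      rw [eq_bot_iff]
      intro x hx
      obtain ⟨m, hm⟩ := Subgroup.mem_zpowers_iff.1 (hcg ⟨x, hx⟩)
      have h2 := congrArg Subtype.val hm
      rw [SubgroupClass.coe_zpow, h, _root_.one_zpow] at h2
      exact Subgroup.mem_bot.2 h2.symm
    refine hC.of_torus_elem p hc1 fun g hg => ?_
    obtain ⟨y, hy, -⟩ := hC.conj_elem p hg c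
    obtain ⟨m, hm⟩ := Subgroup.mem_zpowers_iff.1 (hcg y)
    refine ⟨y, ?_, hy⟩
    rw [← hm, SubgroupClass.coe_zpow]
    exact zpow_mem (self_mem_tor _) _
  | dihedral k h _ =>
    obtain ⟨e⟩ := h
    have hk0 : k ≠ 0 := by
      rintro rfl
      haveI : Finite (DihedralGroup 0) := Finite.of_equiv _ e.toEquiv
      exact not_finite (DihedralGroup 0)
    haveI : NeZero k := ⟨hk0⟩
    have hc1' : ∀ a : DihedralGroup k, a ≠ 1 → ((e.symm a : N) : L2) ≠ 1 := fun a ha h1 =>
      ha (by rw [← map_eq_one_iff _ e.symm.injective]; exact Subtype.ext h1)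
    by_cases hk1 : k = 1
    · subst hk1
      refine hC.of_torus_elem p (hc1' (DihedralGroup.sr 0) (by decide)) fun g hg => ?_
      obtain ⟨y, hy, ho⟩ := hC.conj_elem p hg (e.symm (DihedralGroup.sr 0))
      have key : ∀ u : DihedralGroup 1, u = 1 ∨ u = DihedralGroup.sr 0 := by decide
      refine ⟨y, ?_, hy⟩
      rcases key (e y) with h | h
      · rw [map_eq_one_iff _ e.injective] at h
        rw [h, Subgroup.coe_one]; exact one_mem _
      · rw [← e.symm_apply_apply y, h]; exact self_mem_tor _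
    by_cases hk2 : k = 2
    · exfalso
      subst hk2
      haveI : IsKleinFour N := ⟨by rw [Nat.card_congr e.toEquiv, DihedralGroup.nat_card],
        (Monoid.exponent_eq_of_mulEquiv e).trans (by rw [DihedralGroup.exponent]; rfl)⟩
      have h1 := hC.of_klein p this (fun g hg v hv => hC.conj_mem hg hv)
      have h2 := card_normalizer_klein p hodd this
      rw [← h1, Nat.card_congr e.toEquiv, DihedralGroup.nat_card] at h2
      split_ifs at h2 <;> omega
    have hr1 : (DihedralGroup.r 1 : DihedralGroup k) ≠ 1 := fun h1 => by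
      have := congrArg orderOf h1
      rw [DihedralGroup.orderOf_r_one, orderOf_one] at this
      omega
    refine hC.of_torus_elem p (hc1' _ hr1) fun g hg => ?_
    obtain ⟨y, hy, ho⟩ := hC.conj_elem p hg (e.symm (DihedralGroup.r 1))
    refine ⟨y, ?_, hy⟩
    rw [MulEquiv.orderOf_eq, DihedralGroup.orderOf_r_one] at ho
    rcases hey : e y with i | i
    · have : e y = DihedralGroup.r 1 ^ (i.val) := by
        rw [hey, DihedralGroup.r_one_pow, ZMod.natCast_zmod_val]
      rw [← e.symm_apply_apply y, this, map_pow, Subgroup.coe_pow]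
      exact pow_mem (self_mem_tor _) _
    · have h2 := MulEquiv.orderOf_eq e y
      rw [hey, DihedralGroup.orderOf_sr, ho] at h2
      omega
  | borel P h hz =>
    obtain ⟨z, hzN, hz1, hzp⟩ := hz
    refine hC.of_torus_elem p hz1 fun g hg => ?_
    obtain ⟨y, hy, ho⟩ := hC.conj_elem p hg ⟨z, hzN⟩
    refine ⟨y, ?_, hy⟩
    have hyp : (y : L2) ^ p = 1 := by
      rw [← Subgroup.coe_pow]
      have : y ^ p = 1 := by
        rw [← orderOf_dvd_iff_pow_eq_one, ho, orderOf_dvd_iff_pow_eq_one]
        exact Subtype.ext hzp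
      rw [this]; rfl
    have htr : ∀ w : L2, w ∈ N → w ^ p = 1 → ∃ s, cjP P w = transl s := by
      intro w hw hwp
      have hwB : cjP P w ∈ borelP := h ⟨w, hw, rfl⟩
      exact ⟨_, eq_transl_of_mult_one hwB ((mult_eq_one_iff p hwB).2 (by rw [← map_pow, hwp, map_one]))⟩
    obtain ⟨s, hs⟩ := htr z hzN hzp
    obtain ⟨t, ht⟩ := htr y y.2 hyp
    rw [← cjP_mem_tor P, hs, ht]
    have hs0 : s ≠ 0 := by
      rintro rfl
      apply hz1
      rw [← map_eq_one_iff _ (cjP P).injective, hs]
      simp [transl, upSL]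
      exact proj_eq_one_iff.2 (mem_center_iff_isScalar2.2 (by simp [H40.IsScalar2]))
    exact (tor_transl hs0).2 ⟨t, rfl⟩
  | a4 h => exact h.elim fun e => hC.of_alt4 p e
  | s4 h => exact h.elim fun e => (hC.no_perm4 p e).elim
  | a5 h => exact h.elim fun e => hC.of_alt5 p e
  | field P K h he =>
    haveI : Fintype K := Fintype.ofFinite K
    obtain ⟨a, ha0, ha⟩ := subfield_card_eq_pow (p := p) K
    have hKodd : Odd (Fintype.card K) := by
      rw [← Nat.card_eq_fintype_card, ha]
      exact (hp.odd_of_ne_two (two_ne_p p hC.quad.oddE)).pow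
    have hKle : Nat.card K ≤ qF := Finite.card_subtype_le _
    have hlow : Nat.card K * (Nat.card K ^ 2 - 1) ≤ 2 * Nat.card N := by
      rcases he with ⟨⟨e⟩⟩ | ⟨⟨e⟩⟩
      · rw [Nat.card_congr e.toEquiv, card_PGL2_subfield]; omega
      · rw [Nat.card_congr e.toEquiv]
        have h1 := card_PSL2_nat (F := K)
        rw [gcd_eq_two hKodd, ← Nat.card_eq_fintype_card] at h1
        omega
    have hlt : Nat.card K < qF := by
      rcases hKle.lt_or_eq with h' | h'
      · exact h'
      exfalso
      rw [h'] at hlow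
      have h2 := hC.quad.card_range
      rw [← Nat.card_congr (MonoidHom.ofInjective (ι_injective F)).toEquiv] at h2
      have : N = ⊤ := Subgroup.eq_top_of_le_card _ (by omega)
      exact hC.notL fun x ⟨w, hw⟩ => hw ▸ (this ▸ Subgroup.mem_top w : w ∈ N)
    set N' := N.map (cjP P).toMonoidHom with hN'
    have hcN' : Nat.card N' = Nat.card N := (Nat.card_congr (cjEquiv P N).toEquiv).symm
    have hbig : Nat.card (projField K) ≤ Nat.card K * (Nat.card K ^ 2 - 1) := projField_card_le K
    have hodd_in : ∀ x ∈ projField K, Odd (orderOf x) → x ∈ N' := by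
      intro x hx ho
      have hidx : (N'.subgroupOf (projField K)).index ≤ 2 := by
        have h1 := (N'.subgroupOf (projField K)).card_mul_index
        rw [Nat.card_congr (Subgroup.subgroupOfEquivOfLe h).toEquiv, hcN'] at h1
        have hpos : 0 < Nat.card N := Nat.card_pos
        by_contra hgt
        have : Nat.card N * 3 ≤ Nat.card N * (N'.subgroupOf (projField K)).index :=
          Nat.mul_le_mul_left _ (by omega)
        omega
      have hidx0 : (N'.subgroupOf (projField K)).index ≠ 0 := Subgroup.index_ne_zero_of_finite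
      have hsq : x ^ 2 ∈ N' := by
        rcases (show (N'.subgroupOf (projField K)).index = 1 ∨ (N'.subgroupOf (projField K)).index = 2 by omega) with h' | h'
        · exact pow_mem (Subgroup.subgroupOf_eq_top.1 (Subgroup.index_eq_one.1 h') hx) 2
        · exact Subgroup.sq_mem_of_index_two h' (⟨x, hx⟩ : projField K)
      obtain ⟨j, hj⟩ := ho
      have : x = (x ^ 2) ^ (j + 1) := by
        rw [← pow_mul, show 2 * (j + 1) = orderOf x + 1 by omega, pow_succ, pow_orderOf_eq_one, one_mul]
      rw [this]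
      exact pow_mem hsq _
    have hlow : proj (lowSL : SL(2, F)) ∈ projField K := ⟨lowSL, rfl, 1, one_ne_zero, fun i j => by
      rw [one_mul]; fin_cases i <;> fin_cases j <;> simp [lowSL]⟩
    have hlp : (proj (lowSL : SL(2, F))) ^ p = 1 := by
      rw [pow_char_eq_one_iff p, tr_def]
      simp [lowSL]; norm_num
    have htp : (transl (1 : F)) ^ p = 1 :=
      (mult_eq_one_iff p (transl_mem_borelP _)).1 (mult_transl _)
    have hpodd : Odd p := hp.odd_of_ne_two (two_ne_p p hC.quad.oddE)
    have hord : ∀ x : L2, x ^ p = 1 → Odd (orderOf x) := fun x hx =>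
      hpodd.of_dvd_nat (orderOf_dvd_of_pow_eq_one hx)
    have hpull : ∀ x ∈ N', (cjP P).symm x ∈ M.comap (ι F) := by
      rintro _ ⟨y, hy, rfl⟩
      show (cjP P).symm (cjP P y) ∈ M.comap (ι F)
      rw [MulEquiv.symm_apply_apply]; exact hy
    refine hC.of_field p P K h hlt
      (hpull _ (hodd_in _ (transl_mem_projField K (one_mem K)) (hord _ htp)))
      (hpull _ (hodd_in _ hlow (hord _ hlp))) ?_ ?_ ?_
    · rw [MulEquiv.orderOf_eq]; exact hord _ htp
    · rw [MulEquiv.orderOf_eq]; exact hord _ hlp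
    · intro hc
      apply transl_noncomm (F := F)
      have := hc.map (cjP P : L2 ≃* L2).toMonoidHom
      simpa using this

end H42.PGLMax
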