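import Mathlib
import Cfsg.Agent.H42.PSL2Cases

/-!
Helpers to read off isomorphism types from the coarse list.
-/

set_option autoImplicit false
set_option linter.style.haveILetI false
set_option linter.unusedSectionVars false

namespace H42

open Matrix H39
open scoped MatrixGroups

variable {F : Type*} [Field F] [Fintype F]

local notation "G2" => Matrix.ProjectiveSpecialLinearGroup (Fin 2) F

lemma exists_type0_field (p : ℕ) [Fact p.Prime] [CharP F p] (K : Subfield F) :
    ∃ (F₀ : Type) (_ : Field F₀) (_ : Fintype F₀),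
      Fintype.card F₀ = Nat.card K ∧ Nonempty (K ≃+* F₀) := by
  classical
  obtain ⟨a, ha0, ha⟩ := subfield_card_eq_pow (p := p) K
  haveI : Fintype K := Fintype.ofFinite K
  haveI : Fintype (GaloisField p a) := Fintype.ofFinite _
  have hc : Fintype.card (GaloisField p a) = Nat.card K := by
    rw [← Nat.card_eq_fintype_card, GaloisField.card p a ha0.ne', ha]
  refine ⟨GaloisField p a, inferInstance, inferInstance, hc, ⟨FiniteField.ringEquivOfCardEq ?_⟩⟩
  rw [hc, Nat.card_eq_fintype_card]

/-- `M ≅ M.map (cjP P)`. -/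
noncomputable def cjEquiv (P : GL (Fin 2) F) (M : Subgroup G2) : M ≃* M.map (cjP P).toMonoidHom :=
  Subgroup.equivMapOfInjective M _ (cjP P).injective

lemma nonempty_equiv_subfield {M : Subgroup G2} {P : GL (Fin 2) F} {K : Subfield F} {r : ℕ}
    (hF : Fintype.card F = Nat.card K ^ r) (h : M.map (cjP P).toMonoidHom = projField K) :
    ((Even r ∨ ringChar F = 2) → Nonempty (M ≃* Matrix.ProjGenLinGroup (Fin 2) K)) ∧
    ((Odd r ∨ ringChar F = 2) → Nonempty (M ≃* Matrix.ProjectiveSpecialLinearGroup (Fin 2) K)) :=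
  ⟨fun he => ⟨((cjEquiv P M).trans (MulEquiv.subgroupCongr h)).trans (projFieldPGL K hF he)⟩,
   fun ho => ⟨((cjEquiv P M).trans (MulEquiv.subgroupCongr h)).trans (projFieldPSL K hF ho)⟩⟩

end H42
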