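import Mathlib
import Cfsg.Agent.H42.PSL2CaseTools
import Cfsg.Agent.H39.Platonic

/-!
Small exceptions in the list of maximal subgroups of `PSL₂(q)`, `q` odd.
-/

set_option autoImplicit false
set_option linter.style.haveILetI false
set_option linter.unusedSectionVars false

namespace H42

open Matrix H39
open scoped MatrixGroups

variable {F : Type*} [Field F] [Fintype F] (p : ℕ) [Fact p.Prime] [CharP F p]

local notation "G2" => Matrix.ProjectiveSpecialLinearGroup (Fin 2) F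
local notation "qq" => Fintype.card F
local notation "dq" => Nat.gcd 2 (Fintype.card F - 1)
local notation "mq" => evenHalf (Fintype.card F)

lemma map_conj_isCoatom {G : Type*} [Group G] {M : Subgroup G} (hM : IsCoatom M) (g : G) :
    IsCoatom (M.map (MulAut.conj g).toMonoidHom) :=
  (OrderIso.isCoatom_iff (MulAut.conj g).mapSubgroup M).2 hM

/-- A torus normaliser inside a bigger proper subgroup is not maximal. -/
theorem not_coatom_torus {X : Type*} [Group X] {H : Subgroup G2} (e : H ≃* X) (hH : H ≠ ⊤) {c : G2}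
    (hc : c ^ p ≠ 1) {x g : X} (hx : orderOf x = Nat.card (tor c)) (hgx : g * x * g⁻¹ = x⁻¹)
    (hg : g ∉ Subgroup.zpowers x) (hne : Nat.card X ≠ 2 * Nat.card (tor c)) :
    ¬ IsCoatom (Subgroup.normalizer (tor c : Set G2)) := by
  intro hM
  have hc1 : c ≠ 1 := fun h => hc (by rw [h, one_pow])
  obtain ⟨hcard, hN, hconj⟩ := tor_trichotomy p hc
  set x' : G2 := ((e.symm x : H) : G2) with hx'
  set g' : G2 := ((e.symm g : H) : G2) with hg'
  have hox : orderOf x' = Nat.card (tor c) := by rw [hx', Subgroup.orderOf_coe, MulEquiv.orderOf_eq, hx]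
  have hx1 : x' ≠ 1 := by
    intro h
    rw [h, orderOf_one] at hox
    haveI := (Nat.card_eq_one_iff_unique.1 hox.symm).1
    exact hc1 (congrArg Subtype.val (Subsingleton.elim (⟨c, self_mem_tor c⟩ : tor c) 1))
  obtain ⟨hxp, hxcard⟩ := card_tor_of_orderOf p hx1 (hox ▸ hcard)
  obtain ⟨h, hh⟩ := hconj x' hxp (hxcard.trans hox)
  have htor : tor x' = Subgroup.zpowers x' := by
    symm
    exact Subgroup.eq_of_le_of_card_ge (Subgroup.zpowers_le.2 (self_mem_tor x')) (by rw [Nat.card_zpowers, hxcard])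
  set N' := Subgroup.normalizer (tor x' : Set G2) with hN'
  have hg'N : g' ∈ N' := by
    refine mem_normalizer_tor hx1 ?_
    have : g' * x' * g'⁻¹ = x'⁻¹ := by
      have h1 := congrArg (fun y : X => ((e.symm y : H) : G2)) hgx
      simpa [hx', hg'] using h1
    rw [this]; exact inv_mem (self_mem_tor _)
  have hN'H : N' ≤ H := by
    have hxH : tor x' ≤ N' ⊓ H := le_inf Subgroup.le_normalizer (by
      rw [htor]; exact Subgroup.zpowers_le.2 (e.symm x).2)
    have hg'T : g' ∉ tor x' := by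
      rw [htor]
      intro hm
      obtain ⟨m, hm⟩ := Subgroup.mem_zpowers_iff.1 hm
      refine hg (Subgroup.mem_zpowers_iff.2 ⟨m, e.symm.injective ?_⟩)
      rw [map_zpow]; apply Subtype.ext
      rw [SubgroupClass.coe_zpow]; exact hm
    have hlt : tor x' < N' ⊓ H := lt_of_le_of_ne hxH (fun he => hg'T (he ▸ ⟨hg'N, (e.symm g).2⟩))
    have hd : Nat.card (tor x') ∣ Nat.card (N' ⊓ H : Subgroup G2) := Subgroup.card_dvd_of_le hxH
    have hlt' : Nat.card (tor x') < Nat.card (N' ⊓ H : Subgroup G2) := by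
      rcases (Nat.le_of_dvd Nat.card_pos hd).lt_or_eq with h | h
      · exact h
      · exact absurd (Subgroup.eq_of_le_of_card_ge hxH h.ge) hlt.ne
    obtain ⟨k, hk⟩ := hd
    have hk2 : 2 ≤ k := by
      by_contra hk2
      interval_cases k <;> omega
    have h2 := (tor_trichotomy p hxp).2.1
    have : N' ⊓ H = N' := Subgroup.eq_of_le_of_card_ge inf_le_left (by
      rw [h2, hk]; exact (mul_comm 2 _).le.trans (Nat.mul_le_mul_left _ hk2))
    exact inf_eq_left.1 this
  set M' := (Subgroup.normalizer (tor c : Set G2)).map (MulAut.conj h).toMonoidHom with hM'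
  have hM'le : M' ≤ N' := by
    rintro _ ⟨y, hy, rfl⟩
    have htc : tor x' = tor (h * c * h⁻¹) := by rw [tor_conj, hh]
    show h * y * h⁻¹ ∈ N'
    rw [hN', htc]
    refine mem_normalizer_tor (fun e => hc1 (conj_eq_one_iff.1 e)) ?_
    rw [show h * y * h⁻¹ * (h * c * h⁻¹) * (h * y * h⁻¹)⁻¹ = h * (y * c * y⁻¹) * h⁻¹ by group, tor_conj]
    exact ⟨_, (Subgroup.mem_normalizer_iff.1 hy c).1 (self_mem_tor c), rfl⟩
  have hMH : M' = H := eq_of_coatom_le (map_conj_isCoatom hM h) (hM'le.trans hN'H) hH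
  apply hne
  rw [← Nat.card_congr e.toEquiv, ← hMH, hM',
    ← Nat.card_congr (Subgroup.equivMapOfInjective _ _ (MulAut.conj h).injective).toEquiv, hN]

lemma card_ne_top_of_lt {H : Subgroup G2} {X : Type*} [Group X] (e : H ≃* X) {k : ℕ} (hk : Nat.card X = k)
    (h : k < Nat.card G2) : H ≠ ⊤ :=
  card_lt_of_proper_ne_top (by rw [Nat.card_congr e.toEquiv, hk]; exact h)

lemma card_alt4 : Nat.card (alternatingGroup (Fin 4)) = 12 := by rw [Nat.card_eq_fintype_card]; rfl
lemma card_alt5 : Nat.card (alternatingGroup (Fin 5)) = 60 := by rw [Nat.card_eq_fintype_card]; rfl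
lemma card_perm4 : Nat.card (Equiv.Perm (Fin 4)) = 24 := by rw [Nat.card_eq_fintype_card]; rfl

lemma exists_perm4_pair : (∃ x g : Equiv.Perm (Fin 4), orderOf x = 3 ∧ g * x * g⁻¹ = x⁻¹ ∧ g ∉ Subgroup.zpowers x) ∧
    (∃ x g : Equiv.Perm (Fin 4), orderOf x = 4 ∧ g * x * g⁻¹ = x⁻¹ ∧ g ∉ Subgroup.zpowers x) := by
  have key : ∀ (x g : Equiv.Perm (Fin 4)) (k : ℕ), orderOf x = k → 0 < k →
      (∀ i : Fin k, x ^ (i : ℕ) ≠ g) → g ∉ Subgroup.zpowers x := by
    intro x g k hk hk0 h hg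
    rw [← mem_powers_iff_mem_zpowers] at hg
    obtain ⟨i, hi⟩ := hg
    exact h ⟨i % k, Nat.mod_lt _ hk0⟩ (by have := (pow_mod_orderOf x i).trans hi; rw [hk] at this; exact this)
  refine ⟨⟨Equiv.swap 0 1 * Equiv.swap 1 2, Equiv.swap 0 1, ?_, by decide, ?_⟩,
    ⟨finRotate 4, Equiv.swap 0 2, ?_, by decide, ?_⟩⟩
  · haveI : Fact (Nat.Prime 3) := ⟨Nat.prime_three⟩
    exact orderOf_eq_prime (by decide) (by decide)
  · refine key _ _ 3 ?_ (by norm_num) (by decide)
    haveI : Fact (Nat.Prime 3) := ⟨Nat.prime_three⟩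
    exact orderOf_eq_prime (by decide) (by decide)
  · exact orderOf_eq_prime_pow (p := 2) (n := 1) (by decide) (by decide)
  · exact key _ _ 4 (orderOf_eq_prime_pow (p := 2) (n := 1) (by decide) (by decide)) (by norm_num) (by decide)

lemma exists_alt4_pair : ∃ x g : alternatingGroup (Fin 4),
    orderOf x = 2 ∧ g * x * g⁻¹ = x⁻¹ ∧ g ∉ Subgroup.zpowers x := by
  refine ⟨a4a, a4b * a4a * a4b⁻¹, orderOf_eq_prime (by decide) (by decide), by decide, fun hg => ?_⟩
  rw [← mem_powers_iff_mem_zpowers] at hg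
  obtain ⟨i, hi⟩ := hg
  have h2 : orderOf a4a = 2 := orderOf_eq_prime (by decide) (by decide)
  have hi' : a4a ^ (i % 2) = a4b * a4a * a4b⁻¹ := by rw [← h2]; exact (pow_mod_orderOf a4a i).trans hi
  rcases Nat.mod_two_eq_zero_or_one i with h | h <;> rw [h] at hi' <;> revert hi' <;> decide

lemma exists_alt5_pair : ∃ x g : alternatingGroup (Fin 5),
    orderOf x = 5 ∧ g * x * g⁻¹ = x⁻¹ ∧ g ∉ Subgroup.zpowers x := by
  haveI : Fact (Nat.Prime 5) := ⟨by norm_num⟩
  have h5 : orderOf (a5a * a5b) = 5 := orderOf_eq_prime a5_rel.2.2.1 a5_rel.2.2.2.2.2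
  have h : ∃ g : alternatingGroup (Fin 5), g * (a5a * a5b) * g⁻¹ = (a5a * a5b)⁻¹ ∧
      ∀ i : Fin 5, (a5a * a5b) ^ (i : ℕ) ≠ g := by decide +kernel
  obtain ⟨g, h1, h2⟩ := h
  refine ⟨a5a * a5b, g, h5, h1, fun hg => ?_⟩
  rw [← mem_powers_iff_mem_zpowers] at hg
  obtain ⟨i, hi⟩ := hg
  exact h2 ⟨i % 5, Nat.mod_lt _ (by norm_num)⟩ (by have := (pow_mod_orderOf _ i).trans hi; rw [h5] at this; exact this)

/-- Exceptions among the dihedral subgroups. -/
theorem torus_exceptions (hodd : Odd qq) (h5 : 5 ≤ qq) {c : G2} (hc : c ^ p ≠ 1)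
    (hM : IsCoatom (Subgroup.normalizer (tor c : Set G2))) :
    (Nat.card (tor c) = (qq - 1) / 2 → 13 ≤ qq) ∧ (Nat.card (tor c) = (qq + 1) / 2 → qq ≠ 7 ∧ qq ≠ 9) := by
  have hG := card_G2_eq (F := F)
  rw [gcd_eq_two hodd] at hG
  obtain ⟨⟨x3, g3, o3, r3, n3⟩, x4, g4, o4, r4, n4⟩ := exists_perm4_pair
  obtain ⟨x2, g2, o2, r2, n2⟩ := exists_alt4_pair
  obtain ⟨x5, g5, o5, r5, n5⟩ := exists_alt5_pair
  have useS4 : ∀ (x g : Equiv.Perm (Fin 4)) (k : ℕ), qq ^ 2 % 16 = 1 → 24 < Nat.card G2 → orderOf x = k →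
      g * x * g⁻¹ = x⁻¹ → g ∉ Subgroup.zpowers x → k < 12 → Nat.card (tor c) ≠ k := by
    intro x g k h16 hlt ho hr hn hk hcard
    obtain ⟨H, ⟨e⟩⟩ := (exists_perm4_iff p (F := F)).2 h16
    exact not_coatom_torus p e (card_ne_top_of_lt e card_perm4 hlt) hc (ho.trans hcard.symm) hr hn
      (by rw [card_perm4, hcard]; omega) hM
  have useA5 : 5 ∣ qq * (qq ^ 2 - 1) → 60 < Nat.card G2 → Nat.card (tor c) ≠ 5 := by
    intro h hlt hcard
    obtain ⟨H, ⟨e⟩⟩ := (exists_alt5_iff p (F := F)).2 h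
    exact not_coatom_torus p e (card_ne_top_of_lt e card_alt5 hlt) hc (o5.trans hcard.symm) r5 n5
      (by rw [card_alt5, hcard]; omega) hM
  obtain ⟨j, hj⟩ := hodd
  constructor
  · intro hcard
    by_contra h13
    have hq : qq = 5 ∨ qq = 7 ∨ qq = 9 ∨ qq = 11 := by omega
    rcases hq with e | e | e | e <;> rw [e] at hcard hG <;> norm_num at hcard hG
    · obtain ⟨H, ⟨e'⟩⟩ := (exists_alt4_or_perm4 p ⟨j, hj⟩ (F := F)).2
      exact not_coatom_torus p e' (card_ne_top_of_lt e' card_alt4 (by rw [hG]; norm_num)) hc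
        (o2.trans hcard.symm) r2 n2 (by rw [card_alt4, hcard]; omega) hM
    · exact useS4 x3 g3 3 (by rw [e]; norm_num) (by rw [hG]; norm_num) o3 r3 n3 (by norm_num) hcard
    · exact useS4 x4 g4 4 (by rw [e]; norm_num) (by rw [hG]; norm_num) o4 r4 n4 (by norm_num) hcard
    · exact useA5 (by rw [e]; norm_num) (by rw [hG]; norm_num) hcard
  · intro hcard
    constructor <;> intro e <;> rw [e] at hcard hG <;> norm_num at hcard hG
    · exact useS4 x4 g4 4 (by rw [e]; norm_num) (by rw [hG]; norm_num) o4 r4 n4 (by norm_num) hcard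
    · exact useA5 (by rw [e]; norm_num) (by rw [hG]; norm_num) hcard

/-- An injective `A₄` normalises a four-group. -/
lemma exists_klein_of_alt4 (f : alternatingGroup (Fin 4) →* G2) (hf : Function.Injective f) :
    ∃ V : Subgroup G2, IsKleinFour V ∧ f.range ≤ Subgroup.normalizer (V : Set G2) := by
  set v := a4b * a4a * a4b⁻¹ with hv
  have o1 : orderOf (f a4a) = 2 := by
    rw [orderOf_injective f hf]; exact orderOf_eq_prime (by decide) (by decide)
  have o2 : orderOf (f v) = 2 := by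
    rw [orderOf_injective f hf]; exact orderOf_eq_prime (by decide) (by decide)
  have hcomm : Commute (f a4a) (f v) := (show Commute a4a v by unfold Commute SemiconjBy; decide).map f
  have hne : f a4a ≠ f v := fun h => absurd (hf h) (by decide)
  refine ⟨_, fourGroup_isKleinFour o1 o2 hcomm hne, ?_⟩
  have hW : ∀ u w : alternatingGroup (Fin 4), (w = 1 ∨ w = a4a ∨ w = v ∨ w = a4a * v) →
      (u * w * u⁻¹ = 1 ∨ u * w * u⁻¹ = a4a ∨ u * w * u⁻¹ = v ∨ u * w * u⁻¹ = a4a * v) := by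
    decide +kernel
  have key : ∀ u : alternatingGroup (Fin 4), ∀ y ∈ fourGroup (mul_self_of_orderOf_two o1) (mul_self_of_orderOf_two o2) hcomm,
      f u * y * (f u)⁻¹ ∈ fourGroup (mul_self_of_orderOf_two o1) (mul_self_of_orderOf_two o2) hcomm := by
    intro u y hy
    rw [mem_fourGroup] at hy ⊢
    obtain ⟨w, hw, rfl⟩ : ∃ w, (w = 1 ∨ w = a4a ∨ w = v ∨ w = a4a * v) ∧ f w = y := by
      rcases hy with rfl | rfl | rfl | rfl
      · exact ⟨1, Or.inl rfl, map_one f⟩
      · exact ⟨a4a, Or.inr (Or.inl rfl), rfl⟩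
      · exact ⟨v, Or.inr (Or.inr (Or.inl rfl)), rfl⟩
      · exact ⟨a4a * v, Or.inr (Or.inr (Or.inr rfl)), map_mul f _ _⟩
    rw [← map_inv, ← map_mul, ← map_mul]
    rcases hW u w hw with h | h | h | h <;> rw [h] <;> simp
  rintro _ ⟨u, rfl⟩
  rw [Subgroup.mem_normalizer_iff]
  intro y
  refine ⟨fun hy => key u y hy, fun hy => ?_⟩
  have := key u⁻¹ _ hy
  simpa [mul_assoc] using this

/-- `A₄` is maximal in `PSL₂(p)` only for `p ≡ ±3 (mod 8)` and `p ≢ ±1 (mod 10)`. -/
theorem alt4_conditions (hodd : Odd qq) (h5 : 5 ≤ qq) (hqp : qq = p) {M : Subgroup G2} (hM : IsCoatom M)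
    (e : M ≃* alternatingGroup (Fin 4)) : (p % 8 = 3 ∨ p % 8 = 5) ∧ ¬ (p % 10 = 1 ∨ p % 10 = 9) := by
  set f := M.subtype.comp e.symm.toMonoidHom with hfdef
  have hf : Function.Injective f := Subtype.val_injective.comp e.symm.injective
  have hrange : M ≤ f.range := fun x hx => ⟨e ⟨x, hx⟩, by simp [f]⟩
  obtain ⟨V, hV, hVN⟩ := exists_klein_of_alt4 f hf
  have hG := card_G2_eq (F := F)
  rw [gcd_eq_two hodd] at hG
  have hcardN := card_normalizer_klein p hodd hV
  have hbig : 60 ≤ Nat.card G2 := by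
    rw [hG]
    have : 5 * 2 ≤ qq * ((qq - 1) / 2) := Nat.mul_le_mul h5 (by omega)
    calc 60 = 5 * 2 * 6 := rfl
      _ ≤ _ := Nat.mul_le_mul this (by omega)
  have hNtop : Subgroup.normalizer (V : Set G2) ≠ ⊤ := by
    apply card_lt_of_proper_ne_top
    rw [hcardN]; split_ifs <;> omega
  have hMN := eq_of_coatom_le hM (hrange.trans hVN) hNtop
  have h4 : ¬ 4 ∣ mq := by
    intro h4
    rw [if_pos h4, ← hMN, Nat.card_congr e.toEquiv, card_alt4] at hcardN
    omega
  have h8 : ¬ (p % 8 = 1 ∨ p % 8 = 7) := fun h => h4 ((four_dvd_evenHalf hodd).2 (by rw [hqp]; exact h))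
  have hp2 : p % 2 = 1 := by rw [← hqp]; exact Nat.odd_iff.1 hodd
  refine ⟨by omega, fun h10 => ?_⟩
  have hp5 : 5 ∣ qq * (qq ^ 2 - 1) := by
    refine Dvd.dvd.mul_left ?_ _
    have : qq ^ 2 % 5 = 1 := by
      rw [hqp, Nat.pow_mod]
      have : p % 5 = 1 ∨ p % 5 = 4 := by omega
      rcases this with e | e <;> rw [e]
    omega
  obtain ⟨H, ⟨eH⟩⟩ := (exists_alt5_iff p (F := F)).2 hp5
  have h11 : 11 ≤ qq := by omega
  have hbig' : 60 < Nat.card G2 := by
    rw [hG]
    have : 11 * 5 ≤ qq * ((qq - 1) / 2) := Nat.mul_le_mul h11 (by omega)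
    calc 60 < 11 * 5 * 12 := by norm_num
      _ ≤ _ := Nat.mul_le_mul this (by omega)
  obtain ⟨φ, hφ⟩ := alt4_in_alt5
  set f' := H.subtype.comp (eH.symm.toMonoidHom.comp φ) with hf'def
  have hf' : Function.Injective f' := Subtype.val_injective.comp (eH.symm.injective.comp hφ)
  obtain ⟨V', hV', hVN'⟩ := exists_klein_of_alt4 f' hf'
  have hcardN' := card_normalizer_klein p hodd hV'
  rw [if_neg h4] at hcardN'
  have hN' : f'.range = Subgroup.normalizer (V' : Set G2) := Subgroup.eq_of_le_of_card_ge hVN' (by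
    rw [hcardN', ← Nat.card_congr (MonoidHom.ofInjective hf').toEquiv, card_alt4])
  obtain ⟨g, hg⟩ := klein_conj_of_not_four_dvd p hodd h4 hV hV'
  have hle : M.map (MulAut.conj g).toMonoidHom ≤ H := by
    have h1 : M.map (MulAut.conj g).toMonoidHom ≤ Subgroup.normalizer (V' : Set G2) := by
      rw [hMN, hg]
      exact (Subgroup.map_equiv_normalizer_eq V (MulAut.conj g)).le
    refine h1.trans (hN' ▸ ?_)
    rintro _ ⟨u, rfl⟩
    exact (eH.symm (φ u)).2
  have := eq_of_coatom_le (map_conj_isCoatom hM g) hle (card_ne_top_of_lt eH card_alt5 hbig')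
  have h12 := congrArg (fun S : Subgroup G2 => Nat.card S) this
  rw [← Nat.card_congr (Subgroup.equivMapOfInjective _ _ (MulAut.conj g).injective).toEquiv,
    Nat.card_congr e.toEquiv, Nat.card_congr eH.toEquiv, card_alt4, card_alt5] at h12
  omega

lemma alt5_conditions (hodd : Odd qq) {M : Subgroup G2} (hM : M ≠ ⊤)
    (h : qq = p ∨ (qq = p ^ 2 ∧ (p % 5 = 2 ∨ p % 5 = 3))) (e : M ≃* alternatingGroup (Fin 5)) :
    (qq % 10 = 1 ∨ qq % 10 = 9) ∧ (qq = p ∨ (qq = p ^ 2 ∧ (p % 10 = 3 ∨ p % 10 = 7))) := by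
  have hp := (Fact.out : p.Prime)
  have hp2 : p % 2 = 1 := hp.eq_two_or_odd.resolve_left (two_ne_p p hodd)
  rcases h with h | ⟨h, h5⟩
  · refine ⟨?_, Or.inl h⟩
    have h5 : 5 ∣ qq * (qq ^ 2 - 1) := (exists_alt5_iff p).1 ⟨M, ⟨e⟩⟩
    rw [h] at h5 ⊢
    rcases (Nat.Prime.dvd_mul (by norm_num)).1 h5 with h5 | h5
    · exfalso
      have hp5 : 5 = p := (Nat.prime_dvd_prime_iff_eq (by norm_num) hp).1 h5
      apply hM
      apply Subgroup.eq_top_of_card_eq
      rw [Nat.card_congr e.toEquiv, card_G2_eq, h, ← hp5, card_alt5]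
      rfl
    · have : p % 5 = 1 ∨ p % 5 = 4 := by
        have h1 : p ^ 2 % 5 = 1 := by
          have : 0 < p ^ 2 := pow_pos hp.pos 2
          omega
        rw [Nat.pow_mod] at h1
        have := Nat.mod_lt p (show 5 > 0 by norm_num)
        interval_cases hr : p % 5 <;> simp at h1 <;> omega
      omega
  · have h10 : p % 10 = 3 ∨ p % 10 = 7 := by omega
    refine ⟨Or.inr ?_, Or.inr ⟨h, h10⟩⟩
    rw [h, Nat.pow_mod]
    rcases h10 with e | e <;> rw [e]

end H42
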