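import Mathlib
import Cfsg.Agent.H42.PSL2Odd

/-!
`A₄`, `S₄` and `A₅` as maximal subgroups of `PSL₂(q)`.
-/

set_option autoImplicit false
set_option linter.style.haveILetI false
set_option linter.unusedSectionVars false

namespace H42

open Matrix H39
open scoped MatrixGroups

variable {F : Type*} [Field F] [Fintype F] (p : ℕ) [Fact p.Prime] [CharP F p]

local notation "G2" => Matrix.ProjectiveSpecialLinearGroup (Fin 2) F
local notation "qq" => Fintype.card F

lemma alt4_in_perm4 : ∃ f : alternatingGroup (Fin 4) →* Equiv.Perm (Fin 4), Function.Injective f :=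
  ⟨(alternatingGroup (Fin 4)).subtype, Subtype.val_injective⟩

lemma alt4_not_dihedral {k : ℕ} (f : alternatingGroup (Fin 4) →* DihedralGroup k)
    (hf : Function.Injective f) : False := by
  have ho : orderOf (f a4b) = 3 := by
    haveI : Fact (Nat.Prime 3) := ⟨Nat.prime_three⟩
    rw [orderOf_injective f hf]
    exact orderOf_eq_prime a4_rel.2.1 a4_rel.2.2.2.2.1
  rcases hb : f a4b with i | i
  · have key : f (a4a * a4b * a4a⁻¹) = f a4b ∨ f (a4a * a4b * a4a⁻¹) = f a4b⁻¹ := by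
      rw [map_mul, map_mul, map_inv, map_inv, hb]
      cases f a4a with
      | r j => left; simp
      | sr j => right; simp
    rcases key with h | h <;> exact absurd (hf h) (by decide)
  · rw [hb, DihedralGroup.orderOf_sr] at ho
    omega

/-- What can contain an `A₄`. -/
theorem cases_over_alt4 (hodd : Odd qq) (h5 : 5 ≤ qq) {M : Subgroup G2} (hM : IsCoatom M)
    (f : alternatingGroup (Fin 4) →* M) (hf : Function.Injective f) :
    (∃ (P : GL (Fin 2) F) (K : Subfield F) (r : ℕ), r.Prime ∧ qq = Nat.card K ^ r ∧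
      M.map (cjP P).toMonoidHom = projField K) ∨
    (qq = p ∧ Nonempty (M ≃* alternatingGroup (Fin 4))) ∨
    (qq = p ∧ Nonempty (M ≃* Equiv.Perm (Fin 4))) ∨
    ((qq = p ∨ (qq = p ^ 2 ∧ (p % 5 = 2 ∨ p % 5 = 3))) ∧ Nonempty (M ≃* alternatingGroup (Fin 5))) := by
  set g := M.subtype.comp f with hgdef
  have hg : Function.Injective g := Subtype.val_injective.comp hf
  rcases maximal_cases p (by omega) M hM with ⟨P, h⟩ | ⟨c, hc, h⟩ | h | ⟨-, h⟩ | ⟨-, h⟩ | ⟨-, h⟩
  · exfalso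
    obtain ⟨-, -, -, -, -, -, c2, cn⟩ := a4_rel
    have hmem : ∀ u, cjP P (g u) ∈ borelP := fun u => h ▸ ⟨g u, (f u).2, rfl⟩
    refine no_borel_of_comm p (a := g a4a) (b := g a4b) (not_dvd_two_of_odd p hodd) ?_ ?_ P (hmem _) (hmem _)
    · simp only [← map_inv, ← map_mul]
      exact fun e => cn ((map_eq_one_iff g hg).1 e)
    · simp only [← map_inv, ← map_mul, ← map_pow]
      rw [c2, map_one]
  · exfalso
    obtain ⟨e⟩ := normalizer_tor_dihedral p hc
    exact alt4_not_dihedral (((MulEquiv.subgroupCongr h).trans e).toMonoidHom.comp f)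
      (((MulEquiv.subgroupCongr h).trans e).injective.comp hf)
  · exact Or.inl h
  · exact Or.inr (Or.inl h)
  · exact Or.inr (Or.inr (Or.inl h))
  · exact Or.inr (Or.inr (Or.inr h))

lemma exists_coatom_over {H : Subgroup G2} (hH : H ≠ ⊤) : ∃ M : Subgroup G2, IsCoatom M ∧ H ≤ M :=
  (eq_top_or_exists_le_coatom H).resolve_left hH

lemma not_field_of_prime (hq : qq = p) {K : Subfield F} {r : ℕ} (hr : r.Prime) (h : qq = Nat.card K ^ r) :
    False := by
  haveI : Fact (Nat.Prime p) := inferInstance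
  have h1 : (Nat.card K ^ r).Prime := h ▸ hq ▸ (Fact.out : p.Prime)
  have := hr.two_le
  exact absurd (Nat.Prime.eq_one_of_pow h1) (by omega)

lemma eq_of_le_card {H M : Subgroup G2} {X : Type*} [Group X] (hle : H ≤ M) (eH : H ≃* X)
    (eM : M ≃* X) : H = M :=
  Subgroup.eq_of_le_of_card_ge hle (by rw [Nat.card_congr eH.toEquiv, Nat.card_congr eM.toEquiv])

lemma card_dvd_of_le_equiv {H M : Subgroup G2} {X Y : Type*} [Group X] [Group Y] (hle : H ≤ M) (eH : H ≃* X)
    (eM : M ≃* Y) : Nat.card X ∣ Nat.card Y := by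
  rw [← Nat.card_congr eH.toEquiv, ← Nat.card_congr eM.toEquiv]
  exact Subgroup.card_dvd_of_le hle

theorem perm4_maximal (hq : qq = p) (h8 : p % 8 = 1 ∨ p % 8 = 7) :
    ∃ H : Subgroup G2, IsCoatom H ∧ Nonempty (H ≃* Equiv.Perm (Fin 4)) := by
  have hp := (Fact.out : p.Prime).two_le
  have hodd : Odd qq := by rw [hq, Nat.odd_iff]; omega
  have h7 : 7 ≤ qq := by omega
  obtain ⟨H, ⟨e⟩⟩ := (exists_perm4_iff p (F := F)).2 (by
    rw [hq, Nat.pow_mod]
    have : p % 16 = 1 ∨ p % 16 = 7 ∨ p % 16 = 9 ∨ p % 16 = 15 := by omega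
    rcases this with h | h | h | h <;> rw [h])
  have hbig : 24 < Nat.card G2 := by
    rw [card_G2_eq, gcd_eq_two hodd]
    have : 7 * 3 ≤ qq * ((qq - 1) / 2) := Nat.mul_le_mul h7 (by omega)
    calc 24 < 7 * 3 * 8 := by norm_num
      _ ≤ _ := Nat.mul_le_mul this (by omega)
  obtain ⟨M, hM, hle⟩ := exists_coatom_over (card_ne_top_of_lt e card_perm4 hbig)
  obtain ⟨ι, hι⟩ := alt4_in_perm4
  rcases cases_over_alt4 p hodd (by omega) hM ((Subgroup.inclusion hle).comp (e.symm.toMonoidHom.comp ι))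
    ((Subgroup.inclusion_injective hle).comp (e.symm.injective.comp hι)) with
    ⟨P, K, r, hr, h, -⟩ | ⟨-, ⟨eM⟩⟩ | ⟨-, ⟨eM⟩⟩ | ⟨-, ⟨eM⟩⟩
  · exact (not_field_of_prime p hq hr h).elim
  · exfalso
    have := card_dvd_of_le_equiv hle e eM
    rw [card_perm4, card_alt4] at this
    omega
  · exact ⟨H, eq_of_le_card hle e eM ▸ hM, ⟨e⟩⟩
  · exfalso
    have := card_dvd_of_le_equiv hle e eM
    rw [card_perm4, card_alt5] at this
    omega

theorem alt5_maximal (h : (qq = p ∧ (p % 10 = 1 ∨ p % 10 = 9)) ∨ (qq = p ^ 2 ∧ (p % 10 = 3 ∨ p % 10 = 7))) :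
    ∃ H : Subgroup G2, IsCoatom H ∧ Nonempty (H ≃* alternatingGroup (Fin 5)) := by
  have hp := (Fact.out : p.Prime).two_le
  have hp2 : p % 2 = 1 := by omega
  have hodd : Odd qq := by
    rcases h with ⟨h, -⟩ | ⟨h, -⟩ <;> rw [h]
    · exact Nat.odd_iff.2 hp2
    · exact (Nat.odd_iff.2 hp2).pow
  have h9 : 9 ≤ qq := by
    rcases h with ⟨h, hr⟩ | ⟨h, hr⟩ <;> rw [h]
    · omega
    · calc 9 = 3 ^ 2 := rfl
        _ ≤ p ^ 2 := Nat.pow_le_pow_left (by omega) 2
  have h5q : 5 ∣ qq * (qq ^ 2 - 1) := by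
    refine Dvd.dvd.mul_left ?_ _
    have : qq ^ 2 % 5 = 1 := by
      rcases h with ⟨h, hr⟩ | ⟨h, hr⟩ <;> rw [h, Nat.pow_mod]
      · have : p % 5 = 1 ∨ p % 5 = 4 := by omega
        rcases this with e | e <;> rw [e]
      · have : p % 5 = 2 ∨ p % 5 = 3 := by omega
        rw [Nat.pow_mod p]
        rcases this with e | e <;> rw [e]
    omega
  obtain ⟨H, ⟨e⟩⟩ := (exists_alt5_iff p (F := F)).2 h5q
  have hbig : 60 < Nat.card G2 := by
    rw [card_G2_eq, gcd_eq_two hodd]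
    have : 9 * 4 ≤ qq * ((qq - 1) / 2) := Nat.mul_le_mul h9 (by omega)
    calc 60 < 9 * 4 * 10 := by norm_num
      _ ≤ _ := Nat.mul_le_mul this (by omega)
  obtain ⟨M, hM, hle⟩ := exists_coatom_over (card_ne_top_of_lt e card_alt5 hbig)
  obtain ⟨ι, hι⟩ := alt4_in_alt5
  rcases cases_over_alt4 p hodd (by omega) hM ((Subgroup.inclusion hle).comp (e.symm.toMonoidHom.comp ι))
    ((Subgroup.inclusion_injective hle).comp (e.symm.injective.comp hι)) with
    ⟨P, K, r, hr, hK, hmap⟩ | ⟨-, ⟨eM⟩⟩ | ⟨-, ⟨eM⟩⟩ | ⟨-, ⟨eM⟩⟩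
  · exfalso
    rcases h with ⟨hq, -⟩ | ⟨hq, h10⟩
    · exact not_field_of_prime p hq hr hK
    · obtain ⟨a, ha0, ha⟩ := subfield_card_eq_pow (p := p) K
      rw [hq, ha, ← pow_mul] at hK
      have har : 2 = a * r := Nat.pow_right_injective (Fact.out : p.Prime).two_le hK
      have hr2 := hr.two_le
      have ha1 : a = 1 := by
        by_contra hne
        have : 2 * 2 ≤ a * r := Nat.mul_le_mul (by omega) hr2
        omega
      have hr' : r = 2 := by rw [ha1, one_mul] at har; exact har.symm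
      obtain ⟨eP⟩ := (nonempty_equiv_subfield (r := r) (by rw [hq, ha, ← pow_mul, har]) hmap).1
        (Or.inl (hr' ▸ even_two))
      have hd := Subgroup.card_dvd_of_le hle
      rw [Nat.card_congr e.toEquiv, card_alt5, Nat.card_congr eP.toEquiv, card_PGL2_subfield,
        ha, ha1, pow_one] at hd
      have h5 : 5 ∣ p * (p ^ 2 - 1) := (show 5 ∣ 60 by norm_num).trans hd
      rcases (Nat.Prime.dvd_mul (by norm_num)).1 h5 with h5 | h5
      · have := (Nat.prime_dvd_prime_iff_eq (by norm_num) (Fact.out : p.Prime)).1 h5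
        omega
      · have h4 : p ^ 2 % 5 = 4 := by
          rw [Nat.pow_mod]
          have : p % 5 = 2 ∨ p % 5 = 3 := by omega
          rcases this with e | e <;> rw [e]
        omega
  · exfalso
    have := card_dvd_of_le_equiv hle e eM
    rw [card_alt4, card_alt5] at this
    omega
  · exfalso
    have := card_dvd_of_le_equiv hle e eM
    rw [card_perm4, card_alt5] at this
    omega
  · exact ⟨H, eq_of_le_card hle e eM ▸ hM, ⟨e⟩⟩

theorem alt4_maximal (hq : qq = p) (h5 : 5 ≤ p) (h8 : p % 8 = 3 ∨ p % 8 = 5)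
    (h10 : p % 10 ≠ 1 ∧ p % 10 ≠ 9) :
    ∃ H : Subgroup G2, IsCoatom H ∧ Nonempty (H ≃* alternatingGroup (Fin 4)) := by
  have hodd : Odd qq := by rw [hq, Nat.odd_iff]; omega
  have h5' : 5 ≤ qq := hq ▸ h5
  obtain ⟨H, ⟨e⟩⟩ := (exists_alt4_or_perm4 p hodd (F := F)).2
  have hbig : 12 < Nat.card G2 := by
    rw [card_G2_eq, gcd_eq_two hodd]
    have : 5 * 2 ≤ qq * ((qq - 1) / 2) := Nat.mul_le_mul h5' (by omega)
    calc 12 < 5 * 2 * 6 := by norm_num
      _ ≤ _ := Nat.mul_le_mul this (by omega)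
  obtain ⟨M, hM, hle⟩ := exists_coatom_over (card_ne_top_of_lt e card_alt4 hbig)
  rcases cases_over_alt4 p hodd h5' hM ((Subgroup.inclusion hle).comp e.symm.toMonoidHom)
    ((Subgroup.inclusion_injective hle).comp e.symm.injective) with
    ⟨P, K, r, hr, h, -⟩ | ⟨-, ⟨eM⟩⟩ | ⟨-, ⟨eM⟩⟩ | ⟨hh, ⟨eM⟩⟩
  · exact (not_field_of_prime p hq hr h).elim
  · exact ⟨H, eq_of_le_card hle e eM ▸ hM, ⟨e⟩⟩
  · exfalso
    have h16 := (exists_perm4_iff p).1 ⟨M, ⟨eM⟩⟩
    rw [hq, Nat.pow_mod] at h16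
    have : p % 16 = 3 ∨ p % 16 = 5 ∨ p % 16 = 11 ∨ p % 16 = 13 := by omega
    rcases this with e | e | e | e <;> rw [e] at h16 <;> norm_num at h16
  · exfalso
    obtain ⟨hc, -⟩ := alt5_conditions p hodd hM.1 hh eM
    rw [hq] at hc
    omega

end H42
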