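import Cfsg.Agent.H42.PSL2Odd
import Cfsg.Agent.H42.PSL2PlatonicMax
import Cfsg.Agent.H39.MaxDihedral

/-!
Coatoms of `PSL₂(q)`, `q` odd: Borel subgroups and torus normalisers.
-/

set_option autoImplicit false
set_option linter.unusedSectionVars false

namespace H42.PGLMax

open Matrix H39
open scoped MatrixGroups

variable {F : Type*} [Field F] [Fintype F] (p : ℕ) [Fact p.Prime] [CharP F p]

local notation "G2" => Matrix.ProjectiveSpecialLinearGroup (Fin 2) F
local notation "qq" => Fintype.card F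

include p

theorem isCoatom_borel (hodd : Odd qq) (h5 : 5 ≤ qq) : IsCoatom (borelP : Subgroup G2) := by
  classical
  have hne : (borelP : Subgroup G2) ≠ ⊤ := borelP_ne_top (by omega)
  obtain ⟨H, hH, hle⟩ := exists_coatom_over hne
  suffices h : (borelP : Subgroup G2) = H from h ▸ hH
  have hB : Nat.card (borelP : Subgroup G2) = qq * ((qq - 1) / 2) := by
    rw [card_borelP, gcd_eq_two hodd]
  have hd := Subgroup.card_dvd_of_le hle
  rw [hB] at hd
  have hsmall : qq * 2 ≤ qq * ((qq - 1) / 2) := Nat.mul_le_mul_left _ (by omega)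
  obtain ⟨j, hj⟩ := hodd
  rcases maximal_cases p (by omega) H hH with ⟨P, h⟩ | ⟨c, hc, h⟩ | ⟨P, K, r, hr, hF, h⟩ |
    ⟨-, hq, ⟨e⟩⟩ | ⟨-, hq, ⟨e⟩⟩ | ⟨-, hq, ⟨e⟩⟩
  · refine Subgroup.eq_of_le_of_card_ge hle ?_
    rw [Nat.card_congr (cjEquiv P H).toEquiv, h]
  · exfalso
    obtain ⟨htri, hN, -⟩ := tor_trichotomy p hc
    rw [h, hN] at hd
    rw [gcd_eq_two ⟨j, hj⟩] at htri
    have h1 := Nat.le_of_dvd (Nat.mul_pos two_pos Nat.card_pos) hd
    rcases htri with e | e <;> rw [e] at h1 <;> omega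
  · exfalso
    have hK : 1 < Nat.card K := Finite.one_lt_card
    have hc := Nat.card_congr (cjEquiv P H).toEquiv
    rw [h] at hc
    have hle' := projField_card_le K
    rw [← hc] at hle'
    have h1 := Nat.le_of_dvd Nat.card_pos hd
    have hpow : Nat.card K ^ 2 ≤ qq := hF ▸ Nat.pow_le_pow_right (by omega) hr.two_le
    rcases hr.eq_two_or_odd' with rfl | hro
    · -- quadratic
      have hcE : Nat.card H = Nat.card K * (Nat.card K ^ 2 - 1) := by
        rw [hc, card_projField_even K hF (Or.inl even_two)]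
      rw [hcE] at hd
      have hdvd : Nat.card K ^ 2 ∣ Nat.card K * (Nat.card K ^ 2 - 1) := by
        have h0 : qq ∣ Nat.card K * (Nat.card K ^ 2 - 1) := (dvd_mul_right _ _).trans hd
        rwa [hF] at h0
      rw [sq] at hdvd
      have h2 := (Nat.mul_dvd_mul_iff_left (show 0 < Nat.card K by omega)).1 hdvd
      have h3 : Nat.card K ∣ Nat.card K * Nat.card K - 1 + 1 := by
        rw [Nat.sub_add_cancel (Nat.mul_pos (by omega) (by omega))]; exact dvd_mul_right _ _
      have h4 := (Nat.dvd_add_right h2).1 h3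
      have := Nat.le_of_dvd one_pos h4
      omega
    · have h3 : Nat.card K ^ 3 ≤ qq := hF ▸ Nat.pow_le_pow_right (by omega)
        (by obtain ⟨i, hi⟩ := hro; have := hr.two_le; omega)
      have h4 : Nat.card K * (Nat.card K ^ 2 - 1) ≤ Nat.card K ^ 3 := by
        rw [show Nat.card K ^ 3 = Nat.card K * Nat.card K ^ 2 by ring]
        exact Nat.mul_le_mul_left _ (Nat.sub_le _ _)
      omega
  · exfalso
    rw [Nat.card_congr e.toEquiv, card_alt4] at hd
    have := Nat.le_of_dvd (by norm_num) hd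
    have h5' : qq = 5 := by omega
    rw [h5'] at hd; norm_num at hd
  · exfalso
    rw [Nat.card_congr e.toEquiv, card_perm4] at hd
    have := Nat.le_of_dvd (by norm_num) hd
    rcases (show qq = 5 ∨ qq = 7 ∨ qq = 9 ∨ qq = 11 by omega) with e' | e' | e' | e' <;>
      rw [e'] at hd <;> norm_num at hd
  · exfalso
    rw [Nat.card_congr e.toEquiv, card_alt5] at hd
    have h1 := Nat.le_of_dvd (by norm_num) hd
    have h30 : qq ≤ 30 := by omega
    have hG := card_G2_eq (F := F)
    rw [gcd_eq_two ⟨j, hj⟩] at hG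
    rcases (show qq = 5 ∨ qq = 7 ∨ qq = 9 ∨ qq = 11 ∨ 13 ≤ qq by omega) with e' | e' | e' | e' | e'
    · exact hH.1 (Subgroup.eq_top_of_card_eq _ (by rw [hG, e', Nat.card_congr e.toEquiv, card_alt5]))
    · rw [e'] at hd; norm_num at hd
    · rw [e'] at hd; norm_num at hd
    · rw [e'] at hd; norm_num at hd
    · have : 13 * 6 ≤ qq * ((qq - 1) / 2) := Nat.mul_le_mul e' (by omega)
      omega

theorem isCoatom_normalizer_tor (hodd : Odd qq) {d : G2} (hd : d ^ p ≠ 1)
    (h3 : 3 ≤ Nat.card (tor d))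
    (hex : 13 ≤ qq ∨ qq = 5) : IsCoatom (Subgroup.normalizer (tor d : Set G2)) := by
  classical
  have h5 : 5 ≤ qq := by omega
  set N := Subgroup.normalizer (tor d : Set G2) with hN
  obtain ⟨H, hH, hle⟩ := exists_coatom_over (normalizer_tor_ne_top p (by omega : 4 ≤ qq) hd)
  suffices h : N = H from h ▸ hH
  obtain ⟨htri, hNc, -⟩ := tor_trichotomy p hd
  rw [gcd_eq_two hodd] at htri
  obtain ⟨c, hcN, s, hsN, hc, hs2, hs1, hsc⟩ := gen_of_normalizer (q := p) hd
  set k := Nat.card (tor d) with hk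
  have hkdiv : k ∣ (qq + 1) / Nat.gcd 2 (qq - 1) ∨ k ∣ (qq - 1) / Nat.gcd 2 (qq - 1) := by
    rw [gcd_eq_two hodd]; exact htri.imp dvd_of_eq dvd_of_eq
  have hkq := coprime_q p hkdiv
  have hkp : Nat.Coprime k p := by
    obtain ⟨n, -, hn⟩ := FiniteField.card F p
    rw [hn] at hkq
    exact (Nat.coprime_pow_right_iff n.pos _ _).1 hkq
  obtain ⟨j, hj⟩ := hodd
  have hG := card_G2_eq (F := F)
  rw [gcd_eq_two ⟨j, hj⟩] at hG
  have hcH := hle hcN
  have hsH := hle hsN
  rcases maximal_cases p (by omega) H hH with ⟨P, h⟩ | ⟨c', hc', h⟩ | ⟨P, K, r, hr, hF, h⟩ |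
    ⟨-, hq, ⟨e⟩⟩ | ⟨-, hq, ⟨e⟩⟩ | ⟨-, hq, ⟨e⟩⟩
  · exfalso
    have := Nat.le_of_dvd two_pos (borel_no_inverting p (cjP_mem_of_le p h.le hcH)
      (cjP_mem_of_le p h.le hsH) (hc ▸ hkp) hsc)
    omega
  · refine Subgroup.eq_of_le_of_card_ge hle ?_
    obtain ⟨htri', hNc', -⟩ := tor_trichotomy p hc'
    rw [gcd_eq_two ⟨j, hj⟩] at htri'
    have hdvd := Subgroup.card_dvd_of_le hle
    rw [h, hNc, hNc'] at hdvd
    rw [h, hNc, hNc']
    have hkk := Nat.dvd_of_mul_dvd_mul_left two_pos hdvd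
    have hk' : 0 < Nat.card (tor c') := Nat.card_pos
    have := Nat.le_of_dvd hk' hkk
    rcases htri with e | e <;> rcases htri' with e' | e'
    · omega
    · omega
    · exfalso
      rw [e, e'] at hkk
      have h1 := Nat.dvd_sub hkk (dvd_refl ((qq - 1) / 2))
      rw [show (qq + 1) / 2 - (qq - 1) / 2 = 1 by omega] at h1
      have := Nat.le_of_dvd one_pos h1
      omega
    · omega
  · exfalso
    have hK : Nat.card K ≠ qq := by
      rw [hF]; exact (lt_self_pow₀ Finite.one_lt_card hr.one_lt).ne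
    obtain ⟨hb, hr', hr2, hr3⟩ := field_bound p h.le hK hcH (fun e => by
      have h1 := hc ▸ orderOf_dvd_of_pow_eq_one e
      have := Nat.eq_one_of_dvd_coprimes hkp dvd_rfl h1
      omega)
    rw [hc] at hb
    have := hr3 (Nat.odd_iff.1 ⟨j, hj⟩)
    have : 3 * Nat.card K ≤ Nat.card K ^ 2 := by rw [sq]; exact Nat.mul_le_mul_right _ (by omega)
    rcases hex with h13 | h55
    · rcases (show Nat.card K = 3 ∨ 4 ≤ Nat.card K by omega) with e | e
      · rw [e] at hb; omega
      · have : 4 * Nat.card K ≤ Nat.card K ^ 2 := by rw [sq]; exact Nat.mul_le_mul_right _ e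
        omega
    · omega
  · exfalso
    rcases alt4_no_inverting (e ⟨c, hcH⟩) (e ⟨s, hsH⟩)
        (by rw [← map_mul, ← map_one e]; exact congrArg e (Subtype.ext hs2))
        (by rw [← map_inv, ← map_mul, ← map_mul, ← map_inv]; exact congrArg e (Subtype.ext hsc)) with h | h
    · have ho : orderOf (e ⟨c, hcH⟩) = k := by rw [MulEquiv.orderOf_eq, Subgroup.orderOf_mk, hc]
      have := Nat.le_of_dvd two_pos
        (ho ▸ orderOf_dvd_of_pow_eq_one (show (e ⟨c, hcH⟩) ^ 2 = 1 by rw [sq]; exact h))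
      omega
    · exact hs1 (congrArg Subtype.val (e.injective (h.trans (map_one e).symm)))
  · exfalso
    have ho : orderOf (e ⟨c, hcH⟩) = k := by rw [MulEquiv.orderOf_eq, Subgroup.orderOf_mk, hc]
    have hk4 : k ≤ 4 := by
      rcases perm4_orders (e ⟨c, hcH⟩) with h | h <;>
        have := Nat.le_of_dvd (by norm_num) (ho ▸ orderOf_dvd_of_pow_eq_one h) <;> omega
    have h55 : qq = 5 := by omega
    have hd' := H.card_subgroup_dvd_card
    rw [Nat.card_congr e.toEquiv, card_perm4, hG, h55] at hd'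
    norm_num at hd'
  · exfalso
    have ho : orderOf (e ⟨c, hcH⟩) = k := by rw [MulEquiv.orderOf_eq, Subgroup.orderOf_mk, hc]
    have hk5 : k ≤ 5 := by
      rcases alt5_orders (e ⟨c, hcH⟩) with h | h | h <;>
        have := Nat.le_of_dvd (by norm_num) (ho ▸ orderOf_dvd_of_pow_eq_one h) <;> omega
    have h55 : qq = 5 := by omega
    exact hH.1 (Subgroup.eq_top_of_card_eq _ (by rw [Nat.card_congr e.toEquiv, card_alt5, hG, h55]))

end H42.PGLMax
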