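import Cfsg.Agent.H42.PGLMaxSetup

/-!
Maximal subgroups of `PGL₂`: the torus, Borel, four-group and subfield lemmas.
-/

set_option autoImplicit false
set_option linter.unusedSectionVars false

namespace H42.PGLMax

open Matrix H39
open scoped MatrixGroups

variable {E : Type*} [Field E] [Fintype E] (p : ℕ) [Fact p.Prime] [CharP E p] {F : Subfield E}
  [Fintype F] [CharP F p]

local notation "S2" => Matrix.ProjectiveSpecialLinearGroup (Fin 2) E
local notation "L2" => Matrix.ProjectiveSpecialLinearGroup (Fin 2) F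
local notation "qF" => Nat.card F

/-- The possible shapes of a maximal subgroup, through its trace on `PSL₂`. -/
inductive Shape (F : Subfield E) [Fintype F] (M : Subgroup (Matrix.ProjectiveSpecialLinearGroup (Fin 2) E)) : Prop
  | borel (P : GL (Fin 2) F) (hN : (M.comap (ι F)).map (cjP P).toMonoidHom = borelP)
  | torus (d : Matrix.ProjectiveSpecialLinearGroup (Fin 2) F) (hd : d ^ ringChar E ≠ 1)
      (hN : M.comap (ι F) = Subgroup.normalizer (tor d : Set (Matrix.ProjectiveSpecialLinearGroup (Fin 2) F)))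
      (h3 : 3 ≤ Nat.card (tor d)) (hM : Nonempty (M ≃* DihedralGroup (2 * Nat.card (tor d))))
  | alt4 (hp : (Nat.card F).Prime) (h8 : Nat.card F % 8 = 3 ∨ Nat.card F % 8 = 5)
      (hN : Nonempty (M.comap (ι F) ≃* alternatingGroup (Fin 4))) (hM : Nonempty (M ≃* Equiv.Perm (Fin 4)))
  | field (P : GL (Fin 2) F) (K : Subfield F) (r : ℕ) (hr : r.Prime) (hodd : Odd r)
      (hq : Nat.card F = Nat.card K ^ r)
      (hN : (M.comap (ι F)).map (cjP P).toMonoidHom = projField K)
      (hM : Nonempty (M ≃* Matrix.ProjGenLinGroup (Fin 2) K))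

section

include p

theorem oddF (hQ : Quad F) : Odd (Fintype.card F) := by
  rw [← Nat.card_eq_fintype_card]; exact hQ.odd

theorem bigF (hQ : Quad F) : 5 ≤ Fintype.card F := by
  rw [← Nat.card_eq_fintype_card]; exact hQ.big

theorem normalizer_tor_iff {c g : L2} (hc : c ≠ 1) :
    g ∈ Subgroup.normalizer (tor c : Set L2) ↔ g * c * g⁻¹ ∈ tor c :=
  ⟨fun h => (Subgroup.mem_normalizer_iff.1 h c).1 (self_mem_tor c), fun h => mem_normalizer_tor hc h⟩

variable {M : Subgroup (Matrix.ProjectiveSpecialLinearGroup (Fin 2) E)}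
variable (hC : Ctx F M)
include hC

theorem Ctx.invariant_normalizer {V : Subgroup L2} (hinv : ∀ g ∈ M, ∀ v ∈ V, ∃ w ∈ V, ι F w = g * ι F v * g⁻¹) :
    ∀ g ∈ M, ∀ x ∈ Subgroup.normalizer (V : Set L2),
      ∃ y ∈ Subgroup.normalizer (V : Set L2), ι F y = g * ι F x * g⁻¹ := by
  intro g hg x hx
  obtain ⟨y, hy⟩ := hC.quad.conj_range (hC.le hg) x
  refine ⟨y, ?_, hy⟩
  have key : ∀ (g : S2) (x y : L2), g ∈ M → x ∈ Subgroup.normalizer (V : Set L2) →
      ι F y = g * ι F x * g⁻¹ → ∀ v ∈ V, y * v * y⁻¹ ∈ V := by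
    intro g x y hg hx hy v hv
    obtain ⟨v', hv', e1⟩ := hinv g⁻¹ (inv_mem hg) v hv
    obtain ⟨w, hw, e2⟩ := hinv g hg _ ((Subgroup.mem_normalizer_iff.1 hx v').1 hv')
    have : y * v * y⁻¹ = w := ι_injective F (by
      rw [map_mul, map_mul, map_inv, hy, e2, map_mul, map_mul, map_inv, e1]; group)
    rw [this]; exact hw
  rw [Subgroup.mem_normalizer_iff]
  intro v
  refine ⟨key g x y hg hx hy v, fun h => ?_⟩
  have h2 := key g x⁻¹ y⁻¹ hg (inv_mem hx) (by rw [map_inv, map_inv, hy]; group) _ h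
  have e : y⁻¹ * (y * v * y⁻¹) * y⁻¹⁻¹ = v := by group
  rwa [e] at h2

/-- A non-trivial element moved only inside its torus. -/
theorem Ctx.of_torus {d : L2} (hd : d ≠ 1)
    (h : ∀ g ∈ M, ∃ y ∈ tor d, ι F y = g * ι F d * g⁻¹) :
    (∃ P : GL (Fin 2) F, (M.comap (ι F)).map (cjP P).toMonoidHom = borelP) ∨
      (d ^ p ≠ 1 ∧ M.comap (ι F) = Subgroup.normalizer (tor d : Set L2)) := by
  have hSd : ι F d ≠ 1 := fun e => hd (ι_injective F (e.trans (map_one _).symm))
  have hinv : ∀ g ∈ M, ∀ v ∈ tor d, ∃ w ∈ tor d, ι F w = g * ι F v * g⁻¹ := by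
    intro g hg v hv
    obtain ⟨w, hw⟩ := hC.quad.conj_range (hC.le hg) v
    refine ⟨w, ?_, hw⟩
    rw [← ι_mem_tor, hw]
    obtain ⟨y, hy, hye⟩ := h g hg
    have hn := mem_normalizer_tor (F := E) (g := g) hSd (hye ▸ (ι_mem_tor F).2 hy)
    exact (Subgroup.mem_normalizer_iff.1 hn _).1 ((ι_mem_tor F).2 hv)
  have hle : M.comap (ι F) ≤ Subgroup.normalizer (tor d : Set L2) := by
    intro x hx
    obtain ⟨y, hy, hye⟩ := h (ι F x) hx
    rw [normalizer_tor_iff p hd]
    have : x * d * x⁻¹ = y := ι_injective F (by rw [map_mul, map_mul, map_inv, hye])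
    rw [this]; exact hy
  by_cases hdp : d ^ p = 1
  · left
    obtain ⟨P, hP⟩ := exists_cjP_eq_transl p hd hdp
    have himg : (Subgroup.normalizer (tor d : Set L2)).map (cjP P).toMonoidHom = borelP := by
      rw [← normalizer_transl (F := F)]
      ext s
      rw [show (cjP P).toMonoidHom = ((cjP P : L2 ≃* L2) : L2 →* L2) from rfl,
        Subgroup.map_equiv_eq_comap_symm, Subgroup.mem_comap, MonoidHom.coe_coe, normalizer_tor_iff p hd,
        normalizer_tor_iff p (transl_ne_one (one_ne_zero (α := F))), ← hP]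
      show (cjP P).symm s * d * ((cjP P).symm s)⁻¹ ∈ tor d ↔ _
      rw [← cjP_mem_tor P, map_mul, map_mul, map_inv, MulEquiv.apply_symm_apply]
    have hW := hC.eq_of_invariant hle ?_ (hC.invariant_normalizer p hinv)
    · exact ⟨P, hW ▸ himg⟩
    · intro e
      have htop : (⊤ : Subgroup L2).map (cjP P).toMonoidHom = ⊤ :=
        Subgroup.map_top_of_surjective _ (cjP P).surjective
      rw [e, htop] at himg
      exact borelP_ne_top (by have := bigF p hC.quad; omega) himg.symm
  · right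
    refine ⟨hdp, (hC.eq_of_invariant hle ?_ (hC.invariant_normalizer p hinv)).symm⟩
    exact normalizer_tor_ne_top p (by have := bigF p hC.quad; omega) hdp

/-- A stable four-group. -/
theorem Ctx.of_klein {V : Subgroup L2} (hV : IsKleinFour V)
    (hinv : ∀ g ∈ M, ∀ v ∈ V, ∃ w ∈ V, ι F w = g * ι F v * g⁻¹) :
    M.comap (ι F) = Subgroup.normalizer (V : Set L2) := by
  refine (hC.eq_of_invariant ?_ ?_ (hC.invariant_normalizer p hinv)).symm
  · intro x hx
    have key : ∀ x, ι F x ∈ M → ∀ v ∈ V, x * v * x⁻¹ ∈ V := by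
      intro x hx v hv
      obtain ⟨w, hw, e⟩ := hinv _ hx v hv
      rw [show x * v * x⁻¹ = w from ι_injective F (by rw [map_mul, map_mul, map_inv, e])]
      exact hw
    rw [Subgroup.mem_normalizer_iff]
    intro v
    refine ⟨key x hx v, fun h => ?_⟩
    have h2 := key x⁻¹ (by rw [map_inv]; exact inv_mem hx) _ h
    have e : x⁻¹ * (x * v * x⁻¹) * x⁻¹⁻¹ = v := by group
    rwa [e] at h2
  · intro e
    have h1 := card_normalizer_klein_le p (oddF p hC.quad) hV
    rw [e, Subgroup.card_top] at h1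
    have h2 := hC.quad.card_range
    rw [← Nat.card_congr (MonoidHom.ofInjective (ι_injective F)).toEquiv] at h2
    have h3 : 5 * (5 ^ 2 - 1) ≤ qF * (qF ^ 2 - 1) :=
      Nat.mul_le_mul hC.quad.big (Nat.sub_le_sub_right (Nat.pow_le_pow_left hC.quad.big 2) 1)
    omega

omit hC in
theorem card_map_subfield (K : Subfield F) : Nat.card (K.map F.subtype) = Nat.card K :=
  (Nat.card_congr (Equiv.Set.image _ (K : Set F) Subtype.val_injective)).symm

omit hC in
theorem ι_slToProj (K : Subfield F) {x : L2} (hx : x ∈ (slToProj K).range) :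
    ι F x ∈ (slToProj (K.map F.subtype)).range := by
  obtain ⟨g, rfl⟩ := hx
  let f : K →+* (K.map F.subtype : Subfield E) :=
    (F.subtype.comp K.subtype).codRestrict _ fun a => ⟨a, a.2, rfl⟩
  exact ⟨Matrix.SpecialLinearGroup.map f g, congrArg proj (Subtype.ext (Matrix.ext fun i j => rfl))⟩

omit hC in
theorem ι_projField (K : Subfield F) {x : L2} (hx : x ∈ projField K) :
    ι F x ∈ projField (K.map F.subtype) := by
  obtain ⟨g, rfl, l, hl, hg⟩ := hx
  exact ⟨_, rfl, (l : E), fun h => hl (Subtype.ext h), fun i j => ⟨_, hg i j, rfl⟩⟩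

omit hC in
/-- Odd order elements of a subfield subgroup of even degree are rational. -/
theorem odd_mem_slToProj (hoddE : Odd (Fintype.card E)) (K : Subfield E) {m : ℕ}
    (hm : Fintype.card E = Nat.card K ^ m) (he : Even m) {g : S2} (hg : g ∈ projField K) (ho : Odd (orderOf g)) :
    g ∈ (slToProj K).range := by
  haveI : Fintype K := Fintype.ofFinite K
  have hle : (slToProj K).range ≤ projField K := by rintro _ ⟨a, rfl⟩; exact slToProj_mem K a
  have hidx : ((slToProj K).range.subgroupOf (projField K)).index = 2 := by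
    have h := ((slToProj K).range.subgroupOf (projField K)).card_mul_index
    rw [Nat.card_congr (Subgroup.subgroupOfEquivOfLe hle).toEquiv, card_projField_even K hm (Or.inl he)] at h
    have hr : Nat.card (slToProj K).range = Nat.card (Matrix.ProjectiveSpecialLinearGroup (Fin 2) K) :=
      Nat.card_congr ((QuotientGroup.quotientKerEquivRange (slToProj K)).symm.trans
        (QuotientGroup.quotientMulEquivOfEq (ker_slToProj K))).toEquiv
    have h2 := card_PSL2_nat (F := K)
    have hKodd : Odd (Fintype.card K) := by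
      rw [← Nat.card_eq_fintype_card]
      rw [hm] at hoddE
      exact (Nat.odd_pow_iff (by
        rintro rfl
        have := Fintype.one_lt_card (α := E); rw [hm, pow_zero] at this; omega)).1 hoddE
    rw [gcd_eq_two hKodd, ← hr] at h2
    simp only [← Nat.card_eq_fintype_card] at h2
    rw [← h2] at h
    exact Nat.eq_of_mul_eq_mul_left Nat.card_pos (h.trans (mul_comm _ _))
  have hsq := Subgroup.sq_mem_of_index_two hidx (⟨g, hg⟩ : projField K)
  obtain ⟨k, hk⟩ := ho
  have : g = (g ^ 2) ^ (k + 1) := by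
    rw [← pow_mul, show 2 * (k + 1) = orderOf g + 1 by omega, pow_succ, pow_orderOf_eq_one, one_mul]
  rw [this]
  exact pow_mem hsq _

/-- `M ∩ L` inside a subfield subgroup. -/
theorem Ctx.of_field (P : GL (Fin 2) F) (K : Subfield F)
    (hle : (M.comap (ι F)).map (cjP P).toMonoidHom ≤ projField K) (hlt : Nat.card K < qF)
    {a b : L2} (ha : a ∈ M.comap (ι F)) (hb : b ∈ M.comap (ι F))
    (hao : Odd (orderOf a)) (hbo : Odd (orderOf b)) (hab : ¬ Commute a b) : Shape F M := by
  classical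
  have hp := (Fact.out : p.Prime)
  set N := M.comap (ι F) with hN
  obtain ⟨γ, hγ, hγx⟩ := hC.quad.exists_gamma P
  set KE : Subfield E := K.map F.subtype with hKE
  have hKcard : Nat.card KE = Nat.card K := card_map_subfield p K
  have hKle : KE ≤ F := by rintro _ ⟨x, -, rfl⟩; exact x.2
  obtain ⟨m, hm0, hm⟩ := subfield_card_pow K
  rw [← Nat.card_eq_fintype_card] at hm
  have hmE : Fintype.card E = Nat.card KE ^ (2 * m) := by
    rw [hC.quad.card_eq, hm, hKcard, ← pow_mul, mul_comm]
  set M' := M.map (MulAut.conj γ).toMonoidHom with hM'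
  have hM'GG : M' ≤ GG F := by
    rintro _ ⟨g, hg, rfl⟩
    exact mul_mem (mul_mem hγ (hC.le hg)) (inv_mem hγ)
  have himg : ∀ x ∈ N, γ * ι F x * γ⁻¹ ∈ projField KE := fun x hx =>
    hγx x ▸ ι_projField p K (hle ⟨x, hx, rfl⟩)
  have hrat : ∀ x ∈ N, Odd (orderOf x) → γ * ι F x * γ⁻¹ ∈ (slToProj KE).range := fun x hx ho =>
    odd_mem_slToProj p hC.quad.oddE KE hmE (even_two_mul m) (himg x hx) (by
      rw [show γ * ι F x * γ⁻¹ = MulAut.conj γ (ι F x) from rfl, MulEquiv.orderOf_eq,
        orderOf_injective (ι F) (ι_injective F)]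
      exact ho)
  have hM'le : M' ≤ projField KE := by
    rintro _ ⟨g, hg, rfl⟩
    show γ * g * γ⁻¹ ∈ _
    have hab' : ¬ Commute (γ * ι F a * γ⁻¹) (γ * ι F b * γ⁻¹) := fun h => hab (ι_injective F (by
      have h1 := h.eq
      simp only [mul_assoc, inv_mul_cancel_left, mul_right_inj, ← map_mul] at h1
      have h2 : ι F (a * b) = ι F (b * a) := by
        rw [map_mul, map_mul]
        apply mul_right_cancel (b := γ⁻¹)
        simpa [mul_assoc] using h1
      exact h2))
    have hconj : ∀ x ∈ N, Odd (orderOf x) →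
        γ * g * γ⁻¹ * (γ * ι F x * γ⁻¹) * (γ * g * γ⁻¹)⁻¹ ∈ (slToProj KE).range := by
      intro x hx ho
      obtain ⟨y, hy, hye⟩ := hC.conj_mem hg hx
      have : orderOf y = orderOf x := by
        rw [← orderOf_injective (ι F) (ι_injective F) y, hye,
          show g * ι F x * g⁻¹ = MulAut.conj g (ι F x) from rfl, MulEquiv.orderOf_eq,
          orderOf_injective (ι F) (ι_injective F)]
      have h1 := hrat y hy (this ▸ ho)
      rw [hye] at h1
      have e : γ * g * γ⁻¹ * (γ * ι F x * γ⁻¹) * (γ * g * γ⁻¹)⁻¹ = γ * (g * ι F x * g⁻¹) * γ⁻¹ := by group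
      rwa [e]
    exact mem_projField_of_conj KE (hrat a ha hao) (hrat b hb hbo) hab' (hconj a ha hao) (hconj b hb hbo)
  have hback : ∀ s, s ∈ M' → γ⁻¹ * s * γ ∈ M := by
    rintro _ ⟨g, hg, rfl⟩
    show γ⁻¹ * (γ * g * γ⁻¹) * γ ∈ M
    have : γ⁻¹ * (γ * g * γ⁻¹) * γ = g := by group
    rwa [this]
  have hmax : ∀ H : Subgroup S2, M' ≤ H → H ≤ GG F → H = M' ∨ H = GG F := by
    intro H hMH hHG
    rcases hC.max (H.map (MulAut.conj γ⁻¹).toMonoidHom) (fun g hg => ⟨γ * g * γ⁻¹, hMH ⟨g, hg, rfl⟩, by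
        show γ⁻¹ * (γ * g * γ⁻¹) * γ⁻¹⁻¹ = g; group⟩)
      (by rintro _ ⟨h, hh, rfl⟩; exact mul_mem (mul_mem (inv_mem hγ) (hHG hh)) (inv_mem (inv_mem hγ)))
      with e | e
    · left
      refine le_antisymm (fun h hh => ?_) hMH
      refine ⟨γ⁻¹ * h * γ⁻¹⁻¹, e ▸ ⟨h, hh, rfl⟩, ?_⟩
      show γ * (γ⁻¹ * h * γ⁻¹⁻¹) * γ⁻¹ = h
      group
    · right
      refine le_antisymm hHG (fun h hh => ?_)
      obtain ⟨h', hh', he⟩ := e.ge (mul_mem (mul_mem (inv_mem hγ) hh) hγ)
      change γ⁻¹ * h' * γ⁻¹⁻¹ = γ⁻¹ * h * γ at he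
      rw [inv_inv] at he
      rwa [← mul_left_cancel (mul_right_cancel he)]
  have hK2 : 1 < Nat.card K := Finite.one_lt_card
  have hsmall : ∀ L : Subfield E, ∀ j, Fintype.card E = Nat.card L ^ j → Even j → Nat.card L < qF →
      projField L ≠ GG F := by
    intro L j hj hje hL e
    have h1 : Nat.card (projField L) = Nat.card (GG F) := by rw [e]
    rw [card_projField_even L hj (Or.inl hje), hC.quad.card_GG] at h1
    have hL1 : 1 < Nat.card L := Finite.one_lt_card
    have : Nat.card L * (Nat.card L ^ 2 - 1) < qF * (qF ^ 2 - 1) :=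
      Nat.mul_lt_mul_of_lt_of_le hL (Nat.sub_le_sub_right (Nat.pow_le_pow_left hL.le 2) 1)
        (Nat.sub_pos_of_lt (Nat.one_lt_pow two_ne_zero (by omega)))
    omega
  have heq : projField KE = M' := by
    rcases hmax _ hM'le (projField_mono hKle) with e | e
    · exact e
    · exact absurd e (hsmall KE _ hmE (even_two_mul m) (hKcard ▸ hlt))
  have hMiso : Nonempty (M ≃* Matrix.ProjGenLinGroup (Fin 2) K) := by
    haveI : Fintype K := Fintype.ofFinite K
    haveI : Fintype KE := Fintype.ofFinite KE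
    exact ⟨(((Subgroup.equivMapOfInjective M _ (MulAut.conj γ).injective).trans
      (MulEquiv.subgroupCongr heq.symm)).trans (projFieldPGL KE hmE (Or.inl (even_two_mul m)))).trans
      (pglCongr (FiniteField.ringEquivOfCardEq (K := KE) (K' := K) (by
        rw [← Nat.card_eq_fintype_card, ← Nat.card_eq_fintype_card, hKcard])))⟩
  have hNeq : N.map (cjP P).toMonoidHom = projField K := by
    refine le_antisymm hle fun x hx => ?_
    refine ⟨(cjP P).symm x, ?_, (cjP P).apply_symm_apply x⟩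
    show ι F ((cjP P).symm x) ∈ M
    have h1 := hback _ (heq.le (ι_projField p K hx))
    have h2 := hγx ((cjP P).symm x)
    rw [MulEquiv.apply_symm_apply] at h2
    rw [← h2] at h1
    have : γ⁻¹ * (γ * ι F ((cjP P).symm x) * γ⁻¹) * γ = ι F ((cjP P).symm x) := by group
    rwa [this] at h1
  have hmF : Fintype.card F = Nat.card K ^ m := by rw [← Nat.card_eq_fintype_card]; exact hm
  have hmodd : Odd m := by
    rw [← Nat.not_even_iff_odd]
    intro hme
    have h1 := hC.card_eq
    have h2 : Nat.card (N.map (cjP P).toMonoidHom) = Nat.card N :=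
      (Nat.card_congr (cjEquiv P N).toEquiv).symm
    obtain ⟨e⟩ := hMiso
    rw [hNeq, card_projField_even K hmF (Or.inl hme)] at h2
    rw [Nat.card_congr e.toEquiv, card_PGL2_subfield, ← hN, ← h2] at h1
    have : 0 < Nat.card K * (Nat.card K ^ 2 - 1) :=
      Nat.mul_pos (by omega) (Nat.sub_pos_of_lt (Nat.one_lt_pow two_ne_zero hK2))
    omega
  have hmprime : m.Prime := by
    have hm1 : m ≠ 1 := by rintro rfl; rw [pow_one] at hm; omega
    by_contra hnp
    obtain ⟨r, hrdvd, hr2, hrlt⟩ := Nat.exists_dvd_of_not_prime2 (by omega) hnp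
    obtain ⟨a', ha0, ha'⟩ := subfield_card_eq_pow (p := p) K
    obtain ⟨K', hK'⟩ := exists_subfield_card (F := F) p (a := a' * r) (b := a' * m)
      (by rw [hmF, ha', ← pow_mul]) (Nat.mul_ne_zero ha0.ne' (by omega)) (Nat.mul_dvd_mul_left _ hrdvd)
    have hKK' : K ≤ K' := subfield_le_of_card_pow (j := r) (by rw [hK', ha', ← pow_mul])
    have hle' : projField KE ≤ projField (K'.map F.subtype) :=
      projField_mono (by rintro _ ⟨x, hx, rfl⟩; exact ⟨x, hKK' hx, rfl⟩)
    obtain ⟨s, hs⟩ := hrdvd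
    have hK'c : Nat.card (K'.map F.subtype) = Nat.card K ^ r := by
      rw [card_map_subfield p, hK', ha', ← pow_mul]
    have hj : Fintype.card E = Nat.card (K'.map F.subtype) ^ (2 * s) := by
      rw [hC.quad.card_eq, hm, hK'c, ← pow_mul, ← pow_mul, hs]; ring_nf
    have hlt' : Nat.card (K'.map F.subtype) < qF := by
      rw [hK'c, hm]; exact Nat.pow_lt_pow_right hK2 hrlt
    rcases hmax _ (heq ▸ hle') (projField_mono (by rintro _ ⟨x, -, rfl⟩; exact x.2)) with e | e
    · have h1 := card_projField_even _ hj (Or.inl (even_two_mul s))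
      rw [e, ← heq, card_projField_even KE hmE (Or.inl (even_two_mul m)), hK'c, hKcard] at h1
      have : Nat.card K < Nat.card K ^ r := lt_self_pow₀ hK2 (by omega)
      have h3 : Nat.card K * (Nat.card K ^ 2 - 1) < Nat.card K ^ r * ((Nat.card K ^ r) ^ 2 - 1) :=
        Nat.mul_lt_mul_of_lt_of_le this (Nat.sub_le_sub_right (Nat.pow_le_pow_left this.le 2) 1)
          (Nat.sub_pos_of_lt (Nat.one_lt_pow two_ne_zero (by omega)))
      omega
    · exact hsmall _ _ hj (even_two_mul s) hlt' e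
  exact .field P K m hmprime hmodd hm hNeq hMiso

end

end H42.PGLMax
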