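import Cfsg.Agent.H42.PGLMaxCases
import Cfsg.Agent.H42.PGLMaxCoatom

/-!
Maximal subgroups of an abstract `PGL₂(F)`: transport to the model and conclusions.
-/

set_option autoImplicit false
set_option linter.unusedSectionVars false

namespace H42.PGLMax

open Matrix H39
open scoped MatrixGroups

variable {F : Type*} [Field F] [Fintype F]

variable (F) in
/-- The image of `SL₂(F)` in `PGL₂(F)`. -/
abbrev imSL : Subgroup (Matrix.ProjGenLinGroup (Fin 2) F) :=
  (Matrix.ProjGenLinGroup.mk.comp (Matrix.SpecialLinearGroup.toGL : SL(2, F) →* GL (Fin 2) F)).range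

/-- The model: `PGL₂(F)` as the subfield subgroup of `PSL₂` of the quadratic extension. -/
structure Model (F : Type*) [Field F] [Fintype F] where
  p : ℕ
  hp : Fact p.Prime
  E : Type
  iE : Field E
  fE : Fintype E
  cE : CharP E p
  S : Subfield E
  fS : Fintype S
  cS : CharP S p
  card_eq : Fintype.card E = Nat.card S ^ 2
  card_S : Nat.card S = Fintype.card F
  hchar : CharP F p
  hom : Matrix.ProjGenLinGroup (Fin 2) F →* Matrix.ProjectiveSpecialLinearGroup (Fin 2) E
  inj : Function.Injective hom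
  range_eq : hom.range = GG S
  map_L0 : (imSL F).map hom = (ι S).range

theorem exists_model : Nonempty (Model F) := by
  classical
  obtain ⟨p, hchar⟩ := CharP.exists F
  obtain ⟨n, hp, hn⟩ := FiniteField.card F p
  haveI : Fact p.Prime := ⟨hp⟩
  let E := GaloisField p (2 * n)
  haveI : Fintype E := Fintype.ofFinite E
  have hE : Fintype.card E = p ^ (2 * (n : ℕ)) := by
    rw [← Nat.card_eq_fintype_card]; exact GaloisField.card p _ (by simp)
  obtain ⟨S, hS⟩ := exists_subfield_card (F := E) p hE n.ne_zero (dvd_mul_left _ 2)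
  haveI : Fintype S := Fintype.ofFinite S
  have hSF : Nat.card S = Fintype.card F := by rw [hS, hn]
  have hE2 : Fintype.card E = Nat.card S ^ 2 := by rw [hE, hS, ← pow_mul, mul_comm]
  haveI : CharP S p := inferInstance
  let e : F ≃+* S := FiniteField.ringEquivOfCardEq (by rw [← hSF, Nat.card_eq_fintype_card])
  let θ := projFieldPGL S hE2 (Or.inl even_two)
  let φ : Matrix.ProjGenLinGroup (Fin 2) F →* Matrix.ProjectiveSpecialLinearGroup (Fin 2) E :=
    (GG S).subtype.comp ((pglCongr e).trans θ.symm).toMonoidHom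
  have htp : ∀ z : GG S, Matrix.ProjectiveSpecialLinearGroup.toPGL
      (z : Matrix.ProjectiveSpecialLinearGroup (Fin 2) E) =
      Matrix.ProjGenLinGroup.map S.subtype (θ z) := by
    intro z
    simp only [θ, projFieldPGL, MulEquiv.trans_apply]
    rw [MonoidHom.apply_ofInjective_symm]
    rfl
  have hφ : ∀ g : SL(2, F), φ (Matrix.ProjGenLinGroup.mk (Matrix.SpecialLinearGroup.toGL g)) =
      ι S (proj (Matrix.SpecialLinearGroup.map (e : F →+* S) g)) := by
    intro g
    apply Matrix.ProjectiveSpecialLinearGroup.toPGL_injective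
    show Matrix.ProjectiveSpecialLinearGroup.toPGL
      ((θ.symm (pglCongr e (Matrix.ProjGenLinGroup.mk (Matrix.SpecialLinearGroup.toGL g))) : GG S) :
        Matrix.ProjectiveSpecialLinearGroup (Fin 2) E) = _
    rw [htp, MulEquiv.apply_symm_apply]
    show Matrix.ProjGenLinGroup.map S.subtype (Matrix.ProjGenLinGroup.map (e : F →+* S)
      (Matrix.ProjGenLinGroup.mk (Matrix.SpecialLinearGroup.toGL g))) = Matrix.ProjGenLinGroup.mk
        (Matrix.SpecialLinearGroup.toGL (Matrix.SpecialLinearGroup.map S.subtype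
          (Matrix.SpecialLinearGroup.map (e : F →+* S) g)))
    rw [Matrix.ProjGenLinGroup.map_mk, Matrix.ProjGenLinGroup.map_mk]
    congr 1
    exact Units.ext rfl
  have hinj : Function.Injective φ :=
    Subtype.val_injective.comp ((pglCongr e).trans θ.symm).injective
  have hrange : φ.range = GG S := by
    refine le_antisymm ?_ ?_
    · rintro _ ⟨x, rfl⟩; exact (((pglCongr e).trans θ.symm) x).2
    · intro z hz
      refine ⟨((pglCongr e).trans θ.symm).symm ⟨z, hz⟩, ?_⟩
      show (((pglCongr e).trans θ.symm) (((pglCongr e).trans θ.symm).symm ⟨z, hz⟩) :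
        Matrix.ProjectiveSpecialLinearGroup (Fin 2) E) = z
      rw [MulEquiv.apply_symm_apply]
  refine ⟨⟨p, ⟨hp⟩, E, inferInstance, inferInstance, inferInstance, S, inferInstance, inferInstance,
    hE2, hSF, hchar, φ, hinj, hrange, ?_⟩⟩
  apply le_antisymm
  · rintro _ ⟨_, ⟨g, rfl⟩, rfl⟩
    exact ⟨_, (hφ g).symm⟩
  · rintro _ ⟨x, rfl⟩
    obtain ⟨g, rfl⟩ := proj_surjective x
    refine ⟨_, ⟨Matrix.SpecialLinearGroup.map (e.symm : S →+* F) g, rfl⟩, ?_⟩
    refine (hφ _).trans ?_
    congr 2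
    apply Subtype.ext
    ext i j
    simp

theorem ctx_of_coatom {m : Model F} (hodd : Odd (Fintype.card F)) (h3 : 3 < Fintype.card F)
    {M : Subgroup (Matrix.ProjGenLinGroup (Fin 2) F)} (hM : IsCoatom M) (hML : ¬ imSL F ≤ M) :
    letI := m.iE; letI := m.fE; Ctx m.S (M.map m.hom) := by
  letI := m.iE; letI := m.fE
  refine ⟨⟨m.card_eq, by rw [m.card_S]; exact hodd, ?_⟩, ?_, ?_, ?_, ?_⟩
  · rw [m.card_S]; obtain ⟨j, hj⟩ := hodd; omega
  · rw [← m.range_eq]; exact Subgroup.map_le_range _ _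
  · intro h
    apply hM.1
    rw [← m.range_eq, MonoidHom.range_eq_map] at h
    exact Subgroup.map_injective m.inj h
  · intro H hMH hHG
    have hH : (H.comap m.hom).map m.hom = H := Subgroup.map_comap_eq_self (by rw [m.range_eq]; exact hHG)
    rcases eq_or_lt_of_le (Subgroup.map_le_iff_le_comap.1 hMH) with h | h
    · left; rw [← hH, ← h]
    · right; rw [← hH, hM.2 _ h, ← MonoidHom.range_eq_map, m.range_eq]
  · rw [← m.map_L0]
    intro h
    exact hML ((Subgroup.map_le_map_iff_of_injective m.inj).1 h)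

/-- The types of maximal subgroups of `PGL₂(q)`, `q` odd, other than `PSL₂(q)`. -/
theorem pgl_types (hodd : Odd (Fintype.card F)) (h3 : 3 < Fintype.card F)
    {M : Subgroup (Matrix.ProjGenLinGroup (Fin 2) F)} (hM : IsCoatom M) (hML : ¬ imSL F ≤ M) :
    Nat.card M = Fintype.card F * (Fintype.card F - 1) ∨
    (Fintype.card F ≠ 5 ∧ Nonempty (M ≃* DihedralGroup (Fintype.card F - 1))) ∨
    Nonempty (M ≃* DihedralGroup (Fintype.card F + 1)) ∨
    ((Fintype.card F).Prime ∧ (Fintype.card F % 8 = 3 ∨ Fintype.card F % 8 = 5) ∧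
      Nonempty (M ≃* Equiv.Perm (Fin 4))) ∨
    (∃ (F₀ : Type) (_ : Field F₀) (_ : Fintype F₀) (r : ℕ), r.Prime ∧ Odd r ∧
        Fintype.card F = Fintype.card F₀ ^ r ∧ Nonempty (M ≃* Matrix.ProjGenLinGroup (Fin 2) F₀)) := by
  classical
  obtain ⟨m⟩ := exists_model (F := F)
  letI := m.iE; letI := m.fE; letI := m.fS
  haveI := m.hp; haveI := m.cE; haveI := m.cS
  have hC := ctx_of_coatom (m := m) hodd h3 hM hML
  let e0 := Subgroup.equivMapOfInjective M m.hom m.inj
  have hq : Fintype.card m.S = Fintype.card F := by rw [← Nat.card_eq_fintype_card]; exact m.card_S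
  have hoddS : Odd (Fintype.card m.S) := hq ▸ hodd
  obtain ⟨j, hj⟩ := hodd
  rcases hC.shape m.p with ⟨P, hN⟩ | ⟨d, hd, hN, hk3, ⟨eM⟩⟩ | ⟨hp, h8, -, ⟨eM⟩⟩ |
    ⟨P, K, r, hr, hro, hqr, hN, ⟨eM⟩⟩
  · left
    rw [Nat.card_congr e0.toEquiv, hC.card_eq,
      Nat.card_congr (cjEquiv P ((M.map m.hom).comap (ι m.S))).toEquiv, hN, card_borelP,
      gcd_eq_two hoddS, hq, ← mul_assoc, mul_comm 2, mul_assoc]
    congr 1; omega
  · rw [ringChar.eq m.E m.p] at hd
    have htri := (tor_trichotomy m.p hd).1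
    rw [gcd_eq_two hoddS, hq] at htri
    rcases htri with h | h
    · refine Or.inr (Or.inr (Or.inl ⟨(e0.trans eM).trans ?_⟩))
      rw [show 2 * Nat.card (tor d) = Fintype.card F + 1 by omega]
    · refine Or.inr (Or.inl ⟨by omega, ⟨(e0.trans eM).trans ?_⟩⟩)
      rw [show 2 * Nat.card (tor d) = Fintype.card F - 1 by omega]
  · rw [m.card_S] at hp h8
    exact Or.inr (Or.inr (Or.inr (Or.inl ⟨hp, h8, ⟨e0.trans eM⟩⟩)))
  · haveI : Fintype K := Fintype.ofFinite K
    obtain ⟨F₀, i1, i2, hc0, ⟨e₀⟩⟩ := exists_type0_field m.p K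
    exact Or.inr (Or.inr (Or.inr (Or.inr ⟨F₀, i1, i2, r, hr, hro,
      by rw [hc0, ← m.card_S]; exact hqr, ⟨(e0.trans eM).trans (pglCongr e₀)⟩⟩)))

/-- Away from the small exceptions, a maximal subgroup meets `PSL₂(q)` maximally (`q` odd). -/
theorem pgl_meet_odd (hodd : Odd (Fintype.card F)) (h4 : 4 ≤ Fintype.card F) (h7 : Fintype.card F ≠ 7)
    (h9 : Fintype.card F ≠ 9) (h11 : Fintype.card F ≠ 11)
    (h40 : (Fintype.card F).Prime → Fintype.card F % 40 ∉ ({11, 19, 21, 29} : Finset ℕ))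
    {M : Subgroup (Matrix.ProjGenLinGroup (Fin 2) F)} (hM : IsCoatom M) (hML : ¬ imSL F ≤ M) :
    IsCoatom ((M ⊓ imSL F).subgroupOf (imSL F)) := by
  classical
  obtain ⟨m⟩ := exists_model (F := F)
  letI := m.iE; letI := m.fE; letI := m.fS
  haveI := m.hp; haveI := m.cE; haveI := m.cS
  have hC := ctx_of_coatom (m := m) hodd (by omega) hM hML
  have hq : Fintype.card m.S = Fintype.card F := by rw [← Nat.card_eq_fintype_card]; exact m.card_S
  have hoddS : Odd (Fintype.card m.S) := hq ▸ hodd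
  obtain ⟨j, hj⟩ := hodd
  let ψ : imSL F ≃* Matrix.ProjectiveSpecialLinearGroup (Fin 2) m.S :=
    ((Subgroup.equivMapOfInjective (imSL F) m.hom m.inj).trans
      (MulEquiv.subgroupCongr m.map_L0)).trans (MonoidHom.ofInjective (ι_injective m.S)).symm
  have hψ : ∀ x : imSL F, ι m.S (ψ x) = m.hom x := fun x => by
    simp only [ψ, MulEquiv.trans_apply]
    rw [MonoidHom.apply_ofInjective_symm]
    rfl
  set N := (M.map m.hom).comap (ι m.S) with hNdef
  have hMN : (M ⊓ imSL F).subgroupOf (imSL F) = N.comap ψ.toMonoidHom := by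
    ext x
    simp only [Subgroup.mem_subgroupOf, Subgroup.mem_inf, Subgroup.mem_comap, hNdef,
      MulEquiv.coe_toMonoidHom, hψ, SetLike.coe_mem, and_true]
    exact ⟨fun h => ⟨x, h, rfl⟩, fun ⟨y, hy, he⟩ => m.inj he ▸ hy⟩
  suffices h : IsCoatom N by
    rw [hMN]
    have h' := (OrderIso.isCoatom_iff ψ.symm.mapSubgroup N).2 h
    convert h' using 1
    exact Subgroup.comap_equiv_eq_map_symm ψ N
  rcases hC.shape m.p with ⟨P, hN⟩ | ⟨d, hd, hN, hk3, -⟩ | ⟨hp, h8, ⟨eN⟩, -⟩ |
    ⟨P, K, r, hr, hro, hqr, hN, -⟩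
  · have h := isCoatom_borel m.p (F := m.S) hoddS (by omega)
    rw [← hN] at h
    exact (OrderIso.isCoatom_iff (cjP P).mapSubgroup N).1 h
  · rw [ringChar.eq m.E m.p] at hd
    rw [hNdef, hN]
    refine isCoatom_normalizer_tor m.p hoddS hd hk3 ?_
    omega
  · rw [Nat.card_eq_fintype_card] at hp h8
    have hqp : Fintype.card m.S = m.p := by
      obtain ⟨b, hb, hbq⟩ := FiniteField.card m.S m.p
      rw [hbq] at hp ⊢
      rw [Nat.Prime.eq_one_of_pow hp, pow_one]
    have hne : N ≠ ⊤ := by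
      intro h
      exact hC.notL (by rintro _ ⟨x, rfl⟩; exact (h ▸ Subgroup.mem_top x : x ∈ N))
    obtain ⟨H, hH, hle⟩ := exists_coatom_over hne
    suffices h : N = H from h ▸ hH
    rcases cases_over_alt4 m.p hoddS (by omega) hH ((Subgroup.inclusion hle).comp eN.symm.toMonoidHom)
        ((Subgroup.inclusion_injective hle).comp eN.symm.injective) with
      ⟨P, K, r, hr, hqr, -⟩ | ⟨-, ⟨e⟩⟩ | ⟨-, ⟨e⟩⟩ | ⟨hh, ⟨e⟩⟩
    · exact (not_field_of_prime m.p hqp hr hqr).elim
    · exact eq_of_le_card hle eN e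
    · exfalso
      have h16 := (exists_perm4_iff m.p).1 ⟨H, ⟨e⟩⟩
      rw [Nat.pow_mod] at h16
      have := Nat.mod_lt (Fintype.card m.S) (show 16 > 0 by norm_num)
      interval_cases hr : Fintype.card m.S % 16 <;> simp at h16 <;> omega
    · exfalso
      obtain ⟨h10, -⟩ := alt5_conditions m.p hoddS hH.1 hh e
      have h := h40 (hq ▸ hp)
      simp only [Finset.mem_insert, Finset.mem_singleton, not_or] at h
      omega
  · have h3K : Nat.card K ≠ 2 := by
      intro h2
      rw [h2, m.card_S] at hqr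
      have : 2 ∣ Fintype.card F := hqr ▸ dvd_pow_self 2 hr.ne_zero
      omega
    have h := isCoatom_projField m.p (F := m.S) K hr (by rw [← Nat.card_eq_fintype_card]; exact hqr) h3K
    rw [← hN] at h
    exact (OrderIso.isCoatom_iff (cjP P).mapSubgroup N).1 h

/-- In characteristic two `PGL₂ = PSL₂`. -/
theorem imSL_eq_top (heven : Even (Fintype.card F)) : imSL F = ⊤ := by
  classical
  rw [eq_top_iff]
  intro x _
  induction x using Matrix.ProjGenLinGroup.induction_on with | mk B =>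
  have h2 : ringChar F = 2 := by
    by_contra h
    have := FiniteField.odd_card_of_char_ne_two h
    obtain ⟨i, hi⟩ := heven
    omega
  obtain ⟨l, hl⟩ := FiniteField.isSquare_of_char_two h2 (B : Matrix (Fin 2) (Fin 2) F).det
  have hd : (B : Matrix (Fin 2) (Fin 2) F).det ≠ 0 := by
    simpa using (Matrix.GeneralLinearGroup.det B).ne_zero
  have hl0 : l ≠ 0 := by rintro rfl; exact hd (by rw [hl]; simp)
  let g : SL(2, F) := ⟨l⁻¹ • (B : Matrix (Fin 2) (Fin 2) F), by
    rw [Matrix.det_smul, hl, Fintype.card_fin]; field_simp⟩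
  refine ⟨g, ?_⟩
  have : B = Matrix.GeneralLinearGroup.scalar (Fin 2) (Units.mk0 l hl0) * Matrix.SpecialLinearGroup.toGL g := by
    apply Units.ext
    rw [Units.val_mul]
    show (B : Matrix (Fin 2) (Fin 2) F) =
      Matrix.scalar (Fin 2) l * (l⁻¹ • (B : Matrix (Fin 2) (Fin 2) F))
    rw [Matrix.scalar_apply, ← Matrix.smul_one_eq_diagonal, Matrix.smul_mul, one_mul, smul_smul,
      mul_inv_cancel₀ hl0, one_smul]
  conv_rhs => rw [this, map_mul, Matrix.ProjGenLinGroup.mk_scalar, one_mul]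
  rfl

end H42.PGLMax
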