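import Mathlib
import Cfsg.Agent.H42.PSL2PlatonicMax

/-!
`PGL₂(K)` inside `PSL₂(E)` for a quadratic extension `E/K`: the set up for maximal subgroups.
-/

set_option autoImplicit false
set_option linter.unusedSectionVars false

namespace H42.PGLMax

open Matrix H39
open scoped MatrixGroups

variable {E : Type*} [Field E] [Fintype E] (F : Subfield E)

local notation "S2" => Matrix.ProjectiveSpecialLinearGroup (Fin 2) E
local notation "L2" => Matrix.ProjectiveSpecialLinearGroup (Fin 2) F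
local notation "qF" => Nat.card F

/-- The copy of `PGL₂(F)`. -/
abbrev GG : Subgroup S2 := projField F

/-- `PSL₂(F) → PSL₂(E)`. -/
noncomputable def ι : L2 →* S2 :=
  QuotientGroup.lift (Subgroup.center SL(2, F)) (slToProj F) (ker_slToProj F).ge

theorem ι_proj (g : SL(2, F)) : ι F (proj g) = slToProj F g := rfl

theorem ι_injective : Function.Injective (ι F) := by
  rw [injective_iff_map_eq_one]
  intro x hx
  obtain ⟨g, rfl⟩ := proj_surjective x
  rw [ι_proj] at hx
  have : g ∈ (slToProj F).ker := hx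
  rw [ker_slToProj] at this
  exact proj_eq_one_iff.2 this

theorem range_ι : (ι F).range = (slToProj F).range := by
  refine le_antisymm ?_ ?_
  · rintro _ ⟨x, rfl⟩
    obtain ⟨g, rfl⟩ := proj_surjective x
    exact ⟨g, rfl⟩
  · rintro _ ⟨g, rfl⟩
    exact ⟨proj g, rfl⟩

theorem ι_mem_GG (x : L2) : ι F x ∈ GG F := by
  obtain ⟨g, rfl⟩ := proj_surjective x
  exact slToProj_mem F g

theorem ι_range_le : (ι F).range ≤ GG F := by
  rintro _ ⟨x, rfl⟩; exact ι_mem_GG F x

/-- Tori correspond. -/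
theorem ι_mem_tor {x y : L2} : ι F y ∈ tor (ι F x) ↔ y ∈ tor x := by
  obtain ⟨g, rfl⟩ := proj_surjective x
  obtain ⟨h, rfl⟩ := proj_surjective y
  rw [proj_mem_tor_iff]
  show proj (Matrix.SpecialLinearGroup.map F.subtype h) ∈ tor (proj (Matrix.SpecialLinearGroup.map F.subtype g)) ↔ _
  rw [proj_mem_tor_iff]
  refine ⟨fun hc => ?_, fun hc => hc.map _⟩
  apply Subtype.ext
  have h1 := congrArg Subtype.val hc.eq
  simp only [Matrix.SpecialLinearGroup.coe_mul] at h1 ⊢
  apply Matrix.map_injective F.subtype.injective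
  dsimp only
  erw [Matrix.map_mul, Matrix.map_mul]
  exact h1

/-- Odd order and quadratic degree. -/
structure Quad : Prop where
  card_eq : Fintype.card E = qF ^ 2
  odd : Odd qF
  big : 5 ≤ qF

section quad

variable {F} (hQ : Quad F)
include hQ

theorem Quad.oddE : Odd (Fintype.card E) := by rw [hQ.card_eq]; exact hQ.odd.pow

theorem Quad.card_GG : Nat.card (GG F) = qF * (qF ^ 2 - 1) :=
  card_projField_even F hQ.card_eq (Or.inl even_two)

theorem Quad.card_range : 2 * Nat.card (ι F).range = qF * (qF ^ 2 - 1) := by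
  classical
  haveI := Fintype.ofFinite F
  rw [← Nat.card_congr (MonoidHom.ofInjective (ι_injective F)).toEquiv]
  have h := card_PSL2_nat (F := F)
  rw [gcd_eq_two (by rw [← Nat.card_eq_fintype_card]; exact hQ.odd), ← Nat.card_eq_fintype_card] at h
  exact h

theorem Quad.range_index : ((ι F).range.subgroupOf (GG F)).index = 2 := by
  have h := ((ι F).range.subgroupOf (GG F)).card_mul_index
  rw [Nat.card_congr (Subgroup.subgroupOfEquivOfLe (ι_range_le F)).toEquiv, hQ.card_GG,
    ← hQ.card_range] at h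
  have hpos : 0 < Nat.card (ι F).range := Nat.card_pos
  exact Nat.eq_of_mul_eq_mul_left hpos (h.trans (mul_comm _ _))

theorem Quad.conj_range {g : S2} (hg : g ∈ GG F) (x : L2) : ∃ y : L2, ι F y = g * ι F x * g⁻¹ := by
  haveI := Subgroup.normal_of_index_eq_two (hQ.range_index)
  have h := Subgroup.Normal.conj_mem (H := (ι F).range.subgroupOf (GG F)) inferInstance
    ⟨ι F x, ι_mem_GG F x⟩ ⟨x, rfl⟩ ⟨g, hg⟩
  exact h

theorem Quad.sq_mem_range {g : S2} (hg : g ∈ GG F) : g ^ 2 ∈ (ι F).range := by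
  have h := Subgroup.sq_mem_of_index_two (hQ.range_index) (⟨g, hg⟩ : GG F)
  exact h

theorem Quad.odd_mem_range {g : S2} (hg : g ∈ GG F) (ho : Odd (orderOf g)) : g ∈ (ι F).range := by
  obtain ⟨k, hk⟩ := ho
  have : g = (g ^ 2) ^ (k + 1) := by
    rw [← pow_mul, show 2 * (k + 1) = orderOf g + 1 by omega, pow_succ, pow_orderOf_eq_one, one_mul]
  rw [this]
  exact pow_mem (hQ.sq_mem_range hg) _

/-- Conjugation by elements of `GL₂(F)` is realised inside `GG`. -/
theorem Quad.exists_gamma (P : GL (Fin 2) F) :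
    ∃ γ ∈ GG F, ∀ x : L2, γ * ι F x * γ⁻¹ = ι F (cjP P x) := by
  set e := projFieldPGL F hQ.card_eq (Or.inl even_two)
  set γ := e.symm (Matrix.ProjGenLinGroup.mk P) with hγ
  have htp : ∀ z : GG F, Matrix.ProjectiveSpecialLinearGroup.toPGL (z : S2) =
      Matrix.ProjGenLinGroup.map F.subtype (e z) := by
    intro z
    simp only [e, projFieldPGL, MulEquiv.trans_apply]
    rw [MonoidHom.apply_ofInjective_symm]
    rfl
  refine ⟨γ, γ.2, fun x => ?_⟩
  obtain ⟨g, rfl⟩ := proj_surjective x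
  apply Matrix.ProjectiveSpecialLinearGroup.toPGL_injective
  have h1 : ∀ g : SL(2, F), Matrix.ProjectiveSpecialLinearGroup.toPGL (ι F (proj g)) =
      Matrix.ProjGenLinGroup.map F.subtype (Matrix.ProjGenLinGroup.mk (Matrix.SpecialLinearGroup.toGL g)) := by
    intro g
    rw [Matrix.ProjGenLinGroup.map_mk]
    show Matrix.ProjGenLinGroup.mk (Matrix.SpecialLinearGroup.toGL (Matrix.SpecialLinearGroup.map F.subtype g)) = _
    congr 1
    exact Units.ext rfl
  rw [map_mul, map_mul, map_inv, cjP_proj, h1, h1, htp, hγ, MulEquiv.apply_symm_apply,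
    ← map_inv, ← map_mul, ← map_mul, ← map_inv, ← map_mul, ← map_mul]
  congr 2
  exact Units.ext rfl

/-- The standing hypotheses on a maximal subgroup of `PGL₂`. -/
structure Ctx (F : Subfield E) (M : Subgroup S2) : Prop where
  quad : Quad F
  le : M ≤ GG F
  ne : M ≠ GG F
  max : ∀ H : Subgroup S2, M ≤ H → H ≤ GG F → H = M ∨ H = GG F
  notL : ¬ (ι F).range ≤ M

end quad

section ctx

variable {F}
variable {M : Subgroup (Matrix.ProjectiveSpecialLinearGroup (Fin 2) E)}
variable (hC : Ctx F M)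
include hC

theorem Ctx.not_le : ¬ M ≤ (ι F).range := by
  intro h
  rcases hC.max _ h (ι_range_le F) with e | e
  · exact hC.notL e.le
  · have := hC.quad.range_index
    rw [Subgroup.subgroupOf_eq_top.2 e.ge, Subgroup.index_top] at this
    omega

theorem Ctx.card_eq : Nat.card M = 2 * Nat.card (M.comap (ι F)) := by
  have hN : Nat.card (M.comap (ι F)) = Nat.card ((ι F).range.subgroupOf M) := by
    rw [Nat.card_congr (Subgroup.equivMapOfInjective _ _ (ι_injective F)).toEquiv,
      Subgroup.map_comap_eq, ← Nat.card_congr (Subgroup.subgroupOfEquivOfLe (inf_le_right : (ι F).range ⊓ M ≤ M)).toEquiv]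
    rw [Subgroup.inf_subgroupOf_right]
  have h2 : ((ι F).range.subgroupOf M).index = 2 := by
    have hd : (ι F).range.relIndex M ∣ 2 := by
      haveI := Subgroup.normal_of_index_eq_two (hC.quad.range_index)
      have hd := Subgroup.relIndex_dvd_index_of_normal ((ι F).range.subgroupOf (GG F)) (M.subgroupOf (GG F))
      rwa [Subgroup.relIndex_subgroupOf hC.le, hC.quad.range_index] at hd
    rcases (Nat.dvd_prime Nat.prime_two).1 hd with h | h
    · exact absurd (Subgroup.relIndex_eq_one.1 h) (hC.not_le)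
    · exact h
  rw [← ((ι F).range.subgroupOf M).card_mul_index, h2, ← hN, mul_comm]

/-- An invariant overgroup of `M ∩ L` other than `L` is `M ∩ L`. -/
theorem Ctx.eq_of_invariant {W : Subgroup L2} (hle : M.comap (ι F) ≤ W) (hW : W ≠ ⊤)
    (hinv : ∀ g ∈ M, ∀ x ∈ W, ∃ y ∈ W, ι F y = g * ι F x * g⁻¹) : W = M.comap (ι F) := by
  set T := W.map (ι F) with hT
  have hnorm : M ≤ Subgroup.normalizer (T : Set S2) := by
    intro g hg
    rw [Subgroup.mem_normalizer_iff]
    intro s
    constructor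
    · rintro ⟨x, hx, rfl⟩
      obtain ⟨y, hy, he⟩ := hinv g hg x hx
      exact ⟨y, hy, he⟩
    · rintro ⟨x, hx, hxe⟩
      obtain ⟨y, hy, he⟩ := hinv g⁻¹ (inv_mem hg) x hx
      refine ⟨y, hy, ?_⟩
      rw [he, hxe]; group
  refine le_antisymm ?_ hle
  have hHG : M ⊔ T ≤ GG F := sup_le hC.le (by rintro _ ⟨x, -, rfl⟩; exact ι_mem_GG F x)
  rcases hC.max (M ⊔ T) le_sup_left hHG with e | e
  · intro x hx
    exact (e ▸ (le_sup_right : T ≤ M ⊔ T) ⟨x, hx, rfl⟩ : ι F x ∈ M)
  · exfalso
    apply hW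
    rw [eq_top_iff]
    intro x _
    have hx : ι F x ∈ ((M ⊔ T : Subgroup S2) : Set S2) := e ▸ ι_mem_GG F x
    rw [Subgroup.coe_mul_of_left_le_normalizer_right M T hnorm] at hx
    obtain ⟨m, hm, t, ⟨w, hw, rfl⟩, hmt⟩ := hx
    have hmt' : m = ι F (x * w⁻¹) := by
      rw [map_mul, map_inv, ← hmt, mul_inv_cancel_right]
    have : x * w⁻¹ ∈ W := hle (show ι F (x * w⁻¹) ∈ M from hmt' ▸ hm)
    simpa using mul_mem this hw

theorem Ctx.conj_mem {g : S2} (hg : g ∈ M) {x : L2} (hx : x ∈ M.comap (ι F)) :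
    ∃ y ∈ M.comap (ι F), ι F y = g * ι F x * g⁻¹ := by
  obtain ⟨y, hy⟩ := hC.quad.conj_range (hC.le hg) x
  exact ⟨y, (show ι F y ∈ M from hy ▸ mul_mem (mul_mem hg hx) (inv_mem hg)), hy⟩

omit hC in
theorem transl_noncomm : ¬ Commute (transl (1 : F)) (proj (lowSL : SL(2, F))) := by
  intro hc
  have h1 : proj (upSL (1 : F) * lowSL) = proj (lowSL * upSL (1 : F)) := by
    rw [map_mul, map_mul]; exact hc.eq
  rcases proj_eq_proj_iff.1 h1 with h | h
  · have h' := congrArg (fun A : SL(2, F) => (A : Matrix (Fin 2) (Fin 2) F)) h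
    simp only [Matrix.SpecialLinearGroup.coe_mul] at h'
    have h00 := congrArg (fun A : Matrix (Fin 2) (Fin 2) F => A 0 0) h'
    simp [lowSL, upSL] at h00
  · have h' := congrArg (fun A : SL(2, F) => (A : Matrix (Fin 2) (Fin 2) F)) h
    simp only [Matrix.SpecialLinearGroup.coe_neg, Matrix.SpecialLinearGroup.coe_mul] at h'
    have h00 := congrArg (fun A : Matrix (Fin 2) (Fin 2) F => A 0 0) h'
    have h01 := congrArg (fun A : Matrix (Fin 2) (Fin 2) F => A 0 1) h'
    simp [lowSL, upSL] at h00 h01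
    exact one_ne_zero (α := F) (by linear_combination h00 - h01)

omit hC in
theorem inverted_of_invol {G : Type*} [Group G] {a t : G} (ht : t * t = 1) :
    t * (a⁻¹ * (t * a * t⁻¹)) * t⁻¹ = (a⁻¹ * (t * a * t⁻¹))⁻¹ := by
  have hc : ∀ x : G, t * (t * x) = x := fun x => by rw [← mul_assoc, ht, one_mul]
  have hti : t⁻¹ = t := inv_eq_of_mul_eq_one_left ht
  rw [hti]
  symm
  rw [inv_eq_iff_mul_eq_one]
  simp [mul_assoc, hc, ht]

theorem Ctx.comap_ne_bot : M.comap (ι F) ≠ ⊥ := by
  intro hbot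
  have hcard := hC.card_eq
  rw [hbot, Subgroup.card_bot, mul_one] at hcard
  haveI : Finite M := Finite.of_injective Subtype.val Subtype.val_injective
  haveI : Nontrivial M := Finite.one_lt_card_iff_nontrivial.1 (by omega)
  obtain ⟨t, ht1⟩ := exists_ne (1 : M)
  classical
  have hMt : ∀ g ∈ M, g = 1 ∨ g = (t : S2) := by
    intro g hg
    by_contra hne
    push Not at hne
    have : ({1, t, ⟨g, hg⟩} : Finset M).card ≤ Nat.card M := by
      classical
      haveI := Fintype.ofFinite M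
      rw [Nat.card_eq_fintype_card]; exact Finset.card_le_univ _
    classical
    rw [Finset.card_eq_three.2 ⟨1, t, ⟨g, hg⟩, ht1.symm, fun e => hne.1 (congrArg Subtype.val e).symm,
      fun e => hne.2 (congrArg Subtype.val e).symm, rfl⟩] at this
    omega
  have ht2 : (t : S2) * t = 1 := by
    rcases hMt _ (mul_mem t.2 t.2) with h | h
    · exact h
    · exact absurd (mul_eq_left.1 h) (fun e => ht1 (Subtype.ext e))
  -- a non-trivial element fixed or inverted
  obtain ⟨z, hz, hzt⟩ : ∃ z : L2, z ≠ 1 ∧ ((t : S2) * ι F z * (t : S2)⁻¹ = ι F z ∨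
      (t : S2) * ι F z * (t : S2)⁻¹ = (ι F z)⁻¹) := by
    obtain ⟨y, hy⟩ := hC.quad.conj_range (hC.le t.2) (transl (1 : F))
    by_cases h : (transl (1 : F))⁻¹ * y = 1
    · refine ⟨transl 1, transl_ne_one one_ne_zero, Or.inl ?_⟩
      rw [← hy, inv_mul_eq_one.1 h]
    · refine ⟨(transl (1 : F))⁻¹ * y, h, Or.inr ?_⟩
      rw [map_mul, map_inv, hy]
      exact inverted_of_invol ht2
  have hW := hC.eq_of_invariant (W := Subgroup.zpowers z) (by rw [hbot]; exact bot_le) ?_ ?_
  · rw [hbot, Subgroup.zpowers_eq_bot] at hW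
    exact hz hW
  · intro h
    obtain ⟨a, ha⟩ := Subgroup.mem_zpowers_iff.1 (h ▸ Subgroup.mem_top (transl (1 : F)))
    obtain ⟨b, hb⟩ := Subgroup.mem_zpowers_iff.1 (h ▸ Subgroup.mem_top (proj (lowSL : SL(2, F))))
    exact transl_noncomm (ha ▸ hb ▸ (Commute.refl z).zpow_zpow a b)
  · intro g hg x hx
    obtain ⟨a, rfl⟩ := Subgroup.mem_zpowers_iff.1 hx
    rcases hMt g hg with rfl | rfl
    · exact ⟨z ^ a, hx, by simp⟩
    · rcases hzt with h | h
      · exact ⟨z ^ a, hx, by rw [map_zpow, ← conj_zpow, h]⟩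
      · exact ⟨z ^ (-a), zpow_mem (Subgroup.mem_zpowers z) _, by
          rw [map_zpow, map_zpow, ← conj_zpow, h, _root_.inv_zpow, _root_.zpow_neg]⟩

end ctx

end H42.PGLMax
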