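import Cfsg.Agent.H49.ShortRoot

/-!
The stabiliser of a pair of complementary Lagrangians: a copy of `Cfsg.Agent.H49.PairStab` adapted to rank at least three.
-/

set_option autoImplicit false

namespace H42.PairSmall

open Matrix
open H48 (sf tv)
open H49 (sroot sroot_smul sroot_comm IsShort IsCtr eq_top_of_ctr)

variable {m : ℕ} {F : Type*} [Field F]

local notation "V" => (Fin m ⊕ Fin m → F)
local notation "Sp" => Matrix.symplecticGroup (Fin m) F

/-- A pair of complementary totally isotropic subspaces. -/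
structure LPair (U U' : Submodule F (Fin m ⊕ Fin m → F)) : Prop where
  iso : ∀ x ∈ U, ∀ y ∈ U, sf x y = 0
  iso' : ∀ x ∈ U', ∀ y ∈ U', sf x y = 0
  compl : IsCompl U U'
  dimU : Module.finrank F U = m
  dimU' : Module.finrank F U' = m
  big : 3 ≤ m
  two : (2 : F) ≠ 0

/-- The elements preserving both subspaces. -/
def Fixes (U U' : Submodule F (Fin m ⊕ Fin m → F)) (g : Matrix.symplecticGroup (Fin m) F) : Prop :=
  (∀ x ∈ U, g • x ∈ U) ∧ ∀ x ∈ U', g • x ∈ U'

/-- Standard pairs. -/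
def StdPair (U U' : Submodule F (Fin m ⊕ Fin m → F)) (x y : Fin m ⊕ Fin m → F) : Prop :=
  ∃ a ∈ U, ∃ b ∈ U', x ∈ Submodule.span F ({a, b} : Set (Fin m ⊕ Fin m → F)) ∧
    y ∈ Submodule.span F ({a, b} : Set (Fin m ⊕ Fin m → F))

namespace LPair

variable {U U' : Submodule F (Fin m ⊕ Fin m → F)} (d : LPair U U')
include d

theorem symm : LPair U' U := ⟨d.iso', d.iso, d.compl.symm, d.dimU', d.dimU, d.big, d.two⟩

theorem dec (x : V) : ∃ a ∈ U, ∃ b ∈ U', a + b = x := by
  have h : x ∈ U ⊔ U' := by rw [d.compl.sup_eq_top]; trivial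
  exact Submodule.mem_sup.1 h

theorem uniq {a a' b b' : V} (ha : a ∈ U) (ha' : a' ∈ U) (hb : b ∈ U') (hb' : b' ∈ U')
    (h : a + b = a' + b') : a = a' ∧ b = b' := by
  have h1 : a - a' = b' - b := by linear_combination (norm := abel) h
  have h0 : a - a' = 0 :=
    Submodule.disjoint_def.1 d.compl.disjoint _ (U.sub_mem ha ha') (h1 ▸ U'.sub_mem hb' hb)
  rw [h0] at h1
  exact ⟨sub_eq_zero.1 h0, (sub_eq_zero.1 h1.symm).symm⟩

/-- Functionals on U are given by U'. -/
theorem exists_b {S : Submodule F V} {a : V} (hS : S ≤ U) (ha : a ∈ U) (hn : a ∉ S) :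
    ∃ b ∈ U', (∀ s ∈ S, sf s b = 0) ∧ sf a b = 1 := by
  obtain ⟨z, hz, hza⟩ := H48.exists_sep hn
  obtain ⟨a', ha', b, hb, rfl⟩ := d.dec z
  rw [map_add, d.iso a ha a' ha', zero_add] at hza
  refine ⟨(sf a b)⁻¹ • b, U'.smul_mem _ hb, fun s hs => ?_, by simp [hza]⟩
  have := hz s hs
  rw [map_add, d.iso s (hS hs) a' ha', zero_add] at this
  simp [this]

/-- A non-zero vector of U orthogonal to two given vectors. -/
theorem exists_perp₂ (p q : V) : ∃ a ∈ U, sf p a = 0 ∧ sf q a = 0 ∧ a ≠ 0 := by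
  let φ : U →ₗ[F] F × F := ((sf p).comp U.subtype).prod ((sf q).comp U.subtype)
  by_contra hcon
  simp only [not_exists, not_and, not_not] at hcon
  have hker : LinearMap.ker φ = ⊥ := by
    refine (Submodule.eq_bot_iff _).2 fun x hx => Subtype.ext ?_
    exact hcon _ x.2 (congrArg Prod.fst hx) (congrArg Prod.snd hx)
  have h1 := φ.finrank_range_add_finrank_ker
  have h2 : Module.finrank F (LinearMap.range φ) ≤ 2 := by
    refine le_trans (Submodule.finrank_le _) ?_
    simp
  have := d.big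
  rw [d.dimU, hker, finrank_bot] at h1
  omega

/-- A vector of U orthogonal to a given vector and outside a line. -/
theorem exists_avoid₁ (p u : V) : ∃ a ∈ U, sf p a = 0 ∧ a ∉ Submodule.span F ({u} : Set V) := by
  let φ : U →ₗ[F] F := (sf p).comp U.subtype
  by_contra hcon
  simp only [not_exists, not_and, not_not] at hcon
  have h1 := φ.finrank_range_add_finrank_ker
  have h2 : Module.finrank F (LinearMap.range φ) ≤ 1 := by
    refine le_trans (Submodule.finrank_le _) ?_
    simp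
  let ψ : LinearMap.ker φ →ₗ[F] Submodule.span F ({u} : Set V) :=
    (U.subtype.comp (LinearMap.ker φ).subtype).codRestrict _ (fun x => hcon _ x.1.2 x.2)
  have h3 : Module.finrank F (LinearMap.ker φ) ≤ 1 := by
    refine le_trans (LinearMap.finrank_le_finrank_of_injective (f := ψ) fun x y h =>
      Subtype.ext (Subtype.ext (congrArg (fun z : Submodule.span F ({u} : Set V) => (z : V)) h))) ?_
    classical
    refine le_trans (finrank_span_le_card _) ?_
    simp
  have := d.big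
  rw [d.dimU] at h1
  omega

variable {K : Subgroup (Matrix.symplecticGroup (Fin m) F)} (hK : ∀ g, Fixes U U' g → g ∈ K)
include hK

omit d in
theorem fixes_mem_swap : ∀ g, Fixes U' U g → g ∈ K := fun g hg => hK g ⟨hg.2, hg.1⟩

theorem short_of_std {a b : V} (ha : a ∈ U) (hb : b ∈ U') (h : sf a b = 0) : IsShort K a b := by
  refine ⟨h, fun c => hK _ ⟨fun x hx => ?_, fun x hx => ?_⟩⟩
  · rw [sroot_smul h, d.iso x hx a ha, mul_zero, zero_smul, add_zero]
    exact U.add_mem hx (U.smul_mem _ ha)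
  · rw [sroot_smul h, d.iso' x hx b hb, mul_zero, zero_smul, add_zero]
    exact U'.add_mem hx (U'.smul_mem _ hb)

/-- The generic situation, given a suitable vector of U. -/
theorem main_aux {x y x₁ x₂ y₁ y₂ a : V} (h : IsShort K x y) (hx₁ : x₁ ∈ U) (hx₂ : x₂ ∈ U')
    (hx : x₁ + x₂ = x) (hy₁ : y₁ ∈ U) (hy₂ : y₂ ∈ U') (hy : y₁ + y₂ = y)
    (hn₁ : y₁ ∉ Submodule.span F ({x₁} : Set V))
    (ha : a ∈ U) (hax : sf x₂ a = 0) (hay : sf y₂ a = 1)
    (hanot : a ∉ Submodule.span F ({x₁, y₁} : Set V)) : IsCtr K x := by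
  have hy₁a : y₁ ∉ Submodule.span F ({x₁, a} : Set V) := by
    intro hmem
    obtain ⟨r, s, hrs⟩ := Submodule.mem_span_pair.1 hmem
    rcases eq_or_ne s 0 with rfl | hs
    · exact hn₁ (Submodule.mem_span_singleton.2 ⟨r, by rw [zero_smul, add_zero] at hrs; exact hrs⟩)
    · refine hanot (Submodule.mem_span_pair.2 ⟨-r / s, 1 / s, ?_⟩)
      rw [← hrs]
      match_scalars <;> field_simp <;> ring
  obtain ⟨b, hb, hbx, hby⟩ := d.exists_b (S := Submodule.span F {x₁, a})
    (Submodule.span_le.2 (Set.insert_subset_iff.2 ⟨hx₁, Set.singleton_subset_iff.2 ha⟩)) hy₁ hy₁a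
  have hab : sf a b = 0 := hbx a (Submodule.subset_span (Set.mem_insert_of_mem _ rfl))
  have hx₁b : sf x₁ b = 0 := hbx x₁ (Submodule.subset_span (Set.mem_insert _ _))
  have hs : sroot a b 1 ∈ K := (d.short_of_std hK ha hb hab).2 1
  have hxa : sf x a = 0 := by rw [← hx, map_add, LinearMap.add_apply, d.iso x₁ hx₁ a ha, hax, add_zero]
  have hxb : sf x b = 0 := by rw [← hx, map_add, LinearMap.add_apply, d.iso' x₂ hx₂ b hb, hx₁b, add_zero]
  have hya : sf y a = 1 := by rw [← hy, map_add, LinearMap.add_apply, d.iso y₁ hy₁ a ha, hay, zero_add]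
  have hyb : sf y b = 1 := by rw [← hy, map_add, LinearMap.add_apply, d.iso' y₂ hy₂ b hb, hby, add_zero]
  have hsx : sroot a b 1 • x = x := by
    rw [sroot_smul hab, hxa, hxb]; simp
  have h' := h.group_smul hs
  rw [hsx] at h'
  refine h.isCtr h' ?_ d.two
  rw [sroot_smul hab, hya, hyb]
  simp [hya, hyb, one_add_one_eq_two, d.two]

/-- The generic situation: a transvection centre appears. -/
theorem main_case {x y x₁ x₂ y₁ y₂ : V} (h : IsShort K x y) (hx₁ : x₁ ∈ U) (hx₂ : x₂ ∈ U')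
    (hx : x₁ + x₂ = x) (hy₁ : y₁ ∈ U) (hy₂ : y₂ ∈ U') (hy : y₁ + y₂ = y)
    (hn₁ : y₁ ∉ Submodule.span F ({x₁} : Set V)) (hn₂ : y₂ ∉ Submodule.span F ({x₂} : Set V)) :
    IsCtr K x ∨ (y ≠ 0 ∧ IsCtr K y) := by
  by_cases hA : ∃ a ∈ U, sf x₂ a = 0 ∧ sf y₂ a = 1 ∧ a ∉ Submodule.span F ({x₁, y₁} : Set V)
  · obtain ⟨a, ha, hax, hay, hanot⟩ := hA
    exact Or.inl (d.main_aux hK h hx₁ hx₂ hx hy₁ hy₂ hy hn₁ ha hax hay hanot)
  simp only [not_exists, not_and, not_not] at hA
  right
  obtain ⟨a₀, ha₀, ha₀x, ha₀y⟩ := d.symm.exists_b (S := Submodule.span F {x₂})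
    ((Submodule.span_singleton_le_iff_mem _ _).2 hx₂) hy₂ hn₂
  have ha₀P := hA a₀ ha₀ (ha₀x x₂ (Submodule.mem_span_singleton_self _)) ha₀y
  -- everything of U orthogonal to x₂ lies in the plane of the projections
  have hkerP : ∀ k ∈ U, sf x₂ k = 0 → k ∈ Submodule.span F ({x₁, y₁} : Set V) := by
    intro k hk hkx
    have h1 := hA (a₀ + (k - sf y₂ k • a₀)) (U.add_mem ha₀ (U.sub_mem hk (U.smul_mem _ ha₀)))
      (by simp [ha₀x x₂ (Submodule.mem_span_singleton_self _), hkx])
      (by simp [ha₀y])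
    have h2 := Submodule.add_mem _ (Submodule.sub_mem _ h1 ha₀P) (Submodule.smul_mem _ (sf y₂ k) ha₀P)
    simpa using h2
  have hy0 : y ≠ 0 := fun e => hn₁ (by
    obtain ⟨e1, -⟩ := d.uniq hy₁ U.zero_mem hy₂ U'.zero_mem (by rw [hy, e, add_zero])
    rw [e1]; exact Submodule.zero_mem _)
  have hx₁n : x₁ ∉ Submodule.span F ({y₁} : Set V) := by
    intro hmem
    obtain ⟨r, hr⟩ := Submodule.mem_span_singleton.1 hmem
    rcases eq_or_ne r 0 with rfl | hr0
    · rw [zero_smul] at hr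
      obtain ⟨k, hk, hkx, hknot⟩ := d.exists_avoid₁ x₂ y₁
      apply hknot
      have h2 := hkerP k hk hkx
      rwa [← hr, Submodule.span_insert_zero] at h2
    · exact hn₁ (Submodule.mem_span_singleton.2 ⟨r⁻¹, by rw [← hr, inv_smul_smul₀ hr0]⟩)
  have hx₂n : x₂ ∉ Submodule.span F ({y₂} : Set V) := by
    intro hmem
    obtain ⟨r, hr⟩ := Submodule.mem_span_singleton.1 hmem
    rcases eq_or_ne r 0 with rfl | hr0
    · rw [zero_smul] at hr
      have hle : U ≤ Submodule.span F ({x₁, y₁} : Set V) := fun k hk => hkerP k hk (by simp [← hr])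
      have h1 := Submodule.finrank_mono hle
      classical
      have h2 : Module.finrank F (Submodule.span F ({x₁, y₁} : Set V)) ≤ 2 := by
        refine le_trans (finrank_span_le_card _) ?_
        simp only [Set.toFinset_insert, Set.toFinset_singleton]
        exact Finset.card_le_two
      rw [d.dimU] at h1
      have := d.big
      omega
    · exact hn₂ (Submodule.mem_span_singleton.2 ⟨r⁻¹, by rw [← hr, inv_smul_smul₀ hr0]⟩)
  refine ⟨hy0, ?_⟩
  obtain ⟨c₀, hc₀, hc₀y, hc₀x⟩ := d.symm.exists_b (S := Submodule.span F {y₂})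
    ((Submodule.span_singleton_le_iff_mem _ _).2 hy₂) hx₂ hx₂n
  refine d.main_aux hK h.swap hy₁ hy₂ hy hx₁ hx₂ hx hx₁n hc₀
    (hc₀y y₂ (Submodule.mem_span_singleton_self _)) hc₀x fun hc => ?_
  -- otherwise both projections orthogonality relations collapse
  rw [Set.pair_comm] at hc
  obtain ⟨k, hk, hky, hkx⟩ : ∃ k ∈ U, sf y₂ k = 1 ∧ sf x₂ k = 0 :=
    ⟨a₀, ha₀, ha₀y, ha₀x x₂ (Submodule.mem_span_singleton_self _)⟩
  have hkP := hkerP k hk hkx
  -- the plane is spanned by the two dual vectors, so a third direction is orthogonal to both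
  obtain ⟨j, hj, hjy, hjx, hj0⟩ := d.exists_perp₂ y₂ x₂
  obtain ⟨r, s, hrs⟩ := Submodule.mem_span_pair.1 (hkerP j hj hjx)
  obtain ⟨r₁, s₁, e1⟩ := Submodule.mem_span_pair.1 hkP
  obtain ⟨r₂, s₂, e2⟩ := Submodule.mem_span_pair.1 hc
  set A := sf y₂ x₁
  set B := sf y₂ y₁
  set C := sf x₂ x₁
  set D := sf x₂ y₁
  rw [← e1] at hky hkx
  rw [← e2] at hc₀x
  have hcy := hc₀y y₂ (Submodule.mem_span_singleton_self _)
  rw [← e2] at hcy
  rw [← hrs] at hjy hjx
  simp only [map_add, map_smul, smul_eq_mul] at hky hkx hc₀x hcy hjy hjx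
  change r₁ * A + s₁ * B = 1 at hky
  change r₁ * C + s₁ * D = 0 at hkx
  change r₂ * C + s₂ * D = 1 at hc₀x
  change r₂ * A + s₂ * B = 0 at hcy
  change r * A + s * B = 0 at hjy
  change r * C + s * D = 0 at hjx
  have hdet : (r₁ * s₂ - s₁ * r₂) * (A * D - B * C) = 1 := by
    linear_combination (r₂ * C + s₂ * D) * hky + hc₀x - (r₂ * A + s₂ * B) * hkx
  have hdet' : A * D - B * C ≠ 0 := fun e => by rw [e, mul_zero] at hdet; exact zero_ne_one hdet
  have hr' : r = 0 := (mul_eq_zero.1 (show r * (A * D - B * C) = 0 by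
    linear_combination D * hjy - B * hjx)).resolve_right hdet'
  have hs' : s = 0 := (mul_eq_zero.1 (show s * (A * D - B * C) = 0 by
    linear_combination A * hjx - C * hjy)).resolve_right hdet'
  exact hj0 (by rw [← hrs, hr', hs', zero_smul, zero_smul, add_zero])

/-- The plane case: the projection on U' kills only the plane of the projections on U. -/
theorem prop_small {x y x₁ x₂ w : V} (α : F) (h : IsShort K x y) (hx₁ : x₁ ∈ U) (hx₂ : x₂ ∈ U')
    (hx : x₁ + x₂ = x) (hwU : w ∈ U) (hyw : y = α • x + w)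
    (hstd : w ∉ Submodule.span F ({x₁} : Set V)) (hx20 : x₂ ≠ 0)
    (hA : ∀ a ∈ U, sf x₂ a = 0 → a ∈ Submodule.span F ({x₁, w} : Set V)) : IsCtr K x₁ := by
  have hxw : sf x w = 0 := by
    have := h.1
    rwa [hyw, map_add, map_smul, H48.sf_self, smul_zero, zero_add] at this
  have hx2w : sf x₂ w = 0 := by
    have := hxw
    rwa [← hx, map_add, LinearMap.add_apply, d.iso x₁ hx₁ w hwU, zero_add] at this
  have hx21 : sf x₂ x₁ = 0 := by
    by_contra hne
    obtain ⟨k, hk, hkx, hknot⟩ := d.exists_avoid₁ x₂ w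
    obtain ⟨r, s, hrs⟩ := Submodule.mem_span_pair.1 (hA k hk hkx)
    rw [← hrs, map_add, map_smul, map_smul, hx2w, smul_zero, add_zero, smul_eq_mul] at hkx
    exact hknot (Submodule.mem_span_singleton.2
      ⟨s, by rw [← hrs, (mul_eq_zero.1 hkx).resolve_right hne, zero_smul, zero_add]⟩)
  obtain ⟨b, hb, hbx, hbw⟩ := d.exists_b (S := Submodule.span F {x₁})
    ((Submodule.span_singleton_le_iff_mem _ _).2 hx₁) hwU hstd
  have hx₁b : sf x₁ b = 0 := hbx _ (Submodule.mem_span_singleton_self _)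
  have hs := (d.short_of_std hK hx₁ hb hx₁b).2 1
  have hxb : sf x b = 0 := by rw [← hx, map_add, LinearMap.add_apply, d.iso' x₂ hx₂ b hb, hx₁b, add_zero]
  have hxx₁ : sf x x₁ = 0 := by rw [← hx, map_add, LinearMap.add_apply, H48.sf_self, hx21, add_zero]
  have hwx : sf w x₁ = 0 := d.iso w hwU x₁ hx₁
  have h' := h.group_smul hs
  have e1 : sroot x₁ b 1 • x = x := by rw [sroot_smul hx₁b, hxb, hxx₁]; simp
  have e2 : sroot x₁ b 1 • y = y + x₁ := by
    rw [sroot_smul hx₁b, hyw]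
    simp [hxb, hxx₁, hwx, hbw]
  rw [e1, e2] at h'
  have h1 : IsShort K x x₁ := h.sub h' (by rw [hyw]; simp [hxx₁, hwx])
  have hx2b : sf x₁ x₂ = 0 := H48.sf_eq_zero_comm hx21
  have h3 : IsShort K x₁ (x₂ + x₁) := by rw [add_comm, hx]; exact h1.swap
  exact ((d.short_of_std hK hx₁ hx₂ hx2b).sub h3 hx21).isCtr_self d.two

/-- Both projections proportional on one side. -/
theorem prop_case {x y x₁ x₂ y₁ : V} (α : F) (h : IsShort K x y) (hx₁ : x₁ ∈ U) (hx₂ : x₂ ∈ U')
    (hx : x₁ + x₂ = x) (hy₁ : y₁ ∈ U) (hy : y₁ + α • x₂ = y) :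
    StdPair U U' x y ∨ ∃ v, v ≠ 0 ∧ IsCtr K v := by
  set w := y₁ - α • x₁ with hw
  have hwU : w ∈ U := U.sub_mem hy₁ (U.smul_mem _ hx₁)
  have hyw : y = α • x + w := by rw [← hy, ← hx, hw, smul_add]; abel
  by_cases hstd : w ∈ Submodule.span F ({x₁} : Set V)
  · refine Or.inl ⟨x₁, hx₁, x₂, hx₂, ?_, ?_⟩
    · rw [← hx]
      exact add_mem (Submodule.subset_span (Set.mem_insert _ _))
        (Submodule.subset_span (Set.mem_insert_of_mem _ rfl))
    · have hy1' : y₁ ∈ Submodule.span F ({x₁} : Set V) := by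
        have : y₁ = w + α • x₁ := by rw [hw, sub_add_cancel]
        rw [this]
        exact add_mem hstd (Submodule.smul_mem _ _ (Submodule.mem_span_singleton_self _))
      rw [← hy]
      exact add_mem (Submodule.span_mono (by simp) hy1')
        (Submodule.smul_mem _ _ (Submodule.subset_span (Set.mem_insert_of_mem _ rfl)))
  by_cases hx10 : x₁ = 0
  · refine Or.inl ⟨w, hwU, x₂, hx₂, ?_, ?_⟩
    · rw [← hx, hx10, zero_add]
      exact Submodule.subset_span (Set.mem_insert_of_mem _ rfl)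
    · rw [hyw, ← hx, hx10, zero_add]
      exact add_mem (Submodule.smul_mem _ _ (Submodule.subset_span (Set.mem_insert_of_mem _ rfl)))
        (Submodule.subset_span (Set.mem_insert _ _))
  right
  by_cases hx20 : x₂ = 0
  · -- both vectors lie in U
    rw [hx20, smul_zero, add_zero] at hy
    rw [hx20, add_zero] at hx
    obtain ⟨b, hb, hbx, hby⟩ := d.exists_b (S := Submodule.span F {x₁})
      ((Submodule.span_singleton_le_iff_mem _ _).2 hx₁) hwU hstd
    have hx1b : sf x₁ b = 0 := hbx x₁ (Submodule.mem_span_singleton_self _)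
    have hs : sroot x₁ b 1 ∈ K := (d.short_of_std hK hx₁ hb hx1b).2 1
    have h' := h.group_smul hs
    have hy1b : sf y₁ b = 1 := by
      have : y₁ = w + α • x₁ := by rw [hw, sub_add_cancel]
      rw [this, map_add, LinearMap.add_apply, map_smul, LinearMap.smul_apply, hby, hx1b]; simp
    have e1 : sroot x₁ b 1 • x = x := by
      rw [← hx, sroot_smul hx1b, H48.sf_self, hx1b]; simp
    have e2 : sroot x₁ b 1 • y = y + x := by
      rw [← hy, ← hx, sroot_smul hx1b, d.iso y₁ hy₁ x₁ hx₁, hy1b]; simp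
    rw [e1, e2] at h'
    exact ⟨x, by rw [← hx]; exact hx10, (h.sub h' (H48.sf_eq_zero_comm h.1)).isCtr_self d.two⟩
  · by_cases hA : ∃ a ∈ U, sf x₂ a = 0 ∧ a ∉ Submodule.span F ({x₁, w} : Set V)
    swap
    · simp only [not_exists, not_and, not_not] at hA
      exact ⟨x₁, hx10, d.prop_small hK α h hx₁ hx₂ hx hwU hyw hstd hx20 hA⟩
    obtain ⟨a, ha, hax, hanot⟩ := hA
    have hwn : w ∉ Submodule.span F ({x₁, a} : Set V) := by
      intro hmem
      obtain ⟨r, s, hrs⟩ := Submodule.mem_span_pair.1 hmem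
      rcases eq_or_ne s 0 with rfl | hs
      · exact hstd (Submodule.mem_span_singleton.2 ⟨r, by rw [zero_smul, add_zero] at hrs; exact hrs⟩)
      · refine hanot (Submodule.mem_span_pair.2 ⟨-r / s, 1 / s, ?_⟩)
        rw [← hrs]
        match_scalars <;> field_simp <;> ring
    obtain ⟨b, hb, hbx, hbw⟩ := d.exists_b (S := Submodule.span F {x₁, a})
      (Submodule.span_le.2 (Set.insert_subset_iff.2 ⟨hx₁, Set.singleton_subset_iff.2 ha⟩)) hwU hwn
    have hab : sf a b = 0 := hbx a (Submodule.subset_span (Set.mem_insert_of_mem _ rfl))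
    have hx₁b : sf x₁ b = 0 := hbx x₁ (Submodule.subset_span (Set.mem_insert _ _))
    have hxa : sf x a = 0 := by rw [← hx, map_add, LinearMap.add_apply, d.iso x₁ hx₁ a ha, hax, add_zero]
    have hxb : sf x b = 0 := by rw [← hx, map_add, LinearMap.add_apply, d.iso' x₂ hx₂ b hb, hx₁b, add_zero]
    have hya : sf y a = 0 := by
      rw [hyw, map_add, LinearMap.add_apply, map_smul, LinearMap.smul_apply, hxa, d.iso w hwU a ha]; simp
    have hyb : sf y b = 1 := by
      rw [hyw, map_add, LinearMap.add_apply, map_smul, LinearMap.smul_apply, hxb, hbw]; simp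
    have h' := h.group_smul ((d.short_of_std hK ha hb hab).2 1)
    have e1 : sroot a b 1 • x = x := by rw [sroot_smul hab, hxa, hxb]; simp
    have e2 : sroot a b 1 • y = y + a := by rw [sroot_smul hab, hya, hyb]; simp
    rw [e1, e2] at h'
    have hpair : IsShort K a x := (h.sub h' hya).swap
    have ha0 : a ≠ 0 := fun e => hanot (e ▸ Submodule.zero_mem _)
    refine (d.main_case hK hpair ha U'.zero_mem (add_zero a) hx₁ hx₂ hx ?_ ?_).elim
      (fun hc => ⟨a, ha0, hc⟩) (fun hc => ⟨x, hc.1, hc.2⟩)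
    · intro hmem
      obtain ⟨r, hr⟩ := Submodule.mem_span_singleton.1 hmem
      have hr0 : r ≠ 0 := by rintro rfl; exact hx10 (by rw [← hr, zero_smul])
      exact hanot (Submodule.mem_span_pair.2 ⟨r⁻¹, 0, by rw [← hr, smul_smul, inv_mul_cancel₀ hr0]; simp⟩)
    · rwa [Submodule.span_zero_singleton, Submodule.mem_bot]

/-- Every short root pair in K is standard unless K contains a transvection group. -/
theorem std_or_ctr {x y : V} (h : IsShort K x y) :
    StdPair U U' x y ∨ ∃ v, v ≠ 0 ∧ IsCtr K v := by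
  obtain ⟨x₁, hx₁, x₂, hx₂, hx⟩ := d.dec x
  obtain ⟨y₁, hy₁, y₂, hy₂, hy⟩ := d.dec y
  by_cases h2 : y₂ ∈ Submodule.span F ({x₂} : Set V)
  · obtain ⟨α, rfl⟩ := Submodule.mem_span_singleton.1 h2
    exact d.prop_case hK α h hx₁ hx₂ hx hy₁ hy
  by_cases h1 : y₁ ∈ Submodule.span F ({x₁} : Set V)
  · obtain ⟨α, rfl⟩ := Submodule.mem_span_singleton.1 h1
    rcases d.symm.prop_case (fixes_mem_swap hK) α h hx₂ hx₁ (by rw [add_comm]; exact hx) hy₂
      (by rw [add_comm]; exact hy) with ⟨a, ha, b, hb, hxs, hys⟩ | hv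
    · rw [Set.pair_comm] at hxs hys
      exact Or.inl ⟨b, hb, a, ha, hxs, hys⟩
    · exact Or.inr hv
  rcases eq_or_ne x 0 with rfl | hx0
  · refine Or.inl ⟨y₁, hy₁, y₂, hy₂, Submodule.zero_mem _, ?_⟩
    rw [← hy]
    exact add_mem (Submodule.subset_span (Set.mem_insert _ _))
      (Submodule.subset_span (Set.mem_insert_of_mem _ rfl))
  exact Or.inr ((d.main_case hK h hx₁ hx₂ hx hy₁ hy₂ hy h1 h2).elim (fun hc => ⟨x, hx0, hc⟩)
    (fun hc => ⟨y, hc.1, hc.2⟩))

/-- An element of K maps U into U ∪ U' unless K contains a transvection group. -/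
theorem pure_or_ctr {g : Sp} (hg : g ∈ K) :
    (∀ a ∈ U, g • a ∈ U ∨ g • a ∈ U') ∨ ∃ v, v ≠ 0 ∧ IsCtr K v := by
  by_cases hctr : ∃ v, v ≠ 0 ∧ IsCtr K v
  · exact Or.inr hctr
  refine Or.inl fun a ha => ?_
  obtain ⟨p, hp, q, hq, hpq⟩ := d.dec (g • a)
  by_contra hcon
  simp only [not_or] at hcon
  have hp0 : p ≠ 0 := fun e => hcon.2 (by rw [← hpq, e, zero_add]; exact hq)
  have hq0 : q ≠ 0 := fun e => hcon.1 (by rw [← hpq, e, add_zero]; exact hp)
  -- all images of partners lie in a plane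
  have key : ∀ b ∈ U', sf a b = 0 → g • b ∈ Submodule.span F ({p, q} : Set V) := by
    intro b hb hab
    obtain ⟨a', ha', b', hb', hxs, hys⟩ :=
      (d.std_or_ctr hK ((d.short_of_std hK ha hb hab).group_smul hg)).resolve_right hctr
    obtain ⟨r, s, hrs⟩ := Submodule.mem_span_pair.1 hxs
    obtain ⟨h1, h2⟩ := d.uniq hp (U.smul_mem r ha') hq (U'.smul_mem s hb') (hpq.trans hrs.symm)
    have hr : r ≠ 0 := by rintro rfl; exact hp0 (by rw [h1, zero_smul])
    have hs : s ≠ 0 := by rintro rfl; exact hq0 (by rw [h2, zero_smul])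
    obtain ⟨r', s', hrs'⟩ := Submodule.mem_span_pair.1 hys
    refine Submodule.mem_span_pair.2 ⟨r' / r, s' / s, ?_⟩
    rw [h1, h2, smul_smul, smul_smul, div_mul_cancel₀ _ hr, div_mul_cancel₀ _ hs, hrs']
  let φ : U' →ₗ[F] F := (sf a).comp U'.subtype
  let L : F × LinearMap.ker φ →ₗ[F] V :=
    (DistribMulAction.toLinearEquiv F V g).toLinearMap.comp
      ((LinearMap.toSpanSingleton F V a).coprod (U'.subtype.comp (LinearMap.ker φ).subtype))
  have hL : ∀ z, L z = g • (z.1 • a + (z.2.1 : V)) := fun z => rfl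
  let ψ : F × LinearMap.ker φ →ₗ[F] Submodule.span F ({p, q} : Set V) :=
    L.codRestrict _ (fun z => by
      rw [hL, smul_add, smul_comm g z.1 a, ← hpq]
      exact add_mem (Submodule.smul_mem _ _ (add_mem (Submodule.subset_span (Set.mem_insert _ _))
        (Submodule.subset_span (Set.mem_insert_of_mem _ rfl)))) (key _ z.2.1.2 z.2.2))
  have hinj : Function.Injective ψ := fun z z' h => by
    have h' : g • (z.1 • a + (z.2.1 : V)) = g • (z'.1 • a + (z'.2.1 : V)) := by
      rw [← hL, ← hL]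
      exact congrArg (fun v : Submodule.span F ({p, q} : Set V) => (v : V)) h
    obtain ⟨e1, e2⟩ := d.uniq (U.smul_mem _ ha) (U.smul_mem _ ha) z.2.1.2 z'.2.1.2 ((smul_left_cancel_iff g).1 h')
    refine Prod.ext ?_ (Subtype.ext (Subtype.ext e2))
    have ha0 : a ≠ 0 := fun e => hcon.1 (by rw [e, smul_zero]; exact U.zero_mem)
    exact smul_left_injective F ha0 e1
  have h1 := LinearMap.finrank_le_finrank_of_injective hinj
  haveI : Module.Free F (LinearMap.ker φ) :=
    Module.Free.of_basis (Module.Basis.ofVectorSpace F (LinearMap.ker φ))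
  rw [Module.finrank_prod, Module.finrank_self] at h1
  have h2 : Module.finrank F (Submodule.span F ({p, q} : Set V)) ≤ 2 := by
    classical
    refine le_trans (finrank_span_le_card _) ?_
    simp only [Set.toFinset_insert, Set.toFinset_singleton]
    exact Finset.card_le_two
  have h3 := φ.finrank_range_add_finrank_ker
  have h4 : Module.finrank F (LinearMap.range φ) ≤ 1 := by
    refine le_trans (Submodule.finrank_le _) ?_
    simp
  have := d.big
  rw [d.dimU'] at h3
  omega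

/-- The transvection centres in U are all of U as soon as one is non-zero. -/
theorem ctr_of_mem_U {v : V} (hv : IsCtr K v) (hv0 : v ≠ 0) (hvU : v ∈ U) :
    ∀ a ∈ U, IsCtr K a := by
  intro a ha
  by_cases hdep : v ∈ Submodule.span F ({a - v} : Set V)
  · obtain ⟨r, hr⟩ := Submodule.mem_span_singleton.1 hdep
    have hr0 : r ≠ 0 := by rintro rfl; exact hv0 (by rw [← hr, zero_smul])
    have : a = ((1 + r) / r) • v := by
      have h1 : r • a = (1 + r) • v := by
        rw [add_smul, one_smul]; nth_rw 1 [← hr]; rw [smul_sub, sub_add_cancel]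
      rw [div_eq_inv_mul, mul_smul, ← h1, smul_smul, inv_mul_cancel₀ hr0, one_smul]
    rw [this]
    exact hv.smul_vec _
  obtain ⟨b, hb, hbs, hbv⟩ := d.exists_b (S := Submodule.span F {a - v})
    ((Submodule.span_singleton_le_iff_mem _ _).2 (U.sub_mem ha hvU)) hvU hdep
  have hab : sf (a - v) b = 0 := hbs _ (Submodule.mem_span_singleton_self _)
  have := hv.group_smul ((d.short_of_std hK (U.sub_mem ha hvU) hb hab).2 1)
  rw [sroot_smul hab, d.iso v hvU _ (U.sub_mem ha hvU), hbv] at this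
  simpa using this

/-- All standard mixed vectors are centres as soon as one is. -/
theorem ctr_std_move {p q q' : V} (hp : p ∈ U) (hq : q ∈ U') (hq' : q' ∈ U') (hq0 : q ≠ 0)
    (hpq : sf p q = 0) (hpq' : sf p q' = 0) (hv : IsCtr K (p + q)) (hq'0 : q' ≠ 0) :
    IsCtr K (p + q') := by
  have key : ∀ q q' : V, q ∈ U' → q' ∈ U' → sf p q = 0 → sf p q' = 0 →
      q ∉ Submodule.span F ({q' - q} : Set V) → IsCtr K (p + q) → IsCtr K (p + q') := by
    intro q q' hq hq' hpq hpq' hind hv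
    obtain ⟨a, ha, has, haq⟩ := d.symm.exists_b (S := Submodule.span F {q' - q})
      ((Submodule.span_singleton_le_iff_mem _ _).2 (U'.sub_mem hq' hq)) hq hind
    have hab : sf a (q' - q) = 0 :=
      H48.sf_eq_zero_comm (has _ (Submodule.mem_span_singleton_self _))
    have := hv.group_smul ((d.short_of_std hK ha (U'.sub_mem hq' hq) hab).2 1)
    rw [sroot_smul hab] at this
    simp only [map_add, LinearMap.add_apply, map_sub, hpq, hpq', d.iso p hp a ha, haq,
      d.iso' q hq q' hq', H48.sf_self, sub_self, zero_smul, mul_zero, add_zero, zero_add, one_mul,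
      one_smul] at this
    rwa [add_assoc, add_sub_cancel] at this
  by_cases hind : q ∈ Submodule.span F ({q' - q} : Set V)
  · obtain ⟨k, hk, hkp, hknot₁⟩ := d.symm.exists_avoid₁ p q
    have hknot : k ∉ Submodule.span F ({q, q'} : Set V) := by
      have hq'q : q' ∈ Submodule.span F ({q} : Set V) := by
        obtain ⟨r, hr⟩ := Submodule.mem_span_singleton.1 hind
        have hr0 : r ≠ 0 := by rintro rfl; exact hq0 (by rw [← hr, zero_smul])
        refine Submodule.mem_span_singleton.2 ⟨r⁻¹ + 1, ?_⟩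
        rw [add_smul, one_smul]
        nth_rw 1 [← hr]
        rw [inv_smul_smul₀ hr0, sub_add_cancel]
      intro hmem
      refine hknot₁ ((Submodule.span_le.2 (Set.insert_subset_iff.2 ⟨Submodule.mem_span_singleton_self _,
        Set.singleton_subset_iff.2 hq'q⟩)) hmem)
    have hk1 : q ∉ Submodule.span F ({k - q} : Set V) := by
      intro hmem
      obtain ⟨r, hr⟩ := Submodule.mem_span_singleton.1 hmem
      have hr0 : r ≠ 0 := by rintro rfl; exact hq0 (by rw [← hr, zero_smul])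
      apply hknot
      refine Submodule.mem_span_pair.2 ⟨(1 + r) / r, 0, ?_⟩
      have h1 : r • k = (1 + r) • q := by
        rw [add_smul, one_smul]; nth_rw 1 [← hr]; rw [smul_sub, sub_add_cancel]
      rw [zero_smul, add_zero, div_eq_inv_mul, mul_smul, ← h1, smul_smul, inv_mul_cancel₀ hr0, one_smul]
    have hk2 : k ∉ Submodule.span F ({q' - k} : Set V) := by
      intro hmem
      obtain ⟨r, hr⟩ := Submodule.mem_span_singleton.1 hmem
      apply hknot
      rcases eq_or_ne (1 + r) 0 with h1 | h1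
      · exfalso
        have hr' : r = -1 := by linear_combination h1
        rw [hr', neg_one_smul, neg_sub, sub_eq_self] at hr
        exact hq'0 hr
      · refine Submodule.mem_span_pair.2 ⟨0, r / (1 + r), ?_⟩
        have : (1 + r) • k = r • q' := by
          rw [add_smul, one_smul]; nth_rw 1 [← hr]; rw [smul_sub, sub_add_cancel]
        rw [zero_smul, zero_add, div_eq_inv_mul, mul_smul, ← this, smul_smul, inv_mul_cancel₀ h1, one_smul]
    exact key k q' hk hq' hkp hpq' hk2 (key q k hq hk hpq hkp hk1 hv)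
  · exact key q q' hq hq' hpq hpq' hind hv

/-- A mixed centre gives a non-zero centre in U. -/
theorem exists_ctr_U {a b : V} (ha : a ∈ U) (hb : b ∈ U') (ha0 : a ≠ 0) (hb0 : b ≠ 0)
    (hv : IsCtr K (a + b)) : ∃ u ∈ U, u ≠ 0 ∧ IsCtr K u := by
  -- a standard mixed centre
  obtain ⟨p, hp, q, hq, hp0, hq0, hpq, hz⟩ :
      ∃ p ∈ U, ∃ q ∈ U', p ≠ 0 ∧ q ≠ 0 ∧ sf p q = 0 ∧ IsCtr K (p + q) := by
    obtain ⟨a₀, ha₀, -, ha₀b⟩ := d.symm.exists_b (S := (⊥ : Submodule F V)) bot_le hb
      (by simpa using hb0)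
    obtain ⟨k, hk, hkb, hknot₁⟩ := d.exists_avoid₁ b a₀
    obtain ⟨a', ha', ha'b, hanot⟩ : ∃ a' ∈ U, sf b a' = 1 ∧ a ∉ Submodule.span F ({a'} : Set V) := by
      by_cases h0 : a ∈ Submodule.span F ({a₀} : Set V)
      · have hknot : k ∉ Submodule.span F ({a, a₀} : Set V) := fun hmem =>
          hknot₁ ((Submodule.span_le.2 (Set.insert_subset_iff.2 ⟨h0,
            Set.singleton_subset_iff.2 (Submodule.mem_span_singleton_self _)⟩)) hmem)
        refine ⟨a₀ + k, U.add_mem ha₀ hk, by rw [map_add, ha₀b, hkb, add_zero], fun hmem => ?_⟩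
        obtain ⟨r, hr⟩ := Submodule.mem_span_singleton.1 hmem
        have hr0 : r ≠ 0 := by rintro rfl; exact ha0 (by rw [← hr, zero_smul])
        apply hknot
        refine Submodule.mem_span_pair.2 ⟨r⁻¹, -1, ?_⟩
        rw [← hr, smul_smul, inv_mul_cancel₀ hr0, one_smul, neg_one_smul, add_neg_cancel_comm]
      · exact ⟨a₀, ha₀, ha₀b, h0⟩
    obtain ⟨b', hb', hb's, hb'a⟩ := d.exists_b (S := Submodule.span F {a'})
      ((Submodule.span_singleton_le_iff_mem _ _).2 ha') ha hanot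
    have hab : sf a' b' = 0 := hb's _ (Submodule.mem_span_singleton_self _)
    have h1 := hv.group_smul ((d.short_of_std hK ha' hb' hab).2 1)
    rw [sroot_smul hab] at h1
    simp only [map_add, LinearMap.add_apply, d.iso a ha a' ha', d.iso' b hb b' hb', ha'b, hb'a,
      add_zero, zero_add, one_mul, one_smul] at h1
    have hne : sf (a + b + a' + b') (a + b) ≠ 0 := by
      simp only [map_add, LinearMap.add_apply, d.iso a' ha' a ha, d.iso' b' hb' b hb, H48.sf_self,
        H48.sf_swap a b, H48.sf_swap b a', H48.sf_swap a b', ha'b, hb'a]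
      intro e
      apply d.two
      linear_combination -e
    have h2 := h1.add_smul_of_ne hv hne (-1)
    have e : a + b + a' + b' + (-1 : F) • (a + b) = a' + b' := by rw [neg_one_smul]; abel
    rw [e] at h2
    exact ⟨a', ha', b', hb', fun e0 => by simp [e0] at ha'b, fun e0 => by simp [e0] at hb'a, hab, h2⟩
  -- all standard mixed vectors
  have hall : ∀ p' ∈ U, ∀ q' ∈ U', p' ≠ 0 → q' ≠ 0 → sf p' q' = 0 → IsCtr K (p' + q') := by
    intro p' hp' q' hq' hp'0 hq'0 hpq'
    obtain ⟨k, hk, hkp, hkp', hk0⟩ := d.symm.exists_perp₂ p p'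
    have h1 := d.ctr_std_move hK hp hq hk hq0 hpq hkp hz hk0
    rw [add_comm] at h1
    have h2 := d.symm.ctr_std_move (fixes_mem_swap hK) hk hp hp' hp0 (H48.sf_eq_zero_comm hkp)
      (H48.sf_eq_zero_comm hkp') h1 hp'0
    rw [add_comm] at h2
    exact d.ctr_std_move hK hp' hk hq' hk0 hkp' hpq' h2 hq'0
  obtain ⟨p₂, hp₂, -, hp₂not⟩ := d.exists_avoid₁ 0 p
  have hpne : p ∉ Submodule.span F ({p₂} : Set V) := by
    intro hmem
    obtain ⟨r, hr⟩ := Submodule.mem_span_singleton.1 hmem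
    have hr0 : r ≠ 0 := by rintro rfl; exact hp0 (by rw [← hr, zero_smul])
    exact hp₂not (Submodule.mem_span_singleton.2 ⟨r⁻¹, by rw [← hr, smul_smul, inv_mul_cancel₀ hr0]; simp⟩)
  obtain ⟨q₁, hq₁, hq₁s, hq₁p⟩ := d.exists_b (S := Submodule.span F {p₂})
    ((Submodule.span_singleton_le_iff_mem _ _).2 hp₂) hp hpne
  obtain ⟨q₀, hq₀, hq₀p, hq₀p₂, hq₀0⟩ := d.symm.exists_perp₂ p p₂
  have hp₂0 : p₂ ≠ 0 := fun e => hp₂not (e ▸ Submodule.zero_mem _)
  have hq₁0 : q₁ ≠ 0 := fun e => by simp [e] at hq₁p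
  have hp₂q₁ : sf p₂ q₁ = 0 := hq₁s _ (Submodule.mem_span_singleton_self _)
  have z1 := hall p hp q₀ hq₀ hp0 hq₀0 hq₀p
  have z2 := hall p₂ hp₂ q₁ hq₁ hp₂0 hq₁0 hp₂q₁
  set A := p + p₂ with hA
  set B := q₀ + q₁ with hB
  have hAB : sf A B = 1 := by
    simp [hA, hB, hq₀p, hq₁p, hq₀p₂, hp₂q₁]
  have hw : IsCtr K (A + B) := by
    have h12 : sf (p + q₀) (p₂ + q₁) ≠ 0 := by
      simp [d.iso p hp p₂ hp₂, d.iso' q₀ hq₀ q₁ hq₁, hq₁p, H48.sf_swap p₂ q₀, hq₀p₂]
    have := z1.add_smul_of_ne z2 h12 1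
    have e : p + q₀ + (1 : F) • (p₂ + q₁) = A + B := by rw [one_smul, hA, hB]; abel
    rwa [e] at this
  have hAU : A ∈ U := U.add_mem hp hp₂
  have hBU : B ∈ U' := U'.add_mem hq₀ hq₁
  obtain ⟨a'', ha'', ha''B, ha''not⟩ := d.exists_avoid₁ B A
  have ha''0 : a'' ≠ 0 := fun e => ha''not (e ▸ Submodule.zero_mem _)
  have hB0 : B ≠ 0 := fun e => by simp [e] at hAB
  have z3 := hall a'' ha'' B hBU ha''0 hB0 (H48.sf_eq_zero_comm ha''B)
  have hne : sf (A + B) (a'' + B) ≠ 0 := by
    simp [d.iso A hAU a'' ha'', H48.sf_self, hAB, ha''B]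
  have h3 := hw.add_smul_of_ne z3 hne (-1)
  have e : A + B + (-1 : F) • (a'' + B) = A - a'' := by rw [neg_one_smul]; abel
  rw [e] at h3
  refine ⟨A - a'', U.sub_mem hAU ha'', fun e0 => ?_, h3⟩
  exact ha''not (sub_eq_zero.1 e0 ▸ Submodule.mem_span_singleton_self _)

/-- All centres from both halves generate everything. -/
theorem all_ctr (hU : ∀ a ∈ U, IsCtr K a) (hU' : ∀ b ∈ U', IsCtr K b) : ∀ v, IsCtr K v := by
  intro v
  obtain ⟨a, ha, b, hb, rfl⟩ := d.dec v
  by_cases hab : sf a b = 0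
  · by_cases ha0 : a = 0
    · rw [ha0, zero_add]; exact hU' b hb
    obtain ⟨b₁, hb₁, -, hab₁⟩ := d.exists_b (S := (⊥ : Submodule F V)) bot_le ha (by simpa using ha0)
    have h1 : IsCtr K (a + b₁) := by
      simpa using (hU a ha).add_smul_of_ne (hU' b₁ hb₁) (by rw [hab₁]; exact one_ne_zero) 1
    have hne : sf (a + b₁) (b - b₁) ≠ 0 := by
      simp [d.iso' b₁ hb₁ b hb, hab, hab₁]
    have h2 := h1.add_smul_of_ne (hU' _ (U'.sub_mem hb hb₁)) hne 1
    have e : a + b₁ + (1 : F) • (b - b₁) = a + b := by rw [one_smul]; abel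
    rwa [e] at h2
  · simpa using (hU a ha).add_smul_of_ne (hU' b hb) hab 1

omit hK in
/-- An element interchanging U and U'. -/
theorem exists_interchange :
    ∃ w : Sp, (∀ x ∈ U, w • x ∈ U') ∧ ∀ x ∈ U', w • x ∈ U := by
  classical
  let P : U' →ₗ[F] Module.Dual F U := (LinearMap.lcomp F F U.subtype).comp ((sf.flip).comp U'.subtype)
  have hPv : ∀ (b : U') (a : U), P b a = sf (a : V) (b : V) := fun b a => rfl
  have hPinj : Function.Injective P := by
    refine (injective_iff_map_eq_zero P).2 fun b hb => Subtype.ext (H48.eq_zero_of_sf fun v => ?_)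
    obtain ⟨a, ha, b', hb', rfl⟩ := d.dec v
    have : sf a (b : V) = 0 := LinearMap.congr_fun hb ⟨a, ha⟩
    rw [map_add, d.iso' _ b.2 b' hb', H48.sf_eq_zero_comm this, add_zero]
  have hr : Module.finrank F U' = Module.finrank F (Module.Dual F U) := by
    rw [Subspace.dual_finrank_eq, d.dimU, d.dimU']
  let Pe : U' ≃ₗ[F] Module.Dual F U := LinearEquiv.ofBijective P
    ⟨hPinj, (LinearMap.injective_iff_surjective_of_finrank_eq_finrank hr).1 hPinj⟩
  let β := Module.finBasis F U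
  let e : U ≃ₗ[F] U' := β.toDualEquiv.trans Pe.symm
  have hsym : ∀ x y : U, sf (x : V) (e y : V) = sf (y : V) (e x : V) := by
    intro x y
    have h : ∀ x y : U, sf (x : V) (e y : V) = β.toDual y x := fun x y => by
      rw [← hPv]
      exact LinearMap.congr_fun (Pe.apply_symm_apply (β.toDualEquiv y)) x
    rw [h, h]
    have hs : β.toDual = β.toDual.flip := β.ext fun i => β.ext fun j => by
      simp [Module.Basis.toDual_apply, eq_comm]
    exact LinearMap.congr_fun (LinearMap.congr_fun hs y) x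
  let S := Submodule.prodEquivOfIsCompl U U' d.compl
  let T : V →ₗ[F] V := S.toLinearMap ∘ₗ
    (LinearMap.prod (-(e.symm.toLinearMap ∘ₗ LinearMap.snd F U U')) (e.toLinearMap ∘ₗ LinearMap.fst F U U')) ∘ₗ
      S.symm.toLinearMap
  have hT : ∀ (a : U) (b : U'), T ((a : V) + (b : V)) = ((-(e.symm b) : U) : V) + ((e a : U') : V) := by
    intro a b
    have : S.symm ((a : V) + (b : V)) = (a, b) := by
      rw [LinearEquiv.symm_apply_eq]; rfl
    show S _ = _
    rw [LinearMap.coe_comp, Function.comp_apply, LinearEquiv.coe_coe, this]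
    rfl
  have hmem : LinearMap.toMatrix' T ∈ Matrix.symplecticGroup (Fin m) F := by
    rw [H48.mem_symplectic_iff]
    intro u v
    obtain ⟨a, ha, b, hb, rfl⟩ := d.dec u
    obtain ⟨a', ha', b', hb', rfl⟩ := d.dec v
    have h1 := hsym (e.symm ⟨b', hb'⟩) ⟨a, ha⟩
    have h2 := hsym (e.symm ⟨b, hb⟩) ⟨a', ha'⟩
    simp only [LinearEquiv.apply_symm_apply] at h1 h2
    rw [LinearMap.toMatrix'_mulVec, LinearMap.toMatrix'_mulVec, hT ⟨a, ha⟩ ⟨b, hb⟩, hT ⟨a', ha'⟩ ⟨b', hb'⟩]
    simp only [Submodule.coe_neg, map_add, map_neg, LinearMap.add_apply, LinearMap.neg_apply,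
      d.iso _ (e.symm ⟨b, hb⟩).2 _ (e.symm ⟨b', hb'⟩).2, d.iso' _ (e ⟨a, ha⟩).2 _ (e ⟨a', ha'⟩).2,
      d.iso a ha a' ha', d.iso' b hb b' hb', H48.sf_swap (e.symm ⟨b', hb'⟩ : V) (e ⟨a, ha⟩ : V),
      h1, h2, H48.sf_swap a' b]
    ring
  refine ⟨⟨_, hmem⟩, fun x hx => ?_, fun x hx => ?_⟩
  · show LinearMap.toMatrix' T *ᵥ x ∈ U'
    have := hT ⟨x, hx⟩ 0
    rw [LinearMap.toMatrix'_mulVec]
    simp at this
    rw [this]
    exact Submodule.coe_mem _
  · show LinearMap.toMatrix' T *ᵥ x ∈ U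
    have := hT 0 ⟨x, hx⟩
    rw [LinearMap.toMatrix'_mulVec]
    simp at this
    rw [this]
    exact U.neg_mem (Submodule.coe_mem _)

/-- The overgroups of the stabiliser. -/
theorem eq_top_of_moves {g : Sp} (hw : ∀ w : Sp, (∀ x ∈ U, w • x ∈ U') → (∀ x ∈ U', w • x ∈ U) → w ∈ K)
    (hg : g ∈ K) (hmove : ¬ (Fixes U U' g ∨ ((∀ x ∈ U, g • x ∈ U') ∧ ∀ x ∈ U', g • x ∈ U))) :
    K = ⊤ := by
  have hv : ∃ v, v ≠ 0 ∧ IsCtr K v := by
    rcases d.pure_or_ctr hK hg with h1 | h
    swap; · exact h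
    rcases d.symm.pure_or_ctr (fixes_mem_swap hK) hg with h2 | h
    swap; · exact h
    exfalso
    apply hmove
    have hsplit : ∀ (W : Submodule F V), (∀ a ∈ W, g • a ∈ U ∨ g • a ∈ U') →
        (∀ a ∈ W, g • a ∈ U) ∨ ∀ a ∈ W, g • a ∈ U' := by
      intro W hW
      refine or_iff_not_imp_left.2 fun hnot a ha => ?_
      simp only [not_forall] at hnot
      obtain ⟨a₀, ha₀, ha₀U⟩ := hnot
      have ha₀' := (hW a₀ ha₀).resolve_left ha₀U
      rcases hW a ha with h | h
      · rcases hW (a₀ + a) (W.add_mem ha₀ ha) with h' | h' <;> rw [smul_add] at h'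
        · exact absurd ((U.add_mem_iff_left h).1 h') ha₀U
        · exact (U'.add_mem_iff_right ha₀').1 h'
      · exact h
    have hnot_both : ∀ W : Submodule F V, (∀ a ∈ U, g • a ∈ W) → (∀ a ∈ U', g • a ∈ W) →
        Module.finrank F W = m → False := by
      intro W ha hb hW
      have htop : (⊤ : Submodule F V) ≤ W := by
        intro v _
        obtain ⟨a, ha', b, hb', hab⟩ := d.dec (g⁻¹ • v)
        have : g • (a + b) ∈ W := by rw [smul_add]; exact W.add_mem (ha a ha') (hb b hb')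
        rwa [hab, smul_inv_smul] at this
      have := Submodule.finrank_mono htop
      rw [finrank_top, hW, Module.finrank_pi] at this
      simp only [Fintype.card_sum, Fintype.card_fin] at this
      have := d.big
      omega
    rcases hsplit U h1 with h | h <;> rcases hsplit U' (fun a ha => (h2 a ha).symm) with h' | h'
    · exact (hnot_both U h h' d.dimU).elim
    · exact Or.inl ⟨h, h'⟩
    · exact Or.inr ⟨h, h'⟩
    · exact (hnot_both U' h h' d.dimU').elim
  obtain ⟨v, hv0, hv⟩ := hv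
  obtain ⟨w, hw1, hw2⟩ := d.exists_interchange
  have hwK := hw w hw1 hw2
  obtain ⟨a, ha, b, hb, rfl⟩ := d.dec v
  obtain ⟨u, hu, hu0, huC⟩ : ∃ u ∈ U, u ≠ 0 ∧ IsCtr K u := by
    rcases eq_or_ne b 0 with rfl | hb0
    · exact ⟨a, ha, by simpa using hv0, by simpa using hv⟩
    rcases eq_or_ne a 0 with rfl | ha0
    · rw [zero_add] at hv hv0
      exact ⟨w • b, hw2 b hb, (smul_ne_zero_iff_ne w).2 hv0, hv.group_smul hwK⟩
    exact d.exists_ctr_U hK ha hb ha0 hb0 hv
  have hU := d.ctr_of_mem_U hK huC hu0 hu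
  have hU' := d.symm.ctr_of_mem_U (fixes_mem_swap hK) (huC.group_smul hwK)
    ((smul_ne_zero_iff_ne w).2 hu0) (hw1 u hu)
  exact eq_top_of_ctr K (d.all_ctr hK hU hU')

end LPair

end H42.PairSmall
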