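import Mathlib

/-!
Rank-one square-zero endomorphisms and their conjugacy under automorphisms of determinant one.
-/

set_option autoImplicit false

namespace H42

variable {F : Type*} [Field F] {V : Type*} [AddCommGroup V] [Module F V]

/-- A linear functional avoiding two non-zero values: if `f, g` are non-zero then some vector has both
values non-zero. -/
lemma exists_both_ne_zero (f g : Module.Dual F V) (hf : f ≠ 0) (hg : g ≠ 0) :
    ∃ v, f v ≠ 0 ∧ g v ≠ 0 := by
  obtain ⟨a, ha⟩ := DFunLike.ne_iff.1 hf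
  obtain ⟨b, hb⟩ := DFunLike.ne_iff.1 hg
  simp only [LinearMap.zero_apply] at ha hb
  by_cases h1 : g a = 0
  · by_cases h2 : f b = 0
    · exact ⟨a + b, by simpa [h2] using ha, by simpa [h1] using hb⟩
    · exact ⟨b, h2, hb⟩
  · exact ⟨a, ha, h1⟩

/-- The dual statement: two non-zero vectors have a functional non-zero on both. -/
lemma exists_dual_both_ne_zero (u v : V) (hu : u ≠ 0) (hv : v ≠ 0) :
    ∃ f : Module.Dual F V, f u ≠ 0 ∧ f v ≠ 0 := by
  obtain ⟨f, hf⟩ : ∃ f : Module.Dual F V, f u ≠ 0 := by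
    by_contra h
    push Not at h
    exact hu ((Module.forall_dual_apply_eq_zero_iff F u).1 h)
  obtain ⟨g, hg⟩ : ∃ g : Module.Dual F V, g v ≠ 0 := by
    by_contra h
    push Not at h
    exact hv ((Module.forall_dual_apply_eq_zero_iff F v).1 h)
  by_cases h1 : f v = 0
  · by_cases h2 : g u = 0
    · exact ⟨f + g, by simpa [h2] using hf, by simpa [h1] using hg⟩
    · exact ⟨g, h2, hg⟩
  · exact ⟨f, hf, h1⟩

variable [FiniteDimensional F V]

/-- Rank-one maps `z ↦ φ z • u`, `z ↦ ψ z • v` with `φ u = 0` and `ψ v = 0` are intertwined by a map of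
determinant one when the dimension is at least three. -/
theorem exists_det_one_intertwining (hV : 3 ≤ Module.finrank F V) (u v : V) (φ ψ : Module.Dual F V)
    (hu : u ≠ 0) (hv : v ≠ 0) (hφ : φ ≠ 0) (hψ : ψ ≠ 0) (hφu : φ u = 0) (hψv : ψ v = 0) :
    ∃ g : V →ₗ[F] V, LinearMap.det g = 1 ∧ g u = v ∧ ψ.comp g = φ := by
  -- first move `u` to `v`
  obtain ⟨f, hfu, hfv⟩ := exists_dual_both_ne_zero (F := F) u v hu hv
  set g₁ : V →ₗ[F] V := LinearMap.transvection ((f u)⁻¹ • f) (v - u) with hg₁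
  have hg₁d : LinearMap.det g₁ = f v / f u := by
    rw [hg₁, LinearMap.transvection.det]
    simp only [LinearMap.smul_apply, map_sub, smul_eq_mul]
    field_simp
    ring
  have hg₁0 : LinearMap.det g₁ ≠ 0 := by rw [hg₁d]; exact div_ne_zero hfv hfu
  have hg₁u : g₁ u = v := by simp [hg₁, LinearMap.transvection.apply, hfu]
  set e₁ := LinearMap.equivOfDetNeZero g₁ hg₁0 with he₁
  have he₁c : ∀ z, e₁ z = g₁ z := fun z => rfl
  -- then fix the functional
  set φ₁ : Module.Dual F V := φ.comp (e₁.symm : V →ₗ[F] V) with hφ₁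
  have hφ₁v : φ₁ v = 0 := by
    have : e₁.symm v = u := by rw [LinearEquiv.symm_apply_eq, he₁c, hg₁u]
    simp [hφ₁, this, hφu]
  have hφ₁0 : φ₁ ≠ 0 := by
    intro h
    refine hφ (LinearMap.ext fun z => ?_)
    have := DFunLike.congr_fun h (e₁ z)
    simpa [hφ₁] using this
  obtain ⟨a, ha, ha'⟩ := exists_both_ne_zero ψ φ₁ hψ hφ₁0
  set b := (ψ a)⁻¹ • a with hb
  have hψb : ψ b = 1 := by simp [hb, ha]
  have hφ₁b : φ₁ b ≠ 0 := by simp [hb, ha, ha']
  set g₂ : V →ₗ[F] V := LinearMap.transvection (φ₁ - ψ) b with hg₂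
  have hg₂d : LinearMap.det g₂ = φ₁ b := by
    rw [hg₂, LinearMap.transvection.det]; simp [hψb]
  have hg₂v : g₂ v = v := by simp [hg₂, LinearMap.transvection.apply, hφ₁v, hψv]
  have hg₂ψ : ψ.comp g₂ = φ₁ := by
    ext z; simp [hg₂, LinearMap.transvection.apply, hψb]
  set g := g₂.comp g₁ with hg
  have hgd : LinearMap.det g ≠ 0 := by
    rw [hg, LinearMap.det_comp, hg₂d]; exact mul_ne_zero hφ₁b hg₁0
  have hgu : g u = v := by simp [hg, hg₁u, hg₂v]
  have hgψ : ψ.comp g = φ := by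
    rw [hg, ← LinearMap.comp_assoc, hg₂ψ]
    ext z
    simp [hφ₁, ← he₁c]
  -- fix the determinant
  have hlt : Submodule.span F {v} < LinearMap.ker ψ := by
    refine lt_of_le_of_ne ((Submodule.span_singleton_le_iff_mem _ _).2 hψv) fun h => ?_
    have h1 := Module.Dual.finrank_ker_add_one_of_ne_zero hψ
    rw [← h, finrank_span_singleton hv] at h1
    omega
  obtain ⟨w, hw, hwv⟩ := SetLike.exists_of_lt hlt
  obtain ⟨k, hkw, hk⟩ := Submodule.exists_dual_map_eq_bot_of_notMem hwv inferInstance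
  have hkv : k v = 0 := by
    have : k v ∈ Submodule.map k (Submodule.span F {v}) :=
      Submodule.mem_map_of_mem (Submodule.mem_span_singleton_self v)
    rw [hk] at this
    simpa using this
  set c := (LinearMap.det g)⁻¹ - 1 with hc
  set g₃ : V →ₗ[F] V := LinearMap.transvection ((c / k w) • k) w with hg₃
  refine ⟨g₃.comp g, ?_, ?_, ?_⟩
  · rw [LinearMap.det_comp, hg₃, LinearMap.transvection.det]
    simp [hc, hkw, hgd]
  · simp [hg₃, hgu, LinearMap.transvection.apply, hkv]
  · rw [← LinearMap.comp_assoc]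
    conv_rhs => rw [← hgψ]
    congr 1
    ext z
    rw [LinearMap.mem_ker] at hw
    simp [hg₃, LinearMap.transvection.apply, hw]

omit [FiniteDimensional F V] in
/-- A square-zero rank-one endomorphism is `z ↦ φ z • u` with `φ u = 0`. -/
lemma exists_eq_smulRight_of_rank_one (N : V →ₗ[F] V) (h1 : Module.finrank F (LinearMap.range N) = 1)
    (h2 : N.comp N = 0) : ∃ (u : V) (φ : Module.Dual F V), u ≠ 0 ∧ φ ≠ 0 ∧ φ u = 0 ∧
      ∀ z, N z = φ z • u := by
  obtain ⟨⟨u, hu⟩, hu0, hspan⟩ := finrank_eq_one_iff'.1 h1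
  have hu0' : u ≠ 0 := fun h => hu0 (by ext; exact h)
  obtain ⟨k, hk⟩ : ∃ k : Module.Dual F V, k u ≠ 0 := by
    by_contra h
    push Not at h
    exact hu0' ((Module.forall_dual_apply_eq_zero_iff F u).1 h)
  have key : ∀ z, N z = ((k u)⁻¹ • k.comp N) z • u := by
    intro z
    obtain ⟨c, hc⟩ := hspan ⟨N z, LinearMap.mem_range_self N z⟩
    have hc' : c • u = N z := congrArg Subtype.val hc
    simp only [LinearMap.smul_apply, LinearMap.comp_apply, ← hc', map_smul, smul_eq_mul]
    congr 1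
    field_simp
  refine ⟨u, (k u)⁻¹ • k.comp N, hu0', ?_, ?_, key⟩
  · intro h
    obtain ⟨z, rfl⟩ := hu
    exact hu0' (by rw [key z, h]; simp)
  · obtain ⟨z, rfl⟩ := hu
    have : N (N z) = 0 := DFunLike.congr_fun h2 z
    simp [this]

end H42
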