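import Cfsg.Agent.H49.SubfieldTop
import Cfsg.Agent.H45.QuadChar2

/-!
Overgroups of the symplectic group over a subfield in characteristic two: the long root scalars.
-/

set_option autoImplicit false
set_option maxHeartbeats 800000

namespace H42.SpEven

open Matrix H49
open H48 (sf tv)

variable {m : ℕ} {F : Type*} [Field F]

local notation "V" => (Fin m ⊕ Fin m → F)
local notation "Sp" => Matrix.symplecticGroup (Fin m) F

/-- A vector with entries in the subfield. -/
def RV (F₀ : Subfield F) (v : Fin m ⊕ Fin m → F) : Prop := ∀ i, v i ∈ F₀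

variable {F₀ : Subfield F}

theorem RV.add {u v : V} (hu : RV F₀ u) (hv : RV F₀ v) : RV F₀ (u + v) := fun i => add_mem (hu i) (hv i)

theorem RV.smul {u : V} (hu : RV F₀ u) {c : F} (hc : c ∈ F₀) : RV F₀ (c • u) := fun i => mul_mem hc (hu i)

/-- Two rational hyperbolic pairs which are orthogonal to each other. -/
structure Fr (F₀ : Subfield F) (a a' b b' : Fin m ⊕ Fin m → F) : Prop where
  ra : RV F₀ a
  ra' : RV F₀ a'
  rb : RV F₀ b
  rb' : RV F₀ b'
  haa : sf a a' = 1
  hbb : sf b b' = 1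
  hab : sf a b = 0
  hab' : sf a b' = 0
  ha'b : sf a' b = 0
  ha'b' : sf a' b' = 0

variable [CharP F 2]

theorem sf_symm (u v : V) : sf u v = sf v u := by rw [H48.sf_swap v u, CharTwo.neg_eq]

variable {a a' b b' : Fin m ⊕ Fin m → F}

theorem Fr.flip₂ (h : Fr F₀ a a' b b') : Fr F₀ a a' b' b :=
  ⟨h.ra, h.ra', h.rb', h.rb, h.haa, (sf_symm _ _).trans h.hbb, h.hab', h.hab, h.ha'b', h.ha'b⟩

theorem Fr.flip₁ (h : Fr F₀ a a' b b') : Fr F₀ a' a b b' :=
  ⟨h.ra', h.ra, h.rb, h.rb', (sf_symm _ _).trans h.haa, h.hbb, h.ha'b, h.ha'b', h.hab, h.hab'⟩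

theorem Fr.swap (h : Fr F₀ a a' b b') : Fr F₀ b b' a a' :=
  ⟨h.rb, h.rb', h.ra, h.ra', h.hbb, h.haa, (sf_symm _ _).trans h.hab, (sf_symm _ _).trans h.ha'b,
    (sf_symm _ _).trans h.hab', (sf_symm _ _).trans h.ha'b'⟩

theorem Fr.shear (h : Fr F₀ a a' b b') : Fr F₀ (a + b) a' b (b' + a') := by
  refine ⟨h.ra.add h.rb, h.ra', h.rb, h.rb'.add h.ra', ?_, ?_, ?_, ?_, h.ha'b, ?_⟩
  · rw [map_add, LinearMap.add_apply, h.haa, sf_symm b a', h.ha'b, add_zero]
  · rw [map_add, h.hbb, sf_symm b a', h.ha'b, add_zero]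
  · rw [map_add, LinearMap.add_apply, h.hab, H48.sf_self, add_zero]
  · simp only [map_add, LinearMap.add_apply, h.hab', h.haa, h.hbb, (sf_symm b a').trans h.ha'b,
      zero_add, add_zero]
    exact CharTwo.add_self_eq_zero 1
  · rw [map_add, h.ha'b', H48.sf_self, add_zero]

theorem Fr.scale (h : Fr F₀ a a' b b') {t : F} (ht : t ∈ F₀) (ht0 : t ≠ 0) :
    Fr F₀ (t • a) (t⁻¹ • a') (t • b) (t⁻¹ • b') :=
  ⟨h.ra.smul ht, h.ra'.smul (inv_mem ht), h.rb.smul ht, h.rb'.smul (inv_mem ht),
    by simp [h.haa, ht0], by simp [h.hbb, ht0], by simp [h.hab], by simp [h.hab'], by simp [h.ha'b],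
    by simp [h.ha'b']⟩

theorem sroot_eq (x y : V) (c : F) : sroot x y c = tv (x + y) c * (tv x c * tv y c) := by
  simp [sroot, CharTwo.neg_eq]

theorem tv_inv_self (v : V) (c : F) : (tv v c)⁻¹ = tv v c := by rw [H48.tv_inv, CharTwo.neg_eq]

variable {K : Subgroup (Matrix.symplecticGroup (Fin m) F)}
  (hK : ∀ g : Matrix.symplecticGroup (Fin m) F, IsRat F₀ g → g ∈ K)
include hK

omit [CharP F 2] in
theorem tv_mem_rat {u : V} (hu : RV F₀ u) {c : F} (hc : c ∈ F₀) : tv u c ∈ K := hK _ (isRat_tv hu hc)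

omit [CharP F 2] in
theorem conj_rat {g : Sp} (hg : g ∈ K) {u : V} {c : F} (hu : tv u c ∈ K) : tv (g • u) c ∈ K := by
  rw [← H48.tv_conj]; exact mul_mem (mul_mem hg hu) (inv_mem hg)

omit [CharP F 2] in
theorem pair_conj {g : Sp} (hg : g ∈ K) {u w : V} {c : F} (h : tv u c * tv w c ∈ K) :
    tv (g • u) c * tv (g • w) c ∈ K := by
  have : tv (g • u) c * tv (g • w) c = g * (tv u c * tv w c) * g⁻¹ := by
    rw [← H48.tv_conj, ← H48.tv_conj]; group
  rw [this]
  exact mul_mem (mul_mem hg h) (inv_mem hg)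

/-- A transvection whose centre lies in an isotropic rational plane. -/
theorem plane_centre (h : Fr F₀ a a' b b') {p q : F} (hv : tv (p • a + q • b) 1 ∈ K) :
    tv a (q ^ 2) * tv b (q ^ 2) ∈ K ∧ tv a (q ^ 2 + (q ^ 2) ^ 2) ∈ K := by
  have h2 : (2 : F) = 0 := CharTwo.two_eq_zero
  have hba : sf b a = 0 := (sf_symm _ _).trans h.hab
  have hb'a : sf b' a = 0 := (sf_symm _ _).trans h.hab'
  have hb'b : sf b' b = 1 := (sf_symm _ _).trans h.hbb
  have ha'a : sf a' a = 1 := (sf_symm _ _).trans h.haa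
  have hba' : sf b a' = 0 := (sf_symm _ _).trans h.ha'b
  set h₁ := sroot a b' (1 : F) with hh₁
  have hh₁K : h₁ ∈ K := hK _ (isRat_sroot h.ra h.rb' (one_mem _))
  have hhv : h₁ • (p • a + q • b) = (p + q) • a + q • b := by
    rw [hh₁, sroot_smul h.hab']
    simp only [map_add, LinearMap.add_apply, map_smul, LinearMap.smul_apply, smul_eq_mul, h.hab',
      H48.sf_self, h.hbb, hba, mul_zero, add_zero, zero_add, mul_one, one_mul, zero_smul]
    module
  have hP₁ : tv (a + b) (q ^ 2) * tv b (q ^ 2) ∈ K := by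
    have e : tv (a + b) (q ^ 2) * tv b (q ^ 2) = tv ((p + q) • a + q • b) 1 * tv (p • a + q • b) 1 := by
      refine H48.sp_ext fun x => ?_
      simp only [mul_smul, H48.tv_smul, map_add, LinearMap.add_apply, map_smul, LinearMap.smul_apply,
        smul_eq_mul, H48.sf_self, h.hab, hba, mul_zero, add_zero, one_mul]
      match_scalars <;> ring_nf <;> simp [h2]
    rw [e, ← hhv]
    exact mul_mem (conj_rat hK hh₁K hv) hv
  have hP : tv a (q ^ 2) * tv b (q ^ 2) ∈ K := by
    have hg : sroot b a' (1 : F) ∈ K := hK _ (isRat_sroot h.rb h.ra' (one_mem _))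
    have e1 : sroot b a' (1 : F) • (a + b) = a := by
      rw [sroot_smul hba']
      simp only [map_add, LinearMap.add_apply, H48.sf_self, h.haa, h.hab, hba, hba', add_zero, one_mul,
        one_smul, zero_smul, mul_zero]
      rw [add_assoc, ← two_smul F b, h2, zero_smul, add_zero]
    have e2 : sroot b a' (1 : F) • b = b := by
      rw [sroot_smul hba', hba', H48.sf_self]; simp
    have := pair_conj hK hg hP₁
    rwa [e1, e2] at this
  refine ⟨hP, ?_⟩
  generalize q ^ 2 = x at hP₁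
  have hu : tv b' (1 : F) ∈ K := tv_mem_rat hK h.rb' (one_mem _)
  have hw : tv (b + b') (1 : F) ∈ K := tv_mem_rat hK (h.rb.add h.rb') (one_mem _)
  have hU := pair_conj hK hu hP₁
  have hW := pair_conj hK hw hP₁
  have eu1 : tv b' (1 : F) • (a + b) = a + b + b' := by
    simp only [H48.tv_smul, map_add, LinearMap.add_apply, h.hab', h.hbb, zero_add, one_mul, one_smul]
  have eu2 : tv b' (1 : F) • b = b + b' := by simp [h.hbb]
  have ew2 : tv (b + b') (1 : F) • b = b' := by
    simp only [H48.tv_smul, map_add, H48.sf_self, h.hbb, zero_add, one_mul, one_smul]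
    rw [← add_assoc, ← two_smul F b, h2, zero_smul, zero_add]
  have ew1 : tv (b + b') (1 : F) • (a + b) = a + b' := by
    rw [smul_add, ew2]; simp [h.hab, h.hab']
  rw [eu1, eu2] at hU
  rw [ew1, ew2] at hW
  have e : tv a (x + x ^ 2) =
      (tv (a + b + b') x * tv (b + b') x) * (tv (a + b) x * tv b x) * (tv (a + b') x * tv b' x) := by
    refine H48.sp_ext fun w => ?_
    simp only [mul_smul, H48.tv_smul, map_add, LinearMap.add_apply, map_smul, LinearMap.smul_apply,
      smul_eq_mul, H48.sf_self, h.hab, h.hab', hba, hb'a, h.hbb, hb'b, mul_zero, add_zero, zero_add, mul_one]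
    match_scalars <;> ring_nf <;> simp [h2, show (3 : F) = 1 by linear_combination h2,
      show (4 : F) = 0 by linear_combination 2 * h2, show (6 : F) = 0 by linear_combination 3 * h2,
      show (8 : F) = 0 by linear_combination 4 * h2, show (10 : F) = 0 by linear_combination 5 * h2,
      show (12 : F) = 0 by linear_combination 6 * h2, show (5 : F) = 1 by linear_combination 2 * h2,
      show (16 : F) = 0 by linear_combination 8 * h2]
  rw [e]
  exact mul_mem (mul_mem hU hP₁) hW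

omit hK

/-- The scalar is attached to every rational centre. -/
def LongSc (F₀ : Subfield F) (K : Subgroup (Matrix.symplecticGroup (Fin m) F)) (c : F) : Prop :=
  ∀ u : Fin m ⊕ Fin m → F, RV F₀ u → tv u c ∈ K

include hK

/-- A scalar on one non-zero rational centre is on every one. -/
theorem longSc_of {a : V} (ha : RV F₀ a) (ha0 : a ≠ 0) {c : F} (hc : tv a c ∈ K) : LongSc F₀ K c := by
  intro u hu
  rcases eq_or_ne u 0 with rfl | hu0
  · rw [H48.tv_zero_left]; exact one_mem _
  have key : ∀ x y : V, RV F₀ x → RV F₀ y → sf x y ≠ 0 → tv x c ∈ K → tv y c ∈ K := by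
    intro x y hx hy hxy hxK
    have hg : tv (x + y) (sf x y)⁻¹ ∈ K := tv_mem_rat hK (hx.add hy) (inv_mem (sf_rat hx hy))
    have := conj_rat hK hg hxK
    have e : tv (x + y) (sf x y)⁻¹ • x = y := by
      simp only [H48.tv_smul, map_add, H48.sf_self, zero_add, inv_mul_cancel₀ hxy, one_smul]
      rw [← add_assoc, ← two_smul F x, CharTwo.two_eq_zero, zero_smul, zero_add]
    rwa [e] at this
  have hne : ∀ x : V, x ≠ 0 → ∃ i, sf x (uvec i) ≠ 0 := by
    intro x hx
    by_contra hcon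
    simp only [not_exists, not_not] at hcon
    exact hx (funext fun i => by rw [apply_eq_sf x i, hcon, mul_zero, Pi.zero_apply])
  obtain ⟨i, hi⟩ := hne a ha0
  obtain ⟨j, hj⟩ := hne u hu0
  obtain ⟨z, hz, haz, huz⟩ : ∃ z : V, RV F₀ z ∧ sf a z ≠ 0 ∧ sf u z ≠ 0 := by
    by_cases h1 : sf u (uvec i) = 0
    · by_cases h3 : sf a (uvec j) = 0
      · exact ⟨uvec i + uvec j, fun k => add_mem (uvec_rat i k) (uvec_rat j k), by simpa [h3] using hi,
          by simpa [h1] using hj⟩
      · exact ⟨uvec j, uvec_rat j, h3, hj⟩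
    · exact ⟨uvec i, uvec_rat i, hi, h1⟩
  exact key z u hz hu (by rwa [sf_symm]) (key a z ha hz haz hc)

omit hK

theorem LongSc.sroot_mem {c : F} (hc : LongSc F₀ K c) {x y : V} (hx : RV F₀ x) (hy : RV F₀ y) :
    sroot x y c ∈ K := by
  rw [sroot_eq]
  exact mul_mem (hc _ (hx.add hy)) (mul_mem (hc _ hx) (hc _ hy))

/-- Commutator of a short and a long root element. -/
theorem short_long (h : Fr F₀ a a' b b') {c t : F} (hS : sroot a b c ∈ K) (hT : tv b' t ∈ K) :
    sroot a b' (c * t) * tv a (c ^ 2 * t) ∈ K := by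
  have h2 : (2 : F) = 0 := CharTwo.two_eq_zero
  have e : sroot a b' (c * t) * tv a (c ^ 2 * t) = tv b' t * sroot a b c * (tv b' t)⁻¹ * sroot a b c := by
    rw [sroot_conj, show tv b' t • a = a by simp [h.hab'], show tv b' t • b = b + t • b' by simp [h.hbb]]
    refine H48.sp_ext fun w => ?_
    have hy : sf a (b + t • b') = 0 := by simp [h.hab, h.hab']
    simp only [mul_smul, sroot_smul h.hab, sroot_smul h.hab', sroot_smul hy, H48.tv_smul, map_add,
      LinearMap.add_apply, map_smul, LinearMap.smul_apply, smul_eq_mul, H48.sf_self, h.hab, h.hab',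
      (sf_symm b a).trans h.hab, (sf_symm b' a).trans h.hab', h.hbb, (sf_symm b' b).trans h.hbb, mul_zero,
      add_zero, zero_add, mul_one]
    match_scalars <;> ring_nf <;> simp [h2]
  rw [e]
  exact mul_mem (mul_mem (mul_mem hT hS) (inv_mem hT)) hS

include hK

/-- Products of long root scalars. -/
theorem LongSc.step (h : Fr F₀ a a' b b') {c t : F} (hc : LongSc F₀ K c) (ht : LongSc F₀ K t) :
    sroot a b (c * t + c ^ 2 * t) ∈ K := by
  have h2 : (2 : F) = 0 := CharTwo.two_eq_zero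
  have hX : ∀ {a a' b b' : V}, Fr F₀ a a' b b' → sroot a b (c * t) * tv a (c ^ 2 * t) ∈ K :=
    fun {a a' b b'} f => short_long f.flip₂ (hc.sroot_mem f.ra f.rb') (ht _ f.rb)
  have hP : ∀ {a a' b b' : V}, Fr F₀ a a' b b' → tv a (c ^ 2 * t) * tv b (c ^ 2 * t) ∈ K := by
    intro a a' b b' f
    have e : tv a (c ^ 2 * t) * tv b (c ^ 2 * t) =
        (sroot a b (c * t) * tv a (c ^ 2 * t))⁻¹ * (sroot b a (c * t) * tv b (c ^ 2 * t)) := by
      rw [_root_.mul_inv_rev, tv_inv_self, sroot_comm b a ((sf_symm _ _).trans f.hab), mul_assoc,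
        inv_mul_cancel_left]
    rw [e]
    exact mul_mem (inv_mem (hX f)) (hX f.swap)
  have e : sroot a b (c * t + c ^ 2 * t) =
      sroot a b (c * t) * tv a (c ^ 2 * t) * (tv (a + b) (c ^ 2 * t) * tv b (c ^ 2 * t)) := by
    refine H48.sp_ext fun w => ?_
    simp only [mul_smul, sroot_smul h.hab, H48.tv_smul, map_add, LinearMap.add_apply, map_smul,
      LinearMap.smul_apply, smul_eq_mul, H48.sf_self, h.hab, (sf_symm b a).trans h.hab, mul_zero,
      add_zero, zero_add]
    match_scalars <;> ring_nf <;> simp [h2]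
  rw [e]
  exact mul_mem (hX h) (hP h.shear)

omit hK

theorem LongSc.add {c d : F} (hc : LongSc F₀ K c) (hd : LongSc F₀ K d) : LongSc F₀ K (c + d) :=
  fun u hu => by rw [← H48.tv_mul]; exact mul_mem (hc u hu) (hd u hu)

include hK

theorem longSc_rat {c : F} (hc : c ∈ F₀) : LongSc F₀ K c := fun _ hu => tv_mem_rat hK hu hc

/-- A short root scalar gives its square as a long one. -/
theorem longSc_sq (h : Fr F₀ a a' b b') (ha0 : a ≠ 0) {d : F} (h1 : sroot a b d ∈ K)
    (h2 : sroot a b' d ∈ K) : LongSc F₀ K (d ^ 2) := by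
  refine longSc_of hK h.ra ha0 ?_
  have := mul_mem (inv_mem h2) (short_long h (t := 1) h1 (tv_mem_rat hK h.rb' (one_mem _)))
  rwa [mul_one, inv_mul_cancel_left, mul_one] at this

omit hK

variable [Finite F]

theorem exists_sqrt_rat {c : F} (hc : c ^ 2 ∈ F₀) : c ∈ F₀ := by
  haveI : Fintype F₀ := Fintype.ofFinite _
  haveI : CharP F₀ 2 := (Subfield.subtype F₀).charP Subtype.val_injective 2
  obtain ⟨r, hr⟩ := H45.exists_sq (⟨c ^ 2, hc⟩ : F₀)
  have h1 : (r : F) ^ 2 = c ^ 2 := congrArg Subtype.val hr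
  have : (r : F) = c := frobenius_inj F 2 (by simpa [frobenius_def] using h1)
  exact this ▸ r.2

theorem exists_rat_sqrt {c : F} (hc : c ∈ F₀) : ∃ r ∈ F₀, r ^ 2 = c := by
  haveI : Fintype F₀ := Fintype.ofFinite _
  haveI : CharP F₀ 2 := (Subfield.subtype F₀).charP Subtype.val_injective 2
  obtain ⟨r, hr⟩ := H45.exists_sq (⟨c, hc⟩ : F₀)
  exact ⟨r, r.2, congrArg Subtype.val hr⟩

include hK

theorem longSc_sqrt (h : Fr F₀ a a' b b') (ha0 : a ≠ 0) {d : F} (hd : LongSc F₀ K (d ^ 2)) :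
    LongSc F₀ K d := by
  let A := {c : F // LongSc F₀ K c}
  let σ : A → A := fun c => ⟨c.1 ^ 2, longSc_sq hK h ha0 (c.2.sroot_mem h.ra h.rb) (c.2.sroot_mem h.ra h.rb')⟩
  have hσ : Function.Injective σ := fun x y e => Subtype.ext (frobenius_inj F 2 (by
    simpa [σ, frobenius_def] using congrArg Subtype.val e))
  obtain ⟨y, hy⟩ := (Finite.injective_iff_surjective.1 hσ) ⟨d ^ 2, hd⟩
  have h1 : (y : F) ^ 2 = d ^ 2 := congrArg Subtype.val hy
  have : (y : F) = d := frobenius_inj F 2 (by simpa [frobenius_def] using h1)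
  exact this ▸ y.2

omit [Finite F] in
theorem longSc_smul_sq {c r : F} (hr : r ∈ F₀) (hc : LongSc F₀ K c) : LongSc F₀ K (r ^ 2 * c) := fun u hu => by
  have := hc _ (hu.smul hr)
  rwa [H48.tv_scale, ← pow_two] at this

/-- One long root scalar outside the subfield of prime index gives all. -/
theorem longSc_univ [Fintype F] {r : ℕ} (hr : r.Prime) (hcard : Fintype.card F = Nat.card F₀ ^ r)
    (h : Fr F₀ a a' b b') {c₀ : F} (hc₀ : c₀ ∉ F₀) (hc : LongSc F₀ K c₀) : ∀ c, LongSc F₀ K c := by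
  have ha0 : a ≠ 0 := fun e => by have := h.haa; rw [e] at this; simp at this
  have hmul : ∀ {c t : F}, LongSc F₀ K c → LongSc F₀ K t → LongSc F₀ K ((c + c ^ 2) * t) :=
    fun {c t} hc ht => longSc_sqrt hK h ha0 (by
      rw [add_mul]
      exact longSc_sq hK h ha0 (LongSc.step hK h hc ht) (LongSc.step hK h.flip₂ hc ht))
  have hscal : ∀ {s c : F}, s ∈ F₀ → LongSc F₀ K c → LongSc F₀ K (s * c) := by
    intro s c hs hc
    obtain ⟨t, ht, rfl⟩ := exists_rat_sqrt hs
    exact longSc_smul_sq hK ht hc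
  let R : Subring F :=
    { carrier := {x | ∀ t, LongSc F₀ K t → LongSc F₀ K (x * t)}
      mul_mem' := fun {x y} hx hy t ht => by rw [mul_assoc]; exact hx _ (hy t ht)
      one_mem' := fun t ht => by rwa [one_mul]
      zero_mem' := fun t _ => by rw [zero_mul]; exact longSc_rat hK (zero_mem _)
      add_mem' := fun {x y} hx hy t ht => by rw [add_mul]; exact (hx t ht).add (hy t ht)
      neg_mem' := fun {x} hx t ht => by rw [CharTwo.neg_eq]; exact hx t ht }
  have hpow : ∀ x : F, x ≠ 0 → x⁻¹ = x ^ (Fintype.card F - 2) := fun x hx => by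
    refine inv_eq_of_mul_eq_one_left ?_
    rw [← pow_succ, show Fintype.card F - 2 + 1 = Fintype.card F - 1 by
      have := Fintype.one_lt_card (α := F); omega]
    exact FiniteField.pow_card_sub_one_eq_one x hx
  let T : Subfield F :=
    { R with
      inv_mem' := fun x hx => by
        rcases eq_or_ne x 0 with rfl | hx0
        · rw [_root_.inv_zero]; exact R.zero_mem
        · rw [hpow x hx0]; exact R.pow_mem hx _ }
  have hle : F₀ ≤ T := fun s hs => fun t ht => hscal hs ht
  by_cases hex : c₀ + c₀ ^ 2 ∈ F₀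
  swap
  · intro c
    have : c ∈ T := eq_top_of_lt_subfield hr hcard hle (fun hge => hex (hge fun t ht => hmul hc ht)) c
    have h1 := this 1 (longSc_rat hK (one_mem _))
    rwa [mul_one] at h1
  -- the quadratic extension of the field with two elements, or a rescaled scalar
  by_cases hbig : ∃ s ∈ F₀, s ≠ 0 ∧ s ≠ 1
  · obtain ⟨s, hs, hs0, hs1⟩ := hbig
    have hex' : s * c₀ + (s * c₀) ^ 2 ∉ F₀ := fun e => by
      have h1 := sub_mem e (mul_mem (pow_mem hs 2) hex)
      have h2 : s * c₀ + (s * c₀) ^ 2 - s ^ 2 * (c₀ + c₀ ^ 2) = (s - s ^ 2) * c₀ := by ring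
      rw [h2] at h1
      have hne : s - s ^ 2 ≠ 0 := by
        rw [show s - s ^ 2 = s * (1 - s) by ring]
        exact mul_ne_zero hs0 (sub_ne_zero.2 (Ne.symm hs1))
      apply hc₀
      have h3 := mul_mem (inv_mem (sub_mem hs (pow_mem hs 2))) h1
      rwa [inv_mul_cancel_left₀ hne] at h3
    intro c
    have : c ∈ T := eq_top_of_lt_subfield hr hcard hle
      (fun hge => hex' (hge fun t ht => hmul (hscal hs hc) ht)) c
    have h1 := this 1 (longSc_rat hK (one_mem _))
    rwa [mul_one] at h1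
  simp only [not_exists, not_and, not_not] at hbig
  have hq : c₀ ^ 2 = c₀ + (c₀ + c₀ ^ 2) := by
    rw [← add_assoc, CharTwo.add_self_eq_zero, zero_add]
  let S : Subring F :=
    { carrier := {x | ∃ s ∈ F₀, ∃ t ∈ F₀, x = s + t * c₀}
      mul_mem' := by
        rintro x y ⟨s, hs, t, ht, rfl⟩ ⟨s', hs', t', ht', rfl⟩
        refine ⟨s * s' + t * t' * (c₀ + c₀ ^ 2), add_mem (mul_mem hs hs') (mul_mem (mul_mem ht ht') hex),
          s * t' + t * s' + t * t', add_mem (add_mem (mul_mem hs ht') (mul_mem ht hs')) (mul_mem ht ht'), ?_⟩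
        linear_combination (t * t') * hq
      one_mem' := ⟨1, one_mem _, 0, zero_mem _, by ring⟩
      zero_mem' := ⟨0, zero_mem _, 0, zero_mem _, by ring⟩
      add_mem' := by
        rintro x y ⟨s, hs, t, ht, rfl⟩ ⟨s', hs', t', ht', rfl⟩
        exact ⟨s + s', add_mem hs hs', t + t', add_mem ht ht', by ring⟩
      neg_mem' := by
        rintro x ⟨s, hs, t, ht, rfl⟩
        exact ⟨-s, neg_mem hs, -t, neg_mem ht, by ring⟩ }
  let U : Subfield F :=
    { S with
      inv_mem' := fun x hx => by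
        rcases eq_or_ne x 0 with rfl | hx0
        · rw [_root_.inv_zero]; exact S.zero_mem
        · rw [hpow x hx0]; exact S.pow_mem hx _ }
  intro c
  obtain ⟨s, hs, t, ht, rfl⟩ : c ∈ U := eq_top_of_lt_subfield hr hcard
    (fun s hs => show s ∈ S from ⟨s, hs, 0, zero_mem _, by ring⟩)
    (fun hge => hc₀ (hge (show c₀ ∈ S from ⟨0, zero_mem _, 1, one_mem _, by ring⟩))) c
  exact (longSc_rat hK hs).add (hscal ht hc)

end H42.SpEven
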