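import Cfsg.Agent.H42.SpEvenScalars

/-!
The symplectic group over a subfield of prime index is maximal in characteristic two.
-/

set_option autoImplicit false
set_option maxHeartbeats 800000

namespace H42.SpEven

open Matrix H49
open H48 (sf tv)

variable {m : ℕ} {F : Type*} [Field F] {F₀ : Subfield F} [CharP F 2]

local notation "V" => (Fin m ⊕ Fin m → F)
local notation "Sp" => Matrix.symplecticGroup (Fin m) F
local notation "ι" => (Fin m ⊕ Fin m)

theorem fr_uvec {x y : ι} (h : hpair x ≠ hpair y) :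
    Fr F₀ (uvec (F := F) x) (uvec x.swap) (uvec y) (uvec y.swap) := by
  have e : ∀ z : ι, sf (uvec (F := F) z) (uvec z.swap) = 1 := fun z => by
    have := sf_uvec_swap (F := F) z.swap
    rw [Sum.swap_swap] at this
    rw [this]
    rcases z with i | i <;> simp [usign, CharTwo.neg_eq]
  exact ⟨uvec_rat x, uvec_rat _, uvec_rat y, uvec_rat _, e x, e y, sf_uvec_uvec_eq_zero h,
    sf_uvec_uvec_eq_zero (by rwa [hpair_swap]), sf_uvec_uvec_eq_zero (by rwa [hpair_swap]),
    sf_uvec_uvec_eq_zero (by rwa [hpair_swap, hpair_swap])⟩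

/-- A frame against which a non-rational vector has non-rational ratio. -/
theorem exists_frame (hm : 2 ≤ m) {v : V} (hnot : ¬ IsRatLine F₀ v) :
    ∃ (a a' b b' : V), Fr F₀ a a' b b' ∧ sf v a ≠ 0 ∧ sf v b ≠ 0 ∧ sf v a / sf v b ∉ F₀ := by
  have hline : ∀ (c : F), (∀ z : ι, sf v (uvec z) / c ∈ F₀) → c ≠ 0 → False := by
    intro c hz hc
    refine hnot ⟨c, fun i => c⁻¹ * v i, fun i => ?_, funext fun i => by simp [hc]⟩
    show c⁻¹ * v i ∈ F₀
    rw [apply_eq_sf v i, ← mul_assoc, mul_comm c⁻¹, mul_assoc, inv_mul_eq_div]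
    exact mul_mem (usign_rat _) (hz _)
  by_cases hA : ∃ x y : ι, hpair x ≠ hpair y ∧ sf v (uvec x) ≠ 0 ∧ sf v (uvec y) ≠ 0 ∧
      sf v (uvec x) / sf v (uvec y) ∉ F₀
  · obtain ⟨x, y, hxy, h1, h2, h3⟩ := hA
    exact ⟨_, _, _, _, fr_uvec hxy, h1, h2, h3⟩
  simp only [not_exists, not_and, not_not] at hA
  obtain ⟨x, hx⟩ : ∃ x : ι, sf v (uvec x) ≠ 0 := by
    by_contra hcon
    simp only [not_exists, not_not] at hcon
    exact hnot ⟨0, 0, fun i => zero_mem _, funext fun i => by simp [apply_eq_sf v i, hcon]⟩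
  by_cases hy : ∃ y : ι, hpair x ≠ hpair y ∧ sf v (uvec y) ≠ 0
  · obtain ⟨y, hxy, hy⟩ := hy
    exfalso
    refine hline _ (fun z => ?_) hx
    by_cases hz : sf v (uvec z) = 0
    · simp [hz]
    by_cases hzx : hpair z = hpair x
    · have h1 := hA z y (hzx ▸ hxy) hz hy
      have h2 := hA y x (Ne.symm hxy) hy hx
      have := mul_mem h1 h2
      rwa [div_mul_div_cancel₀ hy] at this
    · exact hA z x hzx hz hx
  simp only [not_exists, not_and, not_not] at hy
  obtain ⟨y, hxy⟩ : ∃ y : ι, hpair x ≠ hpair y := by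
    obtain ⟨p, hp⟩ := exists_fresh {hpair x} (by simp; omega)
    exact ⟨Sum.inl p, fun e => hp (Finset.mem_singleton.2 e.symm)⟩
  have h1 : sf v (uvec y) = 0 := hy y hxy
  have h2 : sf v (uvec y.swap) = 0 := hy _ (by rwa [hpair_swap])
  have hx' : sf v (uvec x.swap) / sf v (uvec x) ∉ F₀ := fun hr => hline _ (fun z => by
    by_cases hzx : hpair z = hpair x
    · rcases (show z = x ∨ z = x.swap by
        clear hline hA hy hx hxy h1 h2 hr
        rcases z with i | i <;> rcases x with j | j <;>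
          simp only [hpair, Sum.elim_inl, Sum.elim_inr, id] at hzx <;> subst hzx <;> simp) with rfl | rfl
      · rw [div_self hx]; exact one_mem _
      · exact hr
    · rw [hy z (Ne.symm hzx), zero_div]; exact zero_mem _) hx
  have hx'0 : sf v (uvec x.swap) ≠ 0 := fun e => hx' (by rw [e, zero_div]; exact zero_mem _)
  refine ⟨_, _, _, _, (fr_uvec (F₀ := F₀) hxy).flip₁.flip₂.shear.flip₂, ?_, ?_, ?_⟩ <;>
    simp only [map_add, h1, h2, add_zero, zero_add]
  exacts [hx'0, hx, hx']

variable [Fintype F] {K : Subgroup (Matrix.symplecticGroup (Fin m) F)}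
  (hK : ∀ g : Matrix.symplecticGroup (Fin m) F, IsRat F₀ g → g ∈ K)
include hK

theorem from_plane {a a' b b' : V} (h : Fr F₀ a a' b b') {p q : F} (hv : tv (p • a + q • b) 1 ∈ K)
    (hq : q ^ 2 ∉ F₀) : ∃ c, c ∉ F₀ ∧ LongSc F₀ K c := by
  have h2 : (2 : F) = 0 := CharTwo.two_eq_zero
  have hne : ∀ {a a' b b' : V}, Fr F₀ a a' b b' → a ≠ 0 := fun f e => by
    have := f.haa; rw [e] at this; simp at this
  obtain ⟨hP, h1⟩ := plane_centre hK h hv
  set x := q ^ 2 with hx
  by_cases hxx : x + x ^ 2 ∈ F₀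
  swap
  · exact ⟨_, hxx, longSc_of hK h.ra (hne h) h1⟩
  by_cases hbig : ∃ s ∈ F₀, s ≠ 0 ∧ s ≠ 1
  · obtain ⟨s, hs, hs0, hs1⟩ := hbig
    have hv' : tv ((s⁻¹ * p) • (s • a) + (s⁻¹ * q) • (s • b)) 1 ∈ K := by
      rwa [smul_smul, smul_smul, mul_right_comm, inv_mul_cancel₀ hs0, one_mul, mul_right_comm,
        inv_mul_cancel₀ hs0, one_mul]
    have h3 := (plane_centre hK (h.scale hs hs0) hv').2
    rw [H48.tv_scale, show s * s * ((s⁻¹ * q) ^ 2 + ((s⁻¹ * q) ^ 2) ^ 2) = x + (s⁻¹) ^ 2 * x ^ 2 by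
      rw [hx]; field_simp] at h3
    refine ⟨_, fun hmem => hq ?_, longSc_of hK h.ra (hne h) h3⟩
    have h4 := sub_mem hxx hmem
    rw [show x + x ^ 2 - (x + (s⁻¹) ^ 2 * x ^ 2) = (1 - (s⁻¹) ^ 2) * x ^ 2 by ring] at h4
    have h5 : (1 : F) - (s⁻¹) ^ 2 ≠ 0 := fun e => hs1 (by
      have e1 : (1 : F) ^ 2 = (s⁻¹) ^ 2 := by rw [one_pow]; exact sub_eq_zero.1 e
      have e2 : (1 : F) = s⁻¹ := frobenius_inj F 2 (by simpa [frobenius_def] using e1)
      rw [← inv_inv s, ← e2, inv_one])
    have h6 := mul_mem (inv_mem (sub_mem (one_mem _) (pow_mem (inv_mem hs) 2))) h4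
    rw [inv_mul_cancel_left₀ h5] at h6
    exact exists_sqrt_rat h6
  simp only [not_exists, not_and, not_not] at hbig
  have hx1 : x + x ^ 2 = 1 := hbig _ hxx fun e => hq (by
    have h3 : x * (1 + x) = 0 := by rw [← e]; ring
    rcases mul_eq_zero.1 h3 with h4 | h4
    · rw [h4]; exact zero_mem _
    · rw [← CharTwo.add_eq_zero.1 h4]; exact one_mem _)
  have hw : tv (a + a') (1 : F) ∈ K := tv_mem_rat hK (h.ra.add h.ra') (one_mem _)
  have hba : sf b a = 0 := (sf_symm _ _).trans h.hab
  have hba' : sf b a' = 0 := (sf_symm _ _).trans h.ha'b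
  have hW := pair_conj hK hw hP
  rw [show tv (a + a') (1 : F) • a = a' by
      simp only [H48.tv_smul, map_add, H48.sf_self, h.haa, zero_add, one_mul, one_smul]
      rw [← add_assoc, ← two_smul F a, h2, zero_smul, zero_add],
    show tv (a + a') (1 : F) • b = b by simp [hba, hba']] at hW
  have hg : tv a x * tv a' x ∈ K := by
    have e : tv a x * tv a' x = tv a x * tv b x * (tv a' x * tv b x) := by
      refine H48.sp_ext fun w => ?_
      simp only [mul_smul, H48.tv_smul, map_add, LinearMap.add_apply, map_smul, LinearMap.smul_apply,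
        smul_eq_mul, H48.sf_self, h.hab, hba, h.ha'b, hba', mul_zero, add_zero, zero_add]
      match_scalars <;> ring_nf <;> simp [h2]
    rw [e]
    exact mul_mem hP hW
  have h3 := conj_rat hK hg (tv_mem_rat hK h.ra (one_mem _))
  have ha'a : sf a' a = 1 := (sf_symm _ _).trans h.haa
  rw [show (tv a x * tv a' x) • a = x • (a + a') by
    simp only [mul_smul, H48.tv_smul, map_add, LinearMap.add_apply, map_smul, LinearMap.smul_apply,
      smul_eq_mul, H48.sf_self, h.haa, ha'a, mul_one, mul_zero, zero_add, add_zero]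
    match_scalars
    · linear_combination hx1 + (1 - x) * h2
    · ring, H48.tv_scale, mul_one] at h3
  refine ⟨x * x, fun hmem => hq ?_, longSc_of hK (h.ra.add h.ra') (fun e => ?_) h3⟩
  · exact exists_sqrt_rat (c := x) (by rwa [pow_two])
  · have e1 : sf (a + a') a = 0 := by rw [e]; simp
    rw [map_add, LinearMap.add_apply, H48.sf_self, ha'a, zero_add] at e1
    exact one_ne_zero e1

/-- A centre off the rational lines gives a scalar outside the subfield. -/
theorem exists_scalar (hm : 2 ≤ m) {v : V} (hv : tv v 1 ∈ K) (hnot : ¬ IsRatLine F₀ v) :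
    ∃ (a a' b b' : V), Fr F₀ a a' b b' ∧ ∃ c, c ∉ F₀ ∧ LongSc F₀ K c := by
  have h2 : (2 : F) = 0 := CharTwo.two_eq_zero
  obtain ⟨a, a', b, b', h, hva, hvb, hr⟩ := exists_frame hm hnot
  refine ⟨a, a', b, b', h, ?_⟩
  set r₁ := sf v a with hr₁
  set r₂ := sf v b with hr₂
  have hba : sf b a = 0 := (sf_symm _ _).trans h.hab
  have hg : sroot a b (1 : F) ∈ K := hK _ (isRat_sroot h.ra h.rb (one_mem _))
  set E := tv (sroot a b (1 : F) • v) 1 * tv v 1 with hE
  have hEK : E ∈ K := mul_mem (conj_rat hK hg hv) hv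
  have hw : sroot a b (1 : F) • v = v + r₂ • a + r₁ • b := by
    rw [sroot_smul h.hab, one_mul, one_mul]
  have hav : sf a v = r₁ := sf_symm _ _
  have hbv : sf b v = r₂ := sf_symm _ _
  have hEa : E • a = (1 + r₁ * r₂) • a + (r₁ ^ 2) • b := by
    rw [hE, hw]
    simp only [mul_smul, H48.tv_smul, map_add, LinearMap.add_apply, map_smul, LinearMap.smul_apply,
      smul_eq_mul, H48.sf_self, h.hab, ← hr₁, ← hr₂, hav, mul_zero, add_zero, zero_add, one_mul]
    match_scalars <;> ring_nf <;> simp [h2, show (3 : F) = 1 by linear_combination h2,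
      show (4 : F) = 0 by linear_combination 2 * h2]
  have hEb : E • b = (1 + r₁ * r₂) • b + (r₂ ^ 2) • a := by
    rw [hE, hw]
    simp only [mul_smul, H48.tv_smul, map_add, LinearMap.add_apply, map_smul, LinearMap.smul_apply,
      smul_eq_mul, H48.sf_self, hba, ← hr₁, ← hr₂, hbv, mul_zero, add_zero, zero_add, one_mul]
    match_scalars <;> ring_nf <;> simp [h2, show (3 : F) = 1 by linear_combination h2,
      show (4 : F) = 0 by linear_combination 2 * h2]
  by_cases h1 : (r₁ ^ 2) ^ 2 ∈ F₀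
  swap
  · have := conj_rat hK hEK (tv_mem_rat hK h.ra (one_mem _))
    rw [hEa] at this
    exact from_plane hK h this h1
  by_cases h3 : (r₂ ^ 2) ^ 2 ∈ F₀
  swap
  · have := conj_rat hK hEK (tv_mem_rat hK h.rb (one_mem _))
    rw [hEb] at this
    exact from_plane hK h.swap this h3
  exact absurd (div_mem (exists_sqrt_rat (exists_sqrt_rat h1)) (exists_sqrt_rat (exists_sqrt_rat h3))) hr

/-- All long root elements on the rational centres give the whole group. -/
theorem eq_top_of_longSc (hm : 2 ≤ m) (hall : ∀ c, LongSc F₀ K c) : K = ⊤ := by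
  classical
  have hctr : ∀ y : ι, IsCtr K (uvec y) := fun y c => hall c _ (uvec_rat y)
  have hsr : ∀ (x y : ι) (c : F), sroot (uvec (F := F) x) (uvec y) c ∈ K := fun x y c =>
    (hall c).sroot_mem (uvec_rat x) (uvec_rat y)
  apply eq_top_of_ctr
  suffices h : ∀ s : Finset ι, ∀ v : V, (∀ x ∉ s, v x = 0) → IsCtr K v by
    exact fun v => h Finset.univ v (fun x hx => absurd (Finset.mem_univ x) hx)
  intro s
  induction s using Finset.induction with
  | empty =>
    intro v hv c
    rw [show v = 0 from funext fun x => hv x (Finset.notMem_empty x), H48.tv_zero_left]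
    exact one_mem _
  | @insert k s hk ih =>
    intro v hv
    set v' := v - v k • uvec k with hv'
    have hv'C : IsCtr K v' := ih v' fun x hx => by
      by_cases hxk : x = k
      · subst hxk; simp [v', uvec]
      · simp [v', uvec, hxk, hv x (by simp [hxk, hx])]
    have hdec : v' + v k • uvec k = v := sub_add_cancel _ _
    rw [← hdec]
    by_cases hne : sf v' (uvec k) ≠ 0
    · exact hv'C.add_smul_of_ne (hctr k) hne _
    rw [not_not] at hne
    by_cases hy : ∃ y, hpair y ≠ hpair k ∧ sf v' (uvec y) ≠ 0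
    · obtain ⟨y, hyk, hy0⟩ := hy
      have := hv'C.group_smul (hsr k y (v k / sf v' (uvec y)))
      rw [sroot_smul (sf_uvec_uvec_eq_zero (Ne.symm hyk)), hne, mul_zero, zero_smul, add_zero,
        div_mul_cancel₀ _ hy0] at this
      exact this
    simp only [not_exists, not_and, not_not] at hy
    have hprop : v' = v' k • uvec k := by
      funext z
      by_cases hz : z = k
      · subst hz; simp [uvec]
      · rw [apply_eq_sf v' z]
        have : sf v' (uvec z.swap) = 0 := by
          by_cases hp : hpair z.swap = hpair k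
          · have : z.swap = k := by
              rw [hpair_swap] at hp
              rcases z with i | i <;> rcases k with j | j <;> simp_all [hpair]
            rw [this]; exact hne
          · exact hy _ hp
        rw [this, mul_zero]
        simp [uvec, hz]
    rw [hprop, ← add_smul]
    exact (hctr k).smul_vec _

theorem eq_top_of_subfield_even (hm : 2 ≤ m) {r : ℕ} (hr : r.Prime)
    (hcard : Fintype.card F = Nat.card F₀ ^ r) {g : Sp} (hg : g ∈ K)
    (hnot : ¬ ∃ a : F, a ≠ 0 ∧ ∀ i j, a⁻¹ * (g : Matrix ι ι F) i j ∈ F₀) : K = ⊤ := by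
  by_contra hne
  apply hnot
  refine exists_scalar_of_ratLines hm g fun u hu => ?_
  by_contra hline
  apply hne
  obtain ⟨a, a', b, b', h, c, hc, hcK⟩ :=
    exists_scalar hK hm (conj_rat hK hg (tv_mem_rat hK hu (one_mem _))) hline
  exact eq_top_of_longSc hK hm (longSc_univ hK hr hcard h hc hcK)

end H42.SpEven
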