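import Cfsg.Agent.H42.SpFourMain

/-!
The stabiliser of a skew operator on four-dimensional symplectic space has no proper overgroup.
-/

set_option autoImplicit false

namespace H42.SpFour

open Matrix
open H48 (sf tv)

variable {F : Type*} [Field F] [Fintype F]

local notation "V" => (Fin 2 ⊕ Fin 2 → F)
local notation "Sp" => Matrix.symplecticGroup (Fin 2) F

/-- A frame through an isotropic vector. -/
theorem exists_frame {L : V →ₗ[F] V} {ν : F} (hskew : ∀ x y, sf (L x) y = - sf x (L y))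
    (hsq : ∀ x, L (L x) = ν • x) (hν : ν ≠ 0) (h2 : (2 : F) ≠ 0) {v : V} (hv : sf (L v) v = 0)
    (hv' : L v ∉ Submodule.span F {v}) : ∃ e₁ e₂ f₁ f₂, Frame L ν e₁ e₂ f₁ f₂ := by
  have hU : v ∉ Submodule.span F {L v} := by
    intro h
    obtain ⟨c, hc⟩ := Submodule.mem_span_singleton.1 h
    refine hv' (Submodule.mem_span_singleton.2 ⟨c * ν, ?_⟩)
    have := congrArg L hc
    rw [map_smul, hsq, smul_smul] at this
    exact this
  obtain ⟨z, hz, hz'⟩ := H48.exists_sep hU
  set w₀ := (sf v z)⁻¹ • z with hw₀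
  have h1 : sf v w₀ = 1 := by rw [hw₀, map_smul, smul_eq_mul, inv_mul_cancel₀ hz']
  have h3 : sf (L v) w₀ = 0 := by
    rw [hw₀, map_smul, hz _ (Submodule.mem_span_singleton_self _), smul_zero]
  set κ := -(sf (L w₀) w₀) / (2 * ν) with hκ
  set w := w₀ + κ • L v with hw
  have hvLv : sf v (L v) = 0 := H48.sf_eq_zero_comm hv
  have w1 : sf v w = 1 := by rw [hw, map_add, LinearMap.map_smul (sf v) κ, hvLv, smul_zero, add_zero, h1]
  have w2 : sf (L v) w = 0 := by rw [hw, map_add, LinearMap.map_smul (sf (L v)) κ, H48.sf_self, smul_zero, add_zero, h3]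
  have k1 : sf v (L w) = 0 := by
    have := hskew v w
    rw [w2] at this
    linear_combination this
  have k2 : sf (L v) (L w) = -ν := by rw [hskew, hsq, map_smul, smul_eq_mul, w1, mul_one]
  have k3 : sf (L w) w = 0 := by
    have a1 : sf (L w₀) (L v) = ν := by
      rw [hskew, hsq, map_smul, smul_eq_mul, H48.sf_swap, h1]
      ring
    rw [hw]
    simp only [map_add, map_smul, LinearMap.add_apply, LinearMap.smul_apply, smul_eq_mul, hsq, h1, a1, hvLv]
    rw [hκ]
    field_simp
    ring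
  refine ⟨v, L v, w, -(ν⁻¹) • L w, ⟨⟨hvLv, ?_, w1, ?_, ?_, w2⟩, rfl, hsq v, ?_, ?_, hν, h2⟩⟩
  · rw [map_smul, H48.sf_eq_zero_comm k3, smul_zero]
  · rw [map_smul, k2, smul_eq_mul]
    field_simp
  · rw [map_smul, k1, smul_zero]
  · rw [smul_smul]
    simp [hν]
  · rw [map_smul, hsq, smul_smul]
    simp [hν]

/-- A field with at least five elements has a scalar other than zero with square not one. -/
theorem exists_scalar (hq5 : 5 ≤ Fintype.card F) : ∃ t : F, t ≠ 0 ∧ t * t ≠ 1 := by
  classical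
  obtain ⟨t, ht⟩ := Finset.exists_mem_notMem_of_card_lt_card (s := ({0, 1, -1} : Finset F)) (t := Finset.univ)
    (lt_of_le_of_lt Finset.card_le_three (by rw [Finset.card_univ]; omega))
  simp only [Finset.mem_insert, Finset.mem_singleton, not_or] at ht
  exact ⟨t, ht.2.1, fun h => (mul_self_eq_one_iff.1 h).elim ht.2.2.1 ht.2.2.2⟩

/-- The elements commuting or anticommuting with the operator form a maximal subgroup. -/
theorem top_or_stab {L : V →ₗ[F] V} {ν : F} (hskew : ∀ x y, sf (L x) y = - sf x (L y))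
    (hsq : ∀ x, L (L x) = ν • x) (hν : ν ≠ 0) (h2 : (2 : F) ≠ 0) {v : V} (hv : sf (L v) v = 0)
    (hv' : L v ∉ Submodule.span F {v}) (hq5 : 5 ≤ Fintype.card F) {K : Subgroup Sp}
    (hK : ∀ g, Stab L g → g ∈ K) : K = ⊤ ∨ ∀ g ∈ K, Stab L g := by
  obtain ⟨e₁, e₂, f₁, f₂, d⟩ := exists_frame hskew hsq hν h2 hv hv'
  obtain ⟨t, ht⟩ := exists_scalar hq5
  exact or_iff_not_imp_left.2 fun hne g hg => d.stab_of_mem hK ht hne hg

end H42.SpFour
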