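import Cfsg.Agent.H49.ShortRoot

/-!
Symplectic frames of four-dimensional symplectic space and the elements fixing a Lagrangian pointwise.
-/

set_option autoImplicit false
set_option linter.unusedSectionVars false

namespace H42.SpFour

open Matrix
open H48 (sf tv)
open H49 (sroot sroot_smul)

variable {F : Type*} [Field F]

local notation "V" => (Fin 2 ⊕ Fin 2 → F)
local notation "Sp" => Matrix.symplecticGroup (Fin 2) F

/-- The element attached to a quadratic form on an isotropic plane. -/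
def qel (x y : Fin 2 ⊕ Fin 2 → F) (p r s : F) : Matrix.symplecticGroup (Fin 2) F :=
  sroot x y r * (tv x p * tv y s)

theorem qel_smul {x y : V} (h : sf x y = 0) (p r s : F) (v : V) :
    qel x y p r s • v = v + (p * sf v x + r * sf v y) • x + (r * sf v x + s * sf v y) • y := by
  simp only [qel, mul_smul, H48.tv_smul, sroot_smul h, map_add, LinearMap.add_apply, map_smul,
    LinearMap.smul_apply, smul_eq_mul, H48.sf_self, h, H48.sf_eq_zero_comm h, mul_zero, add_zero]
  module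

theorem qel_mul {x y : V} (h : sf x y = 0) (p r s p' r' s' : F) :
    qel x y p r s * qel x y p' r' s' = qel x y (p + p') (r + r') (s + s') := by
  refine H48.sp_ext fun v => ?_
  simp only [mul_smul, qel_smul h, map_add, LinearMap.add_apply, map_smul, LinearMap.smul_apply, smul_eq_mul,
    H48.sf_self, h, H48.sf_eq_zero_comm h]
  match_scalars <;> ring

theorem qel_zero {x y : V} (h : sf x y = 0) : qel x y 0 0 0 = (1 : Sp) :=
  H48.sp_ext fun v => by rw [qel_smul h, one_smul]; module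

theorem qel_inv {x y : V} (h : sf x y = 0) (p r s : F) : (qel x y p r s)⁻¹ = qel x y (-p) (-r) (-s) :=
  inv_eq_of_mul_eq_one_right (by rw [qel_mul h, add_neg_cancel, add_neg_cancel, add_neg_cancel, qel_zero h])

theorem qel_conj (g : Sp) (x y : V) (p r s : F) :
    g * qel x y p r s * g⁻¹ = qel (g • x) (g • y) p r s := by
  rw [qel, qel, ← H49.sroot_conj, ← H48.tv_conj, ← H48.tv_conj]
  group

/-- Change of basis of the plane. -/
theorem qel_comb {x y : V} (h : sf x y = 0) (a b c d p r s : F) :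
    qel (a • x + b • y) (c • x + d • y) p r s = qel x y (a * a * p + 2 * (a * c * r) + c * c * s)
      (a * b * p + (a * d + b * c) * r + c * d * s) (b * b * p + 2 * (b * d * r) + d * d * s) := by
  have h' : sf (a • x + b • y) (c • x + d • y) = 0 := by
    simp [H48.sf_self, h, H48.sf_eq_zero_comm h]
  refine H48.sp_ext fun v => ?_
  rw [qel_smul h', qel_smul h]
  simp only [map_add, map_smul, smul_eq_mul]
  match_scalars <;> ring

theorem tv_eq_qel {x y : V} (h : sf x y = 0) (c : F) : tv x c = qel x y c 0 0 :=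
  H48.sp_ext fun v => by rw [qel_smul h, H48.tv_smul]; module

/-- A hyperbolic quadruple. -/
structure Hyp (x₁ x₂ y₁ y₂ : Fin 2 ⊕ Fin 2 → F) : Prop where
  xx : sf x₁ x₂ = 0
  yy : sf y₁ y₂ = 0
  one_one : sf x₁ y₁ = 1
  two_two : sf x₂ y₂ = 1
  one_two : sf x₁ y₂ = 0
  two_one : sf x₂ y₁ = 0

namespace Hyp

variable {x₁ x₂ y₁ y₂ : Fin 2 ⊕ Fin 2 → F} (d : Hyp x₁ x₂ y₁ y₂)
include d

theorem xx' : sf x₂ x₁ = 0 := H48.sf_eq_zero_comm d.xx
theorem yy' : sf y₂ y₁ = 0 := H48.sf_eq_zero_comm d.yy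
theorem one_one' : sf y₁ x₁ = -1 := by rw [H48.sf_swap, d.one_one]
theorem two_two' : sf y₂ x₂ = -1 := by rw [H48.sf_swap, d.two_two]
theorem one_two' : sf y₂ x₁ = 0 := H48.sf_eq_zero_comm d.one_two
theorem two_one' : sf y₁ x₂ = 0 := H48.sf_eq_zero_comm d.two_one

/-- The coordinates of a combination. -/
theorem coords (a b a' b' : F) :
    sf (a • x₁ + b • x₂ + a' • y₁ + b' • y₂) y₁ = a ∧ sf (a • x₁ + b • x₂ + a' • y₁ + b' • y₂) y₂ = b ∧
      sf x₁ (a • x₁ + b • x₂ + a' • y₁ + b' • y₂) = a' ∧ sf x₂ (a • x₁ + b • x₂ + a' • y₁ + b' • y₂) = b' := by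
  simp [H48.sf_self, d.xx, d.yy, d.xx', d.yy', d.one_one, d.two_two, d.one_two, d.two_one]

theorem li : LinearIndependent F ![x₁, x₂, y₁, y₂] := by
  rw [Fintype.linearIndependent_iff]
  intro c hc
  simp only [Fin.sum_univ_four, Matrix.cons_val_zero, Matrix.cons_val_one, Matrix.cons_val] at hc
  obtain ⟨h0, h1, h2, h3⟩ := d.coords (c 0) (c 1) (c 2) (c 3)
  rw [hc] at h0 h1 h2 h3
  simp only [map_zero, LinearMap.zero_apply] at h0 h1 h2 h3
  intro i
  fin_cases i <;> first | exact h0.symm | exact h1.symm | exact h2.symm | exact h3.symm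

theorem dec (v : V) : v = sf v y₁ • x₁ + sf v y₂ • x₂ + sf x₁ v • y₁ + sf x₂ v • y₂ := by
  have htop := d.li.span_eq_top_of_card_eq_finrank' (by simp)
  have hv : v ∈ Submodule.span F (Set.range ![x₁, x₂, y₁, y₂]) := htop ▸ trivial
  obtain ⟨c, rfl⟩ := (Submodule.mem_span_range_iff_exists_fun F).1 hv
  simp only [Fin.sum_univ_four, Matrix.cons_val_zero, Matrix.cons_val_one, Matrix.cons_val]
  obtain ⟨h0, h1, h2, h3⟩ := d.coords (c 0) (c 1) (c 2) (c 3)
  rw [h0, h1, h2, h3]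

theorem hom_ext {M : Type*} [AddCommGroup M] [Module F M] {A B : V →ₗ[F] M} (h1 : A x₁ = B x₁) (h2 : A x₂ = B x₂)
    (h3 : A y₁ = B y₁) (h4 : A y₂ = B y₂) : A = B :=
  LinearMap.ext fun v => by
    rw [d.dec v]
    simp [h1, h2, h3, h4]

theorem sp_ext' {g h : Sp} (h1 : g • x₁ = h • x₁) (h2 : g • x₂ = h • x₂) (h3 : g • y₁ = h • y₁)
    (h4 : g • y₂ = h • y₂) : g = h :=
  H48.sp_ext fun v => LinearMap.congr_fun (d.hom_ext (A := (DistribMulAction.toLinearEquiv F V g).toLinearMap)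
    (B := (DistribMulAction.toLinearEquiv F V h).toLinearMap) h1 h2 h3 h4) v

theorem group_smul (g : Sp) : Hyp (g • x₁) (g • x₂) (g • y₁) (g • y₂) := by
  refine ⟨?_, ?_, ?_, ?_, ?_, ?_⟩ <;> rw [H48.sf_smul_smul]
  exacts [d.xx, d.yy, d.one_one, d.two_two, d.one_two, d.two_one]

/-- Hyperbolic quadruples are conjugate. -/
theorem exists_map {X₁ X₂ Y₁ Y₂ : V} (e : Hyp X₁ X₂ Y₁ Y₂) :
    ∃ g : Sp, g • x₁ = X₁ ∧ g • x₂ = X₂ ∧ g • y₁ = Y₁ ∧ g • y₂ = Y₂ := by
  obtain ⟨g, -, hg⟩ := H48.witt ![x₁, x₂, y₁, y₂] ![X₁, X₂, Y₁, Y₂] d.li e.li (fun i j => by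
    fin_cases i <;> fin_cases j <;>
      simp [H48.sf_self, d.xx, d.yy, d.xx', d.yy', d.one_one, d.two_two, d.one_two, d.two_one, d.one_one',
        d.two_two', d.one_two', d.two_one', e.xx, e.yy, e.xx', e.yy', e.one_one, e.two_two, e.one_two, e.two_one,
        e.one_one', e.two_two', e.one_two', e.two_one'])
  exact ⟨g, hg 0, hg 1, hg 2, hg 3⟩

/-- Elements fixing a Lagrangian plane pointwise. -/
theorem eq_qel {g : Sp} (h1 : g • x₁ = x₁) (h2 : g • x₂ = x₂) : ∃ p r s : F, g = qel x₁ x₂ p r s := by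
  set G := d.group_smul g with hG
  have hA : ∀ y, sf x₁ (g • y) = sf x₁ y ∧ sf x₂ (g • y) = sf x₂ y := fun y =>
    ⟨by conv_lhs => rw [← h1, H48.sf_smul_smul],
     by conv_lhs => rw [← h2, H48.sf_smul_smul]⟩
  have e1 : g • y₁ = sf (g • y₁) y₁ • x₁ + sf (g • y₁) y₂ • x₂ + y₁ := by
    conv_lhs => rw [d.dec (g • y₁), (hA y₁).1, (hA y₁).2, d.one_one, d.two_one, one_smul, zero_smul, add_zero]
  have e2 : g • y₂ = sf (g • y₂) y₁ • x₁ + sf (g • y₂) y₂ • x₂ + y₂ := by
    conv_lhs => rw [d.dec (g • y₂), (hA y₂).1, (hA y₂).2, d.one_two, d.two_two, one_smul, zero_smul, add_zero]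
  have hsym : sf (g • y₁) y₂ = sf (g • y₂) y₁ := by
    have h := H48.sf_smul_smul g y₁ y₂
    rw [e1, e2] at h
    simp [d.xx, d.xx', d.yy, d.one_one', d.two_two', d.one_one, d.two_two, d.one_two, d.two_one, d.one_two',
      d.two_one', H48.sf_self] at h
    linear_combination h
  refine ⟨-sf (g • y₁) y₁, -sf (g • y₁) y₂, -sf (g • y₂) y₂, d.sp_ext' ?_ ?_ ?_ ?_⟩ <;>
    rw [qel_smul d.xx]
  · rw [h1]; simp [d.xx]
  · rw [h2]; simp [d.xx']
  · simp only [d.one_one', d.two_one', mul_zero, add_zero, mul_neg, mul_one, neg_neg]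
    conv_lhs => rw [e1]
    abel
  · simp only [d.two_two', d.one_two', mul_zero, zero_add, mul_neg, mul_one, neg_neg]
    conv_lhs => rw [e2, ← hsym]
    abel

end Hyp

end H42.SpFour
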