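import Cfsg.Agent.H42.SpFourMax

/-!
The overgroups of the stabiliser of a skew operator in four-dimensional symplectic space.
-/

set_option autoImplicit false
set_option linter.unusedSectionVars false

namespace H42.SpFour

open Matrix
open H48 (sf tv)
open H49 (sroot IsCtr)
open scoped MatrixGroups Polynomial

variable {F : Type*} [Field F] [Fintype F]

local notation "V" => (Fin 2 ⊕ Fin 2 → F)
local notation "Sp" => Matrix.symplecticGroup (Fin 2) F

namespace Frame

variable {L : (Fin 2 ⊕ Fin 2 → F) →ₗ[F] (Fin 2 ⊕ Fin 2 → F)} {ν : F} {e₁ e₂ f₁ f₂ : Fin 2 ⊕ Fin 2 → F}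
  (d : Frame L ν e₁ e₂ f₁ f₂)
  {K : Subgroup (Matrix.symplecticGroup (Fin 2) F)} (hK : ∀ g, Stab L g → g ∈ K)
  {t : F} (hq : t ≠ 0 ∧ t * t ≠ 1) (hne : K ≠ ⊤)
include d hK hq hne

/-- The image of the first Lagrangian never meets it in a line. -/
theorem no_singular {g : Sp} (hg : g ∈ K)
    (hdet : sf e₁ (g • e₁) * sf e₂ (g • e₂) - sf e₁ (g • e₂) * sf e₂ (g • e₁) = 0)
    (hnz : ¬ (sf e₁ (g • e₁) = 0 ∧ sf e₂ (g • e₁) = 0 ∧ sf e₁ (g • e₂) = 0 ∧ sf e₂ (g • e₂) = 0)) : False := by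
  have hh := d.hyp
  have hν := d.nu
  -- a vector kept in the Lagrangian and one leaving it
  obtain ⟨x, y, x', y', hxy, hk1, hk2, hout⟩ : ∃ x y x' y' : F, x * y' - y * x' ≠ 0 ∧
      sf e₁ (g • (x • e₁ + y • e₂)) = 0 ∧ sf e₂ (g • (x • e₁ + y • e₂)) = 0 ∧
      ¬ (sf e₁ (g • (x' • e₁ + y' • e₂)) = 0 ∧ sf e₂ (g • (x' • e₁ + y' • e₂)) = 0) := by
    simp only [smul_add, smul_comm g _ e₁, smul_comm g _ e₂, map_add, map_smul, smul_eq_mul]
    by_cases h1 : sf e₁ (g • e₁) = 0 ∧ sf e₂ (g • e₁) = 0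
    · exact ⟨1, 0, 0, 1, by norm_num, by simp [h1.1], by simp [h1.2],
        fun h => hnz ⟨h1.1, h1.2, by simpa using h.1, by simpa using h.2⟩⟩
    by_cases h11 : sf e₁ (g • e₁) = 0
    · refine ⟨sf e₂ (g • e₂), -sf e₂ (g • e₁), 1, 0, ?_, ?_, by ring, fun h => h1 ⟨by simpa using h.1,
        by simpa using h.2⟩⟩
      · have : sf e₂ (g • e₁) ≠ 0 := fun e => h1 ⟨h11, e⟩
        simpa using this
      · linear_combination hdet
    · refine ⟨sf e₁ (g • e₂), -sf e₁ (g • e₁), 1, 0, by simpa using h11, by ring, ?_,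
        fun h => h1 ⟨by simpa using h.1, by simpa using h.2⟩⟩
      linear_combination -hdet
  set u := x • e₁ + y • e₂ with hu
  set w := x' • e₁ + y' • e₂ with hw
  set D := x * y' - y * x' with hD
  set e := g • u with he
  set z := g • w with hz
  have hez : sf e z = 0 := by rw [he, hz, H48.sf_smul_smul]; simp [hu, hw, H48.sf_self, hh.xx, hh.xx']
  have he1 : e₁ = (y' / D) • u + (-(y / D)) • w := by
    rw [hu, hw]
    match_scalars <;> field_simp <;> rw [hD] <;> ring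
  have he2 : e₂ = (-(x' / D)) • u + (x / D) • w := by
    rw [hu, hw]
    match_scalars <;> field_simp <;> rw [hD] <;> ring
  have hge1 : g • e₁ = (y' / D) • e + (-(y / D)) • z := by
    conv_lhs => rw [he1]
    rw [smul_add, smul_comm g _ u, smul_comm g _ w]
  have hge2 : g • e₂ = (-(x' / D)) • e + (x / D) • z := by
    conv_lhs => rw [he2]
    rw [smul_add, smul_comm g _ u, smul_comm g _ w]
  obtain ⟨α, ε, γ, hdisc, hall⟩ : ∃ α ε γ : F, α * γ - ε * ε ≠ 0 ∧
      ∀ s, qel e z (s * α) (s * ε) (s * γ) ∈ K := by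
    set a := y' / D
    set c := -(y / D)
    set b := -(x' / D)
    set c' := x / D
    refine ⟨-(ν * (a * a)) + b * b, -(ν * (a * c)) + b * c', -(ν * (c * c)) + c' * c', ?_, fun s => ?_⟩
    · have hac : a * c' - b * c = 1 / D := by
        simp only [a, c, b, c']
        field_simp
        rw [hD]; ring
      intro e
      have : ν * ((1 / D) * (1 / D)) = 0 := by
        rw [← hac]
        linear_combination -e
      exact mul_ne_zero hν (mul_ne_zero (one_div_ne_zero hxy) (one_div_ne_zero hxy)) this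
    · have h1 := mul_mem (mul_mem hg (hK _ (d.stab_up s))) (inv_mem hg)
      rw [qel_conj, hge1, hge2] at h1
      have hc := qel_comb hez a c b c' (-(ν * s)) 0 s
      rw [hc] at h1
      convert h1 using 2 <;> ring
  obtain ⟨k₁, k₂, hek⟩ : ∃ k₁ k₂ : F, e = k₁ • e₁ + k₂ • e₂ := by
    refine ⟨sf e f₁, sf e f₂, ?_⟩
    conv_lhs => rw [hh.dec e, hk1, hk2, zero_smul, zero_smul, add_zero, add_zero]
  have hk0 : ¬ (k₁ = 0 ∧ k₂ = 0) := by
    rintro ⟨rfl, rfl⟩
    have hu0 : u = 0 := by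
      rw [zero_smul, zero_smul, add_zero, he] at hek
      exact smul_eq_zero_iff_eq g |>.1 hek
    have ex : x = 0 := by simpa [hu, hh.one_one, hh.two_one] using congrArg (fun v => sf v f₁) hu0
    have ey : y = 0 := by simpa [hu, hh.one_two, hh.two_two] using congrArg (fun v => sf v f₂) hu0
    exact hxy (by rw [hD, ex, ey]; ring)
  have hkz : k₁ * sf e₁ z + k₂ * sf e₂ z = 0 := by
    have := hez
    rw [hek] at this
    simpa using this
  by_cases hN : k₁ * k₁ - ν * (k₂ * k₂) = 0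
  · have hk1' : k₁ ≠ 0 := fun e0 => hk0 ⟨e0, by
      simpa [e0, hν] using hN⟩
    have hk2' : k₂ ≠ 0 := fun e0 => hk1' (by simpa [e0] using hN)
    refine d.no_iso hK hq hne (sub_eq_zero.1 hN) hk1' (z := z) (by rw [← hek]; exact hez) ?_ hdisc
      (by rw [← hek]; simpa using hall 1)
    intro h0
    have h0' := H48.sf_eq_zero_comm h0
    rw [h0', mul_zero, zero_add] at hkz
    exact hout ⟨h0', (mul_eq_zero.1 hkz).resolve_left hk2'⟩
  · obtain ⟨T, hT, T1, T2⟩ := d.exists_torus_elt hN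
    set z₁ := T⁻¹ • z with hz₁
    have hTe : T⁻¹ • e = e₁ := by rw [hek, ← T1, inv_smul_smul]
    have hz10 : sf e₁ z₁ = 0 := by rw [← hTe, hz₁, H48.sf_smul_smul, hez]
    have hδ : sf e₂ z₁ ≠ 0 := by
      intro h0
      have hz' : z = T • z₁ := by rw [hz₁, smul_inv_smul]
      rw [hh.dec z₁, hz10, h0, zero_smul, zero_smul, add_zero, add_zero, smul_add, smul_comm T, smul_comm T,
        T1, T2] at hz'
      exact hout ⟨by rw [hz']; simp [hh.xx, H48.sf_self], by rw [hz']; simp [hh.xx', H48.sf_self]⟩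
    set δ := sf e₂ z₁
    set μ := sf z₁ f₂ / δ with hμ
    set U := qel e₁ e₂ (-(ν * μ)) 0 μ with hU
    have hUe : U • e₁ = e₁ := by rw [hU, qel_smul hh.xx]; simp [hh.xx]
    have hUz : U • z₁ = sf z₁ f₁ • e₁ + δ • f₂ := by
      conv_lhs => rw [hh.dec z₁, hz10]
      rw [hU, qel_smul hh.xx]
      simp [hh.xx, hh.xx', hh.one_two', hh.two_two', hh.two_one']
      match_scalars <;> first | ring1 | (rw [hμ]; field_simp; ring1) | (rw [hμ]; field_simp)
    refine d.no_aniso hK hq hne (α := α + 2 * (sf z₁ f₁ * ε) + sf z₁ f₁ * sf z₁ f₁ * γ)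
      (ε := δ * (ε + sf z₁ f₁ * γ)) (γ := δ * δ * γ) ?_ fun s => ?_
    · intro e0
      apply hdisc
      refine (mul_eq_zero.1 (show δ * δ * (α * γ - ε * ε) = 0 by linear_combination e0)).resolve_left ?_
      exact mul_ne_zero hδ hδ
    · have hUT : U * T⁻¹ ∈ K := mul_mem (hK _ (d.stab_up μ)) (inv_mem (hK T hT))
      have := mul_mem (mul_mem hUT (hall s)) (inv_mem hUT)
      rw [qel_conj, mul_smul, hTe, hUe, mul_smul, ← hz₁, hUz] at this
      have hc := qel_comb hh.one_two 1 0 (sf z₁ f₁) δ (s * α) (s * ε) (s * γ)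
      simp only [one_smul, zero_smul, add_zero] at hc
      rw [hc] at this
      convert this using 2 <;> ring

/-- The overgroup consists of stabiliser elements. -/
theorem stab_of_mem {g : Sp} (hg : g ∈ K) : Stab L g := by
  classical
  have hh := d.hyp
  have hν := d.nu
  set c₁₁ := sf e₁ (g • e₁) with h11
  set c₂₁ := sf e₂ (g • e₁) with h21
  set c₁₂ := sf e₁ (g • e₂) with h12
  set c₂₂ := sf e₂ (g • e₂) with h22
  set Dd := c₁₁ * c₂₂ - c₁₂ * c₂₁ with hDd
  by_cases hd0 : Dd = 0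
  · by_cases hnz : c₁₁ = 0 ∧ c₂₁ = 0 ∧ c₁₂ = 0 ∧ c₂₂ = 0
    · refine d.stab_of_top hK hq hne hg (a := sf (g • e₁) f₁) (c := sf (g • e₁) f₂) (b := sf (g • e₂) f₁)
        (c' := sf (g • e₂) f₂) ?_ ?_
      · conv_lhs => rw [hh.dec (g • e₁), ← h11, ← h21, hnz.1, hnz.2.1, zero_smul, zero_smul, add_zero, add_zero]
      · conv_lhs => rw [hh.dec (g • e₂), ← h12, ← h22, hnz.2.2.1, hnz.2.2.2, zero_smul, zero_smul, add_zero, add_zero]
    · exact (d.no_singular hK hq hne hg hd0 hnz).elim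
  -- the image as a graph
  set φ₁ := g • ((c₂₂ / Dd) • e₁ + (-(c₂₁ / Dd)) • e₂) with hφ₁
  set φ₂ := g • ((-(c₁₂ / Dd)) • e₁ + (c₁₁ / Dd) • e₂) with hφ₂
  have a11 : sf e₁ φ₁ = 1 := by
    simp only [hφ₁, smul_add, smul_comm g _ e₁, smul_comm g _ e₂, map_add, map_smul, smul_eq_mul, ← h11, ← h12]
    field_simp
    rw [hDd]; ring
  have a21 : sf e₂ φ₁ = 0 := by
    simp only [hφ₁, smul_add, smul_comm g _ e₁, smul_comm g _ e₂, map_add, map_smul, smul_eq_mul, ← h21, ← h22]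
    ring
  have a12 : sf e₁ φ₂ = 0 := by
    simp only [hφ₂, smul_add, smul_comm g _ e₁, smul_comm g _ e₂, map_add, map_smul, smul_eq_mul, ← h11, ← h12]
    ring
  have a22 : sf e₂ φ₂ = 1 := by
    simp only [hφ₂, smul_add, smul_comm g _ e₁, smul_comm g _ e₂, map_add, map_smul, smul_eq_mul, ← h21, ← h22]
    field_simp
    rw [hDd]; ring
  have hφφ : sf φ₁ φ₂ = 0 := by
    rw [hφ₁, hφ₂, H48.sf_smul_smul]; simp [H48.sf_self, hh.xx, hh.xx']
  set t₁₁ := sf φ₁ f₁ with ht11
  set t₁₂ := sf φ₁ f₂ with ht12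
  set t₂₂ := sf φ₂ f₂ with ht22
  have hφ₁d : φ₁ = t₁₁ • e₁ + t₁₂ • e₂ + f₁ := by
    conv_lhs => rw [hh.dec φ₁, a11, a21, one_smul, zero_smul, add_zero]
  have hφ₂d : φ₂ = t₁₂ • e₁ + t₂₂ • e₂ + f₂ := by
    have e := hh.dec φ₂
    rw [a12, a22, one_smul, zero_smul, add_zero, ← ht22] at e
    suffices hs : sf φ₂ f₁ = t₁₂ by rwa [hs] at e
    have h0 := hφφ
    rw [hφ₁d, e] at h0
    simp [H48.sf_self, hh.xx, hh.xx', hh.one_one, hh.two_two, hh.one_two, hh.two_one, hh.one_one', hh.two_one',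
      hh.yy] at h0
    linear_combination -h0
  set h₀ := qel e₁ e₂ (-t₁₁) (-t₁₂) (-t₂₂) with hh₀
  have h0e1 : h₀ • e₁ = e₁ := by rw [hh₀, qel_smul hh.xx]; simp [hh.xx]
  have h0e2 : h₀ • e₂ = e₂ := by rw [hh₀, qel_smul hh.xx]; simp [hh.xx']
  have h0f1 : h₀ • f₁ = φ₁ := by
    rw [hh₀, qel_smul hh.xx, hφ₁d]; simp [hh.one_one', hh.two_one']; abel
  have h0f2 : h₀ • f₂ = φ₂ := by
    rw [hh₀, qel_smul hh.xx, hφ₂d]; simp [hh.one_two', hh.two_two']; abel
  have hge1 : g • e₁ = c₁₁ • φ₁ + c₂₁ • φ₂ := by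
    rw [hφ₁, hφ₂, ← smul_comm g c₁₁, ← smul_comm g c₂₁, ← smul_add]
    congr 1
    match_scalars <;> field_simp <;> rw [hDd] <;> ring
  have hge2 : g • e₂ = c₁₂ • φ₁ + c₂₂ • φ₂ := by
    rw [hφ₁, hφ₂, ← smul_comm g c₁₂, ← smul_comm g c₂₂, ← smul_add]
    congr 1
    match_scalars <;> field_simp <;> rw [hDd] <;> ring
  let H := K.comap (MulAut.conj h₀).toMonoidHom
  have hH : ∀ y, y ∈ H ↔ h₀ * y * h₀⁻¹ ∈ K := fun y => Iff.rfl
  have hUH : ∀ s, qel e₁ e₂ (-(ν * s)) 0 s ∈ H := fun s => (hH _).2 (by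
    rw [qel_conj, h0e1, h0e2]; exact hK _ (d.stab_up s))
  set p := -(ν * (c₁₁ * c₁₁)) + c₁₂ * c₁₂ with hp
  set r := -(ν * (c₁₁ * c₂₁)) + c₁₂ * c₂₂ with hr
  set q := -(ν * (c₂₁ * c₂₁)) + c₂₂ * c₂₂ with hqd
  have hG : p * q - r * r ≠ 0 := by
    intro e
    have : ν * (Dd * Dd) = 0 := by rw [hp, hr, hqd] at e; rw [hDd]; linear_combination -e
    exact mul_ne_zero hν (mul_ne_zero hd0 hd0) this
  have hLH : ∀ s, qel f₁ f₂ (s * p) (s * r) (s * q) ∈ H := fun s => (hH _).2 (by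
    have h1 := mul_mem (mul_mem hg (hK _ (d.stab_up s))) (inv_mem hg)
    rw [qel_conj, hge1, hge2, qel_comb hφφ] at h1
    rw [qel_conj, h0f1, h0f2]
    convert h1 using 2 <;> simp only [hp, hr, hqd] <;> ring)
  clear_value p r q
  by_cases hsc : r = 0 ∧ q = -(ν * p)
  · -- the graph is that of a stabiliser element
    have hp0 : p ≠ 0 := fun e => hG (by rw [e, hsc.1]; ring)
    have hL0 : ∀ c, qel f₁ f₂ c 0 (-(ν * c)) ∈ H := fun c => by
      have := hLH (c / p)
      rw [hsc.1, hsc.2, show c / p * -(ν * p) = -(ν * c) by field_simp, div_mul_cancel₀ _ hp0, mul_zero] at this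
      exact this
    obtain ⟨ht, htt⟩ := hq
    set X := qel e₁ e₂ (-(ν * -(t * (t - 1) / ν))) 0 (-(t * (t - 1) / ν)) *
      qel f₁ f₂ (-(1 / t)) 0 (-(ν * -(1 / t))) * qel e₁ e₂ (-(ν * ((t - 1) / ν))) 0 ((t - 1) / ν) *
      qel f₁ f₂ 1 0 (-(ν * 1)) with hX
    have hXH : X ∈ H := mul_mem (mul_mem (mul_mem (hUH _) (hL0 _)) (hUH _)) (hL0 _)
    have hXK : X ∈ K := mul_mem (mul_mem (mul_mem (hK _ (d.stab_up _)) (hK _ (d.stab_low _)))
      (hK _ (d.stab_up _))) (hK _ (d.stab_low _))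
    have hX1 : X • e₁ = t • e₁ := by
      simp only [hX, mul_smul, qel_smul hh.xx, qel_smul hh.yy, map_add, map_smul, LinearMap.add_apply,
        LinearMap.smul_apply, smul_eq_mul, H48.sf_self, hh.xx, hh.xx', hh.yy, hh.yy', hh.one_one, hh.two_two,
        hh.one_two, hh.two_one, hh.one_one', hh.two_two', hh.one_two', hh.two_one']
      match_scalars <;> field_simp <;> ring
    have hX2 : X • e₂ = t • e₂ := by
      simp only [hX, mul_smul, qel_smul hh.xx, qel_smul hh.yy, map_add, map_smul, LinearMap.add_apply,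
        LinearMap.smul_apply, smul_eq_mul, H48.sf_self, hh.xx, hh.xx', hh.yy, hh.yy', hh.one_one, hh.two_two,
        hh.one_two, hh.two_one, hh.one_one', hh.two_two', hh.one_two', hh.two_one']
      match_scalars <;> field_simp <;> ring
    have hY : h₀ * (X * h₀⁻¹ * X⁻¹) ∈ K := by
      have := mul_mem ((hH _).1 hXH) (inv_mem hXK)
      simpa [mul_assoc] using this
    have he : qel (t • e₁) (t • e₂) t₁₁ t₁₂ t₂₂ = qel e₁ e₂ (t * t * t₁₁) (t * t * t₁₂) (t * t * t₂₂) := by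
      have e := qel_comb hh.xx t 0 0 t t₁₁ t₁₂ t₂₂
      simp only [zero_smul, add_zero, zero_add] at e
      rw [e]
      congr 1 <;> ring
    rw [hh₀, qel_inv hh.xx, neg_neg, neg_neg, neg_neg, qel_conj, hX1, hX2, he, qel_mul hh.xx] at hY
    obtain ⟨hr', hp'⟩ := d.up_scalar hK ⟨ht, htt⟩ hne hY
    have ht1 : t * t - 1 ≠ 0 := sub_ne_zero.2 htt
    have e12 : t₁₂ = 0 := (mul_eq_zero.1 (show (t * t - 1) * t₁₂ = 0 by linear_combination hr')).resolve_left ht1
    have e11 : t₁₁ = -(ν * t₂₂) := sub_eq_zero.1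
      ((mul_eq_zero.1 (show (t * t - 1) * (t₁₁ - -(ν * t₂₂)) = 0 by linear_combination hp')).resolve_left ht1)
    have hh₀S : Stab L h₀ := by
      have := d.stab_up (-t₂₂)
      rw [hh₀, e12, e11, neg_neg, neg_zero]
      convert this using 2
      ring
    obtain ⟨w, hw, w1, w2⟩ := d.exists_swap_elt
    refine d.stab_of_image hK ⟨ht, htt⟩ hne hg (hh₀S.mul hw) (a := c₁₁) (c := -(c₂₁ / ν)) (b := c₁₂)
      (c' := -(c₂₂ / ν)) ?_ ?_
    · rw [hge1, mul_smul, w1, h0f1, mul_smul, w2, smul_comm h₀, h0f2, smul_smul,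
        show -(c₂₁ / ν) * -ν = c₂₁ by field_simp]
    · rw [hge2, mul_smul, w1, h0f1, mul_smul, w2, smul_comm h₀, h0f2, smul_smul,
        show -(c₂₂ / ν) * -ν = c₂₂ by field_simp]
  -- otherwise the graph carries a larger algebra
  exfalso
  set M : Matrix (Fin 2) (Fin 2) F := !![ν * p, ν * r; -r, -q] with hM
  let emb : (Fin 2 → F) → (Fin 2 → F) → V := fun x w =>
    x 0 • e₁ + x 1 • e₂ + (p * w 0 + r * w 1) • f₁ + (r * w 0 + q * w 1) • f₂
  have hup : ∀ s x w, qel e₁ e₂ (-(ν * s)) 0 s • emb x w = emb (x + s • (M *ᵥ w)) w := by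
    intro s x w
    simp only [emb, qel_smul hh.xx, map_add, map_smul, LinearMap.add_apply, LinearMap.smul_apply, smul_eq_mul,
      H48.sf_self, hh.xx, hh.xx', hh.one_one', hh.two_two', hh.one_two', hh.two_one', hM, Pi.add_apply,
      Pi.smul_apply, Matrix.mulVec, dotProduct, Fin.sum_univ_two, Matrix.of_apply, Matrix.cons_val',
      Matrix.cons_val_zero, Matrix.cons_val_one, Matrix.cons_val_fin_one]
    module
  have hlo : ∀ s x w, qel f₁ f₂ (s * p) (s * r) (s * q) • emb x w = emb x (w + s • x) := by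
    intro s x w
    simp only [emb, qel_smul hh.yy, map_add, map_smul, LinearMap.add_apply, LinearMap.smul_apply, smul_eq_mul,
      H48.sf_self, hh.yy, hh.yy', hh.one_one, hh.two_two, hh.one_two, hh.two_one, Pi.add_apply, Pi.smul_apply]
    module
  set τ := ν * p - q with hτ
  set δ := ν * (r * r - p * q) with hδ
  have hδ0 : δ ≠ 0 := mul_ne_zero hν fun e => hG (by linear_combination -e)
  by_cases hroot : ∃ l : F, l * l - τ * l + δ = 0
  · obtain ⟨l, hl⟩ := hroot
    have hl0 : l ≠ 0 := fun e => hδ0 (by rw [e] at hl; simpa using hl)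
    set σ := -(2 / l) with hσ
    set y := qel f₁ f₂ (1 * p) (1 * r) (1 * q) * qel e₁ e₂ (-(ν * σ)) 0 σ * qel f₁ f₂ (1 * p) (1 * r) (1 * q)
      with hy
    have hyH : y ∈ H := mul_mem (mul_mem (hLH 1) (hUH σ)) (hLH 1)
    set g' := h₀ * y * h₀⁻¹ with hg'
    have hg'K : g' ∈ K := (hH y).1 hyH
    have hrow : ∀ v, sf e₁ (g' • v) = sf e₁ (y • h₀⁻¹ • v) ∧ sf e₂ (g' • v) = sf e₂ (y • h₀⁻¹ • v) := fun v => by
      constructor
      · rw [hg', mul_smul, mul_smul, ← H48.sf_smul_smul h₀ e₁ (y • _), h0e1]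
      · rw [hg', mul_smul, mul_smul, ← H48.sf_smul_smul h₀ e₂ (y • _), h0e2]
    have hi1 : h₀⁻¹ • e₁ = emb ![1, 0] 0 := by
      rw [inv_smul_eq_iff]
      simp [emb, h0e1]
    have hi2 : h₀⁻¹ • e₂ = emb ![0, 1] 0 := by
      rw [inv_smul_eq_iff]
      simp [emb, h0e2]
    have hval : ∀ x, sf e₁ (y • emb x 0) = p * ((2 + σ * (ν * p)) * x 0 + σ * (ν * r) * x 1) +
        r * (-(σ * r) * x 0 + (2 - σ * q) * x 1) ∧ sf e₂ (y • emb x 0) =
        r * ((2 + σ * (ν * p)) * x 0 + σ * (ν * r) * x 1) + q * (-(σ * r) * x 0 + (2 - σ * q) * x 1) := by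
      intro x
      rw [hy, mul_smul, mul_smul, hlo, hup, hlo]
      constructor <;>
        simp only [emb, map_add, map_smul, smul_eq_mul, H48.sf_self, hh.xx, hh.xx', hh.one_one, hh.two_two,
          hh.one_two, hh.two_one, hM, Pi.add_apply, Pi.smul_apply, Pi.zero_apply, Matrix.mulVec, dotProduct,
          Fin.sum_univ_two, Matrix.of_apply, Matrix.cons_val', Matrix.cons_val_zero, Matrix.cons_val_one,
          Matrix.cons_val_fin_one] <;> ring
    refine d.no_singular hK hq hne hg'K ?_ ?_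
    · rw [(hrow e₁).1, (hrow e₁).2, (hrow e₂).1, (hrow e₂).2, hi1, hi2, (hval _).1, (hval _).2, (hval _).1,
        (hval _).2]
      have hdet : (2 + σ * (ν * p)) * (2 - σ * q) + σ * (ν * r) * (σ * r) = 0 := by
        have e : (2 + σ * (ν * p)) * (2 - σ * q) + σ * (ν * r) * (σ * r) =
            4 / (l * l) * (l * l - τ * l + δ) := by
          rw [hσ, hτ, hδ]
          field_simp
          ring
        rw [e, hl, mul_zero]
      simp
      linear_combination (p * q - r * r) * hdet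
    · rw [(hrow e₁).1, (hrow e₁).2, (hrow e₂).1, (hrow e₂).2, hi1, hi2, (hval _).1, (hval _).2, (hval _).1,
        (hval _).2]
      simp
      intro a1 a2 a3 a4
      apply hsc
      have hσ0 : σ ≠ 0 := neg_ne_zero.2 (div_ne_zero d.two hl0)
      have k1 : (p * q - r * r) * (2 + σ * (ν * p)) = 0 := by linear_combination q * a1 - r * a2
      have k2 : (p * q - r * r) * (σ * r) = 0 := by linear_combination r * a1 - p * a2
      have k4 : (p * q - r * r) * (2 - σ * q) = 0 := by linear_combination p * a4 - r * a3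
      have e1 := (mul_eq_zero.1 k1).resolve_left hG
      have e2 := (mul_eq_zero.1 ((mul_eq_zero.1 k2).resolve_left hG)).resolve_left hσ0
      have e4 := (mul_eq_zero.1 k4).resolve_left hG
      exact ⟨e2, mul_left_cancel₀ hσ0 (by linear_combination e1 - e4)⟩
  -- irreducible case
  simp only [not_exists] at hroot
  set π : F[X] := Polynomial.X ^ 2 + Polynomial.C (-τ) * Polynomial.X + Polynomial.C δ with hπ
  have hdeg : π.natDegree = 2 := by
    rw [hπ]; compute_degree!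
  haveI hirr : Fact (Irreducible π) := ⟨by
    rw [Polynomial.irreducible_iff_roots_eq_zero_of_degree_le_three (by omega) (by omega)]
    refine Multiset.eq_zero_of_forall_notMem fun l hl => hroot l ?_
    have := Polynomial.isRoot_of_mem_roots hl
    rw [hπ] at this
    simp [Polynomial.IsRoot] at this
    linear_combination this⟩
  haveI : Module.Finite F (AdjoinRoot π) := (AdjoinRoot.powerBasis hirr.out.ne_zero).finite
  haveI : Finite (AdjoinRoot π) := Module.finite_of_finite F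
  haveI : Fintype (AdjoinRoot π) := Fintype.ofFinite _
  have hCH : Polynomial.aeval M π = 0 := by
    rw [hπ]
    simp only [map_add, map_mul, Polynomial.aeval_X, Polynomial.aeval_C, map_pow, sq]
    ext i j
    fin_cases i <;> fin_cases j <;>
      simp [hM, Matrix.mul_apply, Fin.sum_univ_two, Algebra.algebraMap_eq_smul_one, hτ, hδ] <;> ring
  let ρ : AdjoinRoot π →+* Matrix (Fin 2) (Fin 2) F :=
    Ideal.Quotient.lift (Ideal.span {π}) (Polynomial.aeval M).toRingHom fun P hP => by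
      obtain ⟨Q, rfl⟩ := Ideal.mem_span_singleton.1 hP
      simp [hCH]
  have hρmk : ∀ P : F[X], ρ (AdjoinRoot.mk π P) = Polynomial.aeval M P := fun P => rfl
  have hρC : ∀ c : F, ρ (algebraMap F (AdjoinRoot π) c) = c • 1 := fun c => by
    rw [AdjoinRoot.algebraMap_eq, ← AdjoinRoot.mk_C, hρmk, Polynomial.aeval_C, Algebra.algebraMap_eq_smul_one]
  have hρθ : ρ (AdjoinRoot.root π) = M := by rw [← AdjoinRoot.mk_X, hρmk, Polynomial.aeval_X]
  have hlam : AdjoinRoot.root π ∉ (algebraMap F (AdjoinRoot π)).range := by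
    rintro ⟨c, hc⟩
    have h := congrArg ρ hc
    rw [hρC, hρθ] at h
    have h00 := congrFun (congrFun h 0) 0
    have h01 := congrFun (congrFun h 0) 1
    have h11' := congrFun (congrFun h 1) 1
    simp [hM] at h00 h01 h11'
    exact hsc ⟨(h01.resolve_left hν), by linear_combination h11' - h00⟩
  have hρof : ∀ c : F, ρ (AdjoinRoot.of π c) = c • 1 := hρC
  let G : Subgroup SL(2, AdjoinRoot π) :=
    { carrier := {m | ∃ y ∈ H, ∀ x w, y • emb x w =
        emb (ρ (m.1 0 0) *ᵥ x + ρ (m.1 0 1) *ᵥ w) (ρ (m.1 1 0) *ᵥ x + ρ (m.1 1 1) *ᵥ w)}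
      one_mem' := ⟨1, one_mem H, fun x w => by simp⟩
      mul_mem' := fun {m m'} ⟨y, hy, hyv⟩ ⟨y', hy', hyv'⟩ => ⟨y * y', mul_mem hy hy', fun x w => by
        rw [mul_smul, hyv', hyv, Matrix.SpecialLinearGroup.coe_mul]
        simp only [Matrix.mul_apply, Fin.sum_univ_two, map_add, map_mul, Matrix.mulVec_add, Matrix.add_mulVec,
          Matrix.mulVec_mulVec]
        congr 1 <;> abel⟩
      inv_mem' := fun {m} ⟨y, hy, hyv⟩ => ⟨y⁻¹, inv_mem hy, fun x w => by
        rw [inv_smul_eq_iff, hyv]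
        have h : m.1 * (m⁻¹).1 = 1 := by
          rw [← Matrix.SpecialLinearGroup.coe_mul, mul_inv_cancel, Matrix.SpecialLinearGroup.coe_one]
        have e : ∀ i j, ρ (m.1 i 0) * ρ ((m⁻¹).1 0 j) + ρ (m.1 i 1) * ρ ((m⁻¹).1 1 j) =
            if i = j then 1 else 0 := fun i j => by
          rw [← map_mul, ← map_mul, ← map_add, ← Fin.sum_univ_two (fun k => m.1 i k * (m⁻¹).1 k j),
            ← Matrix.mul_apply, h, Matrix.one_apply]
          split_ifs <;> simp
        simp only [Matrix.mulVec_add, Matrix.mulVec_mulVec]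
        rw [add_add_add_comm, ← Matrix.add_mulVec, ← Matrix.add_mulVec, e, e]
        conv_rhs => arg 2; rw [add_add_add_comm, ← Matrix.add_mulVec, ← Matrix.add_mulVec, e, e]
        simp⟩ }
  have hU' : ∀ c : F, H37.upper2 (algebraMap F (AdjoinRoot π) c * AdjoinRoot.root π) ∈ G := fun c =>
    ⟨_, hUH c, fun x w => by
      rw [hup]
      simp [H37.upper2, hρof, hρC, hρθ, Matrix.smul_mulVec]⟩
  have hL' : ∀ c : F, H37.lower2 (algebraMap F (AdjoinRoot π) c) ∈ G := fun c =>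
    ⟨_, hLH c, fun x w => by
      rw [hlo]
      simp only [H37.lower2, Matrix.of_apply, Matrix.cons_val', Matrix.cons_val_zero, Matrix.cons_val_one,
        Matrix.cons_val_fin_one, map_one, map_zero, hρC, Matrix.one_mulVec, Matrix.zero_mulVec, Matrix.smul_mulVec,
        add_zero, add_comm w]⟩
  rcases H49.exists_torus d.two hlam G hU' hL' with ⟨m, ⟨y, hyH, hyv⟩, h10, h00⟩ | ⟨h3, -⟩
  swap
  · -- three elements
    obtain ⟨ht, htt⟩ := hq
    have h := FiniteField.pow_card_sub_one_eq_one t ht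
    rw [h3] at h
    exact htt (by linear_combination h)
  -- the torus element preserves the Lagrangian
  obtain ⟨P, hP⟩ := AdjoinRoot.mk_surjective (m.1 0 0)
  set α := ρ (m.1 0 0) with hα
  obtain ⟨a, b, hab⟩ : ∃ a b : F, m.1 0 0 = algebraMap F _ a + algebraMap F _ b * AdjoinRoot.root π := by
    obtain ⟨Q, hQ, hm⟩ := (AdjoinRoot.powerBasis hirr.out.ne_zero).exists_eq_aeval (m.1 0 0)
    rw [AdjoinRoot.powerBasis_dim, hdeg] at hQ
    refine ⟨Q.coeff 0, Q.coeff 1, ?_⟩
    rw [hm, AdjoinRoot.powerBasis_gen]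
    conv_lhs => rw [Polynomial.eq_X_add_C_of_natDegree_le_one (show Q.natDegree ≤ 1 by omega)]
    simp [add_comm]
  have hαe : α = a • 1 + b • M := by
    rw [hα, hab, map_add, map_mul, hρC, hρC, hρθ, smul_mul_assoc, one_mul]
  set g' := h₀ * y * h₀⁻¹ with hg'
  have hg'K : g' ∈ K := (hH y).1 hyH
  have hgtop : ∀ x, g' • (x 0 • e₁ + x 1 • e₂) = (α *ᵥ x) 0 • e₁ + (α *ᵥ x) 1 • e₂ := by
    intro x
    have hfix : ∀ a b : F, h₀ • (a • e₁ + b • e₂) = a • e₁ + b • e₂ := fun a b => by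
      rw [smul_add, smul_comm h₀, smul_comm h₀, h0e1, h0e2]
    have hi : h₀⁻¹ • (x 0 • e₁ + x 1 • e₂) = emb x 0 := by
      rw [inv_smul_eq_iff]
      simp only [emb, Pi.zero_apply, mul_zero, add_zero, zero_smul]
      rw [hfix]
    rw [hg', mul_smul, mul_smul, hi, hyv, h10, map_zero]
    simp only [Matrix.zero_mulVec, Matrix.mulVec_zero, add_zero, zero_add]
    simp only [emb, Pi.zero_apply, mul_zero, add_zero, zero_smul]
    rw [hfix]
  have k1 : g' • e₁ = α 0 0 • e₁ + α 1 0 • e₂ := by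
    simpa [Matrix.mulVec, dotProduct, Fin.sum_univ_two] using hgtop ![1, 0]
  have k2 : g' • e₂ = α 0 1 • e₁ + α 1 1 • e₂ := by
    simpa [Matrix.mulVec, dotProduct, Fin.sum_univ_two] using hgtop ![0, 1]
  have hS := d.stab_of_top hK hq hne hg'K k1 k2
  have hLv : L (g' • e₁) = (ν * α 1 0) • e₁ + α 0 0 • e₂ := by
    rw [k1, map_add, map_smul, map_smul, d.Le₁, d.Le₂]; module
  have hmain : b = 0 ∨ 2 * a + b * τ = 0 := by
    rcases hS with hS | hS <;> have h := hS e₁ <;> rw [d.Le₁, k2, hLv] at h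
    · left
      have c1 := congrArg (fun v => sf v f₁) h
      have c2 := congrArg (fun v => sf v f₂) h
      simp [hh.one_one, hh.two_two, hh.one_two, hh.two_one, hαe, hM] at c1 c2
      by_contra hb
      apply hsc
      refine ⟨?_, ?_⟩
      · exact (mul_eq_zero.1 (show (2 * ν * b) * r = 0 by linear_combination c1)).resolve_left
          (mul_ne_zero (mul_ne_zero d.two hν) hb)
      · exact mul_left_cancel₀ hb (by linear_combination -c2)
    · right
      have c2 := congrArg (fun v => sf v f₂) h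
      simp [hh.one_one, hh.two_two, hh.one_two, hh.two_one, hαe, hM] at c2
      rw [hτ]; linear_combination c2
  apply h00
  refine ⟨a * a - b * b * δ, ?_⟩
  have hθ : AdjoinRoot.root π ^ 2 + -(algebraMap F (AdjoinRoot π) τ) * AdjoinRoot.root π +
      algebraMap F (AdjoinRoot π) δ = 0 := by
    have := AdjoinRoot.eval₂_root π
    simp only [hπ, Polynomial.eval₂_add, Polynomial.eval₂_mul, Polynomial.eval₂_C, Polynomial.eval₂_X_pow,
      Polynomial.eval₂_X, map_neg] at this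
    simpa [AdjoinRoot.algebraMap_eq] using this
  have hz : algebraMap F (AdjoinRoot π) (b * (2 * a + b * τ)) = 0 := by
    rcases hmain with e | e <;> rw [e] <;> simp
  rw [hab, map_sub, map_mul, map_mul, map_mul]
  simp only [map_mul, map_add, map_ofNat] at hz
  linear_combination -(AdjoinRoot.root π) * hz - (algebraMap F (AdjoinRoot π) b) ^ 2 * hθ

end Frame

end H42.SpFour
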