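import Cfsg.Agent.H42.SpFourTensor

/-!
An element preserving the first Lagrangian of a frame is in the stabiliser or generates everything with it; the
degenerate position of the image of the first Lagrangian.
-/

set_option autoImplicit false
set_option linter.unusedSectionVars false

namespace H42.SpFour

open Matrix
open H48 (sf tv)
open H49 (sroot IsCtr)

variable {F : Type*} [Field F] [Fintype F]

local notation "V" => (Fin 2 ⊕ Fin 2 → F)
local notation "Sp" => Matrix.symplecticGroup (Fin 2) F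

namespace Frame

variable {L : (Fin 2 ⊕ Fin 2 → F) →ₗ[F] (Fin 2 ⊕ Fin 2 → F)} {ν : F} {e₁ e₂ f₁ f₂ : Fin 2 ⊕ Fin 2 → F}
  (d : Frame L ν e₁ e₂ f₁ f₂)
  {K : Subgroup (Matrix.symplecticGroup (Fin 2) F)} (hK : ∀ g, Stab L g → g ∈ K)
  {t : F} (hq : t ≠ 0 ∧ t * t ≠ 1) (hne : K ≠ ⊤)
include d hK hq hne

/-- Only scalar elements fix the first Lagrangian. -/
theorem up_scalar {p r s : F} (h : qel e₁ e₂ p r s ∈ K) : r = 0 ∧ p = -(ν * s) := by
  by_contra hcon
  refine hne (d.eq_top_of_up hK hq h ?_)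
  by_cases hr : r = 0
  · exact Or.inr fun e => hcon ⟨hr, by linear_combination e⟩
  · exact Or.inl hr

theorem stab_of_up {p r s : F} (h : qel e₁ e₂ p r s ∈ K) : Stab L (qel e₁ e₂ p r s) := by
  obtain ⟨hr, hp⟩ := d.up_scalar hK hq hne h
  rw [hr, hp]
  exact d.stab_up s

/-- Elements of the group preserving the first Lagrangian are in the stabiliser. -/
theorem stab_of_top {g : Sp} (hg : g ∈ K) {a b c c' : F} (h1 : g • e₁ = a • e₁ + c • e₂)
    (h2 : g • e₂ = b • e₁ + c' • e₂) : Stab L g := by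
  have hh := d.hyp
  have hν := d.nu
  -- the determinant
  have hdet : a * c' - b * c ≠ 0 := by
    intro hd
    have k1 : g • (c' • e₁ - c • e₂) = g • (0 : V) := by
      rw [smul_sub, smul_comm g c', smul_comm g c, h1, h2, smul_zero]
      linear_combination (norm := module) hd • e₁
    have k2 : g • (b • e₁ - a • e₂) = g • (0 : V) := by
      rw [smul_sub, smul_comm g b, smul_comm g a, h1, h2, smul_zero]
      linear_combination (norm := module) -hd • e₂
    have k1' := congrArg (fun v => sf v f₂) ((smul_left_cancel_iff g).1 k1)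
    have k2' := congrArg (fun v => sf v f₂) ((smul_left_cancel_iff g).1 k2)
    simp [hh.one_two, hh.two_two] at k1' k2'
    have hg1 : g • e₁ = g • (0 : V) := by rw [h1, k1', k2', zero_smul, zero_smul, smul_zero, add_zero]
    have := congrArg (fun v => sf v f₁) ((smul_left_cancel_iff g).1 hg1)
    simp [hh.one_one] at this
  -- the conjugated unipotent element
  have hc := mul_mem (mul_mem hg (hK _ (d.stab_up 1))) (inv_mem hg)
  rw [qel_conj, h1, h2, qel_comb hh.xx] at hc
  obtain ⟨e1, e2⟩ := d.up_scalar hK hq hne hc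
  have E1 : b * b + ν * (c' * c') = ν * (a * a) + ν * ν * (c * c) := by linear_combination e2
  have E2 : b * c' = ν * (a * c) := by linear_combination e1
  -- commuting or anticommuting on the Lagrangian
  have hAB : (c' = a ∧ b = ν * c) ∨ (c' = -a ∧ b = -(ν * c)) := by
    have s1 : (b - ν * c) * (c' + a) + (b + ν * c) * (c' - a) = 0 := by linear_combination 2 * E2
    have s2 : (b - ν * c) * (b + ν * c) + ν * ((c' - a) * (c' + a)) = 0 := by linear_combination E1
    set A₁ := b - ν * c with hA₁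
    set A₂ := c' - a with hA₂
    set B₁ := b + ν * c with hB₁
    set B₂ := c' + a with hB₂
    have hdd : ν * (B₂ * B₂ - A₂ * A₂) - (B₁ * B₁ - A₁ * A₁) ≠ 0 := by
      rw [hA₁, hA₂, hB₁, hB₂]
      intro e
      apply hdet
      have : (2 * 2 * ν : F) * (a * c' - b * c) = 0 := by linear_combination e
      exact (mul_eq_zero.1 this).resolve_left (mul_ne_zero (mul_ne_zero d.two d.two) hν)
    by_cases hA : A₁ = 0 ∧ A₂ = 0
    · exact Or.inl ⟨sub_eq_zero.1 hA.2, sub_eq_zero.1 hA.1⟩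
    right
    by_cases hD : A₁ * A₁ - ν * (A₂ * A₂) = 0
    · exfalso
      have hA₂0 : A₂ ≠ 0 := fun e => hA ⟨by
        rw [e, mul_zero, mul_zero, sub_zero, mul_self_eq_zero] at hD
        exact hD, e⟩
      have k : (A₂ * A₂) * (B₁ * B₁ - ν * (B₂ * B₂)) = 0 := by
        linear_combination (B₁ * A₂ - A₁ * B₂) * s1 + (B₂ * B₂) * hD
      have k' := (mul_eq_zero.1 k).resolve_left (mul_ne_zero hA₂0 hA₂0)
      exact hdd (by linear_combination hD - k')
    have k1 : (A₁ * A₁ - ν * (A₂ * A₂)) * B₂ = 0 := by linear_combination A₁ * s1 - A₂ * s2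
    have k2 : (A₁ * A₁ - ν * (A₂ * A₂)) * B₁ = 0 := by linear_combination A₁ * s2 - ν * A₂ * s1
    exact ⟨eq_neg_of_add_eq_zero_left ((mul_eq_zero.1 k1).resolve_left hD),
      eq_neg_of_add_eq_zero_left ((mul_eq_zero.1 k2).resolve_left hD)⟩
  have hN : a * a - ν * (c * c) ≠ 0 := by
    intro e
    rcases hAB with ⟨ha, hb⟩ | ⟨ha, hb⟩ <;> apply hdet <;> rw [ha, hb]
    · linear_combination e
    · linear_combination -e
  obtain ⟨T, hT, T1, T2⟩ := d.exists_torus_elt hN
  obtain ⟨h, hh', k1, k2⟩ : ∃ h : Sp, Stab L h ∧ h • e₁ = g • e₁ ∧ h • e₂ = g • e₂ := by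
    rcases hAB with ⟨ha, hb⟩ | ⟨ha, hb⟩
    · exact ⟨T, hT, by rw [T1, h1], by rw [T2, h2, ha, hb]⟩
    · obtain ⟨R, hR, R1, R2, -, -⟩ := d.exists_refl_elt
      refine ⟨T * R, hT.mul hR, by rw [mul_smul, R1, T1, h1], ?_⟩
      rw [mul_smul, R2, smul_neg, T2, h2, ha, hb]
      module
  obtain ⟨p, r, s, he⟩ := hh.eq_qel (g := h⁻¹ * g) (by rw [mul_smul, ← k1, inv_smul_smul])
    (by rw [mul_smul, ← k2, inv_smul_smul])
  have hmem : qel e₁ e₂ p r s ∈ K := he ▸ mul_mem (inv_mem (hK h hh')) hg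
  have := hh'.mul (d.stab_of_up hK hq hne hmem)
  rwa [← he, mul_inv_cancel_left] at this

/-- An element whose first Lagrangian goes to that of a stabiliser element. -/
theorem stab_of_image {g h : Sp} (hg : g ∈ K) (hh' : Stab L h) {a b c c' : F}
    (h1 : g • e₁ = a • h • e₁ + c • h • e₂) (h2 : g • e₂ = b • h • e₁ + c' • h • e₂) : Stab L g := by
  have := hh'.mul (d.stab_of_top hK hq hne (g := h⁻¹ * g) (mul_mem (inv_mem (hK h hh')) hg)
    (by rw [mul_smul, h1, smul_add, smul_comm h⁻¹ a, smul_comm h⁻¹ c, inv_smul_smul, inv_smul_smul])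
    (by rw [mul_smul, h2, smul_add, smul_comm h⁻¹ b, smul_comm h⁻¹ c', inv_smul_smul, inv_smul_smul]))
  rwa [mul_inv_cancel_left] at this

/-- The image of the first Lagrangian meeting it in a singular line: no such element. -/
theorem no_iso {k₁ k₂ : F} (hk : k₁ * k₁ = ν * (k₂ * k₂)) (hk1 : k₁ ≠ 0) {z : V}
    (hz : sf (k₁ • e₁ + k₂ • e₂) z = 0) (hz1 : sf z e₁ ≠ 0) {α ε γ : F}
    (hdisc : α * γ - ε * ε ≠ 0) (h : qel (k₁ • e₁ + k₂ • e₂) z α ε γ ∈ K) : False := by
  have hh := d.hyp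
  set e := k₁ • e₁ + k₂ • e₂ with he
  have hk2 : k₂ ≠ 0 := fun h0 => by
    rw [h0, mul_zero, mul_zero, mul_self_eq_zero] at hk
    exact hk1 hk
  set w₁ := sf z e₁ with hw1d
  set w₂ := sf z e₂ with hw2d
  have hw : k₁ * w₁ + k₂ * w₂ = 0 := by
    have := H48.sf_eq_zero_comm hz
    simpa [he] using this
  clear_value w₁ w₂
  -- a unipotent element of the stabiliser shears the image
  have hmove : ∀ s : F, qel e z (α + 2 * (s * ε) + s * s * γ) (ε + s * γ) γ ∈ K := by
    intro s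
    obtain ⟨μ, hμ⟩ : ∃ μ, qel e₁ e₂ (-(ν * μ)) 0 μ • z = s • e + (1 : F) • z := by
      refine ⟨-(s * k₁) / (ν * w₁), ?_⟩
      rw [qel_smul hh.xx, he, one_smul, ← hw1d, ← hw2d]
      have hν := d.nu
      match_scalars <;> field_simp
      all_goals first
        | ring1
        | (refine mul_left_cancel₀ hk1 ?_; linear_combination (-(s * ν * k₂)) * hw + (-(s * w₂)) * hk)
    have he' : qel e₁ e₂ (-(ν * μ)) 0 μ • e = (1 : F) • e + (0 : F) • z := by
      rw [qel_smul hh.xx]
      simp [he, hh.xx, hh.xx', H48.sf_self]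
    have := mul_mem (mul_mem (hK _ (d.stab_up μ)) h) (inv_mem (hK _ (d.stab_up μ)))
    rw [qel_conj, hμ, he', qel_comb hz] at this
    convert this using 2 <;> ring
  have hsub : ∀ s, qel e z (2 * (s * ε) + s * s * γ) (s * γ) 0 ∈ K := fun s => by
    have := mul_mem (hmove s) (inv_mem h)
    rw [qel_inv hz, qel_mul hz] at this
    convert this using 2 <;> ring
  obtain ⟨c, hc, hmem⟩ : ∃ c : F, c ≠ 0 ∧ qel e z c 0 0 ∈ K := by
    by_cases hγ : γ = 0
    · refine ⟨2 * ε, mul_ne_zero d.two fun e => hdisc (by rw [e, hγ]; ring), ?_⟩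
      simpa [hγ] using hsub 1
    · refine ⟨2 * γ, mul_ne_zero d.two hγ, ?_⟩
      have := mul_mem (hsub 1) (hsub (-1))
      rw [qel_mul hz] at this
      convert this using 2 <;> ring
  rw [← tv_eq_qel hz, tv_eq_qel (x := e) (y := (0 : F) • e₁ + (0 : F) • e₂) (by simp), qel_comb hh.xx] at hmem
  have := (d.up_scalar hK hq hne hmem).1
  simp [hc, hk1, hk2] at this

/-- The image of the first Lagrangian meeting it in an anisotropic line: no such element. -/
theorem no_aniso {α ε γ : F} (hdisc : α * γ - ε * ε ≠ 0)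
    (hall : ∀ c, qel e₁ f₂ (c * α) (c * ε) (c * γ) ∈ K) : False := by
  have hh := d.hyp
  have hν := d.nu
  have h2 := d.two
  have hef : sf e₁ f₂ = 0 := hh.one_two
  have h : qel e₁ f₂ α ε γ ∈ K := by simpa using hall 1
  by_cases hε : ε = 0
  swap
  · obtain ⟨R, hR, R1, -, -, R4⟩ := d.exists_refl_elt
    have e := qel_comb hef 1 0 0 (-1) α ε γ
    simp only [one_smul, zero_smul, add_zero, zero_add, neg_one_smul] at e
    have h1 := mul_mem (mul_mem (hK R hR) h) (inv_mem (hK R hR))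
    rw [qel_conj, R1, R4, e] at h1
    have hs : qel e₁ f₂ 0 (2 * ε) 0 ∈ K := by
      have := mul_mem h (inv_mem h1)
      rw [qel_inv hef, qel_mul hef] at this
      convert this using 2 <;> ring
    -- shear the partner
    have h3 := mul_mem (mul_mem (hK _ (d.stab_up 1)) hs) (inv_mem (hK _ (d.stab_up 1)))
    rw [qel_conj] at h3
    have u1 : qel e₁ e₂ (-(ν * 1)) 0 1 • e₁ = e₁ := by rw [qel_smul hh.xx]; simp [hh.xx]
    have u2 : qel e₁ e₂ (-(ν * 1)) 0 1 • f₂ = f₂ - e₂ := by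
      rw [qel_smul hh.xx]; simp [hh.one_two', hh.two_two', sub_eq_add_neg]
    rw [u1, u2] at h3
    have h4 := mul_mem h3 (inv_mem hs)
    have he : qel e₁ (f₂ - e₂) 0 (2 * ε) 0 * (qel e₁ f₂ 0 (2 * ε) 0)⁻¹ =
        qel e₁ e₂ (-(2 * ε * (2 * ε))) (-(2 * ε)) 0 := by
      refine H48.sp_ext fun v => ?_
      rw [qel_inv hef, mul_smul, qel_smul (by simp [hh.xx, hef]), qel_smul hef, qel_smul hh.xx]
      simp only [map_add, map_sub, map_smul, LinearMap.add_apply, LinearMap.smul_apply, smul_eq_mul, H48.sf_self,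
        hef, hh.xx, hh.one_two', hh.two_two']
      match_scalars <;> ring
    rw [he] at h4
    exact mul_ne_zero h2 hε (neg_eq_zero.1 (d.up_scalar hK hq hne h4).1)
  subst hε
  have hγ : γ ≠ 0 := fun e => hdisc (by rw [e]; ring)
  -- an element fixing `e₁` and scaling `e₂`
  set y₁ := qel e₁ f₂ (γ⁻¹ * α) (γ⁻¹ * 0) (γ⁻¹ * γ) with hy₁
  set x := qel e₁ e₂ (-(ν * (1 - t))) 0 (1 - t) with hx
  set y₂ := qel e₁ f₂ (-(γ * t)⁻¹ * α) (-(γ * t)⁻¹ * 0) (-(γ * t)⁻¹ * γ) with hy₂
  have hgK : y₂ * x * y₁ ∈ K := mul_mem (mul_mem (hall _) (hK _ (d.stab_up _))) (hall _)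
  have g1 : (y₂ * x * y₁) • e₁ = e₁ := by
    simp only [mul_smul, hy₁, hx, hy₂, qel_smul hef, qel_smul hh.xx, H48.sf_self, hef, hh.xx, mul_zero, add_zero,
      zero_smul]
  have g2 : (y₂ * x * y₁) • e₂ = (t : F) • e₂ := by
    have ht := hq.1
    simp only [mul_smul, hy₁, hx, hy₂, qel_smul hef, qel_smul hh.xx, map_add, map_smul, LinearMap.add_apply,
      LinearMap.smul_apply, smul_eq_mul, H48.sf_self, hh.xx', hh.two_two, hh.two_two', hh.one_two', hh.one_two]
    match_scalars <;> field_simp <;> ring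
  have h1 := mul_mem (mul_mem hgK (hK _ (d.stab_up 1))) (inv_mem hgK)
  have e := qel_comb hh.xx 1 0 0 t (-(ν * 1)) 0 1
  simp only [one_smul, zero_smul, add_zero, zero_add] at e
  rw [qel_conj, g1, g2, e] at h1
  have h5 := (d.up_scalar hK hq hne h1).2
  exact hq.2 (mul_left_cancel₀ hν (by linear_combination h5))

end Frame

end H42.SpFour
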