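import Cfsg.Agent.H42.SpFourCore
import Cfsg.Agent.H49.StabMax
import Cfsg.Agent.H49.RegularCentralizer

/-!
Clause (3) of the four-dimensional symplectic bundle: the stabiliser of two complementary Lagrangians.
-/

set_option autoImplicit false
open Cfsg
open H48 (sf tv)

namespace H42.SpFourPair

/-- The stabiliser of a pair of complementary Lagrangians in the four-dimensional symplectic group. -/
theorem maximal {F : Type*} [Field F] [Fintype F] (hodd : Odd (Fintype.card F)) (hq5 : 5 ≤ Fintype.card F)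
    (D : Fin 2 → Submodule F (Fin 2 ⊕ Fin 2 → F)) (hD : Cfsg.Geo.IsMDecomposition 2 D)
    (hts : ∀ i, Cfsg.Geo.IsTotallySingularFor (Cfsg.sympForm 2 F) (D i)) :
    Cfsg.Geo.IsMaximalIn (Cfsg.spGL 2 F) (Cfsg.Geo.decompositionStabilizer D ⊓ Cfsg.spGL 2 F) := by
  classical
  have h2 : (2 : F) ≠ 0 := H49.two_ne_zero_of_odd hodd
  have hts' : ∀ i, ∀ x ∈ D i, ∀ y ∈ D i, sf x y = 0 := fun i x hx y hy => by
    rw [← H48.sympForm_eq_sf]; exact hts i x hx y hy
  have hcompl : IsCompl (D 0) (D 1) := by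
    refine ⟨hD.indep.pairwiseDisjoint Fin.zero_ne_one, codisjoint_iff.2 (eq_top_iff.2 ?_)⟩
    rw [← hD.iSup_eq_top]
    refine iSup_le fun i => ?_
    fin_cases i
    · exact le_sup_left
    · exact le_sup_right
  -- the involution with the two subspaces as eigenspaces
  let L : (Fin 2 ⊕ Fin 2 → F) →ₗ[F] (Fin 2 ⊕ Fin 2 → F) :=
    LinearMap.ofIsCompl hcompl (D 0).subtype (-(D 1).subtype)
  have hL0 : ∀ a ∈ D 0, L a = a := fun a ha => LinearMap.ofIsCompl_left_apply hcompl ⟨a, ha⟩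
  have hL1 : ∀ b ∈ D 1, L b = -b := fun b hb => LinearMap.ofIsCompl_right_apply hcompl ⟨b, hb⟩
  have hdec : ∀ x, ∃ a ∈ D 0, ∃ b ∈ D 1, x = a + b := fun x => by
    obtain ⟨a, ha, b, hb, e⟩ := Submodule.mem_sup.1 (hcompl.sup_eq_top ▸ Submodule.mem_top (x := x))
    exact ⟨a, ha, b, hb, e.symm⟩
  have hLdec : ∀ a ∈ D 0, ∀ b ∈ D 1, L (a + b) = a - b := fun a ha b hb => by
    rw [map_add, hL0 a ha, hL1 b hb, sub_eq_add_neg]
  have hsq : ∀ x, L (L x) = (1 : F) • x := fun x => by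
    obtain ⟨a, ha, b, hb, rfl⟩ := hdec x
    rw [hLdec a ha b hb, map_sub, hL0 a ha, hL1 b hb, sub_neg_eq_add, one_smul]
  have hskew : ∀ x y, sf (L x) y = - sf x (L y) := fun x y => by
    obtain ⟨a, ha, b, hb, rfl⟩ := hdec x
    obtain ⟨a', ha', b', hb', rfl⟩ := hdec y
    rw [hLdec a ha b hb, hLdec a' ha' b' hb']
    simp only [map_add, map_sub, LinearMap.add_apply, LinearMap.sub_apply, hts' 0 a ha a' ha', hts' 1 b hb b' hb']
    ring
  have hfix0 : ∀ x, L x = x → x ∈ D 0 := fun x hx => by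
    obtain ⟨a, ha, b, hb, rfl⟩ := hdec x
    rw [hLdec a ha b hb] at hx
    have : (2 : F) • b = 0 := by linear_combination (norm := module) -hx
    rwa [(smul_eq_zero.1 this).resolve_left h2, add_zero]
  have hfix1 : ∀ x, L x = -x → x ∈ D 1 := fun x hx => by
    obtain ⟨a, ha, b, hb, rfl⟩ := hdec x
    rw [hLdec a ha b hb] at hx
    have : (2 : F) • a = 0 := by linear_combination (norm := module) hx
    rwa [(smul_eq_zero.1 this).resolve_left h2, zero_add]
  have hmem : ∀ s : Matrix.symplecticGroup (Fin 2) F,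
      H49.spHom 2 F s ∈ Cfsg.Geo.decompositionStabilizer D ↔ H42.SpFour.Stab L s := by
    intro s
    let T := DistribMulAction.toLinearEquiv F (Fin 2 ⊕ Fin 2 → F) s
    have hT : Matrix.toLin' ((H49.spHom 2 F s : GL (Fin 2 ⊕ Fin 2) F) :
        Matrix (Fin 2 ⊕ Fin 2) (Fin 2 ⊕ Fin 2) F) = T.toLinearMap := LinearMap.ext fun x => rfl
    have heq : ∀ i j, (∀ x ∈ D i, s • x ∈ D j) → (D i).map T.toLinearMap = D j := fun i j h =>
      Submodule.eq_of_le_of_finrank_eq (Submodule.map_le_iff_le_comap.2 h)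
        (by rw [LinearEquiv.finrank_map_eq, hD.finrank_eq, hD.finrank_eq])
    have hperm : ∀ σ : Equiv.Perm (Fin 2), (σ 0 = 0 ∧ σ 1 = 1) ∨ (σ 0 = 1 ∧ σ 1 = 0) := by decide
    constructor
    · rintro ⟨σ, hσ⟩
      have h : ∀ i, ∀ x ∈ D i, s • x ∈ D (σ i) := fun i x hx => hσ i ▸ ⟨x, hx, rfl⟩
      rcases hperm σ with ⟨e0, e1⟩ | ⟨e0, e1⟩
      · left
        intro x
        obtain ⟨a, ha, b, hb, rfl⟩ := hdec x
        rw [hLdec a ha b hb, smul_add, hLdec _ (e0 ▸ h 0 a ha) _ (e1 ▸ h 1 b hb), smul_sub]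
      · right
        intro x
        obtain ⟨a, ha, b, hb, rfl⟩ := hdec x
        rw [hLdec a ha b hb, smul_add, add_comm, hLdec _ (e1 ▸ h 1 b hb) _ (e0 ▸ h 0 a ha), smul_sub]
        abel
    · rintro (h | h)
      · refine ⟨1, fun i => ?_⟩
        rw [hT]
        fin_cases i
        · exact heq 0 0 fun x hx => hfix0 _ (by rw [← h, hL0 x hx])
        · exact heq 1 1 fun x hx => hfix1 _ (by rw [← h, hL1 x hx, smul_neg])
      · refine ⟨Equiv.swap 0 1, fun i => ?_⟩
        rw [hT]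
        fin_cases i
        · exact heq 0 1 fun x hx => hfix1 _ (by rw [← neg_inj, ← h, hL0 x hx, neg_neg])
        · exact heq 1 0 fun x hx => hfix0 _ (by rw [← neg_inj, ← h, hL1 x hx, smul_neg])
  have h0 : D 0 ≠ ⊥ := fun e => by
    have := hD.finrank_eq 0
    rw [e, finrank_bot] at this
    omega
  obtain ⟨a, ha, ha0⟩ := (Submodule.ne_bot_iff _).1 h0
  refine ⟨lt_of_le_of_ne inf_le_right ?_, fun M hHM hMK => ?_⟩
  · intro heq
    obtain ⟨z, hz⟩ := H48.exists_sf_ne ha0
    obtain ⟨a', ha', b', hb', rfl⟩ := hdec z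
    rw [map_add, hts' 0 a ha a' ha', zero_add] at hz
    set b := (sf a b')⁻¹ • b' with hbdef
    have hb : b ∈ D 1 := (D 1).smul_mem _ hb'
    have hab : sf a b = 1 := by rw [hbdef, map_smul, smul_eq_mul, inv_mul_cancel₀ hz]
    have hb0 : b ≠ 0 := fun e => by simp [e] at hab
    have hg : H49.spHom 2 F (tv (a + b) 1) ∈ Cfsg.Geo.decompositionStabilizer D := by
      have := H49.spHom_mem_spGL (m := 2) (F := F) (tv (a + b) 1)
      rw [← heq] at this
      exact this.1
    have hga : tv (a + b) 1 • a = (2 : F) • a + b := by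
      rw [H48.tv_smul, map_add, H48.sf_self, hab, zero_add, one_mul, one_smul, two_smul, add_assoc]
    rcases (hmem _).1 hg with h | h
    · have := hfix0 _ (by rw [← h a, hL0 a ha] : L (tv (a + b) 1 • a) = tv (a + b) 1 • a)
      rw [hga, (D 0).add_mem_iff_right ((D 0).smul_mem _ ha)] at this
      exact hb0 (Submodule.disjoint_def.1 hcompl.disjoint b this hb)
    · have := hfix1 _ (by rw [← neg_inj, ← h a, hL0 a ha, neg_neg] : L (tv (a + b) 1 • a) = -(tv (a + b) 1 • a))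
      rw [hga, (D 1).add_mem_iff_left hb, (D 1).smul_mem_iff h2] at this
      exact ha0 (Submodule.disjoint_def.1 hcompl.disjoint a ha this)
  obtain ⟨b, hbk, hb0⟩ := Submodule.exists_mem_ne_zero_of_ne_bot
    (LinearMap.ker_ne_bot_of_finrank_lt (f := (H48.sf a).comp (D 1).subtype) (by
      rw [Module.finrank_self, hD.finrank_eq 1]
      omega))
  have hab : sf a (b : Fin 2 ⊕ Fin 2 → F) = 0 := hbk
  have hv : sf (L (a + b)) (a + (b : Fin 2 ⊕ Fin 2 → F)) = 0 := by
    rw [hLdec a ha b b.2]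
    simp [H48.sf_self, hab, H48.sf_eq_zero_comm hab]
  have hv' : L (a + b) ∉ Submodule.span F {a + (b : Fin 2 ⊕ Fin 2 → F)} := by
    intro h
    obtain ⟨c, hc⟩ := Submodule.mem_span_singleton.1 h
    rw [hLdec a ha b b.2] at hc
    have e : (1 - c) • a = (1 + c) • (b : Fin 2 ⊕ Fin 2 → F) := by linear_combination (norm := module) -hc
    have e0 := Submodule.disjoint_def.1 hcompl.disjoint _ ((D 0).smul_mem (1 - c) ha)
      (e ▸ (D 1).smul_mem (1 + c) b.2)
    have c1 : 1 - c = 0 := (smul_eq_zero.1 e0).resolve_right ha0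
    rw [e0, eq_comm, smul_eq_zero] at e
    have c2 : 1 + c = 0 := e.resolve_right fun q => hb0 (Subtype.ext q)
    exact h2 (by linear_combination c1 + c2)
  rcases H42.SpFour.top_or_stab hskew hsq one_ne_zero h2 hv hv' hq5 (K := M.comap (H49.spHom 2 F))
    (fun g hg => hHM ⟨(hmem g).2 hg, H49.spHom_mem_spGL g⟩) with htop | hstab
  · refine Or.inr (le_antisymm hMK fun g hg => ?_)
    obtain ⟨y, rfl⟩ := H49.exists_spHom_eq hg
    have : y ∈ M.comap (H49.spHom 2 F) := by rw [htop]; trivial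
    exact this
  · refine Or.inl (le_antisymm (fun g hg => ?_) hHM)
    obtain ⟨y, rfl⟩ := H49.exists_spHom_eq (hMK hg)
    exact ⟨(hmem y).2 (hstab y hg), hMK hg⟩

end H42.SpFourPair
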