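import Cfsg.Agent.H45.SympForm
import Cfsg.Agent.H45.QuadChar2

/-!
The orthogonal groups in even characteristic are maximal in the four-dimensional symplectic group, at least four field elements.
-/

set_option autoImplicit false
set_option linter.unusedSectionVars false
open Cfsg Cfsg.Geo H45

namespace H42.SpFourQuad

variable {ι : Type} [Fintype ι] [DecidableEq ι] {F : Type*} [Field F] [Fintype F] [CharP F 2]
  {Q : (ι → F) → F}

/-- Two prescribed polar values against a non-orthogonal pair, and a prescribed value. -/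
theorem exists_quad_pair (hQ : IsNondegenerateQuadraticForm Q) (hd : 2 < Fintype.card ι)
    {v w : ι → F} (hvw : QuadraticMap.polar Q w v ≠ 0) (s t c : F) :
    ∃ u, QuadraticMap.polar Q u v = s ∧ QuadraticMap.polar Q u w = t ∧ Q u = c := by
  have hb := hQ.polar_bilinear
  set β := QuadraticMap.polar Q w v with hβ
  have hvw' : QuadraticMap.polar Q v w = β := by rw [QuadraticMap.polar_comm]
  have hvv := polar_self_zero hQ v
  have hww := polar_self_zero hQ w
  let p : (ι → F) → (ι → F) := fun y =>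
    y + (QuadraticMap.polar Q y w / β) • v + (QuadraticMap.polar Q y v / β) • w
  have hpv : ∀ y, QuadraticMap.polar Q (p y) v = 0 := fun y => by
    simp only [p, hb.add_left, hb.smul_left, hvv, ← hβ, div_mul_cancel₀ _ hvw, mul_zero, add_zero]
    exact CharTwo.add_self_eq_zero _
  have hpw : ∀ y, QuadraticMap.polar Q (p y) w = 0 := fun y => by
    simp only [p, hb.add_left, hb.smul_left, hww, hvw', div_mul_cancel₀ _ hvw, mul_zero, add_zero]
    exact CharTwo.add_self_eq_zero _
  obtain ⟨z, hzv, hzw, hz⟩ : ∃ z, QuadraticMap.polar Q z v = 0 ∧ QuadraticMap.polar Q z w = 0 ∧ Q z ≠ 0 := by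
    by_contra hcon
    simp only [not_exists, not_and, not_not] at hcon
    have h0 : ∀ y, p y = 0 := by
      intro y
      by_contra hne
      obtain ⟨x, hx⟩ := (hQ.nondegenerate _ hne).1
      apply hx
      have hxd : x = p x + ((QuadraticMap.polar Q x w / β) • v + (QuadraticMap.polar Q x v / β) • w) := by
        have hz2 : ∀ z : ι → F, z + z = 0 := fun z => funext fun i => CharTwo.add_self_eq_zero (z i)
        simp only [p]
        rw [add_assoc x, add_assoc x, hz2, add_zero]
      have h1 : QuadraticMap.polar Q (p x) (p y) = 0 := by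
        simp only [QuadraticMap.polar]
        rw [hcon _ (hpv x) (hpw x), hcon _ (hpv y) (hpw y),
          hcon _ (by rw [hb.add_left, hpv, hpv, add_zero]) (by rw [hb.add_left, hpw, hpw, add_zero])]
        ring
      nth_rw 1 [hxd]
      rw [hb.add_left, h1, hb.add_left, hb.smul_left, hb.smul_left,
        QuadraticMap.polar_comm _ v, QuadraticMap.polar_comm _ w, hpv, hpw]
      ring
    have hle : (⊤ : Submodule F (ι → F)) ≤ Submodule.span F (Set.range ![v, w]) := fun y _ => by
      have h := h0 y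
      simp only [p] at h
      rw [add_assoc, add_eq_zero_iff_eq_neg] at h
      rw [h]
      exact Submodule.neg_mem _ (Submodule.add_mem _
        (Submodule.smul_mem _ _ (Submodule.subset_span ⟨0, rfl⟩))
        (Submodule.smul_mem _ _ (Submodule.subset_span ⟨1, rfl⟩)))
    have h1 := Submodule.finrank_mono hle
    have h2 : Module.finrank F (Submodule.span F (Set.range ![v, w])) ≤ 2 :=
      (finrank_range_le_card _).trans (by simp)
    rw [finrank_top, Module.finrank_pi] at h1
    omega
  set u₀ := (t / β) • v + (s / β) • w with hu₀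
  have h0v : QuadraticMap.polar Q u₀ v = s := by
    rw [hu₀, hb.add_left, hb.smul_left, hb.smul_left, hvv, ← hβ, div_mul_cancel₀ _ hvw, mul_zero, zero_add]
  have h0w : QuadraticMap.polar Q u₀ w = t := by
    rw [hu₀, hb.add_left, hb.smul_left, hb.smul_left, hww, hvw', div_mul_cancel₀ _ hvw, mul_zero, add_zero]
  obtain ⟨x, hx⟩ := exists_sq ((c - Q u₀) / Q z)
  refine ⟨u₀ + x • z, by rw [hb.add_left, hb.smul_left, hzv, h0v, mul_zero, add_zero],
    by rw [hb.add_left, hb.smul_left, hzw, h0w, mul_zero, add_zero], ?_⟩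
  have h0z : QuadraticMap.polar Q u₀ z = 0 := by
    rw [hu₀, hb.add_left, hb.smul_left, hb.smul_left, QuadraticMap.polar_comm _ v,
      QuadraticMap.polar_comm _ w, hzv, hzw]
    ring
  rw [quad_add (Q := Q), hQ.smul, hb.smul_right, h0z, hx, div_mul_cancel₀ _ hz]
  ring

/-- A vector can be moved by an isometry to one with prescribed polar value against `v`. -/
theorem exists_move (hQ : IsNondegenerateQuadraticForm Q) (hd : 2 < Fintype.card ι)
    (h4 : 4 ≤ Fintype.card F) {a v : ι → F} (ha : a ≠ 0) (hv : v ≠ 0) (s : F) :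
    ∃ g ∈ isometryGroup F Q, QuadraticMap.polar Q v (act g a) = s := by
  classical
  have hb := hQ.polar_bilinear
  obtain ⟨w₁, hw₁a, hw₁Q⟩ := exists_quad_one hQ (by omega) ha 1 (Q a)
  obtain ⟨w, hwa, hwQ, hwv⟩ : ∃ w, QuadraticMap.polar Q w a = 1 ∧ Q w = Q a ∧ QuadraticMap.polar Q w v ≠ 0 := by
    by_cases hw₁v : QuadraticMap.polar Q w₁ v ≠ 0
    · exact ⟨w₁, hw₁a, hw₁Q, hw₁v⟩
    rw [not_not] at hw₁v
    have hva : ∀ d : F, v ≠ d • a := by
      rintro d rfl
      rw [hb.smul_right, hw₁a, mul_one] at hw₁v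
      exact hv (by rw [hw₁v, zero_smul])
    obtain ⟨c₀, hc₀a, hc₀v⟩ := exists_two hb hQ.nondegenerate ha hva 0 1
    have havv := polar_self_zero hQ a
    by_cases hav : QuadraticMap.polar Q a v = 0
    swap
    · -- the pair spans a non-degenerate plane
      have hd' : QuadraticMap.polar Q v a ≠ 0 := by rwa [QuadraticMap.polar_comm]
      obtain ⟨u, hua, huv, huQ⟩ := exists_quad_pair hQ hd hd' 1 1 (Q a)
      exact ⟨u, hua, huQ, by rw [huv]; exact one_ne_zero⟩
    obtain ⟨c₁, hc₁a, hc₁v, hc₁Q⟩ : ∃ c, QuadraticMap.polar Q c a = 0 ∧ QuadraticMap.polar Q c v = 1 ∧ Q c ≠ 0 := by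
      by_cases hQ0 : Q c₀ = 0
      swap
      · exact ⟨c₀, hc₀a, hc₀v, hQ0⟩
      obtain ⟨y, hy0, hy1⟩ : ∃ y : F, y ≠ 0 ∧ y * Q v ≠ 1 := by
        obtain ⟨y, -, hy⟩ := Finset.exists_mem_notMem_of_card_lt_card
          (s := ({0, (Q v)⁻¹} : Finset F)) (t := Finset.univ) (lt_of_le_of_lt Finset.card_le_two (by rw [Finset.card_univ]; omega))
        simp only [Finset.mem_insert, Finset.mem_singleton, not_or] at hy
        exact ⟨y, hy.1, fun e => hy.2 (eq_inv_of_mul_eq_one_left e)⟩
      refine ⟨c₀ + y • v, ?_, ?_, ?_⟩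
      · rw [hb.add_left, hb.smul_left, hc₀a, QuadraticMap.polar_comm _ v, hav, mul_zero, add_zero]
      · rw [hb.add_left, hb.smul_left, hc₀v, polar_self_zero hQ, mul_zero, add_zero]
      · rw [quad_add (Q := Q), hQ.smul, hb.smul_right, hc₀v, hQ0, zero_add, mul_one]
        intro e
        apply hy1
        have : y * (y * Q v + 1) = 0 := by rw [← e]; ring
        have h3 := (mul_eq_zero.1 this).resolve_left hy0
        rw [add_eq_zero_iff_eq_neg, CharTwo.neg_eq] at h3
        exact h3
    obtain ⟨x, hxw, hxQ⟩ : ∃ x : F, QuadraticMap.polar Q c₁ w₁ + x ≠ 0 ∧ Q c₁ + x ^ 2 * Q a ≠ 0 := by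
      obtain ⟨r, hr⟩ := exists_sq (Q c₁ / Q a)
      obtain ⟨x, -, hx⟩ := Finset.exists_mem_notMem_of_card_lt_card
        (s := ({QuadraticMap.polar Q c₁ w₁, r} : Finset F)) (t := Finset.univ) (lt_of_le_of_lt Finset.card_le_two (by rw [Finset.card_univ]; omega))
      simp only [Finset.mem_insert, Finset.mem_singleton, not_or] at hx
      refine ⟨x, fun e => hx.1 (CharTwo.add_eq_zero.1 e).symm, fun e => ?_⟩
      by_cases hQa : Q a = 0
      · exact hc₁Q (by simpa [hQa] using e)
      apply hx.2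
      refine frobenius_inj F 2 ?_
      simp only [frobenius_def]
      rw [hr, eq_div_iff hQa]
      exact (CharTwo.add_eq_zero.1 e).symm
    set c := c₁ + x • a with hc
    have hca : QuadraticMap.polar Q c a = 0 := by
      rw [hc, hb.add_left, hb.smul_left, hc₁a, havv, mul_zero, add_zero]
    have hcv : QuadraticMap.polar Q c v = 1 := by
      rw [hc, hb.add_left, hb.smul_left, hc₁v, hav, mul_zero, add_zero]
    have hcw : QuadraticMap.polar Q w₁ c ≠ 0 := by
      rw [hc, hb.add_right, hb.smul_right, hw₁a, mul_one, QuadraticMap.polar_comm]; exact hxw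
    have hcQ : Q c ≠ 0 := by
      rw [hc, quad_add (Q := Q), hQ.smul, hb.smul_right, hc₁a, mul_zero, add_zero]; exact hxQ
    obtain ⟨g, hg⟩ : ∃ g, g = qtv hQ c (Q c)⁻¹ := ⟨_, rfl⟩
    have hgm := qtv_mem hQ (a := c) (c := (Q c)⁻¹) (inv_mul_cancel₀ hcQ)
    refine ⟨w₁ + ((Q c)⁻¹ * QuadraticMap.polar Q w₁ c) • c, ?_, ?_, ?_⟩
    · rw [hb.add_left, hb.smul_left, hca, hw₁a, mul_zero, add_zero]
    · have := mem_isometryGroup.mp hgm w₁
      rw [act_tv] at this
      rw [this, hw₁Q]
    · rw [hb.add_left, hb.smul_left, hcv, hw₁v, zero_add, mul_one]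
      exact mul_ne_zero (inv_ne_zero hcQ) hcw
  obtain ⟨u, huv, huw, huQ⟩ := exists_quad_pair hQ hd hwv s 1 (Q a)
  obtain ⟨g₁, hg₁, h₁⟩ := exists_isometry_step hQ (a := a) (b := w) hwQ.symm
    (by rw [QuadraticMap.polar_comm, hwa]; exact one_ne_zero)
  obtain ⟨g₂, hg₂, h₂⟩ := exists_isometry_step hQ (a := w) (b := u) (by rw [hwQ, huQ])
    (by rw [QuadraticMap.polar_comm, huw]; exact one_ne_zero)
  exact ⟨g₂ * g₁, mul_mem hg₂ hg₁, by rw [act_mul, h₁, h₂, QuadraticMap.polar_comm, huv]⟩

end H42.SpFourQuad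

namespace H42.SpFourQuad

/-- The orthogonal group in even characteristic in the symplectic group, for `2 ≤ m`. -/
theorem maximal {F : Type*} [Field F] [Fintype F] (h4 : 4 ≤ Fintype.card F) (m : ℕ) (hm : 2 ≤ m) (heven : ¬ Odd (Fintype.card F)) (Q : (Fin m ⊕ Fin m → F) → F) (hQ : Cfsg.Geo.IsNondegenerateQuadraticForm Q) (hpol : ∀ u v, QuadraticMap.polar Q u v = Cfsg.sympForm m F u v) : Cfsg.Geo.IsMaximalIn (Cfsg.spGL m F) (Cfsg.Geo.quadSimilarityGroup Q ⊓ Cfsg.spGL m F) := by
  have hchar : ringChar F = 2 := FiniteField.even_card_iff_char_two.mpr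
    (Nat.even_iff.mp (Nat.not_odd_iff_even.mp heven))
  have : CharP F 2 := hchar ▸ ringChar.charP F
  have hdim : 2 < Fintype.card (Fin m ⊕ Fin m) := by simp; omega
  have h2 : (2 : F) = 0 := CharTwo.two_eq_zero
  have hb := sympForm_bilinear m F
  -- membership in the isometry group, and the two directions of the comparison with `H`
  have hiso : ∀ g : Matrix.GeneralLinearGroup (Fin m ⊕ Fin m) F,
      g ∈ isometryGroup F Q → g ∈ quadSimilarityGroup Q ⊓ spGL m F := by
    intro g hg
    rw [mem_isometryGroup] at hg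
    refine ⟨⟨1, fun v => by simpa [act] using hg v⟩, mem_spGL.mpr fun u v => ?_⟩
    rw [← hpol, ← hpol]
    simp only [QuadraticMap.polar, act, ← Matrix.mulVec_add]
    simp only [act] at hg
    rw [hg, hg, hg]
  have hiso' : ∀ g : Matrix.GeneralLinearGroup (Fin m ⊕ Fin m) F,
      g ∈ quadSimilarityGroup Q ⊓ spGL m F → g ∈ isometryGroup F Q := by
    rintro g ⟨⟨c, hc⟩, hg⟩
    obtain ⟨x, hx⟩ : ∃ x : Fin m ⊕ Fin m → F, x ≠ 0 := ⟨Pi.single (.inl ⟨0, by omega⟩) 1, by simp⟩
    obtain ⟨y, hy⟩ := (sympForm_nondegenerate m F x hx).1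
    have h1 : sympForm m F (act g y) (act g x) = (c : F) * sympForm m F y x := by
      rw [← hpol, ← hpol]
      simp only [QuadraticMap.polar, act, ← Matrix.mulVec_add, hc]
      ring
    rw [mem_spGL.mp hg] at h1
    have hc1 : (c : F) = 1 := by
      have h3 : ((c : F) - 1) * sympForm m F y x = 0 := by rw [sub_mul, ← h1]; ring
      exact sub_eq_zero.mp ((mul_eq_zero.mp h3).resolve_right hy)
    rw [mem_isometryGroup]
    intro v
    simpa [hc1] using hc v
  -- values of `Q` after a transvection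
  have htv : ∀ (R : (Fin m ⊕ Fin m → F) → F) (v x : Fin m ⊕ Fin m → F) (l : F),
      (∀ (c : F) (u : Fin m ⊕ Fin m → F), R (c • u) = c ^ 2 * R u) →
      (∀ u w, QuadraticMap.polar R u w = sympForm m F u w) →
      R (act (stv v l) x) = R x + l * (l * R v + 1) * sympForm m F x v ^ 2 := by
    intro R v x l hs hp
    rw [act_tv, quad_add (Q := R), hs, hp, hb.smul_right]
    ring
  constructor
  · refine lt_of_le_of_ne inf_le_right fun he => ?_
    obtain ⟨u, hu⟩ : ∃ x : Fin m ⊕ Fin m → F, x ≠ 0 := ⟨Pi.single (.inl ⟨0, by omega⟩) 1, by simp⟩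
    obtain ⟨v, hv1, hv2⟩ := exists_quad_one hQ (by omega) hu 1 0
    rw [hpol] at hv1
    have hv : v ≠ 0 := by
      rintro rfl
      rw [bl_zero_left hb] at hv1
      exact zero_ne_one hv1
    obtain ⟨x, hx⟩ := (sympForm_nondegenerate m F v hv).1
    have hmem : stv v 1 ∈ quadSimilarityGroup Q ⊓ spGL m F := by rw [he]; exact stv_mem v 1
    have h := mem_isometryGroup.mp (hiso' _ hmem) x
    rw [htv Q v x 1 hQ.smul hpol, hv2] at h
    simp at h
    exact hx h
  intro M hHM hMK
  by_cases hMH : M ≤ quadSimilarityGroup Q ⊓ spGL m F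
  · exact Or.inl (le_antisymm hMH hHM)
  right
  refine le_antisymm hMK (spGL_le_of_stv_mem fun v l hv => ?_)
  obtain ⟨g, hgM, hgH⟩ := SetLike.not_le_iff_exists.mp hMH
  have hgSp := mem_spGL.mp (hMK hgM)
  -- the difference of `Q ∘ g` and `Q` is the square of a linear functional
  choose r hr using fun x : F => exists_sq x
  have hinj : ∀ x y : F, x ^ 2 = y ^ 2 → x = y := fun x y h =>
    frobenius_inj F 2 (by simpa [frobenius_def] using h)
  have hadd : ∀ x y, Q (act g (x + y)) - Q (x + y) =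
      (Q (act g x) - Q x) + (Q (act g y) - Q y) := by
    intro x y
    have e : act g (x + y) = act g x + act g y := Matrix.mulVec_add _ _ _
    rw [e, quad_add (Q := Q) (act g x), quad_add (Q := Q) x, hpol, hpol, hgSp]
    ring
  let L : (Fin m ⊕ Fin m → F) →ₗ[F] F :=
    { toFun := fun x => r (Q (act g x) - Q x)
      map_add' := fun x y => hinj _ _ (by
        rw [hr, hadd, add_sq, hr, hr, h2]; ring)
      map_smul' := fun c x => hinj _ _ (by
        have e : act g (c • x) = c • act g x := Matrix.mulVec_smul _ _ _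
        rw [hr, e, hQ.smul, hQ.smul, RingHom.id_apply, smul_eq_mul, mul_pow, hr]; ring) }
  obtain ⟨a, ha⟩ := exists_rep hb (sympForm_nondegenerate m F) L
  have hga : ∀ x, Q (act g x) = Q x + sympForm m F x a ^ 2 := by
    intro x
    rw [ha]
    change Q (act g x) = Q x + r (Q (act g x) - Q x) ^ 2
    rw [hr]; ring
  have ha0 : a ≠ 0 := by
    rintro rfl
    exact hgH (hiso g (mem_isometryGroup.mpr fun x => by simp [hga, bl_zero_right hb]))
  by_cases hl : l = 0
  · have : stv v l = 1 := gl_ext fun x => by rw [act_tv, hl]; simp [act]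
    rw [this]; exact one_mem M
  obtain ⟨h, hh, hs⟩ := exists_move hQ hdim h4 ha0 hv (r (l⁻¹ - Q v))
  rw [hpol] at hs
  have hhSp := mem_spGL.mp (hiso h hh).2
  set k := g * h⁻¹ with hkdef
  have hkM : k ∈ M := mul_mem hgM (inv_mem (hHM (hiso h hh)))
  set b := act h a with hbdef
  have hk : ∀ x, Q (act k x) = Q x + sympForm m F x b ^ 2 := by
    intro x
    rw [hkdef, act_mul, hga, mem_isometryGroup.mp (inv_mem hh) x]
    congr 2
    rw [← hhSp, act_act_inv]
  have hlb : l * (Q v + sympForm m F v b ^ 2) = 1 := by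
    rw [hs, hr]; field_simp; ring
  have hkey : k * stv v l * k⁻¹ ∈ isometryGroup F Q := by
    rw [mem_isometryGroup]
    intro y
    rw [act_mul, act_mul, hk, act_tv, quad_add (Q := Q), hQ.smul, hpol, hb.smul_right,
      hb.add_left, hb.smul_left]
    conv_rhs => rw [← act_act_inv k y, hk]
    generalize act k⁻¹ y = x
    linear_combination (l * sympForm m F x v ^ 2) * hlb +
      (l * sympForm m F x v ^ 2 + sympForm m F x b * (l * sympForm m F x v) * sympForm m F v b) * h2
  have := mul_mem (mul_mem (inv_mem hkM) (hHM (hiso _ hkey))) hkM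
  simpa [mul_assoc] using this

end H42.SpFourQuad
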