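import Cfsg.Agent.H42.SpTensorBase

/-!
A short root element generates the symplectic group together with the tensor group.
-/

set_option autoImplicit false
set_option linter.unusedSectionVars false
set_option linter.unusedSimpArgs false

namespace H42.SpT

open Matrix
open H48 (sf tv)
open H49 (sroot IsShort IsCtr)

variable {m : ℕ} {F : Type*} [Field F] [Fintype F] {W : Type*} [AddCommGroup W] [Module F W]
  [FiniteDimensional F W]

local notation "V" => (Fin m ⊕ Fin m → F)
local notation "Sp" => Matrix.symplecticGroup (Fin m) F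

/-- A weighted sum of two squares takes every value. -/
theorem exists_two_squares (h2 : (2 : F) ≠ 0) {a b : F} (ha : a ≠ 0) (hb : b ≠ 0) (t : F) :
    ∃ x y, a * (x * x) + b * (y * y) = t := by
  open Polynomial in
  obtain ⟨x, y, h⟩ := FiniteField.exists_root_sum_quadratic (f := C a * X ^ 2) (g := C b * X ^ 2 + C 0 * X + C (-t))
    (by rw [degree_C_mul_X_pow 2 ha]; rfl) (degree_quadratic hb)
    (FiniteField.odd_card_of_char_ne_two (fun h => h2 (by
      haveI := ringChar.of_eq h
      exact CharP.cast_eq_zero F 2)))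
  simp only [Polynomial.eval_add, Polynomial.eval_mul, Polynomial.eval_C, Polynomial.eval_pow,
    Polynomial.eval_X] at h
  exact ⟨x, y, by linear_combination h⟩

/-- Both multiples of the column of `a` are centres. -/
def ColIn (K : Subgroup (Matrix.symplecticGroup (Fin m) F)) (i j : W →ₗ[F] (Fin m ⊕ Fin m → F)) (a : W) : Prop :=
  ∀ p q : F, IsCtr K (p • i a + q • j a)

namespace TStr

variable {i j : W →ₗ[F] (Fin m ⊕ Fin m → F)} {B : LinearMap.BilinForm F W} (d : TStr i j B)
include d

/-- Three orthogonal anisotropic vectors leave an anisotropic orthogonal one. -/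
theorem exists_aniso_three {a b c : W} (ha : B a a ≠ 0) (hb : B b b ≠ 0) (hc : B c c ≠ 0)
    (hab : B a b = 0) (hac : B a c = 0) (hbc : B b c = 0) :
    ∃ x, B a x = 0 ∧ B b x = 0 ∧ B c x = 0 ∧ B x x ≠ 0 := by
  classical
  set S := Submodule.span F ({a, b, c} : Set W)
  set P := B.orthogonal S
  have hmem : ∀ x, x ∈ P → B a x = 0 ∧ B b x = 0 ∧ B c x = 0 := fun x hx =>
    ⟨hx a (Submodule.subset_span (by simp)), hx b (Submodule.subset_span (by simp)),
      hx c (Submodule.subset_span (by simp))⟩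
  by_contra hcon
  simp only [not_exists, not_and, not_not] at hcon
  have hzero : ∀ x ∈ P, ∀ y ∈ P, B y x = 0 := by
    intro x hx y hy
    obtain ⟨h1, h2, h3⟩ := hmem x hx
    obtain ⟨k1, k2, k3⟩ := hmem y hy
    obtain ⟨l1, l2, l3⟩ := hmem _ (P.add_mem hx hy)
    have h := hcon _ l1 l2 l3
    simp only [map_add, LinearMap.add_apply, hcon x h1 h2 h3, hcon y k1 k2 k3, d.symm x y] at h
    exact (mul_eq_zero.1 (show (2 : F) * B y x = 0 by linear_combination h)).resolve_left d.two
  have hB : B.Nondegenerate := ⟨d.nd, fun y hy => d.nd y fun x => by rw [d.symm]; exact hy x⟩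
  have hrefl : B.IsRefl := fun a b e => by rw [d.symm]; exact e
  have hPS : P ≤ S := by
    rw [← LinearMap.BilinForm.orthogonal_orthogonal hB hrefl S]
    intro x hx y hy
    exact hzero x hx y hy
  have hbot : P = ⊥ := by
    rw [eq_bot_iff]
    intro x hx
    obtain ⟨p, q, r, hpqr⟩ : ∃ p q r : F, p • a + q • b + r • c = x := by
      obtain ⟨p, z, hz, e⟩ := Submodule.mem_span_insert.1 (hPS hx)
      obtain ⟨q, r, e'⟩ := Submodule.mem_span_pair.1 hz
      exact ⟨p, q, r, by rw [e, ← e', add_assoc]⟩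
    obtain ⟨h1, h2, h3⟩ := hmem x hx
    rw [← hpqr] at h1 h2 h3
    simp only [map_add, map_smul, smul_eq_mul, hab, hac, hbc, d.symm b a, d.symm c a, d.symm c b, mul_zero,
      add_zero, zero_add, mul_eq_zero, ha, hb, hc, or_false] at h1 h2 h3
    simp [← hpqr, h1, h2, h3]
  have h2 : Module.finrank F P = Module.finrank F W - Module.finrank F S :=
    LinearMap.BilinForm.finrank_orthogonal hB _
  rw [hbot, finrank_bot] at h2
  have h4 : Module.finrank F S ≤ 3 := by
    have := finrank_span_finset_le_card (R := F) ({a, b, c} : Finset W)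
    rw [Finset.coe_insert, Finset.coe_insert, Finset.coe_singleton] at this
    exact this.trans Finset.card_le_three
  have := d.five
  omega

/-- Norms of vectors orthogonal to two orthogonal anisotropic ones. -/
theorem exists_norm_perp {a b : W} (ha : B a a ≠ 0) (hb : B b b ≠ 0) (hab : B a b = 0) (N : F) :
    ∃ w, B a w = 0 ∧ B b w = 0 ∧ B w w = N := by
  obtain ⟨e₁, h1, h2, h3⟩ := d.exists_aniso_two a b
  obtain ⟨e₂, k1, k2, k3, k4⟩ := d.exists_aniso_three ha hb h3 hab h1 h2
  obtain ⟨x, y, hxy⟩ := exists_two_squares d.two h3 k4 N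
  refine ⟨x • e₁ + y • e₂, by simp [h1, k1], by simp [h2, k2], ?_⟩
  simp only [map_add, map_smul, LinearMap.add_apply, LinearMap.smul_apply, smul_eq_mul, k3, d.symm e₂ e₁]
  linear_combination hxy

/-- An isotropic vector orthogonal to an anisotropic one. -/
theorem exists_iso_perp {a : W} (ha : B a a ≠ 0) : ∃ z, z ≠ 0 ∧ B a z = 0 ∧ B z z = 0 := by
  obtain ⟨c, hc, -, hcc⟩ := d.exists_aniso_two a a
  obtain ⟨w, hw1, hw2, hww⟩ := d.exists_norm_perp ha hcc hc (-(B c c))
  refine ⟨c + w, fun e => hcc ?_, by simp [hc, hw1], ?_⟩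
  · have := congrArg (B c) e
    simpa [hw2] using this
  · simp only [map_add, LinearMap.add_apply, hw2, d.symm w c, hww]
    ring

variable {K : Subgroup (Matrix.symplecticGroup (Fin m) F)} (hK : ∀ g, IsTens i j g → g ∈ K)
include hK

theorem exists_left_mem (α β γ δ : F) (hdet : α * δ - β * γ = 1) :
    ∃ g ∈ K, ∀ a b, g • (i a + j b) = i (α • a + β • b) + j (γ • a + δ • b) := by
  obtain ⟨g, hg, hgv⟩ := d.exists_left α β γ δ hdet
  exact ⟨g, hK g hg, hgv⟩

theorem exists_right_mem (h : W →ₗ[F] W) (hh : ∀ a b, B (h a) (h b) = B a b) :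
    ∃ g ∈ K, ∀ a b, g • (i a + j b) = i (h a) + j (h b) := by
  obtain ⟨g, hg, hgv⟩ := d.exists_right h hh
  exact ⟨g, hK g hg, hgv⟩

/-- The torus. -/
theorem exists_torus {t : F} (ht : t ≠ 0) :
    ∃ g ∈ K, (∀ a, g • i a = t • i a) ∧ ∀ a, g • j a = t⁻¹ • j a := by
  obtain ⟨g, hg, hgv⟩ := d.exists_left_mem hK t 0 0 t⁻¹ (by rw [mul_inv_cancel₀ ht]; ring)
  exact ⟨g, hg, fun a => by simpa using hgv a 0, fun a => by simpa using hgv 0 a⟩

/-- One transvection along a column vector gives all of them. -/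
theorem ctr_of_tv {a : W} {c₀ : F} (hc : c₀ ≠ 0) (h : tv (i a) c₀ ∈ K) : IsCtr K (i a) := by
  intro c
  have hsq : ∀ t, tv (i a) (t * t * c₀) ∈ K := by
    intro t
    rcases eq_or_ne t 0 with rfl | ht
    · rw [zero_mul, zero_mul, H48.tv_zero]; exact one_mem _
    obtain ⟨g, hg, hgi, -⟩ := d.exists_torus hK ht
    rw [← H48.tv_scale, ← hgi, ← H48.tv_conj]
    exact mul_mem (mul_mem hg h) (inv_mem hg)
  obtain ⟨x, y, hxy⟩ := exists_two_squares d.two (one_ne_zero (α := F)) one_ne_zero (c / c₀)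
  rw [show c = x * x * c₀ + y * y * c₀ from by
    rw [← add_mul, show x * x + y * y = c / c₀ by linear_combination hxy, div_mul_cancel₀ _ hc], ← H48.tv_mul]
  exact mul_mem (hsq x) (hsq y)

/-- A short root element leaving the kernel column gives a transvection. -/
theorem ctr_of_short {a p p' : W} (ha : B a a ≠ 0) (hp : B a p = 0) (hp' : B a p' = 0) (hp0 : p' ≠ 0)
    (h : sroot (i a) (i p + j p') 1 ∈ K) : IsCtr K (i a) := by
  obtain ⟨e, he1, he2, he3, he4⟩ : ∃ e : W →ₗ[F] W, (∀ x y, B (e x) (e y) = B x y) ∧ e a = a ∧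
      (∀ x y, B (e x) y = B x (e y)) ∧ B p' (e p') ≠ 0 := by
    by_cases hiso : B p' p' = 0
    · obtain ⟨c, hac, hcc, hpc⟩ := d.exists_aniso_perp_ne hp0 hp' ha
      refine ⟨reflW B c, d.reflW_isom hcc, by simp [reflW_apply, hac], fun x y => ?_, ?_⟩
      · simp only [reflW_apply, map_sub, map_smul, LinearMap.sub_apply, LinearMap.smul_apply, smul_eq_mul,
          d.symm c y]
        ring
      · simp only [reflW_apply, map_sub, map_smul, smul_eq_mul, hiso, zero_sub, neg_ne_zero]
        exact mul_ne_zero (mul_ne_zero (div_ne_zero d.two hcc) hpc) hpc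
    · exact ⟨LinearMap.id, fun x y => rfl, rfl, fun x y => rfl, hiso⟩
  obtain ⟨u, hu, huv⟩ := d.exists_left_mem hK 1 1 0 1 (by ring)
  obtain ⟨v, hv, hvv⟩ := d.exists_right_mem hK e he1
  set k := u * v with hk
  have hkv : ∀ x y, k • (i x + j y) = i (e x + e y) + j (e y) := fun x y => by
    rw [hk, mul_smul, hvv, huv]
    simp
  have hkx : k • i a = i a := by simpa [he2] using hkv a 0
  set r := i p + j p' with hrdef
  have hxr : sf (i a) r = 0 := by simp [r, d.ii, d.ij, hp']
  have hxkr : sf (i a) (k • r) = 0 := by rw [← hkx, H48.sf_smul_smul, hxr]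
  have hval : sf r (k • r) = - B p' (e p') := by
    rw [hrdef, hkv, d.sf_sum, map_add, ← he3 p p', d.symm (e p) p']
    ring
  have h' : sroot (i a) (k • r) 1 ∈ K := by
    rw [← hkx, ← H49.sroot_conj]
    exact mul_mem (mul_mem (mul_mem hu hv) h) (inv_mem (mul_mem hu hv))
  clear_value k r
  set y := k • r with hy
  clear_value y
  have hkey : tv (i a) (-2 * sf r y) =
      (sroot (i a) y 1 * sroot (i a) r 1)⁻¹ * (sroot (i a) r 1 * sroot (i a) y 1) := by
    rw [eq_inv_mul_iff_mul_eq]
    refine H48.sp_ext fun w => ?_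
    have h1 := H48.sf_eq_zero_comm hxr
    have h2 := H48.sf_eq_zero_comm hxkr
    simp only [mul_smul, H48.tv_smul, H49.sroot_smul hxr, H49.sroot_smul hxkr, map_add, LinearMap.add_apply,
      map_smul, LinearMap.smul_apply, smul_eq_mul, H48.sf_self, hxr, hxkr, h1, h2, H48.sf_swap r y]
    match_scalars <;> ring
  refine d.ctr_of_tv hK (c₀ := -2 * sf r y)
    (mul_ne_zero (neg_ne_zero.2 d.two) (by rw [hval]; exact neg_ne_zero.2 he4)) ?_
  rw [hkey]
  exact mul_mem (inv_mem (mul_mem h' h)) (mul_mem h h')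

/-- A short root element inside one Lagrangian gives an isotropic centre. -/
theorem ctr_iso_of_short {a p : W} (ha : B a a ≠ 0) (hp : B a p = 0) (hp0 : p ≠ 0)
    (h : sroot (i a) (i p) 1 ∈ K) : ∃ z, z ≠ 0 ∧ B z z = 0 ∧ IsCtr K (i z) := by
  have hshort : IsShort K (i a) (i p) := by
    refine ⟨d.ii _ _, fun c => ?_⟩
    have hsq : ∀ t, sroot (i a) (i p) (t * t) ∈ K := by
      intro t
      rcases eq_or_ne t 0 with rfl | ht
      · rw [zero_mul, H49.sroot_zero]; exact one_mem _
      obtain ⟨g, hg, hgi, -⟩ := d.exists_torus hK ht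
      have e : sroot (g • i a) (g • i p) 1 = sroot (i a) (i p) (t * t) := by
        rw [hgi, hgi, H49.sroot_scale_right _ _ (by rw [map_smul, LinearMap.smul_apply, d.ii, smul_zero]),
          H49.sroot_scale_left _ _ (d.ii _ _), mul_one]
      rw [← e, ← H49.sroot_conj]
      exact mul_mem (mul_mem hg h) (inv_mem hg)
    obtain ⟨x, y, hxy⟩ := exists_two_squares d.two (one_ne_zero (α := F)) one_ne_zero c
    rw [show c = x * x + y * y by linear_combination -hxy, H49.sroot_add_coeff (d.ii _ _)]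
    exact mul_mem (hsq x) (hsq y)
  let R : Submodule F W :=
    { carrier := {q | B a q = 0 ∧ IsShort K (i a) (i q)}
      add_mem' := by
        rintro q q' ⟨hq, hq'⟩ ⟨hr, hr'⟩
        refine ⟨by rw [map_add, hq, hr, add_zero], d.ii _ _, fun c => ?_⟩
        rw [map_add, H49.sroot_comm _ _ (by rw [map_add, d.ii, d.ii, add_zero]),
          H49.sroot_mul_left (d.ii _ _) (d.ii _ _) (d.ii _ _)]
        exact mul_mem (hq'.swap.2 c) (hr'.swap.2 c)
      zero_mem' := ⟨map_zero _, by simp, fun c => by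
        have e : sroot (i a) (i 0) c = 1 := H48.sp_ext fun w => by
          rw [H49.sroot_smul (by simp)]; simp
        rw [e]; exact one_mem _⟩
      smul_mem' := by
        rintro t q ⟨hq, hq'⟩
        refine ⟨by rw [map_smul, hq, smul_zero], d.ii _ _, fun c => ?_⟩
        rw [map_smul, H49.sroot_scale_right _ _ (d.ii _ _)]
        exact hq'.2 _ }
  have hmem : ∀ q ∈ R, ∀ c, B a c = 0 → B c c ≠ 0 → B q c ≠ 0 → c ∈ R := by
    intro q hq c hac hcc hqc
    obtain ⟨g, hg, hgv⟩ := d.exists_right_mem hK (reflW B c) (d.reflW_isom hcc)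
    have hga : g • i a = i a := by simpa [reflW_apply, hac] using hgv a 0
    have hgq : g • i q = i (reflW B c q) := by simpa using hgv q 0
    have h1 : reflW B c q ∈ R := by
      refine ⟨by rw [reflW_apply, map_sub, map_smul, hq.1, hac, smul_zero, sub_zero], ?_⟩
      rw [← hga, ← hgq]
      exact hq.2.group_smul hg
    have h2 := R.sub_mem hq h1
    rw [reflW_apply, sub_sub_cancel] at h2
    exact (R.smul_mem_iff (mul_ne_zero (div_ne_zero d.two hcc) hqc)).1 h2
  obtain ⟨c, hac, hcc, hpc⟩ := d.exists_aniso_perp_ne hp0 hp ha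
  have hcR : c ∈ R := hmem p ⟨hp, hshort⟩ c hac hcc hpc
  obtain ⟨w, haw, hcw, hww⟩ := d.exists_norm_perp ha hcc hac (-(B c c))
  obtain ⟨u, hau, hcu, hwu, huu⟩ := d.exists_aniso_three ha hcc (by rw [hww]; exact neg_ne_zero.2 hcc) hac haw hcw
  set z := c + w with hz
  have hzz : B z z = 0 := by simp [z, hcw, d.symm w c, hww]
  have hzu : B z u = 0 := by simp [z, hcu, hwu]
  have hz0 : z ≠ 0 := fun e => hcc (by have := congrArg (B c) e; simpa [z, hcw] using this)
  have haz : B a z = 0 := by simp [z, hac, haw]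
  have hzR : z ∈ R := by
    have hp1 : z + u ∈ R := hmem c hcR _ (by simp [haz, hau]) (by simp [hzz, hzu, d.symm u z, huu])
      (by simp [z, hcw, hcu, hcc])
    have hp2 : z - u ∈ R := hmem c hcR _ (by simp [haz, hau]) (by simp [hzz, hzu, d.symm u z, huu])
      (by simp [z, hcw, hcu, hcc])
    have h2 := R.add_mem hp1 hp2
    rw [show z + u + (z - u) = (2 : F) • z by rw [two_smul]; abel] at h2
    exact (R.smul_mem_iff d.two).1 h2
  refine ⟨z, hz0, hzz, ?_⟩
  have hza : B z a = 0 := by rw [d.symm, haz]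
  obtain ⟨e, he, hea, hfix⟩ := d.reflect_move (u := a) (u' := a + z) (by simp [haz, hza, hzz]) ha
  obtain ⟨g, hg, hgv⟩ := d.exists_right_mem hK e he
  have hga : g • i a = i (a + z) := by simpa [hea] using hgv a 0
  have hgz : g • i z = i z := by simpa [hfix z hza (by simp [hza, hzz])] using hgv z 0
  have h1 := hzR.2.swap
  have h2 := (hzR.2.group_smul hg).swap
  rw [hga, hgz, map_add i a z] at h2
  exact (h1.sub h2 (d.ii _ _)).isCtr_self d.two

theorem colIn_of_ctr {a : W} (h : IsCtr K (i a)) : ColIn K i j a := by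
  intro p q
  by_cases hp : p = 0
  · subst hp
    rcases eq_or_ne q 0 with rfl | hq
    · rw [zero_smul, zero_smul, add_zero]
      intro c; rw [H48.tv_zero_left]; exact one_mem _
    obtain ⟨g, hg, hgv⟩ := d.exists_left_mem hK 0 (-q⁻¹) q 0 (by field_simp; ring)
    have e : g • i a = (0 : F) • i a + q • j a := by simpa using hgv a 0
    rw [← e]; exact h.group_smul hg
  · obtain ⟨g, hg, hgv⟩ := d.exists_left_mem hK p 0 q p⁻¹ (by rw [mul_inv_cancel₀ hp]; ring)
    have e : g • i a = p • i a + q • j a := by simpa using hgv a 0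
    rw [← e]; exact h.group_smul hg

omit hK in
theorem colIn_vec {a : W} (h : ColIn K i j a) : IsCtr K (i a) := by simpa using h 1 0

theorem colIn_move {a a' : W} (h : ColIn K i j a) (ha : B a a ≠ 0) (he : B a a = B a' a') :
    ColIn K i j a' := by
  obtain ⟨e, he', hea, -⟩ := d.reflect_move he ha
  obtain ⟨g, hg, hgv⟩ := d.exists_right_mem hK e he'
  refine d.colIn_of_ctr hK ?_
  have e1 : g • i a = i a' := by simpa [hea] using hgv a 0
  rw [← e1]; exact (d.colIn_vec h).group_smul hg

theorem colIn_smul {a : W} (h : ColIn K i j a) (t : F) : ColIn K i j (t • a) := by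
  refine d.colIn_of_ctr hK ?_
  rw [map_smul]; exact (d.colIn_vec h).smul_vec t

theorem colIn_sum {a a' b : W} (hab : B a b ≠ 0) (ha : ColIn K i j a) (ha' : IsCtr K (i a' - j b))
    (hb : ColIn K i j b) (hne : B a b + B a' b ≠ 0) : ColIn K i j (a + a') := by
  have h1 : IsCtr K (i a + j b) := by
    have := (d.colIn_vec ha).add_smul_of_ne (a := j b) (by simpa using hb 0 1) (by rw [d.ij]; exact hab) 1
    simpa using this
  refine d.colIn_of_ctr hK ?_
  have h2 := h1.add_smul_of_ne ha' (by
    have e : i a' - j b = i a' + j (-b) := by rw [map_neg, sub_eq_add_neg]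
    rw [e, d.sf_sum, map_neg, d.symm b a']
    intro h
    exact hne (by linear_combination -h)) 1
  rw [one_smul, show i a + j b + (i a' - j b) = i (a + a') by rw [map_add]; abel] at h2
  exact h2

/-- An anisotropic column gives the orthogonal isotropic ones. -/
theorem colIn_iso {a z : W} (h : ColIn K i j a) (ha : B a a ≠ 0) (hz : B a z = 0) (hzz : B z z = 0) (hz0 : z ≠ 0) :
    ColIn K i j z := by
  obtain ⟨c, hac, hcc, hzc⟩ := d.exists_aniso_perp_ne hz0 hz ha
  set w₀ := reflW B c z with hw₀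
  have hw0 : B w₀ w₀ = 0 := by rw [hw₀, d.reflW_isom hcc, hzz]
  have haw0 : B a w₀ = 0 := by simp [w₀, reflW_apply, hz, hac]
  have hzw : B z w₀ ≠ 0 := by
    simp only [w₀, reflW_apply, map_sub, map_smul, smul_eq_mul, hzz, zero_sub, neg_ne_zero]
    exact mul_ne_zero (mul_ne_zero (div_ne_zero d.two hcc) hzc) hzc
  set w := (2 * B a a / B z w₀) • w₀ with hw
  have hzw2 : B z w = 2 * B a a := by simp [w, div_mul_cancel₀ _ hzw]
  have haw : B a w = 0 := by simp [w, haw0]
  have hww : B w w = 0 := by simp [w, hw0]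
  have hza : B z a = 0 := by rw [d.symm, hz]
  have hwa : B w a = 0 := by rw [d.symm, haw]
  have hb : ColIn K i j (a + w) := d.colIn_move hK h ha (by simp [haw, hwa, hww])
  have ha' : ColIn K i j (-a + z) := d.colIn_move hK h ha (by simp [hz, hza, hzz])
  have h1 : B a (a + w) = B a a := by simp [haw]
  have h2 : B (-a + z) (a + w) = B a a := by simp [haw, hza, hzw2]; ring
  have hIs : IsCtr K (i (-a + z) - j (a + w)) := by
    have := (d.colIn_vec ha').add_smul_of_ne (a := j (a + w)) (by simpa using hb 0 1)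
      (by rw [d.ij, h2]; exact ha) (-1)
    rwa [neg_one_smul, ← sub_eq_add_neg] at this
  have := d.colIn_sum hK (a := a) (a' := -a + z) (b := a + w) (by rw [h1]; exact ha) h hIs hb (by
    rw [h1, h2, ← two_mul]; exact mul_ne_zero d.two ha)
  rwa [← add_assoc, add_neg_cancel, zero_add] at this

/-- An isotropic column gives every anisotropic one. -/
theorem colIn_aniso {z y : W} (h : ColIn K i j z) (hz0 : z ≠ 0) (hzz : B z z = 0) (hy : B y y ≠ 0) :
    ColIn K i j y := by
  obtain ⟨c, hzc, hcc⟩ : ∃ c, B z c ≠ 0 ∧ B c c ≠ 0 := by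
    by_contra hcon
    simp only [not_exists, not_and, not_not] at hcon
    obtain ⟨a₀, -, -, hQ⟩ := d.exists_aniso_two z z
    refine hz0 (d.nd z fun b => d.aniso_span (P := ⊤) trivial hQ (B z) (fun x _ hx => ?_) b trivial)
    by_contra hzx
    exact hx (hcon x hzx)
  obtain ⟨g, hg, hgv⟩ := d.exists_right_mem hK (reflW B c) (d.reflW_isom hcc)
  set z₂ := reflW B c z with hz₂
  have hz2 : ColIn K i j z₂ := by
    refine d.colIn_of_ctr hK ?_
    have e1 : g • i z = i z₂ := by simpa using hgv z 0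
    rw [← e1]; exact (d.colIn_vec h).group_smul hg
  have hzz2 : B z₂ z₂ = 0 := by rw [hz₂, d.reflW_isom hcc, hzz]
  have hne : B z z₂ ≠ 0 := by
    simp only [z₂, reflW_apply, map_sub, map_smul, smul_eq_mul, hzz, zero_sub, neg_ne_zero]
    exact mul_ne_zero (mul_ne_zero (div_ne_zero d.two hcc) hzc) hzc
  set μ := B y y / (2 * B z z₂) with hμ
  have hsum := d.colIn_sum hK (a := z) (a' := μ • z₂) (b := z₂) hne h
    (by rw [map_smul, sub_eq_add_neg, ← neg_one_smul F (j z₂)]; exact hz2 μ (-1)) hz2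
    (by simp [hzz2, hne])
  have hn : B (z + μ • z₂) (z + μ • z₂) = B y y := by
    simp only [map_add, map_smul, LinearMap.add_apply, LinearMap.smul_apply, smul_eq_mul, hzz, hzz2,
      d.symm z₂ z, hμ]
    have := d.two
    field_simp
    ring
  exact d.colIn_move hK hsum (by rw [hn]; exact hy) hn

/-- Any centre on an isotropic column gives everything. -/
theorem eq_top_of_iso {z : W} (hz0 : z ≠ 0) (hzz : B z z = 0) (h : IsCtr K (i z)) : K = ⊤ := by
  have hcol := d.colIn_of_ctr hK h
  have haniso : ∀ y, B y y ≠ 0 → ColIn K i j y := fun y hy => d.colIn_aniso hK hcol hz0 hzz hy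
  have hall : ∀ y, ColIn K i j y := by
    intro y
    by_cases hy : B y y = 0
    · rcases eq_or_ne y 0 with rfl | hy0
      · intro p q c
        simp only [map_zero, smul_zero, add_zero, H48.tv_zero_left]
        exact one_mem _
      · obtain ⟨a, ha1, -, ha⟩ := d.exists_aniso_two y y
        exact d.colIn_iso hK (haniso a ha) ha (by rw [d.symm, ha1]) hy hy0
    · exact haniso y hy
  refine H49.eq_top_of_ctr K fun v => ?_
  obtain ⟨a, b, rfl⟩ := d.dec v
  have hpair : ∀ a b, B a b ≠ 0 → IsCtr K (i a + j b) := fun a b hab => by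
    simpa using (d.colIn_vec (hall a)).add_smul_of_ne (a := j b) (by simpa using hall b 0 1)
      (by rw [d.ij]; exact hab) 1
  rcases eq_or_ne b 0 with rfl | hb
  · simpa using d.colIn_vec (hall a)
  by_cases hab : B a b = 0
  swap
  · exact hpair a b hab
  obtain ⟨e₀, he₀⟩ : ∃ e, B b e ≠ 0 := by
    by_contra hcon
    simp only [not_exists, not_not] at hcon
    exact hb (d.nd b hcon)
  set e := (B b e₀)⁻¹ • e₀
  have hbe : B b e = 1 := by simp [e, inv_mul_cancel₀ he₀]
  have heb : B e b = 1 := by rw [d.symm, hbe]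
  have h2 := hpair (-e) b (by simp [heb])
  have h3 := (d.colIn_vec (hall (a + e))).add_smul_of_ne h2
    (by simp [d.ii, d.ij, hab, heb]) 1
  rwa [one_smul, ← add_assoc, ← map_add, add_neg_cancel_right] at h3

/-- An anisotropic centre gives everything. -/
theorem eq_top_of_aniso {a : W} (ha : B a a ≠ 0) (h : IsCtr K (i a)) : K = ⊤ := by
  obtain ⟨z, hz0, haz, hzz⟩ := d.exists_iso_perp ha
  exact d.eq_top_of_iso hK hz0 hzz (d.colIn_vec (d.colIn_iso hK (d.colIn_of_ctr hK h) ha haz hzz hz0))

/-- A short root element gives everything. -/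
theorem eq_top_of_short {a p p' : W} (ha : B a a ≠ 0) (hp : B a p = 0) (hp' : B a p' = 0)
    (hne : i p + j p' ≠ 0) (h : sroot (i a) (i p + j p') 1 ∈ K) : K = ⊤ := by
  by_cases h0 : p' = 0
  · subst h0
    rw [map_zero, add_zero] at h hne
    have hp0 : p ≠ 0 := fun e => hne (by rw [e, map_zero])
    obtain ⟨z, hz0, hzz, hz⟩ := d.ctr_iso_of_short hK ha hp hp0 h
    exact d.eq_top_of_iso hK hz0 hzz hz
  · exact d.eq_top_of_aniso hK ha (d.ctr_of_short hK ha hp hp' h0 h)

end TStr

end H42.SpT
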