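import Cfsg.Agent.H42.SpFourFrame
import Cfsg.Agent.H42.SpTensorShort
import Cfsg.Agent.H49.TensDickson

/-!
Four-dimensional symplectic space with a skew operator whose square is a non-zero scalar: the elements commuting or
anticommuting with it form a maximal subgroup when the field has a scalar other than zero with square not one.
-/

set_option autoImplicit false
set_option linter.unusedSectionVars false

namespace H42.SpFour

open Matrix
open H48 (sf tv)
open H49 (sroot IsCtr)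
open scoped MatrixGroups

variable {F : Type*} [Field F] [Fintype F]

local notation "V" => (Fin 2 ⊕ Fin 2 → F)
local notation "Sp" => Matrix.symplecticGroup (Fin 2) F

/-- Elements commuting or anticommuting with the operator. -/
def Stab (L : (Fin 2 ⊕ Fin 2 → F) →ₗ[F] (Fin 2 ⊕ Fin 2 → F)) (g : Matrix.symplecticGroup (Fin 2) F) : Prop :=
  (∀ v, g • L v = L (g • v)) ∨ ∀ v, g • L v = -L (g • v)

/-- A frame adapted to the operator. -/
structure Frame (L : (Fin 2 ⊕ Fin 2 → F) →ₗ[F] (Fin 2 ⊕ Fin 2 → F)) (ν : F) (e₁ e₂ f₁ f₂ : Fin 2 ⊕ Fin 2 → F) :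
    Prop where
  hyp : Hyp e₁ e₂ f₁ f₂
  Le₁ : L e₁ = e₂
  Le₂ : L e₂ = ν • e₁
  Lf₁ : L f₁ = -(ν • f₂)
  Lf₂ : L f₂ = -f₁
  nu : ν ≠ 0
  two : (2 : F) ≠ 0

/-- Groups of products of commuting or anticommuting elements. -/
theorem Stab.mul {L : V →ₗ[F] V} {g h : Sp} (hg : Stab L g) (hh : Stab L h) : Stab L (g * h) := by
  rcases hg with hg | hg <;> rcases hh with hh | hh <;> [left; right; right; left] <;> intro v <;>
    simp only [mul_smul, hh, hg, smul_neg, neg_neg]

theorem Stab.inv {L : V →ₗ[F] V} {g : Sp} (hg : Stab L g) : Stab L g⁻¹ := by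
  rcases hg with hg | hg <;> [left; right] <;> intro v <;> rw [inv_smul_eq_iff]
  · rw [hg, smul_inv_smul]
  · rw [smul_neg, hg, smul_inv_smul, neg_neg]

namespace Frame

variable {L : (Fin 2 ⊕ Fin 2 → F) →ₗ[F] (Fin 2 ⊕ Fin 2 → F)} {ν : F} {e₁ e₂ f₁ f₂ : Fin 2 ⊕ Fin 2 → F}
  (d : Frame L ν e₁ e₂ f₁ f₂)
include d

theorem stab_comm {g : Sp} (h1 : L (g • e₁) = g • e₂) (h2 : L (g • e₂) = ν • g • e₁)
    (h3 : L (g • f₁) = -(ν • g • f₂)) (h4 : L (g • f₂) = -(g • f₁)) : Stab L g := by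
  left
  intro v
  exact (LinearMap.congr_fun (d.hyp.hom_ext (A := L.comp (DistribMulAction.toLinearEquiv F V g).toLinearMap)
    (B := (DistribMulAction.toLinearEquiv F V g).toLinearMap.comp L) (by simp [d.Le₁, h1])
    (by simp [d.Le₂, h2, smul_comm g]) (by simp [d.Lf₁, h3, smul_neg, smul_comm g])
    (by simp [d.Lf₂, h4, smul_neg])) v).symm

theorem stab_anti {g : Sp} (h1 : L (g • e₁) = -(g • e₂)) (h2 : L (g • e₂) = -(ν • g • e₁))
    (h3 : L (g • f₁) = ν • g • f₂) (h4 : L (g • f₂) = g • f₁) : Stab L g := by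
  right
  intro v
  have := LinearMap.congr_fun (d.hyp.hom_ext (A := L.comp (DistribMulAction.toLinearEquiv F V g).toLinearMap)
    (B := -((DistribMulAction.toLinearEquiv F V g).toLinearMap.comp L)) (by simp [d.Le₁, h1])
    (by simp [d.Le₂, h2, smul_comm g]) (by simp [d.Lf₁, h3, smul_neg, smul_comm g])
    (by simp [d.Lf₂, h4, smul_neg])) v
  simp only [LinearMap.comp_apply, LinearMap.neg_apply] at this
  exact (eq_neg_iff_add_eq_zero.2 (by
    rw [add_comm]
    exact eq_neg_iff_add_eq_zero.1 this))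

/-- The torus. -/
theorem exists_torus_elt {a b : F} (hN : a * a - ν * (b * b) ≠ 0) :
    ∃ g : Sp, Stab L g ∧ g • e₁ = a • e₁ + b • e₂ ∧ g • e₂ = (ν * b) • e₁ + a • e₂ := by
  set n := (a * a - ν * (b * b))⁻¹ with hn
  have hnN : n * (a * a - ν * (b * b)) = 1 := inv_mul_cancel₀ hN
  have h := d.hyp
  have e : Hyp (a • e₁ + b • e₂) ((ν * b) • e₁ + a • e₂) ((n * a) • f₁ + (-(n * ν * b)) • f₂)
      ((-(n * b)) • f₁ + (n * a) • f₂) := by
    refine ⟨?_, ?_, ?_, ?_, ?_, ?_⟩ <;>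
      simp only [map_add, map_smul, LinearMap.add_apply, LinearMap.smul_apply, smul_eq_mul, H48.sf_self, h.xx,
        h.xx', h.yy, h.yy', h.one_one, h.two_two, h.one_two, h.two_one]
    · ring
    · ring
    · linear_combination hnN
    · linear_combination hnN
    · ring
    · ring
  obtain ⟨g, h1, h2, h3, h4⟩ := h.exists_map e
  refine ⟨g, d.stab_comm ?_ ?_ ?_ ?_, h1, h2⟩ <;>
    simp only [h1, h2, h3, h4, map_add, map_smul, d.Le₁, d.Le₂, d.Lf₁, d.Lf₂] <;> module

/-- The reflection. -/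
theorem exists_refl_elt : ∃ g : Sp, Stab L g ∧ g • e₁ = e₁ ∧ g • e₂ = -e₂ ∧ g • f₁ = f₁ ∧ g • f₂ = -f₂ := by
  have h := d.hyp
  obtain ⟨g, h1, h2, h3, h4⟩ := h.exists_map (X₁ := e₁) (X₂ := -e₂) (Y₁ := f₁) (Y₂ := -f₂)
    ⟨by simp [h.xx], by simp [h.yy], h.one_one, by simp [h.two_two], by simp [h.one_two], by simp [h.two_one]⟩
  refine ⟨g, d.stab_anti ?_ ?_ ?_ ?_, h1, h2, h3, h4⟩ <;> simp [h1, h2, h3, h4, d.Le₁, d.Le₂, d.Lf₁, d.Lf₂]

/-- The interchange of the two Lagrangians. -/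
theorem exists_swap_elt : ∃ g : Sp, Stab L g ∧ g • e₁ = f₁ ∧ g • e₂ = (-ν) • f₂ := by
  have h := d.hyp
  have hν := d.nu
  obtain ⟨g, h1, h2, h3, h4⟩ := h.exists_map (X₁ := f₁) (X₂ := (-ν) • f₂) (Y₁ := -e₁) (Y₂ := ν⁻¹ • e₂)
    ⟨by simp [h.yy], by simp [h.xx], by simp [h.one_one'], by simp [h.two_two', inv_mul_cancel₀ hν],
      by simp [h.two_one'], by simp [h.one_two']⟩
  refine ⟨g, d.stab_comm ?_ ?_ ?_ ?_, h1, h2⟩ <;>
    simp only [h1, h2, h3, h4, map_neg, map_smul, d.Le₁, d.Le₂, d.Lf₁, d.Lf₂] <;> match_scalars <;>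
    field_simp <;> ring

/-- The unipotent elements fixing the first Lagrangian. -/
theorem stab_up (t : F) : Stab L (qel e₁ e₂ (-(ν * t)) 0 t) := by
  have h := d.hyp
  refine d.stab_comm ?_ ?_ ?_ ?_ <;>
    simp only [qel_smul h.xx, map_add, map_smul, H48.sf_self, h.xx, h.xx', h.one_one', h.two_two', h.one_two',
      h.two_one', d.Le₁, d.Le₂, d.Lf₁, d.Lf₂] <;> module

/-- The unipotent elements fixing the second Lagrangian. -/
theorem stab_low (t : F) : Stab L (qel f₁ f₂ t 0 (-(ν * t))) := by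
  have h := d.hyp
  refine d.stab_comm ?_ ?_ ?_ ?_ <;>
    simp only [qel_smul h.yy, map_add, map_smul, H48.sf_self, h.yy, h.yy', h.one_one, h.two_two, h.one_two,
      h.two_one, d.Le₁, d.Le₂, d.Lf₁, d.Lf₂] <;> module

/-- The norm form takes every value. -/
theorem exists_norm (c : F) : ∃ a b : F, a * a - ν * (b * b) = c := by
  obtain ⟨a, b, h⟩ := H42.SpT.exists_two_squares d.two (one_ne_zero (α := F)) (neg_ne_zero.2 d.nu) c
  exact ⟨a, b, by linear_combination h⟩

variable {K : Subgroup (Matrix.symplecticGroup (Fin 2) F)} (hK : ∀ g, Stab L g → g ∈ K)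
include hK

/-- A non-scalar element fixing the first Lagrangian gives everything. -/
theorem eq_top_of_up {t : F} (hq : t ≠ 0 ∧ t * t ≠ 1) {p r s : F} (h : qel e₁ e₂ p r s ∈ K)
    (hns : r ≠ 0 ∨ p + ν * s ≠ 0) : K = ⊤ := by
  have hh := d.hyp
  have h2 := d.two
  have hν := d.nu
  have hsq : ∀ {p r s : F}, qel e₁ e₂ p r s ∈ K → ∀ a, qel e₁ e₂ (a * a * p) (a * a * r) (a * a * s) ∈ K := by
    intro p r s h a
    rcases eq_or_ne a 0 with rfl | ha
    · simp only [zero_mul, qel_zero hh.xx]; exact one_mem K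
    obtain ⟨g, hg, g1, g2⟩ := d.exists_torus_elt (a := a) (b := 0) (by simp [ha])
    have := mul_mem (mul_mem (hK g hg) h) (inv_mem (hK g hg))
    rw [qel_conj, g1, g2, qel_comb hh.xx] at this
    convert this using 2 <;> ring
  have hsc : ∀ {p r s : F}, qel e₁ e₂ p r s ∈ K → ∀ c, qel e₁ e₂ (c * p) (c * r) (c * s) ∈ K := by
    intro p r s h c
    obtain ⟨x, y, hxy⟩ := H42.SpT.exists_two_squares h2 (one_ne_zero (α := F)) one_ne_zero c
    have := mul_mem (hsq h x) (hsq h y)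
    rw [qel_mul hh.xx] at this
    convert this using 2 <;>
      first | linear_combination (-p) * hxy | linear_combination (-r) * hxy | linear_combination (-s) * hxy
  have hadd : ∀ {p r s p' r' s' : F}, qel e₁ e₂ p r s ∈ K → qel e₁ e₂ p' r' s' ∈ K →
      qel e₁ e₂ (p + p') (r + r') (s + s') ∈ K := fun h h' => qel_mul hh.xx _ _ _ _ _ _ ▸ mul_mem h h'
  have hP : ∀ c, qel e₁ e₂ (-(ν * c)) 0 c ∈ K := fun c => hK _ (d.stab_up c)
  -- the two coordinates modulo the scalars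
  have split : ∀ {p r s : F}, qel e₁ e₂ p r s ∈ K →
      qel e₁ e₂ 0 r 0 ∈ K ∧ qel e₁ e₂ (p + ν * s) 0 0 ∈ K := by
    intro p r s h
    obtain ⟨g, hg, g1, g2, -, -⟩ := d.exists_refl_elt
    have h' := mul_mem (mul_mem (hK g hg) h) (inv_mem (hK g hg))
    have e := qel_comb hh.xx 1 0 0 (-1) p r s
    simp only [one_smul, zero_smul, add_zero, zero_add, neg_one_smul] at e
    rw [qel_conj, g1, g2, e] at h'
    have h'' : qel e₁ e₂ p (-r) s ∈ K := by convert h' using 2 <;> ring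
    constructor
    · have := hsc (hadd h (by rw [← qel_inv hh.xx]; exact inv_mem h'')) (2 : F)⁻¹
      convert this using 2 <;> field_simp <;> ring
    · have := hadd (hsc (hadd h h'') (2 : F)⁻¹) (hP (-s))
      convert this using 2 <;> field_simp <;> ring
  have hmove : ∀ {p r s : F}, qel e₁ e₂ p r s ∈ K → ∀ b, 1 - ν * (b * b) ≠ 0 →
      qel e₁ e₂ (p + 2 * (ν * b * r) + ν * b * (ν * b) * s) (b * p + (1 + b * (ν * b)) * r + ν * b * s)
        (b * b * p + 2 * (b * r) + s) ∈ K := by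
    intro p r s h b hb
    obtain ⟨g, hg, g1, g2⟩ := d.exists_torus_elt (a := 1) (b := b) (by simpa using hb)
    have := mul_mem (mul_mem (hK g hg) h) (inv_mem (hK g hg))
    rw [qel_conj, g1, g2, qel_comb hh.xx] at this
    convert this using 2 <;> ring
  obtain ⟨b, hb0, hb⟩ : ∃ b : F, b ≠ 0 ∧ 1 - ν * (b * b) ≠ 0 := by
    by_cases h1 : 1 - ν * (1 * 1) = 0
    · refine ⟨t, hq.1, fun e => hq.2 ?_⟩
      linear_combination -e + (t * t) * h1
    · exact ⟨1, one_ne_zero, h1⟩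
  have hall : ∀ p r s, qel e₁ e₂ p r s ∈ K := by
    obtain ⟨hr, hσ⟩ : (∀ c, qel e₁ e₂ 0 c 0 ∈ K) ∧ ∀ c, qel e₁ e₂ c 0 0 ∈ K := by
      obtain ⟨h1, h3⟩ := split h
      suffices ∃ r' σ', r' ≠ 0 ∧ σ' ≠ 0 ∧ qel e₁ e₂ 0 r' 0 ∈ K ∧ qel e₁ e₂ σ' 0 0 ∈ K by
        obtain ⟨r', σ', hr', hσ', hA, hB⟩ := this
        refine ⟨fun c => ?_, fun c => ?_⟩
        · simpa [div_mul_cancel₀ _ hr'] using hsc hA (c / r')
        · simpa [div_mul_cancel₀ _ hσ'] using hsc hB (c / σ')
      rcases hns with hr0 | hσ0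
      · have := (split (hmove h1 b hb)).2
        refine ⟨r, _, hr0, ?_, h1, this⟩
        rw [show (0 : F) + 2 * (ν * b * r) + ν * b * (ν * b) * 0 + ν * (b * b * 0 + 2 * (b * r) + 0) =
          2 * 2 * ν * b * r by ring]
        exact mul_ne_zero (mul_ne_zero (mul_ne_zero (mul_ne_zero h2 h2) hν) hb0) hr0
      · have := (split (hmove h3 b hb)).1
        refine ⟨_, p + ν * s, ?_, hσ0, this, h3⟩
        simpa using mul_ne_zero hb0 hσ0
    intro p r s
    have := hadd (hadd (hσ (p + ν * s)) (hr r)) (hP s)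
    convert this using 2 <;> ring
  -- every vector is a centre
  have htopc : ∀ a b : F, IsCtr K (a • e₁ + b • e₂) := by
    intro a b c
    have e := qel_comb hh.xx a b 0 0 c 0 0
    rw [zero_smul, zero_smul, add_zero] at e
    rw [tv_eq_qel (x := a • e₁ + b • e₂) (y := 0) (map_zero _), e]
    exact hall _ _ _
  obtain ⟨w, hw, w1, w2⟩ := d.exists_swap_elt
  have hbot : ∀ a b : F, IsCtr K (a • f₁ + b • f₂) := by
    intro a b
    have := (htopc a (-(b / ν))).group_smul (hK w hw)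
    rw [smul_add, smul_comm w a, smul_comm w _ e₂, w1, w2, smul_smul,
      show -(b / ν) * -ν = b by field_simp] at this
    exact this
  refine H49.eq_top_of_ctr K fun v => ?_
  rw [hh.dec v, add_assoc _ _ (sf e₂ v • f₂)]
  set a := sf v f₁
  set a' := sf v f₂
  set c := sf e₁ v
  set c' := sf e₂ v
  have hval : ∀ a a' c c' : F, sf (a • e₁ + a' • e₂) (c • f₁ + c' • f₂) = a * c + a' * c' := by
    intro a a' c c'
    simp [hh.one_one, hh.two_two, hh.one_two, hh.two_one]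
  have hpair : ∀ a a' c c' : F, a * c + a' * c' ≠ 0 → IsCtr K (a • e₁ + a' • e₂ + (c • f₁ + c' • f₂)) :=
    fun a a' c c' hne => by
      simpa using (htopc a a').add_smul_of_ne (hbot c c') (by rw [hval]; exact hne) 1
  by_cases hne : a * c + a' * c' = 0
  swap
  · exact hpair _ _ _ _ hne
  by_cases ha : a = 0 ∧ a' = 0
  · rw [ha.1, ha.2]
    simpa using hbot c c'
  obtain ⟨k, k', hk⟩ : ∃ k k' : F, a * k + a' * k' = 1 := by
    by_cases ha0 : a = 0
    · exact ⟨0, a'⁻¹, by rw [mul_zero, zero_add, mul_inv_cancel₀ fun e => ha ⟨ha0, e⟩]⟩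
    · exact ⟨a⁻¹, 0, by rw [mul_zero, add_zero, mul_inv_cancel₀ ha0]⟩
  have h1 := hpair a a' k k' (by rw [hk]; exact one_ne_zero)
  have h3 := h1.add_smul_of_ne (hbot (c - k) (c' - k')) (by
    rw [LinearMap.map_add₂, hval, show sf (k • f₁ + k' • f₂) ((c - k) • f₁ + (c' - k') • f₂) = 0 by
      simp [hh.yy, hh.yy', H48.sf_self], add_zero]
    intro e
    exact one_ne_zero (α := F) (by linear_combination hne - e - hk)) 1
  convert h3 using 1
  module

end Frame

end H42.SpFour
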