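import Cfsg.Agent.H42.SpFourCore
import Cfsg.Agent.H49.StabMax
import Cfsg.Agent.H49.Adjoint
import Cfsg.Agent.H49.RegularCentralizer

/-!
Clause (5) of the four-dimensional symplectic bundle: the unitary type field normaliser.
-/

set_option autoImplicit false
open Cfsg
open Matrix
open H48 (sf tv)

namespace H42.SpFourUnitary

/-- A skew operator with non-square square has an isotropic vector. -/
theorem exists_isotropic {F : Type*} [Field F] [Fintype F]
    {L : (Fin 2 ⊕ Fin 2 → F) →ₗ[F] (Fin 2 ⊕ Fin 2 → F)} {ν : F} (hskew : ∀ x y, sf (L x) y = - sf x (L y))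
    (hsq : ∀ x, L (L x) = ν • x) (hν : ν ≠ 0) (h2 : (2 : F) ≠ 0) :
    ∃ v, v ≠ 0 ∧ sf (L v) v = 0 := by
  obtain ⟨x, hx⟩ := exists_ne (0 : Fin 2 ⊕ Fin 2 → F)
  by_cases hN : sf (L x) x = 0
  · exact ⟨x, hx, hN⟩
  obtain ⟨z, hzk, hz0⟩ := Submodule.exists_mem_ne_zero_of_ne_bot
    (LinearMap.ker_ne_bot_of_finrank_lt (f := (H48.sf x).prod (H48.sf (L x))) (by
      rw [Module.finrank_prod, Module.finrank_self, Module.finrank_pi, Fintype.card_sum, Fintype.card_fin]
      omega))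
  have z1 : sf x z = 0 := congrArg Prod.fst hzk
  have z2 : sf (L x) z = 0 := congrArg Prod.snd hzk
  obtain ⟨a, b, hab⟩ := H42.SpT.exists_two_squares h2 (one_ne_zero (α := F)) (neg_ne_zero.2 hν)
    (-(sf (L z) z / sf (L x) x))
  have z3 : sf (L z) x = 0 := by rw [hskew, H48.sf_swap, z2, neg_zero, neg_zero]
  have z4 : sf x (L z) = 0 := H48.sf_eq_zero_comm z3
  have z5 : sf (L x) (L z) = 0 := by rw [hskew, hsq, map_smul, z1, smul_zero, neg_zero]
  have x1 : sf x (L x) = -sf (L x) x := H48.sf_swap _ _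
  refine ⟨a • x + b • L x + z, ?_, ?_⟩
  · intro e
    have e1 := congrArg (sf (L x)) e
    have e2 := congrArg (sf x) e
    simp [H48.sf_self, z1, z2, x1, hN] at e1 e2
    exact hz0 (by simpa [e1, e2] using e)
  · simp only [map_add, map_smul, LinearMap.add_apply, LinearMap.smul_apply, smul_eq_mul, hsq, z1, z2, z3, z4,
      z5, x1, H48.sf_self, H48.sf_eq_zero_comm z1, H48.sf_eq_zero_comm z2, H48.sf_eq_zero_comm z5]
    field_simp at hab
    linear_combination hab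

/-- The unitary type field normaliser in the four-dimensional symplectic group. -/
theorem maximal {F : Type*} [Field F] [Fintype F] (hodd : Odd (Fintype.card F)) (hq5 : 5 ≤ Fintype.card F)
    (K : Subalgebra F (Matrix (Fin 2 ⊕ Fin 2) (Fin 2 ⊕ Fin 2) F)) (hK : Cfsg.Geo.IsFieldSubalgebra 2 K)
    (hac : Cfsg.Geo.IsAdjointClosedFor (Cfsg.sympForm 2 F) K)
    (hnsa : ¬ Cfsg.Geo.IsSelfAdjointFor (Cfsg.sympForm 2 F) K) :
    Cfsg.Geo.IsMaximalIn (Cfsg.spGL 2 F) (Cfsg.Geo.subalgebraNormalizer K ⊓ Cfsg.spGL 2 F) := by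
  classical
  have h2 : (2 : F) ≠ 0 := H49.two_ne_zero_of_odd hodd
  obtain ⟨k, hk, u, v, huv⟩ : ∃ k ∈ K, ∃ u v, Cfsg.sympForm 2 F (k *ᵥ u) v ≠ Cfsg.sympForm 2 F u (k *ᵥ v) := by
    simpa [Cfsg.Geo.IsSelfAdjointFor] using hnsa
  obtain ⟨k', hk', hadj⟩ := hac k hk
  have hk'eq : k' = H49.adjS k := by
    refine H49.ext_sf fun a b => ?_
    rw [← H49.sf_mulVec, ← H48.sympForm_eq_sf, ← H48.sympForm_eq_sf]
    exact (hadj a b).symm
  obtain ⟨j, hjK, hjadj, hj0⟩ : ∃ j ∈ K, H49.adjS j = -j ∧ j ≠ 0 := by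
    refine ⟨k - k', sub_mem hk hk', ?_, fun h => huv ?_⟩
    · rw [hk'eq, H49.adjS_sub, H49.adjS_adjS, neg_sub]
    · rw [hadj u v, ← sub_eq_zero.1 h]
  have hjns : ∀ c : F, j ≠ c • 1 := by
    intro c hc
    have h := hjadj
    rw [hc, H49.adjS_scalar, ← neg_smul] at h
    have h' := smul_left_injective F (one_ne_zero : (1 : Matrix (Fin 2 ⊕ Fin 2) (Fin 2 ⊕ Fin 2) F) ≠ 0) h
    have : (2 : F) * c = 0 := by linear_combination h'
    exact hj0 (by rw [hc, (mul_eq_zero.1 this).resolve_left h2, zero_smul])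
  have hspan : Submodule.span F {(1 : Matrix (Fin 2 ⊕ Fin 2) (Fin 2 ⊕ Fin 2) F), j} =
      Subalgebra.toSubmodule K := by
    have hli : LinearIndependent F ![(1 : Matrix (Fin 2 ⊕ Fin 2) (Fin 2 ⊕ Fin 2) F), j] := by
      rw [LinearIndependent.pair_iff' one_ne_zero]
      exact fun c => (hjns c).symm
    refine Submodule.eq_of_le_of_finrank_eq ?_ ?_
    · rw [Submodule.span_le, Set.insert_subset_iff, Set.singleton_subset_iff]
      exact ⟨K.one_mem, hjK⟩
    · have h := finrank_span_eq_card hli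
      rw [Matrix.range_cons, Matrix.range_cons, Matrix.range_empty, Set.union_empty, Set.singleton_union,
        Fintype.card_fin] at h
      rw [h]
      exact hK.finrank_eq.symm
  have hmemK : ∀ x, x ∈ K ↔ ∃ a b : F, a • (1 : Matrix (Fin 2 ⊕ Fin 2) (Fin 2 ⊕ Fin 2) F) + b • j = x := fun x => by
    rw [← Subalgebra.mem_toSubmodule, ← hspan, Submodule.mem_span_pair]
  obtain ⟨ν, hν⟩ : ∃ ν : F, j * j = ν • 1 := by
    obtain ⟨a, b, hab⟩ := (hmemK _).1 (K.mul_mem hjK hjK)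
    refine ⟨a, ?_⟩
    have h := congrArg H49.adjS hab
    rw [H49.adjS_mul, hjadj, neg_mul_neg, H49.adjS_add, H49.adjS_scalar, H49.adjS_smul, hjadj, ← hab] at h
    have h' : (2 * b) • j = 0 := by linear_combination (norm := module) -h
    rw [← hab, (mul_eq_zero.1 ((smul_eq_zero.1 h').resolve_right hj0)).resolve_left h2, zero_smul, add_zero]
  let L : (Fin 2 ⊕ Fin 2 → F) →ₗ[F] (Fin 2 ⊕ Fin 2 → F) := Matrix.toLin' j
  have hL : ∀ w, L w = j *ᵥ w := fun w => rfl
  have hskew : ∀ x y, sf (L x) y = - sf x (L y) := fun x y => by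
    rw [hL, hL, H49.sf_mulVec, hjadj, neg_mulVec, map_neg]
  have hsq : ∀ x, L (L x) = ν • x := fun x => by rw [hL, hL, mulVec_mulVec, hν, smul_mulVec, one_mulVec]
  have hnonsq : ¬ IsSquare ν := by
    rintro ⟨c, rfl⟩
    have hne : j - c • 1 ≠ 0 := sub_ne_zero.2 (hjns c)
    obtain ⟨y, -, hy⟩ := hK.inv _ (sub_mem hjK (K.smul_mem K.one_mem c)) hne
    have hprod : (j + c • 1) * (j - c • 1) = 0 := by
      simp only [add_mul, mul_sub, mul_smul_comm, smul_mul_assoc, one_mul, mul_one, hν, smul_smul]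
      module
    have : (j + c • 1) * ((j - c • 1) * y) = 0 := by rw [← mul_assoc, hprod, zero_mul]
    rw [hy, mul_one] at this
    exact hjns (-c) (by rw [neg_smul]; exact eq_neg_of_add_eq_zero_left this)
  have hν0 : ν ≠ 0 := fun e => hnonsq ⟨0, by rw [e, mul_zero]⟩
  have hline : ∀ (x : Fin 2 ⊕ Fin 2 → F) (c : F), L x = c • x → x = 0 := by
    intro x c hx
    by_contra hx0
    have := congrArg L hx
    rw [hsq, map_smul, hx, smul_smul] at this
    exact hnonsq ⟨c, smul_left_injective F hx0 this⟩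
  have hcomm : ∀ (x : Matrix.symplecticGroup (Fin 2) F),
      H42.SpFour.Stab L x → H49.spHom 2 F x ∈ Cfsg.Geo.subalgebraNormalizer K := by
    intro x hx
    obtain ⟨ε, hε, hU⟩ : ∃ ε : F, ε * ε = 1 ∧ ∀ w, x • L w = ε • L (x • w) := by
      rcases hx with hx | hx
      · exact ⟨1, one_mul 1, fun w => by rw [one_smul, hx]⟩
      · exact ⟨-1, by norm_num, fun w => by rw [neg_one_smul, hx]⟩
    have hfwd : ∀ (U : GL (Fin 2 ⊕ Fin 2) F) (ε : F),
        (U : Matrix (Fin 2 ⊕ Fin 2) (Fin 2 ⊕ Fin 2) F) * j =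
          ε • (j * (U : Matrix (Fin 2 ⊕ Fin 2) (Fin 2 ⊕ Fin 2) F)) →
        ∀ y ∈ K, (U : Matrix (Fin 2 ⊕ Fin 2) (Fin 2 ⊕ Fin 2) F) * y *
          ((U⁻¹ : GL (Fin 2 ⊕ Fin 2) F) : Matrix (Fin 2 ⊕ Fin 2) (Fin 2 ⊕ Fin 2) F) ∈ K := by
      intro U ε hU y hy
      obtain ⟨a, b, rfl⟩ := (hmemK _).1 hy
      refine (hmemK _).2 ⟨a, b * ε, ?_⟩
      rw [mul_add, mul_smul_comm, mul_smul_comm, hU, mul_one, add_mul, smul_mul_assoc, smul_mul_assoc,
        smul_mul_assoc, mul_assoc, Units.mul_inv, mul_one, smul_smul]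
    set U := H49.spHom 2 F x with hUdef
    have hUj : (U : Matrix (Fin 2 ⊕ Fin 2) (Fin 2 ⊕ Fin 2) F) * j =
        ε • (j * (U : Matrix (Fin 2 ⊕ Fin 2) (Fin 2 ⊕ Fin 2) F)) := Matrix.ext_iff_mulVec.2 fun w => by
      rw [← mulVec_mulVec, smul_mulVec, ← mulVec_mulVec]
      exact hU w
    intro y
    refine ⟨fun hy => hfwd U ε hUj y hy, fun hy => ?_⟩
    have hU' : ((U⁻¹ : GL (Fin 2 ⊕ Fin 2) F) : Matrix (Fin 2 ⊕ Fin 2) (Fin 2 ⊕ Fin 2) F) * j =
        ε • (j * ((U⁻¹ : GL (Fin 2 ⊕ Fin 2) F) : Matrix (Fin 2 ⊕ Fin 2) (Fin 2 ⊕ Fin 2) F)) := by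
      rw [Units.inv_mul_eq_iff_eq_mul, mul_smul_comm, ← mul_assoc, hUj, smul_mul_assoc, smul_smul, hε, one_smul,
        mul_assoc, Units.mul_inv, mul_one]
    have h := hfwd U⁻¹ ε hU' _ hy
    rwa [inv_inv, ← mul_assoc, ← mul_assoc, Units.inv_mul, one_mul, mul_assoc, Units.inv_mul, mul_one] at h
  refine ⟨lt_of_le_of_ne inf_le_right ?_, fun M hHM hMK => ?_⟩
  · intro heq
    obtain ⟨v, hv⟩ := exists_ne (0 : Fin 2 ⊕ Fin 2 → F)
    obtain ⟨w, hwk, hw0⟩ := Submodule.exists_mem_ne_zero_of_ne_bot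
      (LinearMap.ker_ne_bot_of_finrank_lt (f := (H48.sf v).prod (H48.sf (L v))) (by
        rw [Module.finrank_prod, Module.finrank_self, Module.finrank_pi, Fintype.card_sum, Fintype.card_fin]
        omega))
    have hT : H49.spHom 2 F (tv v 1) ∈ Cfsg.Geo.subalgebraNormalizer K := by
      have := H49.spHom_mem_spGL (tv v (1 : F))
      rw [← heq] at this
      exact this.1
    obtain ⟨a, b, hab⟩ := (hmemK _).1 ((hT j).1 hjK)
    have hrel : ∀ z, tv v (1 : F) • L z = a • (tv v (1 : F) • z) + b • L (tv v (1 : F) • z) := by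
      intro z
      have h := congrArg (fun X => X *ᵥ
        ((H49.spHom 2 F (tv v 1) : Matrix (Fin 2 ⊕ Fin 2) (Fin 2 ⊕ Fin 2) F) *ᵥ z)) hab
      simp only [add_mulVec, smul_mulVec, one_mulVec] at h
      conv at h => rhs; rw [mulVec_mulVec, mul_assoc, Units.inv_mul, mul_one, ← mulVec_mulVec]
      exact h.symm
    have hw1 : sf w v = 0 := H48.sf_eq_zero_comm (congrArg Prod.fst hwk)
    have hw2 : sf (L w) v = 0 := by
      rw [hskew, H48.sf_swap, neg_neg]
      exact congrArg Prod.snd hwk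
    have h := hrel w
    simp only [H48.tv_smul, hw1, hw2, mul_zero, zero_smul, add_zero] at h
    have ha : a = 0 ∧ b = 1 := by
      by_cases hb : b = 1
      · refine ⟨?_, hb⟩
        rw [hb, one_smul, eq_comm, add_eq_right, smul_eq_zero] at h
        exact h.resolve_right hw0
      · refine (hw0 (hline w (a / (1 - b)) ?_)).elim
        have hL' : (1 - b) • L w = a • w := by linear_combination (norm := module) h
        rw [div_eq_inv_mul, ← smul_smul, ← hL', smul_smul, inv_mul_cancel₀ (sub_ne_zero.2 (Ne.symm hb)),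
          one_smul]
    obtain ⟨z, hz⟩ := H48.exists_sf_ne hv
    have hz' : sf z v ≠ 0 := fun e => hz (H48.sf_eq_zero_comm e)
    have h' := hrel z
    rw [ha.1, ha.2, zero_smul, zero_add, one_smul, H48.tv_smul, H48.tv_smul, map_add, map_smul, one_mul, one_mul,
      add_right_inj] at h'
    refine hv (hline v (sf (L z) v / sf z v) ?_)
    rw [div_eq_inv_mul, ← smul_smul, h', smul_smul, inv_mul_cancel₀ hz', one_smul]
  obtain ⟨v, hv, hv1⟩ := exists_isotropic hskew hsq hν0 h2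
  have hv' : L v ∉ Submodule.span F {v} := by
    intro h
    obtain ⟨c, hc⟩ := Submodule.mem_span_singleton.1 h
    exact hv (hline v c hc.symm)
  rcases H42.SpFour.top_or_stab hskew hsq hν0 h2 hv1 hv' hq5 (K := M.comap (H49.spHom 2 F))
    (fun g hg => hHM ⟨hcomm g hg, H49.spHom_mem_spGL g⟩) with htop | hstab
  · refine Or.inr (le_antisymm hMK fun g hg => ?_)
    obtain ⟨y, rfl⟩ := H49.exists_spHom_eq hg
    have : y ∈ M.comap (H49.spHom 2 F) := by rw [htop]; trivial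
    exact this
  · refine Or.inl (le_antisymm (fun g hg => ?_) hHM)
    obtain ⟨y, rfl⟩ := H49.exists_spHom_eq (hMK hg)
    exact ⟨hcomm y (hstab y hg), hMK hg⟩

end H42.SpFourUnitary
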