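import Cfsg.Agent.H45.SympDecomp

set_option autoImplicit false
open Cfsg Cfsg.Geo H45

namespace H42.SpGenDecomp

/-- The stabiliser of a non-degenerate orthogonal decomposition in the symplectic group, for `2 ≤ m`. -/
theorem maximal_of_two_le {F : Type*} [Field F] [Fintype F] (m : ℕ) (hm : 2 ≤ m) {t : ℕ} (k : ℕ) (D : Fin t → Submodule F (Fin m ⊕ Fin m → F)) (hD : Cfsg.Geo.IsNondegenerateMDecomposition (Cfsg.sympForm m F) k D) (hex : ¬ (k = 2 ∧ Fintype.card F = 2)) : Cfsg.Geo.IsMaximalIn (Cfsg.spGL m F) (Cfsg.Geo.decompositionStabilizer D ⊓ Cfsg.spGL m F) := by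
  classical
  have hb := sympForm_bilinear m F
  have halt := sympForm_self m F
  have ht := hD.decomp.two_le
  have hk : Module.finrank F (D ⟨0, by omega⟩) = k := hD.decomp.finrank_eq _
  have hkpos := hD.decomp.pos
  -- a hyperbolic pair in each member
  have hpair : ∀ l, ∃ e e', e ∈ D l ∧ e' ∈ D l ∧ sympForm m F e e' = 1 := by
    intro l
    obtain ⟨e, he, e', he', h⟩ := exists_hyperbolic_pair hb halt (hD.nondegenerate l) (d := k - 1)
      (by rw [hD.decomp.finrank_eq]; omega)
    exact ⟨e, e', he, he', h⟩
  choose e e' he he' hee using hpair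
  have he0 : ∀ l, e l ≠ 0 := fun l h => by
    have := hee l; rw [h, bl_zero_left hb] at this; exact zero_ne_one this
  have hee' : ∀ l, sympForm m F (e' l) (e l) = -1 := fun l => by
    rw [alt_skew hb halt, hee]
  have hk2 : 2 ≤ k := by
    have h := pair_finrank hb halt (he ⟨0, by omega⟩) (he' ⟨0, by omega⟩) (hee ⟨0, by omega⟩)
    omega
  -- in each member a further non-zero vector orthogonal to `e`
  have hperp : ∀ l, ∃ a ∈ D l, a ≠ 0 ∧ a ≠ e l ∧ sympForm m F a (e l) = 0 := by
    intro l
    by_cases hq : ∃ c : F, c ≠ 0 ∧ c ≠ 1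
    · obtain ⟨c, hc0, hc1⟩ := hq
      refine ⟨c • e l, Submodule.smul_mem _ _ (he l), smul_ne_zero hc0 (he0 l), ?_, ?_⟩
      · intro h
        rw [← sub_eq_zero] at h
        nth_rw 2 [← one_smul F (e l)] at h
        rw [← sub_smul, smul_eq_zero, sub_eq_zero] at h
        exact h.elim hc1 (he0 l)
      · rw [hb.smul_left, halt, mul_zero]
    push Not at hq
    have hcard : Fintype.card F = 2 := by
      rw [← Finset.card_univ, show (Finset.univ : Finset F) = {0, 1} from by
        ext x
        simp only [Finset.mem_univ, Finset.mem_insert, Finset.mem_singleton, true_iff]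
        by_cases hx : x = 0
        · exact Or.inl hx
        · exact Or.inr (hq x hx), Finset.card_pair zero_ne_one]
    have hk3 : 3 ≤ k := by
      by_contra
      exact hex ⟨by omega, hcard⟩
    have h := pair_finrank hb halt (he l) (he' l) (hee l)
    rw [hD.decomp.finrank_eq] at h
    obtain ⟨a, ha, ha0⟩ := Submodule.exists_mem_ne_zero_of_ne_bot
      (p := D l ⊓ LinearMap.ker ((bil hb).flip (e l)) ⊓ LinearMap.ker ((bil hb).flip (e' l)))
      (by intro hbot; rw [hbot, finrank_bot] at h; omega)
    rw [mem_pairPerp hb] at ha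
    refine ⟨a, ha.1, ha0, ?_, ha.2.1⟩
    intro hae
    have h' := ha.2.2
    rw [hae, hee] at h'
    exact one_ne_zero h'
  choose a ha ha0 hae hafe using hperp
  -- vectors with given components
  set P := proj (sympForm_bilinear m F) hD with hP
  have hcomp : ∀ (S : Finset (Fin t)) (c : Fin t → (Fin m ⊕ Fin m → F)), (∀ l, c l ∈ D l) →
      ∀ l, P l (∑ j ∈ S, c j) = if l ∈ S then c l else 0 := by
    intro S c hc l
    have : ∑ j ∈ S, c j = ∑ j, if j ∈ S then c j else 0 := by simp
    rw [this, hP, proj_sum (sympForm_bilinear m F) hD _ (fun j => by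
      split
      · exact hc j
      · exact zero_mem _) l]
  have hsupp : ∀ (S : Finset (Fin t)) (c : Fin t → (Fin m ⊕ Fin m → F)), (∀ l, c l ∈ D l) →
      (∀ l ∈ S, c l ≠ 0) → support hD (∑ j ∈ S, c j) = S := by
    intro S c hc hne
    ext l
    rw [mem_support, ← hP, hcomp S c hc l]
    by_cases hl : l ∈ S <;> simp [hl]
    exact hne l hl
  constructor
  · refine lt_of_le_of_ne inf_le_right fun h => ?_
    have hmem : stv (e ⟨0, by omega⟩ + e ⟨1, by omega⟩) (1 : F) ∈
        decompositionStabilizer D ⊓ spGL m F := by rw [h]; exact stv_mem _ _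
    obtain ⟨σ, hσ⟩ := apply_mem_of_mem_decompositionStabilizer hmem.1
    set i : Fin t := ⟨0, by omega⟩
    set j : Fin t := ⟨1, by omega⟩
    have hij : i ≠ j := fun h => by simpa [i, j] using congrArg Fin.val h
    have hx := hσ i (e' i) (he' i)
    rw [act_tv, hb.add_right, hee', hD.orthogonal i j hij _ (he' i) _ (he j), add_zero, one_mul,
      neg_smul, one_smul] at hx
    have h1 : e' i + -(e i + e j) = (e' i - e i) + -e j := by abel
    rw [h1] at hx
    have hPi : P i ((e' i - e i) + -e j) = e' i - e i := by
      rw [hP, map_add, proj_self hb hD (sub_mem (he' i) (he i)),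
        proj_other hb hD hij (neg_mem (he j)), add_zero]
    have hPj : P j ((e' i - e i) + -e j) = -e j := by
      rw [hP, map_add, proj_other hb hD (Ne.symm hij) (sub_mem (he' i) (he i)),
        proj_self hb hD (neg_mem (he j)), zero_add]
    by_cases hl : σ i = i
    · rw [hl] at hx
      rw [hP, proj_other hb hD (Ne.symm hij) hx] at hPj
      exact he0 j (neg_eq_zero.mp hPj.symm)
    · rw [hP, proj_other hb hD (Ne.symm hl) hx] at hPi
      have := hee i
      rw [sub_eq_zero.mp hPi.symm, halt] at this
      exact zero_ne_one this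
  intro M hHM hMK
  by_cases hMH : M ≤ decompositionStabilizer D ⊓ spGL m F
  · exact Or.inl (le_antisymm hMH hHM)
  right
  obtain ⟨g, hgM, hgH⟩ := SetLike.not_le_iff_exists.mp hMH
  -- some image of a member vector meets two members
  obtain ⟨u₀, hu₀, hcard₀⟩ : ∃ u ∈ tvDirections M, 2 ≤ (support hD u).card := by
    by_contra hcon
    push Not at hcon
    have hone : ∀ l, ∀ x ∈ D l, ∃ j, act g x ∈ D j := by
      intro l x hx
      have hc := hcon _ (tvDirections_act hMK hgM (member_mem_tvDirections hD hHM hMK hx))
      by_cases hempty : support hD (act g x) = ∅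
      · refine ⟨⟨0, by omega⟩, ?_⟩
        rw [← sum_proj hb hD (act g x), Finset.sum_eq_zero]
        · exact zero_mem _
        · intro j _
          by_contra hne
          have := (mem_support hD (v := act g x) (i := j)).mpr hne
          rw [hempty] at this
          simp at this
      · have hpos : 0 < (support hD (act g x)).card := by
          rw [Finset.card_pos]; exact Finset.nonempty_iff_ne_empty.mpr hempty
        obtain ⟨j, hj⟩ := Finset.card_eq_one.mp (show (support hD (act g x)).card = 1 by omega)
        refine ⟨j, ?_⟩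
        rw [← sum_proj hb hD (act g x), Finset.sum_eq_single j]
        · exact proj_mem hb hD j _
        · intro b _ hbj
          by_contra hne
          have := (mem_support hD (v := act g x) (i := b)).mpr hne
          rw [hj, Finset.mem_singleton] at this
          exact hbj this
        · simp
    have hmap : ∀ l, ∃ j, ∀ x ∈ D l, act g x ∈ D j := by
      intro l
      obtain ⟨j, hj⟩ := hone l (e l) (he l)
      refine ⟨j, fun x hx => ?_⟩
      obtain ⟨j₁, hj₁⟩ := hone l x hx
      obtain ⟨j₂, hj₂⟩ := hone l (x + e l) (add_mem hx (he l))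
      rw [act_add] at hj₂
      by_cases h1 : j₁ = j
      · exact h1 ▸ hj₁
      have hp2 : ∀ i, i ≠ j₂ → P i (act g x + act g (e l)) = 0 := fun i hi =>
        proj_other hb hD hi hj₂
      by_cases h2 : j₂ = j
      · have hpx := hp2 j₁ (h2 ▸ h1)
        rw [hP, map_add, proj_self hb hD hj₁, proj_other hb hD h1 hj, add_zero] at hpx
        rw [hpx]; exact zero_mem _
      · have hpx := hp2 j (Ne.symm h2)
        rw [hP, map_add, proj_self hb hD hj, proj_other hb hD (Ne.symm h1) hj₁, zero_add] at hpx
        exact absurd (act_injective g (hpx.trans (act_zero g).symm)) (he0 l)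
    choose τ hτ using hmap
    have hinjτ : Function.Injective τ := by
      intro i j hij
      by_contra hne
      have e1 := map_eq_of_maps_into g (hτ i) (by rw [hD.decomp.finrank_eq, hD.decomp.finrank_eq])
      have h2 := hτ j (e j) (he j)
      rw [← hij, ← e1] at h2
      obtain ⟨y, hy, hy'⟩ := h2
      have hye : y = e j := act_injective g (by simpa [act] using hy')
      subst hye
      exact he0 j (by rw [← proj_self hb hD (he j), proj_other hb hD (Ne.symm hne) hy])
    exact hgH ⟨mem_decompositionStabilizer_of_maps_into hD.decomp.finrank_eq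
      (Equiv.ofBijective τ ⟨hinjτ, Finite.injective_iff_surjective.mp hinjτ⟩) hτ, hMK hgM⟩
  -- the realised supports
  let R : Finset (Fin t) → Prop := fun S => ∀ v, support hD v = S → v ∈ tvDirections M
  have hR : ∀ u ∈ tvDirections M, R (support hD u) := fun u hu v hv =>
    same_support hD hHM hMK hu hv.symm
  have hdown : ∀ S : Finset (Fin t), 3 ≤ S.card → R S → ∀ j ∈ S, R (S.erase j) := by
    intro S hS hRS j hj
    obtain ⟨i, hi, hij⟩ := Finset.exists_mem_ne (s := S) (by omega) j
    set c : Fin t → (Fin m ⊕ Fin m → F) :=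
      fun l => if l = j then e l else if l = i then e' l else a l with hc
    have hcD : ∀ l, c l ∈ D l := fun l => by
      simp only [hc]; split_ifs
      · exact he l
      · exact he' l
      · exact ha l
    have hc0 : ∀ l, c l ≠ 0 := fun l => by
      simp only [hc]; split_ifs
      · exact he0 l
      · intro h; have := hee l; rw [h, bl_zero_right hb] at this; exact zero_ne_one this
      · exact ha0 l
    have hu : ∑ l ∈ S, e l ∈ tvDirections M := hRS _ (hsupp S e he fun l _ => he0 l)
    have hw : ∑ l ∈ S, c l ∈ tvDirections M := hRS _ (hsupp S c hcD fun l _ => hc0 l)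
    have hfval : sympForm m F (∑ l ∈ S, c l) (∑ l ∈ S, e l) ≠ 0 := by
      rw [form_eq_sum hb hD, Finset.sum_eq_single i]
      · rw [← hP, hcomp S c hcD, hcomp S e he, if_pos hi, if_pos hi]
        simp only [hc, if_neg hij, ↓reduceIte]
        rw [hee']; exact neg_ne_zero.mpr one_ne_zero
      · intro l _ hli
        rw [← hP, hcomp S c hcD, hcomp S e he]
        by_cases hlS : l ∈ S
        · rw [if_pos hlS, if_pos hlS]
          simp only [hc, if_neg hli]
          split_ifs
          · exact halt _
          · exact hafe l
        · simp [hlS, bl_zero_left hb]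
      · simp
    have := tvDirections_add_smul hMK hu hw hfval (-1)
    rw [neg_smul, one_smul, ← sub_eq_add_neg, ← Finset.sum_sub_distrib,
      ← Finset.add_sum_erase S _ hj] at this
    have hcj : c j - e j = 0 := by simp [hc]
    rw [hcj, zero_add] at this
    have h2 := hR _ this
    rwa [hsupp (S.erase j) (fun l => c l - e l) (fun l => sub_mem (hcD l) (he l)) (fun l hl => by
      have hlj := Finset.ne_of_mem_erase hl
      simp only [hc, if_neg hlj]
      split_ifs
      · intro h
        have := hee l
        rw [sub_eq_zero.mp h, halt] at this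
        exact zero_ne_one this
      · exact sub_ne_zero.mpr (hae l))] at h2
  have hup : ∀ (S : Finset (Fin t)) (i l : Fin t), i ∈ S → l ∉ S → R S → R {i, l} →
      R (insert l S) := by
    intro S i l hi hl hRS hRp
    have hil : i ≠ l := fun h => hl (h ▸ hi)
    set c : Fin t → (Fin m ⊕ Fin m → F) := fun j => if j = i then e' j else e j with hc
    have hcD : ∀ j, c j ∈ D j := fun j => by
      simp only [hc]; split_ifs
      · exact he' j
      · exact he j
    have hc0 : ∀ j, c j ≠ 0 := fun j => by
      simp only [hc]; split_ifs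
      · intro h; have := hee j; rw [h, bl_zero_right hb] at this; exact zero_ne_one this
      · exact he0 j
    have hu : ∑ j ∈ S, e j ∈ tvDirections M := hRS _ (hsupp S e he fun j _ => he0 j)
    have hw : ∑ j ∈ ({i, l} : Finset (Fin t)), c j ∈ tvDirections M :=
      hRp _ (hsupp _ c hcD fun j _ => hc0 j)
    have hfval : sympForm m F (∑ j ∈ ({i, l} : Finset (Fin t)), c j) (∑ j ∈ S, e j) ≠ 0 := by
      rw [form_eq_sum hb hD, Finset.sum_eq_single i]
      · rw [← hP, hcomp _ c hcD, hcomp S e he, if_pos hi, if_pos (by simp)]
        simp only [hc, ↓reduceIte]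
        rw [hee']; exact neg_ne_zero.mpr one_ne_zero
      · intro j _ hji
        rw [← hP, hcomp _ c hcD, hcomp S e he]
        by_cases hjS : j ∈ S
        · have : j ∉ ({i, l} : Finset (Fin t)) := by
            simp [hji]; intro h; exact hl (h ▸ hjS)
          rw [if_neg this, bl_zero_left hb]
        · rw [if_neg hjS, bl_zero_right hb]
      · simp
    have := hR _ (tvDirections_add_smul hMK hu hw hfval 1)
    rw [one_smul, Finset.sum_pair hil] at this
    simp only [hc, ↓reduceIte, if_neg (Ne.symm hil)] at this
    rw [← Finset.add_sum_erase S _ hi] at this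
    rw [show e' i + e l + (e i + ∑ j ∈ S.erase i, e j) =
      (e' i + e i) + (e l + ∑ j ∈ S.erase i, e j) by abel] at this
    let d : Fin t → (Fin m ⊕ Fin m → F) := fun j => if j = i then e' j + e j else e j
    have hd : (e' i + e i) + (e l + ∑ j ∈ S.erase i, e j) = ∑ j ∈ insert l S, d j := by
      rw [Finset.sum_insert hl, ← Finset.add_sum_erase S _ hi,
        Finset.sum_congr rfl (fun j hj => if_neg (Finset.ne_of_mem_erase hj) :
          ∀ j ∈ S.erase i, d j = e j)]
      simp only [d, ↓reduceIte, if_neg (Ne.symm hil)]
      abel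
    rwa [hd, hsupp (insert l S) d (fun j => by
      simp only [d]; split_ifs
      · exact add_mem (he' j) (he j)
      · exact he j) (fun j _ => by
      simp only [d]; split_ifs
      · intro h
        have := hee j
        rw [eq_neg_of_add_eq_zero_left h, show -e j = (-1 : F) • e j by simp, hb.smul_right,
          halt, mul_zero] at this
        exact zero_ne_one this
      · exact he0 j)] at this
  have hswap : ∀ (S : Finset (Fin t)) (i j : Fin t), R S → R (S.image (Equiv.swap i j)) := by
    intro S i j hRS
    obtain ⟨σ, hσH, hσ⟩ := exists_swap hD i j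
    have hu : ∑ l ∈ S, e l ∈ tvDirections M := hRS _ (hsupp S e he fun l _ => he0 l)
    have := hR _ (tvDirections_act hMK (hHM hσH) hu)
    have hsum : act σ (∑ l ∈ S, e l) =
        ∑ l ∈ S.image (Equiv.swap i j), act σ (e (Equiv.swap i j l)) := by
      rw [act_sum, Finset.sum_image (fun x _ y _ h => (Equiv.swap i j).injective h)]
      simp
    rwa [hsum, hsupp _ (fun l => act σ (e (Equiv.swap i j l))) (fun l => by
        simpa using hσ (Equiv.swap i j l) _ (he (Equiv.swap i j l))) (fun l _ h =>
        he0 _ (act_injective σ (h.trans (act_zero σ).symm)))] at this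
  have hpairR : ∃ i j, i ≠ j ∧ R {i, j} := by
    suffices h : ∀ n (S : Finset (Fin t)), S.card = n + 2 → R S → ∃ i j, i ≠ j ∧ R {i, j} from
      h ((support hD u₀).card - 2) _ (by omega) (hR u₀ hu₀)
    intro n
    induction n with
    | zero =>
      intro S hS hRS
      obtain ⟨i, j, hij, rfl⟩ := Finset.card_eq_two.mp hS
      exact ⟨i, j, hij, hRS⟩
    | succ n ih =>
      intro S hS hRS
      obtain ⟨j, hj⟩ := Finset.card_pos.mp (show 0 < S.card by omega)
      exact ih _ (by rw [Finset.card_erase_of_mem hj]; omega) (hdown S (by omega) hRS j hj)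
  obtain ⟨i₀, j₀, hne₀, hR₀⟩ := hpairR
  have hpairs : ∀ i l, i ≠ l → R {i, l} := by
    intro i l hil
    have h1 := hswap _ i₀ i hR₀
    rw [Finset.image_insert, Finset.image_singleton, Equiv.swap_apply_left] at h1
    set j₁ := Equiv.swap i₀ i j₀ with hj₁
    have hj₁i : j₁ ≠ i := by
      rw [hj₁]
      intro h
      rw [Equiv.swap_apply_eq_iff, Equiv.swap_apply_right] at h
      exact hne₀ h.symm
    have h2 := hswap _ j₁ l h1
    rwa [Finset.image_insert, Finset.image_singleton, Equiv.swap_apply_left,
      Equiv.swap_apply_of_ne_of_ne (Ne.symm hj₁i) hil] at h2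
  have hall : ∀ S : Finset (Fin t), R S := by
    intro S
    induction S using Finset.induction with
    | empty =>
      intro v hv
      have : v = 0 := by
        rw [← sum_proj hb hD v]
        refine Finset.sum_eq_zero fun l _ => ?_
        by_contra h
        have := (mem_support hD).mpr h
        rw [hv] at this
        simp at this
      rw [this]
      exact member_mem_tvDirections hD hHM hMK (zero_mem (D i₀))
    | insert l S hl ih =>
      rcases S.eq_empty_or_nonempty with rfl | ⟨i, hi⟩
      · intro v hv
        have : v ∈ D l := by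
          rw [← sum_proj hb hD v, Finset.sum_eq_single l]
          · exact proj_mem hb hD l v
          · intro b _ hbl
            by_contra h
            have := (mem_support hD).mpr h
            rw [hv] at this
            simp at this
            exact hbl this
          · simp
        exact member_mem_tvDirections hD hHM hMK this
      · exact hup S i l hi hl ih (hpairs i l fun h => hl (h ▸ hi))
  refine le_antisymm hMK (spGL_le_of_stv_mem fun v c _ => ?_)
  exact hall (support hD v) v rfl c

/-- The stabiliser of a non-degenerate orthogonal decomposition in the symplectic group, for `5 ≤ m`. -/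
theorem maximal {F : Type*} [Field F] [Fintype F] (m : ℕ) (hm : 5 ≤ m) {t : ℕ} (k : ℕ) (D : Fin t → Submodule F (Fin m ⊕ Fin m → F)) (hD : Cfsg.Geo.IsNondegenerateMDecomposition (Cfsg.sympForm m F) k D) (hex : ¬ (k = 2 ∧ Fintype.card F = 2)) : Cfsg.Geo.IsMaximalIn (Cfsg.spGL m F) (Cfsg.Geo.decompositionStabilizer D ⊓ Cfsg.spGL m F) :=
  maximal_of_two_le m (le_trans (by norm_num) hm) k D hD hex

end H42.SpGenDecomp
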