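import Cfsg.Agent.H49.ExtFieldOver

set_option autoImplicit false
open Cfsg
open Matrix
open H48 (sf tv)

namespace H42.SpGenField

/-- The extension field normaliser in the symplectic group, for `5 ≤ m`. -/
theorem maximal {F : Type*} [Field F] [Fintype F] (m : ℕ) (hm : 5 ≤ m) (r : ℕ) (hr : r.Prime) (K : Subalgebra F (Matrix (Fin m ⊕ Fin m) (Fin m ⊕ Fin m) F)) (hK : Cfsg.Geo.IsFieldSubalgebra r K) (hsa : Cfsg.Geo.IsSelfAdjointFor (Cfsg.sympForm m F) K) (halt : ∀ k ∈ K, ∀ v : (Fin m ⊕ Fin m → F), Cfsg.sympForm m F (Matrix.mulVec k v) v = 0) : Cfsg.Geo.IsMaximalIn (Cfsg.spGL m F) (Cfsg.Geo.subalgebraNormalizer K ⊓ Cfsg.spGL m F) := by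
  classical
  haveI : Nonempty (Fin m ⊕ Fin m) := ⟨Sum.inl ⟨0, by omega⟩⟩
  have hF : IsField K := by
    refine ⟨⟨0, 1, zero_ne_one⟩, fun a b => Subtype.ext (hK.comm _ a.2 _ b.2), fun {a} ha => ?_⟩
    obtain ⟨y, hy, hxy⟩ := hK.inv _ a.2 fun e => ha (Subtype.ext e)
    exact ⟨⟨y, hy⟩, Subtype.ext hxy⟩
  letI : Field K := hF.toField
  haveI : Fintype K := Fintype.ofFinite _
  haveI : Module.Finite F K := Module.Finite.of_finite
  let ρ : K →ₐ[F] Module.End F (Fin m ⊕ Fin m → F) :=
    (Matrix.toLinAlgEquiv' (R := F) (n := Fin m ⊕ Fin m)).toAlgHom.comp K.val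
  have hρ : ∀ (c : K) x, ρ c x = (c : Matrix (Fin m ⊕ Fin m) (Fin m ⊕ Fin m) F) *ᵥ x := fun c x => rfl
  obtain ⟨τ, hτ⟩ : ∃ τ : K →ₗ[F] F, τ ≠ 0 := exists_ne 0
  obtain ⟨φ, hφ⟩ := H49.exists_extForm ρ hτ
  have d : H49.ExtStr ρ τ φ := by
    refine ⟨fun c x y => ?_, fun c x => ?_, hτ, hφ, ?_, hm⟩
    · rw [hρ, hρ, ← H48.sympForm_eq_sf, ← H48.sympForm_eq_sf]
      exact hsa _ c.2 x y
    · rw [hρ, ← H48.sympForm_eq_sf]
      exact halt _ c.2 x
    · have : Module.finrank F K = r := hK.finrank_eq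
      rw [this]; exact hr
  -- membership in the normaliser
  have hnorm : ∀ x : Matrix.symplecticGroup (Fin m) F, (∀ c : K, ∃ e : K, ∀ w, ρ c (x • w) = x • ρ e w) →
      H49.spHom m F x ∈ Cfsg.Geo.subalgebraNormalizer K := by
    intro x hx
    choose f hf using hx
    set X := H49.spHom m F x
    have hmat : ∀ c : K, (c : Matrix (Fin m ⊕ Fin m) (Fin m ⊕ Fin m) F) * X.1 = X.1 * (f c).1 := fun c =>
      Matrix.ext_iff_mulVec.2 fun w => by
        rw [← mulVec_mulVec, ← mulVec_mulVec]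
        exact hf c w
    have hinj : Function.Injective f := fun a b e => by
      have h := hmat a
      rw [e, ← hmat b] at h
      exact Subtype.ext ((Units.mul_left_inj X).1 h)
    have hsurj := Finite.injective_iff_surjective.1 hinj
    intro k
    constructor
    · intro hk
      obtain ⟨c, hc⟩ := hsurj ⟨k, hk⟩
      have h := hmat c
      rw [hc] at h
      rw [← h, mul_assoc, Units.mul_inv, mul_one]
      exact c.2
    · intro hk
      have h := hmat ⟨_, hk⟩
      rw [mul_assoc, mul_assoc, Units.inv_mul, mul_one] at h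
      rw [(Units.mul_right_inj X).1 h]
      exact (f _).2
  refine ⟨lt_of_le_of_ne inf_le_right ?_, fun M hHM hMK => ?_⟩
  · intro heq
    obtain ⟨c, hc⟩ : ∃ c : K, ∀ t : F, c ≠ t • 1 := by
      by_contra hcon
      simp only [not_exists, not_forall, not_not] at hcon
      have : Module.finrank F K ≤ 1 := finrank_le_one (1 : K) fun w => (hcon w).imp fun t ht => ht.symm
      have h2 : Module.finrank F K = r := hK.finrank_eq
      have := hr.two_le
      omega
    obtain ⟨v, hv⟩ := exists_ne (0 : Fin m ⊕ Fin m → F)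
    have hT : H49.spHom m F (tv v 1) ∈ Cfsg.Geo.subalgebraNormalizer K := by
      have := H49.spHom_mem_spGL (tv v (1 : F))
      rw [← heq] at this
      exact this.1
    obtain ⟨e, he⟩ : ∃ e : K, ∀ w, ρ c (tv v (1 : F) • w) = tv v (1 : F) • ρ e w := by
      have h := (hT (((H49.spHom m F (tv v 1))⁻¹ : GL (Fin m ⊕ Fin m) F).1 * c.1 * (H49.spHom m F (tv v 1)).1)).2 (by
        rw [← mul_assoc, ← mul_assoc, Units.mul_inv, one_mul, mul_assoc, Units.mul_inv, mul_one]; exact c.2)
      refine ⟨⟨_, h⟩, fun w => ?_⟩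
      rw [hρ, hρ, ← H49.spHom_mulVec, ← H49.spHom_mulVec, mulVec_mulVec, mulVec_mulVec]
      show _ = ((H49.spHom m F (tv v 1)).1 *
        (((H49.spHom m F (tv v 1))⁻¹ : GL (Fin m ⊕ Fin m) F).1 * c.1 * (H49.spHom m F (tv v 1)).1)) *ᵥ w
      rw [← mul_assoc, ← mul_assoc, Units.mul_inv, one_mul]
    have hce : c = e := by
      by_contra hne
      let φv : (Fin m ⊕ Fin m → F) →ₗ[F] F := (sf (l := Fin m) (F := F)).flip v
      have hle : (LinearMap.ker φv).map (ρ (c - e)) ≤ Submodule.span F {v} := by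
        rintro _ ⟨x, hx, rfl⟩
        have hx' : sf x v = 0 := hx
        have h := he x
        rw [H48.tv_smul, H48.tv_smul, hx', mul_zero, zero_smul, add_zero, one_mul] at h
        refine Submodule.mem_span_singleton.2 ⟨sf (ρ e x) v, ?_⟩
        rw [map_sub, LinearMap.sub_apply, h, add_sub_cancel_left]
      have hinj : Function.Injective (ρ (c - e)) := fun a b h => by
        rw [← sub_eq_zero, ← map_sub] at h
        exact sub_eq_zero.1 ((d.rho_eq_zero h).resolve_left (sub_ne_zero.2 hne))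
      have h1 := Submodule.finrank_mono hle
      rw [← (Submodule.equivMapOfInjective _ hinj _).finrank_eq, finrank_span_singleton hv] at h1
      have h2 := LinearMap.finrank_range_add_finrank_ker φv
      have h3 := Submodule.finrank_le (LinearMap.range φv)
      rw [Module.finrank_self] at h3
      rw [Module.finrank_pi, Fintype.card_sum, Fintype.card_fin] at h2
      omega
    subst hce
    obtain ⟨z, hz⟩ := H48.exists_sf_ne hv
    have hz' : sf z v ≠ 0 := fun e => hz (H48.sf_eq_zero_comm e)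
    have h := he z
    rw [H48.tv_smul, H48.tv_smul, map_add, map_smul, one_mul, one_mul, add_right_inj] at h
    have h4 : ρ c v = ρ (((sf z v)⁻¹ * sf (ρ c z) v) • (1 : K)) v := by
      rw [map_smul, map_one, LinearMap.smul_apply, Module.End.one_apply, ← smul_smul, ← h, inv_smul_smul₀ hz']
    exact hc _ (d.rho_inj hv h4)
  by_cases hle : M ≤ Cfsg.Geo.subalgebraNormalizer K
  · exact Or.inl (le_antisymm (le_inf hle hMK) hHM)
  obtain ⟨g, hgM, hgD⟩ := SetLike.not_le_iff_exists.mp hle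
  obtain ⟨x, rfl⟩ := H49.exists_spHom_eq (hMK hgM)
  have htop : M.comap (H49.spHom m F) = ⊤ :=
    d.eq_top_of_not_normal
      (fun y hy => hHM ⟨hnorm y fun c => ⟨c, fun w => (hy c w).symm⟩, H49.spHom_mem_spGL y⟩)
      (g := x) hgM fun hx => hgD (hnorm x hx)
  refine Or.inr (le_antisymm hMK fun g hg => ?_)
  obtain ⟨y, rfl⟩ := H49.exists_spHom_eq hg
  have : y ∈ M.comap (H49.spHom m F) := by rw [htop]; trivial
  exact this

end H42.SpGenField
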