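import Cfsg.Agent.H49.PairStab
import Cfsg.Agent.H49.RegularCentralizer

set_option autoImplicit false
open Cfsg

namespace H42.SpGenPair

/-- The stabiliser of a pair of complementary Lagrangians in the symplectic group, for `5 ≤ m`. -/
theorem maximal {F : Type*} [Field F] [Fintype F] (m : ℕ) (hm : 5 ≤ m) (hodd : Odd (Fintype.card F)) (D : Fin 2 → Submodule F (Fin m ⊕ Fin m → F)) (hD : Cfsg.Geo.IsMDecomposition m D) (hts : ∀ i, Cfsg.Geo.IsTotallySingularFor (Cfsg.sympForm m F) (D i)) : Cfsg.Geo.IsMaximalIn (Cfsg.spGL m F) (Cfsg.Geo.decompositionStabilizer D ⊓ Cfsg.spGL m F) := by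
  classical
  have h2 : (2 : F) ≠ 0 := H49.two_ne_zero_of_odd hodd
  have hcompl : IsCompl (D 0) (D 1) := by
    refine ⟨hD.indep.pairwiseDisjoint Fin.zero_ne_one, codisjoint_iff.2 (eq_top_iff.2 ?_)⟩
    rw [← hD.iSup_eq_top]
    refine iSup_le fun i => ?_
    fin_cases i
    · exact le_sup_left
    · exact le_sup_right
  have d : H49.LPair (D 0) (D 1) :=
    ⟨hts 0, hts 1, hcompl, hD.finrank_eq 0, hD.finrank_eq 1, by omega, h2⟩
  have hperm : ∀ σ : Equiv.Perm (Fin 2), (σ 0 = 0 ∧ σ 1 = 1) ∨ (σ 0 = 1 ∧ σ 1 = 0) := by decide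
  have hmem : ∀ s : Matrix.symplecticGroup (Fin m) F,
      H49.spHom m F s ∈ Cfsg.Geo.decompositionStabilizer D ↔
        (H49.Fixes (D 0) (D 1) s ∨
          ((∀ x ∈ D 0, s • x ∈ D 1) ∧ ∀ x ∈ D 1, s • x ∈ D 0)) := by
    intro s
    let L := DistribMulAction.toLinearEquiv F (Fin m ⊕ Fin m → F) s
    have hL : Matrix.toLin' ((H49.spHom m F s : GL (Fin m ⊕ Fin m) F) :
        Matrix (Fin m ⊕ Fin m) (Fin m ⊕ Fin m) F) = L.toLinearMap := LinearMap.ext fun x => rfl
    have heq : ∀ i j, (∀ x ∈ D i, s • x ∈ D j) → (D i).map L.toLinearMap = D j := fun i j h =>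
      Submodule.eq_of_le_of_finrank_eq (Submodule.map_le_iff_le_comap.2 h)
        (by rw [LinearEquiv.finrank_map_eq, hD.finrank_eq, hD.finrank_eq])
    constructor
    · rintro ⟨σ, hσ⟩
      have h : ∀ i, ∀ x ∈ D i, s • x ∈ D (σ i) := fun i x hx => hσ i ▸ ⟨x, hx, rfl⟩
      rcases hperm σ with ⟨e0, e1⟩ | ⟨e0, e1⟩
      · exact Or.inl ⟨fun x hx => e0 ▸ h 0 x hx, fun x hx => e1 ▸ h 1 x hx⟩
      · exact Or.inr ⟨fun x hx => e0 ▸ h 0 x hx, fun x hx => e1 ▸ h 1 x hx⟩
    · rintro (⟨h0, h1⟩ | ⟨h0, h1⟩)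
      · refine ⟨1, fun i => ?_⟩
        rw [hL]
        fin_cases i
        · exact heq 0 0 h0
        · exact heq 1 1 h1
      · refine ⟨Equiv.swap 0 1, fun i => ?_⟩
        rw [hL]
        fin_cases i
        · exact heq 0 1 h0
        · exact heq 1 0 h1
  refine ⟨lt_of_le_of_ne inf_le_right ?_, fun M hHM hMK => ?_⟩
  · intro heq
    have h0 : D 0 ≠ ⊥ := fun e => by
      have := hD.finrank_eq 0
      rw [e, finrank_bot] at this
      omega
    obtain ⟨a, ha, ha0⟩ := (Submodule.ne_bot_iff _).1 h0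
    obtain ⟨b, hb, -, hab⟩ := d.exists_b (S := ⊥) bot_le ha (by simpa using ha0)
    have hb0 : b ≠ 0 := fun e => by simp [e] at hab
    have hg : H49.spHom m F (H48.tv (a + b) 1) ∈ Cfsg.Geo.decompositionStabilizer D := by
      have := H49.spHom_mem_spGL (m := m) (F := F) (H48.tv (a + b) 1)
      rw [← heq] at this
      exact this.1
    have hga : H48.tv (a + b) 1 • a = (2 : F) • a + b := by
      rw [H48.tv_smul, map_add, H48.sf_self, hab, zero_add, one_mul, one_smul, two_smul, add_assoc]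
    rcases (hmem _).1 hg with ⟨h, -⟩ | ⟨h, -⟩
    · have := h a ha
      rw [hga, (D 0).add_mem_iff_right ((D 0).smul_mem _ ha)] at this
      exact hb0 (Submodule.disjoint_def.1 hcompl.disjoint b this hb)
    · have := h a ha
      rw [hga, (D 1).add_mem_iff_left hb, (D 1).smul_mem_iff h2] at this
      exact ha0 (Submodule.disjoint_def.1 hcompl.disjoint a ha this)
  by_cases hle : M ≤ Cfsg.Geo.decompositionStabilizer D
  · exact Or.inl (le_antisymm (le_inf hle hMK) hHM)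
  obtain ⟨g, hgM, hgD⟩ := SetLike.not_le_iff_exists.mp hle
  obtain ⟨g', rfl⟩ := H49.exists_spHom_eq (hMK hgM)
  refine Or.inr (le_antisymm hMK fun s hs => ?_)
  have hK : M.comap (H49.spHom m F) = ⊤ :=
    d.eq_top_of_moves (fun a ha => hHM ⟨(hmem a).2 (Or.inl ha), H49.spHom_mem_spGL a⟩)
      (fun w h0 h1 => hHM ⟨(hmem w).2 (Or.inr ⟨h0, h1⟩), H49.spHom_mem_spGL w⟩)
      hgM (fun h => hgD ((hmem g').2 h))
  obtain ⟨s', rfl⟩ := H49.exists_spHom_eq hs
  have : s' ∈ M.comap (H49.spHom m F) := by rw [hK]; trivial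
  exact this

end H42.SpGenPair
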