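import Cfsg.Agent.H45.SympForm
import Cfsg.Agent.H45.QuadChar2

set_option autoImplicit false
open Cfsg Cfsg.Geo H45

namespace H42.SpGenQuad

/-- The orthogonal group in even characteristic in the symplectic group, for `3 ≤ m`. -/
theorem maximal_of_three_le {F : Type*} [Field F] [Fintype F] (m : ℕ) (hm : 3 ≤ m) (heven : ¬ Odd (Fintype.card F)) (Q : (Fin m ⊕ Fin m → F) → F) (hQ : Cfsg.Geo.IsNondegenerateQuadraticForm Q) (hpol : ∀ u v, QuadraticMap.polar Q u v = Cfsg.sympForm m F u v) : Cfsg.Geo.IsMaximalIn (Cfsg.spGL m F) (Cfsg.Geo.quadSimilarityGroup Q ⊓ Cfsg.spGL m F) := by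
  have hchar : ringChar F = 2 := FiniteField.even_card_iff_char_two.mpr
    (Nat.even_iff.mp (Nat.not_odd_iff_even.mp heven))
  have : CharP F 2 := hchar ▸ ringChar.charP F
  have hdim : 2 * 2 < Fintype.card (Fin m ⊕ Fin m) := by simp; omega
  have h2 : (2 : F) = 0 := CharTwo.two_eq_zero
  have hb := sympForm_bilinear m F
  -- membership in the isometry group, and the two directions of the comparison with `H`
  have hiso : ∀ g : Matrix.GeneralLinearGroup (Fin m ⊕ Fin m) F,
      g ∈ isometryGroup F Q → g ∈ quadSimilarityGroup Q ⊓ spGL m F := by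
    intro g hg
    rw [mem_isometryGroup] at hg
    refine ⟨⟨1, fun v => by simpa [act] using hg v⟩, mem_spGL.mpr fun u v => ?_⟩
    rw [← hpol, ← hpol]
    simp only [QuadraticMap.polar, act, ← Matrix.mulVec_add]
    simp only [act] at hg
    rw [hg, hg, hg]
  have hiso' : ∀ g : Matrix.GeneralLinearGroup (Fin m ⊕ Fin m) F,
      g ∈ quadSimilarityGroup Q ⊓ spGL m F → g ∈ isometryGroup F Q := by
    rintro g ⟨⟨c, hc⟩, hg⟩
    obtain ⟨x, hx⟩ : ∃ x : Fin m ⊕ Fin m → F, x ≠ 0 := ⟨Pi.single (.inl ⟨0, by omega⟩) 1, by simp⟩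
    obtain ⟨y, hy⟩ := (sympForm_nondegenerate m F x hx).1
    have h1 : sympForm m F (act g y) (act g x) = (c : F) * sympForm m F y x := by
      rw [← hpol, ← hpol]
      simp only [QuadraticMap.polar, act, ← Matrix.mulVec_add, hc]
      ring
    rw [mem_spGL.mp hg] at h1
    have hc1 : (c : F) = 1 := by
      have h3 : ((c : F) - 1) * sympForm m F y x = 0 := by rw [sub_mul, ← h1]; ring
      exact sub_eq_zero.mp ((mul_eq_zero.mp h3).resolve_right hy)
    rw [mem_isometryGroup]
    intro v
    simpa [hc1] using hc v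
  -- values of `Q` after a transvection
  have htv : ∀ (R : (Fin m ⊕ Fin m → F) → F) (v x : Fin m ⊕ Fin m → F) (l : F),
      (∀ (c : F) (u : Fin m ⊕ Fin m → F), R (c • u) = c ^ 2 * R u) →
      (∀ u w, QuadraticMap.polar R u w = sympForm m F u w) →
      R (act (stv v l) x) = R x + l * (l * R v + 1) * sympForm m F x v ^ 2 := by
    intro R v x l hs hp
    rw [act_tv, quad_add (Q := R), hs, hp, hb.smul_right]
    ring
  constructor
  · refine lt_of_le_of_ne inf_le_right fun he => ?_
    obtain ⟨u, hu⟩ : ∃ x : Fin m ⊕ Fin m → F, x ≠ 0 := ⟨Pi.single (.inl ⟨0, by omega⟩) 1, by simp⟩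
    obtain ⟨v, hv1, hv2⟩ := exists_quad_one hQ (by omega) hu 1 0
    rw [hpol] at hv1
    have hv : v ≠ 0 := by
      rintro rfl
      rw [bl_zero_left hb] at hv1
      exact zero_ne_one hv1
    obtain ⟨x, hx⟩ := (sympForm_nondegenerate m F v hv).1
    have hmem : stv v 1 ∈ quadSimilarityGroup Q ⊓ spGL m F := by rw [he]; exact stv_mem v 1
    have h := mem_isometryGroup.mp (hiso' _ hmem) x
    rw [htv Q v x 1 hQ.smul hpol, hv2] at h
    simp at h
    exact hx h
  intro M hHM hMK
  by_cases hMH : M ≤ quadSimilarityGroup Q ⊓ spGL m F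
  · exact Or.inl (le_antisymm hMH hHM)
  right
  refine le_antisymm hMK (spGL_le_of_stv_mem fun v l hv => ?_)
  obtain ⟨g, hgM, hgH⟩ := SetLike.not_le_iff_exists.mp hMH
  have hgSp := mem_spGL.mp (hMK hgM)
  -- the difference of `Q ∘ g` and `Q` is the square of a linear functional
  choose r hr using fun x : F => exists_sq x
  have hinj : ∀ x y : F, x ^ 2 = y ^ 2 → x = y := fun x y h =>
    frobenius_inj F 2 (by simpa [frobenius_def] using h)
  have hadd : ∀ x y, Q (act g (x + y)) - Q (x + y) =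
      (Q (act g x) - Q x) + (Q (act g y) - Q y) := by
    intro x y
    have e : act g (x + y) = act g x + act g y := Matrix.mulVec_add _ _ _
    rw [e, quad_add (Q := Q) (act g x), quad_add (Q := Q) x, hpol, hpol, hgSp]
    ring
  let L : (Fin m ⊕ Fin m → F) →ₗ[F] F :=
    { toFun := fun x => r (Q (act g x) - Q x)
      map_add' := fun x y => hinj _ _ (by
        rw [hr, hadd, add_sq, hr, hr, h2]; ring)
      map_smul' := fun c x => hinj _ _ (by
        have e : act g (c • x) = c • act g x := Matrix.mulVec_smul _ _ _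
        rw [hr, e, hQ.smul, hQ.smul, RingHom.id_apply, smul_eq_mul, mul_pow, hr]; ring) }
  obtain ⟨a, ha⟩ := exists_rep hb (sympForm_nondegenerate m F) L
  have hga : ∀ x, Q (act g x) = Q x + sympForm m F x a ^ 2 := by
    intro x
    rw [ha]
    change Q (act g x) = Q x + r (Q (act g x) - Q x) ^ 2
    rw [hr]; ring
  have ha0 : a ≠ 0 := by
    rintro rfl
    exact hgH (hiso g (mem_isometryGroup.mpr fun x => by simp [hga, bl_zero_right hb]))
  by_cases hl : l = 0
  · have : stv v l = 1 := gl_ext fun x => by rw [act_tv, hl]; simp [act]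
    rw [this]; exact one_mem M
  obtain ⟨h, hh, hs⟩ := exists_isometry_polar hQ hdim ha0 hv (r (l⁻¹ - Q v))
  rw [hpol] at hs
  have hhSp := mem_spGL.mp (hiso h hh).2
  set k := g * h⁻¹ with hkdef
  have hkM : k ∈ M := mul_mem hgM (inv_mem (hHM (hiso h hh)))
  set b := act h a with hbdef
  have hk : ∀ x, Q (act k x) = Q x + sympForm m F x b ^ 2 := by
    intro x
    rw [hkdef, act_mul, hga, mem_isometryGroup.mp (inv_mem hh) x]
    congr 2
    rw [← hhSp, act_act_inv]
  have hlb : l * (Q v + sympForm m F v b ^ 2) = 1 := by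
    rw [hs, hr]; field_simp; ring
  have hkey : k * stv v l * k⁻¹ ∈ isometryGroup F Q := by
    rw [mem_isometryGroup]
    intro y
    rw [act_mul, act_mul, hk, act_tv, quad_add (Q := Q), hQ.smul, hpol, hb.smul_right,
      hb.add_left, hb.smul_left]
    conv_rhs => rw [← act_act_inv k y, hk]
    generalize act k⁻¹ y = x
    linear_combination (l * sympForm m F x v ^ 2) * hlb +
      (l * sympForm m F x v ^ 2 + sympForm m F x b * (l * sympForm m F x v) * sympForm m F v b) * h2
  have := mul_mem (mul_mem (inv_mem hkM) (hHM (hiso _ hkey))) hkM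
  simpa [mul_assoc] using this

/-- The orthogonal group in even characteristic in the symplectic group, for `5 ≤ m`. -/
theorem maximal {F : Type*} [Field F] [Fintype F] (m : ℕ) (hm : 5 ≤ m) (heven : ¬ Odd (Fintype.card F)) (Q : (Fin m ⊕ Fin m → F) → F) (hQ : Cfsg.Geo.IsNondegenerateQuadraticForm Q) (hpol : ∀ u v, QuadraticMap.polar Q u v = Cfsg.sympForm m F u v) : Cfsg.Geo.IsMaximalIn (Cfsg.spGL m F) (Cfsg.Geo.quadSimilarityGroup Q ⊓ Cfsg.spGL m F) :=
  maximal_of_three_le m (le_trans (by norm_num) hm) heven Q hQ hpol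

end H42.SpGenQuad
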