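import Cfsg.Agent.H49.SubfieldTop
import Cfsg.Agent.H47.SubfieldConj
import Cfsg.Agent.H47.Symp

set_option autoImplicit false
open Cfsg
open Matrix

namespace H42.SpGenSubfield

/-- The subfield group in the symplectic group, given the overgroup criterion. -/
theorem maximal_of {F : Type*} [Field F] [Fintype F] (m : ℕ) (hm : 2 ≤ m) (F₀ : Subfield F) (r : ℕ) (hr : r.Prime) (hcard : Fintype.card F = Nat.card F₀ ^ r) (P : Matrix.GeneralLinearGroup (Fin m ⊕ Fin m) F) (ζ : F) (hζ : ζ ≠ 0) (hP : Cfsg.Geo.IsFormRationalStructure (Cfsg.sympForm m F) F₀ ζ P)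
    (htop : ∀ K : Subgroup (Matrix.symplecticGroup (Fin m) F), (∀ g, H49.IsRat F₀ g → g ∈ K) → ∀ g ∈ K,
      (¬ ∃ a : F, a ≠ 0 ∧ ∀ i j, a⁻¹ * (g : Matrix (Fin m ⊕ Fin m) (Fin m ⊕ Fin m) F) i j ∈ F₀) → K = ⊤) : Cfsg.Geo.IsMaximalIn (Cfsg.spGL m F) (Cfsg.Geo.subfieldSubgroup F₀ P ⊓ Cfsg.spGL m F) := by
  classical
  let κ : (Fin m ⊕ Fin m → F₀) → (Fin m ⊕ Fin m → F) := fun u i => (u i : F)
  have κadd : ∀ u v, κ (u + v) = κ u + κ v := fun u v => rfl
  have κsmul : ∀ (c : F₀) u, κ (c • u) = (c : F) • κ u := fun c u => rfl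
  let Pm : Matrix (Fin m ⊕ Fin m) (Fin m ⊕ Fin m) F := (P : Matrix (Fin m ⊕ Fin m) (Fin m ⊕ Fin m) F)
  have hκ1 : ∀ i, κ (Pi.single i 1) = Pi.single i 1 := fun i => by
    funext j
    by_cases h : j = i <;> simp [κ, h]
  let f₀ : (Fin m ⊕ Fin m → F₀) → (Fin m ⊕ Fin m → F₀) → F₀ := fun u v =>
    ⟨ζ * Cfsg.sympForm m F (Pm *ᵥ κ u) (Pm *ᵥ κ v), hP _ _ (fun i => (u i).2) (fun i => (v i).2)⟩
  have hf₀ : Cfsg.Geo.IsSymplecticForm f₀ := by
    refine ⟨⟨fun x y v => ?_, fun c x v => ?_, fun v x y => ?_, fun c v x => ?_⟩, fun v w => ?_,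
      fun v => ?_, fun v hv => ?_⟩
    all_goals try apply Subtype.ext
    all_goals try simp only [f₀, κadd, κsmul, Subfield.coe_add, Subfield.coe_mul, Subfield.coe_neg,
      H48.sympForm_eq_sf, mulVec_add, mulVec_smul, map_add, map_smul, LinearMap.add_apply,
      LinearMap.smul_apply, smul_eq_mul]
    · ring
    · ring
    · ring
    · ring
    · rw [H48.sf_swap]; ring
    · simp
    · have hex : ∀ v : Fin m ⊕ Fin m → F₀, v ≠ 0 → ∃ x, f₀ v x ≠ 0 := by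
        intro v hv
        by_contra hcon
        simp only [not_exists, not_not] at hcon
        have hne : Pm *ᵥ κ v ≠ 0 := by
          intro e
          apply hv
          have := Matrix.mulVec_injective_of_isUnit P.isUnit (e.trans (mulVec_zero Pm).symm)
          funext i
          exact Subtype.ext (congrFun this i)
        obtain ⟨w, hw⟩ := H48.exists_sf_ne hne
        obtain ⟨y, rfl⟩ := (Matrix.mulVec_surjective_iff_isUnit.2 P.isUnit) w
        apply hw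
        rw [H49.sum_uvec y, mulVec_sum, map_sum]
        refine Finset.sum_eq_zero fun i _ => ?_
        have h : ζ * Cfsg.sympForm m F (Pm *ᵥ κ v) (Pm *ᵥ κ (Pi.single i 1)) = 0 :=
          congrArg Subtype.val (hcon (Pi.single i 1))
        rw [hκ1, H48.sympForm_eq_sf] at h
        rw [mulVec_smul, map_smul, show H49.uvec i = (Pi.single i 1 : Fin m ⊕ Fin m → F) from rfl,
          (mul_eq_zero.1 h).resolve_left hζ, smul_zero]
      obtain ⟨x, hx⟩ := hex v hv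
      refine ⟨⟨x, ?_⟩, x, hx⟩
      intro e
      apply hx
      apply Subtype.ext
      have e' : ζ * Cfsg.sympForm m F (Pm *ᵥ κ x) (Pm *ᵥ κ v) = 0 := congrArg Subtype.val e
      show ζ * Cfsg.sympForm m F (Pm *ᵥ κ v) (Pm *ᵥ κ x) = 0
      rw [H48.sympForm_eq_sf, H48.sf_swap, mul_neg, ← H48.sympForm_eq_sf, e', neg_zero]
  obtain ⟨ψ, hψ⟩ := H47.exists_symp_coords (m := m) (by simp [two_mul]) hf₀
  let A₀ : Matrix (Fin m ⊕ Fin m) (Fin m ⊕ Fin m) F₀ := LinearMap.toMatrix' ψ.symm.toLinearMap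
  have hA₀ : A₀.det ≠ 0 := by
    intro h
    obtain ⟨v, hv, hv0⟩ := Matrix.exists_mulVec_eq_zero_iff.2 h
    rw [LinearMap.toMatrix'_mulVec] at hv0
    exact hv (ψ.symm.map_eq_zero_iff.1 hv0)
  let a : GL (Fin m ⊕ Fin m) F :=
    Matrix.GeneralLinearGroup.mkOfDetNeZero (A₀.map F₀.subtype) (by
      rw [← RingHom.mapMatrix_apply, ← RingHom.map_det]
      exact fun h => hA₀ ((map_eq_zero _).1 h))
  have ha : a ∈ Cfsg.Geo.subfieldSubgroup F₀ (1 : GL (Fin m ⊕ Fin m) F) :=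
    H47.mem_subfieldSubgroup_of_matrix A₀ hA₀ one_ne_zero (by rw [one_smul]; rfl)
  set s := P * a with hs
  let Sm : Matrix (Fin m ⊕ Fin m) (Fin m ⊕ Fin m) F := (s : Matrix (Fin m ⊕ Fin m) (Fin m ⊕ Fin m) F)
  have hsim : ∀ x y, ζ * H48.sf (Sm *ᵥ x) (Sm *ᵥ y) = H48.sf x y := by
    have key : ∀ u v : Fin m ⊕ Fin m → F₀, ζ * H48.sf (Sm *ᵥ κ u) (Sm *ᵥ κ v) = H48.sf (κ u) (κ v) := by
      intro u v
      have hmul : ∀ u, Sm *ᵥ κ u = Pm *ᵥ κ (ψ.symm u) := fun u => by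
        show ((P * a : GL (Fin m ⊕ Fin m) F) : Matrix (Fin m ⊕ Fin m) (Fin m ⊕ Fin m) F) *ᵥ κ u = _
        rw [Units.val_mul, ← mulVec_mulVec]
        congr 1
        funext i
        show (A₀.map F₀.subtype *ᵥ (F₀.subtype ∘ u)) i = F₀.subtype (ψ.symm u i)
        rw [← RingHom.map_mulVec, LinearMap.toMatrix'_mulVec]
        rfl
      have h := congrArg Subtype.val (hψ (ψ.symm u) (ψ.symm v))
      simp only [LinearEquiv.apply_symm_apply] at h
      rw [hmul, hmul]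
      refine h.symm.trans ?_
      rw [H48.sympForm_eq_sf, H48.sf_apply, H48.sf_apply]
      simp [κ]
    have hlin : ζ • (H48.sf (l := Fin m) (F := F)).compl₁₂ (Matrix.toLin' Sm) (Matrix.toLin' Sm) = H48.sf :=
      (Pi.basisFun F _).ext fun i => (Pi.basisFun F _).ext fun j => by
        have h := key (Pi.single i 1) (Pi.single j 1)
        rw [hκ1, hκ1] at h
        simpa using h
    intro x y
    exact LinearMap.congr_fun (LinearMap.congr_fun hlin x) y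
  have hconj : ∀ g : GL (Fin m ⊕ Fin m) F, g ∈ Cfsg.Geo.subfieldSubgroup F₀ P ↔
      s⁻¹ * g * s ∈ Cfsg.Geo.subfieldSubgroup F₀ (1 : GL (Fin m ⊕ Fin m) F) := by
    intro g
    have h1 : g ∈ Cfsg.Geo.subfieldSubgroup F₀ P ↔
        P⁻¹ * g * P ∈ Cfsg.Geo.subfieldSubgroup F₀ (1 : GL (Fin m ⊕ Fin m) F) := by
      simp only [Cfsg.Geo.subfieldSubgroup, Subgroup.mem_map]
      constructor
      · rintro ⟨y, hy, rfl⟩; exact ⟨y, hy, by simp [mul_assoc]⟩
      · rintro ⟨y, hy, h⟩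
        refine ⟨y, hy, ?_⟩
        simp at h
        simp [h, mul_assoc]
    have e : s⁻¹ * g * s = a⁻¹ * (P⁻¹ * g * P) * a := by rw [hs]; group
    rw [h1, e, Subgroup.mul_mem_cancel_right _ ha, Subgroup.mul_mem_cancel_left _ (inv_mem ha)]
  have hsp : ∀ g : GL (Fin m ⊕ Fin m) F, g ∈ Cfsg.spGL m F ↔ s⁻¹ * g * s ∈ Cfsg.spGL m F := by
    have hval : ∀ (g : GL (Fin m ⊕ Fin m) F) x, ((s⁻¹ * g * s : GL (Fin m ⊕ Fin m) F) :
        Matrix (Fin m ⊕ Fin m) (Fin m ⊕ Fin m) F) *ᵥ x =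
        ((s⁻¹ : GL (Fin m ⊕ Fin m) F) : Matrix (Fin m ⊕ Fin m) (Fin m ⊕ Fin m) F) *ᵥ
          ((g : Matrix (Fin m ⊕ Fin m) (Fin m ⊕ Fin m) F) *ᵥ (Sm *ᵥ x)) := fun g x => by
      rw [Units.val_mul, Units.val_mul, ← mulVec_mulVec, ← mulVec_mulVec]
    have hSi : ∀ x, Sm *ᵥ (((s⁻¹ : GL (Fin m ⊕ Fin m) F) :
        Matrix (Fin m ⊕ Fin m) (Fin m ⊕ Fin m) F) *ᵥ x) = x := fun x => by
      rw [mulVec_mulVec, ← Units.val_mul, mul_inv_cancel, Units.val_one, one_mulVec]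
    have hpres : ∀ g : GL (Fin m ⊕ Fin m) F, g ∈ Cfsg.spGL m F ↔ ∀ x y,
        H48.sf ((g : Matrix (Fin m ⊕ Fin m) (Fin m ⊕ Fin m) F) *ᵥ x)
          ((g : Matrix (Fin m ⊕ Fin m) (Fin m ⊕ Fin m) F) *ᵥ y) = H48.sf x y := fun g => Iff.rfl
    intro g
    rw [hpres, hpres]
    constructor
    · intro h x y
      rw [← hsim, hval, hval, hSi, hSi, h, hsim]
    · intro h u v
      have h' := h (((s⁻¹ : GL (Fin m ⊕ Fin m) F) : Matrix (Fin m ⊕ Fin m) (Fin m ⊕ Fin m) F) *ᵥ u)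
        (((s⁻¹ : GL (Fin m ⊕ Fin m) F) : Matrix (Fin m ⊕ Fin m) (Fin m ⊕ Fin m) F) *ᵥ v)
      rw [← hsim, ← hsim (((s⁻¹ : GL (Fin m ⊕ Fin m) F) : Matrix (Fin m ⊕ Fin m) (Fin m ⊕ Fin m) F) *ᵥ u),
        hval, hval, hSi, hSi, hSi, hSi] at h'
      exact mul_left_cancel₀ hζ h'
  -- membership of standard matrices
  have hmem1 : ∀ (x : Matrix.symplecticGroup (Fin m) F) (c : F), c ≠ 0 →
      (∀ i j, c⁻¹ * (x : Matrix (Fin m ⊕ Fin m) (Fin m ⊕ Fin m) F) i j ∈ F₀) →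
      H49.spHom m F x ∈ Cfsg.Geo.subfieldSubgroup F₀ (1 : GL (Fin m ⊕ Fin m) F) := by
    intro x c hc hx
    let M₀ : Matrix (Fin m ⊕ Fin m) (Fin m ⊕ Fin m) F₀ := Matrix.of fun i j => ⟨_, hx i j⟩
    have hM : (x : Matrix (Fin m ⊕ Fin m) (Fin m ⊕ Fin m) F) = c • M₀.map F₀.subtype := by
      ext i j
      simp [M₀, mul_inv_cancel_left₀ hc]
    refine H47.mem_subfieldSubgroup_of_matrix M₀ (fun h => ?_) hc hM
    have hdet := congrArg Matrix.det hM
    rw [Matrix.det_smul, ← RingHom.mapMatrix_apply, ← RingHom.map_det, h, map_zero, mul_zero,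
      H47.symplectic_det_one x] at hdet
    exact one_ne_zero hdet
  let φ : Matrix.symplecticGroup (Fin m) F →* GL (Fin m ⊕ Fin m) F :=
    (MulAut.conj s).toMonoidHom.comp (H49.spHom m F)
  have hφ : ∀ x, s⁻¹ * φ x * s = H49.spHom m F x := fun x => by simp [φ, mul_assoc]
  have hφsp : ∀ x, φ x ∈ Cfsg.spGL m F := fun x => by rw [hsp, hφ]; exact H49.spHom_mem_spGL x
  have hlift : ∀ g ∈ Cfsg.spGL m F, ∃ x, φ x = g := fun g hg => by
    obtain ⟨x, hx⟩ := H49.exists_spHom_eq ((hsp g).1 hg)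
    exact ⟨x, by simp [φ, hx, mul_assoc]⟩
  refine ⟨lt_of_le_of_ne inf_le_right ?_, fun M hHM hMK => ?_⟩
  · intro heq
    obtain ⟨θ, hθ⟩ : ∃ θ : F, θ ∉ F₀ := by
      by_contra hcon
      simp only [not_exists, not_not] at hcon
      have h1 : Nat.card F₀ = Fintype.card F := by
        rw [← Nat.card_eq_fintype_card]
        exact Nat.card_congr (Equiv.subtypeUnivEquiv hcon)
      have h2 : 1 < Nat.card F₀ := by
        haveI : Fintype F₀ := Fintype.ofFinite _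
        rw [Nat.card_eq_fintype_card]; exact Fintype.one_lt_card
      have := Nat.pow_lt_pow_right h2 hr.one_lt
      rw [pow_one] at this
      omega
    let x₀ : Fin m ⊕ Fin m := Sum.inl ⟨0, by omega⟩
    let x₁ : Fin m ⊕ Fin m := Sum.inl ⟨1, by omega⟩
    have hg : φ (H48.tv (H49.uvec x₀) θ) ∈ Cfsg.Geo.subfieldSubgroup F₀ P := by
      have := hφsp (H48.tv (H49.uvec x₀) θ)
      rw [← heq] at this
      exact this.1
    rw [hconj, hφ, H47.mem_subfieldSubgroup_one] at hg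
    obtain ⟨g₀, c, hc⟩ := hg
    have hent : ∀ i j, (H48.tv (H49.uvec x₀) θ • H49.uvec (F := F) j) i =
        (c : F) * ((g₀ : Matrix (Fin m ⊕ Fin m) (Fin m ⊕ Fin m) F₀) i j : F) := by
      intro i j
      have := congrFun (congrFun hc i) j
      rw [H48.spSmulDef, H49.uvec, H49.uvec, mulVec_single_one]
      exact this
    have e1 := hent x₁ x₁
    have e2 := hent x₀ x₀.swap
    rw [H48.tv_smul, H49.sf_uvec_uvec_eq_zero (by simp [x₀, x₁, H49.hpair])] at e1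
    rw [H48.tv_smul, H49.sf_uvec_swap] at e2
    simp [H49.uvec, H49.usign, x₀] at e1 e2
    apply hθ
    have hc1 : (c : F) ∈ F₀ := by
      have hne : (((g₀ : Matrix (Fin m ⊕ Fin m) (Fin m ⊕ Fin m) F₀) x₁ x₁ : F₀) : F) ≠ 0 := fun h => by
        rw [h, mul_zero] at e1; exact one_ne_zero e1
      rw [show (c : F) = ((((g₀ : Matrix (Fin m ⊕ Fin m) (Fin m ⊕ Fin m) F₀) x₁ x₁ : F₀) : F))⁻¹ from
        eq_inv_of_mul_eq_one_left e1.symm]
      exact inv_mem (SetLike.coe_mem _)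
    rw [e2]
    exact mul_mem hc1 (SetLike.coe_mem _)
  by_cases hle : M ≤ Cfsg.Geo.subfieldSubgroup F₀ P
  · exact Or.inl (le_antisymm (le_inf hle hMK) hHM)
  obtain ⟨g, hgM, hgD⟩ := SetLike.not_le_iff_exists.mp hle
  obtain ⟨x, rfl⟩ := hlift g (hMK hgM)
  have hK : M.comap φ = ⊤ := by
    refine htop _ (fun y hy => hHM ⟨?_, hφsp y⟩) x hgM ?_
    · show φ y ∈ Cfsg.Geo.subfieldSubgroup F₀ P
      rw [hconj, hφ]
      exact hmem1 y 1 one_ne_zero fun i j => by rw [inv_one, one_mul]; exact hy i j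
    · rintro ⟨c, hc, hx⟩
      apply hgD
      rw [hconj, hφ]
      exact hmem1 x c hc hx
  refine Or.inr (le_antisymm hMK fun g hg => ?_)
  obtain ⟨y, rfl⟩ := hlift g hg
  have : y ∈ M.comap φ := by rw [hK]; trivial
  exact this

/-- The subfield group in the symplectic group, for `5 ≤ m`. -/
theorem maximal {F : Type*} [Field F] [Fintype F] (m : ℕ) (hm : 5 ≤ m) (F₀ : Subfield F) (r : ℕ) (hr : r.Prime) (hcard : Fintype.card F = Nat.card F₀ ^ r) (P : Matrix.GeneralLinearGroup (Fin m ⊕ Fin m) F) (ζ : F) (hζ : ζ ≠ 0) (hP : Cfsg.Geo.IsFormRationalStructure (Cfsg.sympForm m F) F₀ ζ P) : Cfsg.Geo.IsMaximalIn (Cfsg.spGL m F) (Cfsg.Geo.subfieldSubgroup F₀ P ⊓ Cfsg.spGL m F) :=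
  maximal_of m (le_trans (by norm_num) hm) F₀ r hr hcard P ζ hζ hP
    fun K hK g hg hn => H49.eq_top_of_subfield hm hK hr hcard hg hn

end H42.SpGenSubfield
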