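import Cfsg.Agent.H49.UnitaryOver
import Cfsg.Agent.H49.StabMax
import Cfsg.Agent.H49.Adjoint
import Cfsg.Agent.H49.RegularCentralizer

set_option autoImplicit false
open Cfsg
open Matrix
open H48 (sf tv)

namespace H42.SpGenUnitary

/-- The unitary type field normaliser in the symplectic group, for `5 ≤ m`. -/
theorem maximal {F : Type*} [Field F] [Fintype F] (m : ℕ) (hm : 5 ≤ m) (hodd : Odd (Fintype.card F)) (K : Subalgebra F (Matrix (Fin m ⊕ Fin m) (Fin m ⊕ Fin m) F)) (hK : Cfsg.Geo.IsFieldSubalgebra 2 K) (hac : Cfsg.Geo.IsAdjointClosedFor (Cfsg.sympForm m F) K) (hnsa : ¬ Cfsg.Geo.IsSelfAdjointFor (Cfsg.sympForm m F) K) : Cfsg.Geo.IsMaximalIn (Cfsg.spGL m F) (Cfsg.Geo.subalgebraNormalizer K ⊓ Cfsg.spGL m F) := by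
  classical
  have h2 : (2 : F) ≠ 0 := H49.two_ne_zero_of_odd hodd
  obtain ⟨k, hk, u, v, huv⟩ : ∃ k ∈ K, ∃ u v, Cfsg.sympForm m F (k *ᵥ u) v ≠ Cfsg.sympForm m F u (k *ᵥ v) := by
    simpa [Cfsg.Geo.IsSelfAdjointFor] using hnsa
  obtain ⟨k', hk', hadj⟩ := hac k hk
  have hk'eq : k' = H49.adjS k := by
    refine H49.ext_sf fun a b => ?_
    rw [← H49.sf_mulVec, ← H48.sympForm_eq_sf, ← H48.sympForm_eq_sf]
    exact (hadj a b).symm
  obtain ⟨j, hjK, hjadj, hj0⟩ : ∃ j ∈ K, H49.adjS j = -j ∧ j ≠ 0 := by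
    refine ⟨k - k', sub_mem hk hk', ?_, fun h => huv ?_⟩
    · rw [hk'eq, H49.adjS_sub, H49.adjS_adjS, neg_sub]
    · rw [hadj u v, ← sub_eq_zero.1 h]
  have hjns : ∀ c : F, j ≠ c • 1 := by
    intro c hc
    have h := hjadj
    rw [hc, H49.adjS_scalar, ← neg_smul] at h
    haveI : Nonempty (Fin m ⊕ Fin m) := ⟨Sum.inl ⟨0, by omega⟩⟩
    have h' := smul_left_injective F (one_ne_zero : (1 : Matrix (Fin m ⊕ Fin m) (Fin m ⊕ Fin m) F) ≠ 0) h
    have : (2 : F) * c = 0 := by linear_combination h'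
    exact hj0 (by rw [hc, (mul_eq_zero.1 this).resolve_left h2, zero_smul])
  have hspan : Submodule.span F {(1 : Matrix (Fin m ⊕ Fin m) (Fin m ⊕ Fin m) F), j} =
      Subalgebra.toSubmodule K := by
    haveI : Nonempty (Fin m ⊕ Fin m) := ⟨Sum.inl ⟨0, by omega⟩⟩
    have hli : LinearIndependent F ![(1 : Matrix (Fin m ⊕ Fin m) (Fin m ⊕ Fin m) F), j] := by
      rw [LinearIndependent.pair_iff' one_ne_zero]
      exact fun c => (hjns c).symm
    refine Submodule.eq_of_le_of_finrank_eq ?_ ?_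
    · rw [Submodule.span_le, Set.insert_subset_iff, Set.singleton_subset_iff]
      exact ⟨K.one_mem, hjK⟩
    · have h := finrank_span_eq_card hli
      rw [Matrix.range_cons, Matrix.range_cons, Matrix.range_empty, Set.union_empty, Set.singleton_union,
        Fintype.card_fin] at h
      rw [h]
      exact hK.finrank_eq.symm
  have hmemK : ∀ x, x ∈ K ↔ ∃ a b : F, a • (1 : Matrix (Fin m ⊕ Fin m) (Fin m ⊕ Fin m) F) + b • j = x := fun x => by
    rw [← Subalgebra.mem_toSubmodule, ← hspan, Submodule.mem_span_pair]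
  obtain ⟨ν, hν⟩ : ∃ ν : F, j * j = ν • 1 := by
    obtain ⟨a, b, hab⟩ := (hmemK _).1 (K.mul_mem hjK hjK)
    refine ⟨a, ?_⟩
    have h := congrArg H49.adjS hab
    rw [H49.adjS_mul, hjadj, neg_mul_neg, H49.adjS_add, H49.adjS_scalar, H49.adjS_smul, hjadj, ← hab] at h
    have h' : (2 * b) • j = 0 := by linear_combination (norm := module) -h
    rw [← hab, (mul_eq_zero.1 ((smul_eq_zero.1 h').resolve_right hj0)).resolve_left h2, zero_smul, add_zero]
  let L : (Fin m ⊕ Fin m → F) →ₗ[F] (Fin m ⊕ Fin m → F) := Matrix.toLin' j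
  have hL : ∀ w, L w = j *ᵥ w := fun w => rfl
  have d : H49.SkewStr L ν := by
    refine ⟨fun x y => ?_, fun x => ?_, ?_, h2, hm⟩
    · rw [hL, hL, H49.sf_mulVec, hjadj, neg_mulVec, map_neg]
    · rw [hL, hL, mulVec_mulVec, hν, smul_mulVec, one_mulVec]
    · rintro ⟨c, rfl⟩
      have hne : j - c • 1 ≠ 0 := sub_ne_zero.2 (hjns c)
      obtain ⟨y, -, hy⟩ := hK.inv _ (sub_mem hjK (K.smul_mem K.one_mem c)) hne
      have hprod : (j + c • 1) * (j - c • 1) = 0 := by
        simp only [add_mul, mul_sub, mul_smul_comm, smul_mul_assoc, one_mul, mul_one, hν, smul_smul]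
        module
      have : (j + c • 1) * ((j - c • 1) * y) = 0 := by rw [← mul_assoc, hprod, zero_mul]
      rw [hy, mul_one] at this
      exact hjns (-c) (by rw [neg_smul]; exact eq_neg_of_add_eq_zero_left this)
  -- elements commuting or anticommuting with j
  have hfwd : ∀ (U : GL (Fin m ⊕ Fin m) F) (ε : F),
      (U : Matrix (Fin m ⊕ Fin m) (Fin m ⊕ Fin m) F) * j = ε • (j * (U : Matrix (Fin m ⊕ Fin m) (Fin m ⊕ Fin m) F)) →
      ∀ x ∈ K, (U : Matrix (Fin m ⊕ Fin m) (Fin m ⊕ Fin m) F) * x *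
        ((U⁻¹ : GL (Fin m ⊕ Fin m) F) : Matrix (Fin m ⊕ Fin m) (Fin m ⊕ Fin m) F) ∈ K := by
    intro U ε hU x hx
    obtain ⟨a, b, rfl⟩ := (hmemK _).1 hx
    refine (hmemK _).2 ⟨a, b * ε, ?_⟩
    rw [mul_add, mul_smul_comm, mul_smul_comm, hU, mul_one, add_mul, smul_mul_assoc, smul_mul_assoc,
      smul_mul_assoc, mul_assoc, Units.mul_inv, mul_one, smul_smul]
  have hnorm : ∀ (U : GL (Fin m ⊕ Fin m) F) (ε : F), ε * ε = 1 →
      (U : Matrix (Fin m ⊕ Fin m) (Fin m ⊕ Fin m) F) * j = ε • (j * (U : Matrix (Fin m ⊕ Fin m) (Fin m ⊕ Fin m) F)) →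
      U ∈ Cfsg.Geo.subalgebraNormalizer K := by
    intro U ε hε hU x
    refine ⟨fun hx => hfwd U ε hU x hx, fun hx => ?_⟩
    have hU' : ((U⁻¹ : GL (Fin m ⊕ Fin m) F) : Matrix (Fin m ⊕ Fin m) (Fin m ⊕ Fin m) F) * j =
        ε • (j * ((U⁻¹ : GL (Fin m ⊕ Fin m) F) : Matrix (Fin m ⊕ Fin m) (Fin m ⊕ Fin m) F)) := by
      rw [Units.inv_mul_eq_iff_eq_mul, mul_smul_comm, ← mul_assoc, hU, smul_mul_assoc, smul_smul, hε, one_smul,
        mul_assoc, Units.mul_inv, mul_one]
    have h := hfwd U⁻¹ ε hU' _ hx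
    rwa [inv_inv, ← mul_assoc, ← mul_assoc, Units.inv_mul, one_mul, mul_assoc, Units.inv_mul, mul_one] at h
  have hcomm : ∀ (x : Matrix.symplecticGroup (Fin m) F) (ε : F), ε * ε = 1 →
      (∀ w, x • L w = ε • L (x • w)) → H49.spHom m F x ∈ Cfsg.Geo.subalgebraNormalizer K := by
    intro x ε hε hx
    refine hnorm _ ε hε (Matrix.ext_iff_mulVec.2 fun w => ?_)
    rw [← mulVec_mulVec, smul_mulVec, ← mulVec_mulVec]
    exact hx w
  refine ⟨lt_of_le_of_ne inf_le_right ?_, fun M hHM hMK => ?_⟩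
  · intro heq
    haveI : Nonempty (Fin m ⊕ Fin m) := ⟨Sum.inl ⟨0, by omega⟩⟩
    obtain ⟨v, hv⟩ := exists_ne (0 : Fin m ⊕ Fin m → F)
    obtain ⟨w, hw, hwW, hwN⟩ := d.exists_isotropic_perp (W := Submodule.span F {v, L v}) (d.span_invariant v)
      ((d.finrank_pair v (L v)).trans (by norm_num))
      (Or.inr (Or.inl ((d.finrank_pair v (L v)).trans_lt (by norm_num))))
    have hT : H49.spHom m F (tv v 1) ∈ Cfsg.Geo.subalgebraNormalizer K := by
      have := H49.spHom_mem_spGL (tv v (1 : F))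
      rw [← heq] at this
      exact this.1
    obtain ⟨a, b, hab⟩ := (hmemK _).1 ((hT j).1 hjK)
    have hrel : ∀ z, tv v (1 : F) • L z = a • (tv v (1 : F) • z) + b • L (tv v (1 : F) • z) := by
      intro z
      have h := congrArg (fun X => X *ᵥ ((H49.spHom m F (tv v 1) : Matrix (Fin m ⊕ Fin m) (Fin m ⊕ Fin m) F) *ᵥ z)) hab
      simp only [add_mulVec, smul_mulVec, one_mulVec] at h
      conv at h => rhs; rw [mulVec_mulVec, mul_assoc, Units.inv_mul, mul_one, ← mulVec_mulVec]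
      exact h.symm
    have hw1 : sf w v = 0 := H48.sf_eq_zero_comm (hwW v (Submodule.subset_span (Set.mem_insert _ _)))
    have hw2 : sf (L w) v = 0 := by
      rw [d.skew, H48.sf_eq_zero_comm (hwW _ (Submodule.subset_span (Set.mem_insert_of_mem _ rfl))), neg_zero]
    have hw0 : w ≠ 0 := fun e => hwN (by rw [e]; exact Submodule.zero_mem _)
    have h := hrel w
    simp only [H48.tv_smul, hw1, hw2, mul_zero, zero_smul, add_zero] at h
    have ha : a = 0 ∧ b = 1 := by
      by_cases hb : b = 1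
      · refine ⟨?_, hb⟩
        rw [hb, one_smul, eq_comm, add_eq_right, smul_eq_zero] at h
        exact h.resolve_right hw0
      · exfalso
        have hL' : (1 - b) • L w = a • w := by linear_combination (norm := module) h
        have := congrArg L hL'
        rw [map_smul, map_smul, d.sq, smul_smul] at this
        have h3 : ((1 - b) * ((1 - b) * ν)) • w = (a * a) • w := by
          rw [← smul_smul, this, smul_smul, mul_comm, ← smul_smul, hL', smul_smul]
        have h4 := smul_left_injective F hw0 h3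
        exact d.nonsq ⟨a / (1 - b), by field_simp [sub_ne_zero.2 (Ne.symm hb)]; linear_combination h4⟩
    obtain ⟨z, hz⟩ := H48.exists_sf_ne hv
    have hz' : sf z v ≠ 0 := fun e => hz (H48.sf_eq_zero_comm e)
    have h' := hrel z
    rw [ha.1, ha.2, zero_smul, zero_add, one_smul, H48.tv_smul, H48.tv_smul, map_add, map_smul, one_mul, one_mul,
      add_right_inj] at h'
    have := congrArg L h'
    rw [map_smul, map_smul, d.sq, smul_smul] at this
    have h3 : (sf (L z) v * sf (L z) v) • v = (sf z v * sf z v * ν) • v := by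
      linear_combination (norm := module) sf (L z) v • h' + sf z v • this
    have h4 := smul_left_injective F hv h3
    exact d.nonsq ⟨sf (L z) v / sf z v, by field_simp; linear_combination -h4⟩
  by_cases hle : M ≤ Cfsg.Geo.subalgebraNormalizer K
  · exact Or.inl (le_antisymm (le_inf hle hMK) hHM)
  obtain ⟨g, hgM, hgD⟩ := SetLike.not_le_iff_exists.mp hle
  obtain ⟨x, rfl⟩ := H49.exists_spHom_eq (hMK hgM)
  have htop : M.comap (H49.spHom m F) = ⊤ := by
    refine d.eq_top_of_moves (fun y hy => hHM ⟨hcomm y 1 (one_mul 1) fun w => ?_, H49.spHom_mem_spGL y⟩)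
      (g := x) hgM ?_
    · rw [one_smul, hy]
    · rintro (hx | hx)
      · exact hgD (hcomm x 1 (one_mul 1) fun w => by rw [one_smul, hx])
      · exact hgD (hcomm x (-1) (by norm_num) fun w => by rw [neg_one_smul, hx])
  refine Or.inr (le_antisymm hMK fun g hg => ?_)
  obtain ⟨y, rfl⟩ := H49.exists_spHom_eq hg
  have : y ∈ M.comap (H49.spHom m F) := by rw [htop]; trivial
  exact this

end H42.SpGenUnitary
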