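import Cfsg.Agent.H49.SubfieldTop

/-!
The symplectic group over a subfield of prime index is maximal in odd characteristic, any rank from two on.
-/

set_option autoImplicit false
set_option maxHeartbeats 800000

namespace H42.SpOdd

open Matrix H49
open H48 (sf tv)

variable {m : ℕ} {F : Type*} [Field F] {F₀ : Subfield F}

local notation "V" => (Fin m ⊕ Fin m → F)
local notation "Sp" => Matrix.symplecticGroup (Fin m) F
local notation "ι" => (Fin m ⊕ Fin m)

/-- A vector with entries in the subfield. -/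
def RV (F₀ : Subfield F) (v : Fin m ⊕ Fin m → F) : Prop := ∀ i, v i ∈ F₀

theorem RV.add {u v : V} (hu : RV F₀ u) (hv : RV F₀ v) : RV F₀ (u + v) := fun i => add_mem (hu i) (hv i)

theorem RV.smul {u : V} (hu : RV F₀ u) {c : F} (hc : c ∈ F₀) : RV F₀ (c • u) := fun i => mul_mem hc (hu i)

theorem RV.sub {u v : V} (hu : RV F₀ u) (hv : RV F₀ v) : RV F₀ (u - v) := fun i => sub_mem (hu i) (hv i)

/-- Two rational hyperbolic pairs which are orthogonal to each other. -/
structure Fr (F₀ : Subfield F) (a a' b b' : Fin m ⊕ Fin m → F) : Prop where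
  ra : RV F₀ a
  ra' : RV F₀ a'
  rb : RV F₀ b
  rb' : RV F₀ b'
  haa : sf a a' = 1
  hbb : sf b b' = 1
  hab : sf a b = 0
  hab' : sf a b' = 0
  ha'b : sf a' b = 0
  ha'b' : sf a' b' = 0

variable {a a' b b' : Fin m ⊕ Fin m → F}

theorem Fr.swap (h : Fr F₀ a a' b b') : Fr F₀ b b' a a' :=
  ⟨h.rb, h.rb', h.ra, h.ra', h.hbb, h.haa, H48.sf_eq_zero_comm h.hab, H48.sf_eq_zero_comm h.ha'b,
    H48.sf_eq_zero_comm h.hab', H48.sf_eq_zero_comm h.ha'b'⟩

theorem Fr.rot₁ (h : Fr F₀ a a' b b') : Fr F₀ a' (-a) b b' :=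
  ⟨h.ra', fun i => neg_mem (h.ra i), h.rb, h.rb', by rw [map_neg, H48.sf_swap a a', h.haa, neg_neg], h.hbb, h.ha'b,
    h.ha'b', by simp [h.hab], by simp [h.hab']⟩

theorem Fr.shear (h : Fr F₀ a a' b b') {t : F} (ht : t ∈ F₀) : Fr F₀ (a + t • b) a' b (b' - t • a') := by
  have hba' : sf b a' = 0 := H48.sf_eq_zero_comm h.ha'b
  refine ⟨h.ra.add (h.rb.smul ht), h.ra', h.rb, h.rb'.sub (h.ra'.smul ht), ?_, ?_, ?_, ?_, h.ha'b, ?_⟩
  · simp [h.haa, hba']
  · simp [h.hbb, hba']
  · simp [h.hab]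
  · simp [h.hab', h.haa, h.hbb, hba']
  · simp [h.ha'b']

theorem Fr.slide (h : Fr F₀ a a' b b') {t : F} (ht : t ∈ F₀) : Fr F₀ a a' (b + t • b') b' :=
  ⟨h.ra, h.ra', h.rb.add (h.rb'.smul ht), h.rb', h.haa, by simp [h.hbb], by simp [h.hab, h.hab'], h.hab',
    by simp [h.ha'b, h.ha'b'], h.ha'b'⟩

/-- The frame seen from the sum of the first vectors of the two pairs. -/
theorem Fr.tilt (h : Fr F₀ a a' b b') : Fr F₀ (a + b) b' a (a' - b') := by
  have hba : sf b a = 0 := H48.sf_eq_zero_comm h.hab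
  have hba' : sf b a' = 0 := H48.sf_eq_zero_comm h.ha'b
  have hb'a : sf b' a = 0 := H48.sf_eq_zero_comm h.hab'
  have hb'a' : sf b' a' = 0 := H48.sf_eq_zero_comm h.ha'b'
  refine ⟨h.ra.add h.rb, h.rb', h.ra, h.ra'.sub h.rb', ?_, ?_, ?_, ?_, hb'a, ?_⟩
  · simp [h.hab', h.hbb]
  · simp [h.haa, h.hab']
  · simp [hba]
  · simp [h.hab', h.haa, h.hbb, hba']
  · simp [hb'a']

variable {K : Subgroup (Matrix.symplecticGroup (Fin m) F)}
  (hK : ∀ g : Matrix.symplecticGroup (Fin m) F, IsRat F₀ g → g ∈ K)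

/-- All rational multiples of the coefficient at the centre. -/
def Gd (F₀ : Subfield F) (K : Subgroup (Matrix.symplecticGroup (Fin m) F)) (v : Fin m ⊕ Fin m → F) (c : F) : Prop :=
  ∀ t ∈ F₀, tv v (t * c) ∈ K

include hK

theorem tv_mem_rat {u : V} (hu : RV F₀ u) {c : F} (hc : c ∈ F₀) : tv u c ∈ K := hK _ (isRat_tv hu hc)

omit hK in
theorem conj_mem {g : Sp} (hg : g ∈ K) {u : V} {c : F} (hu : tv u c ∈ K) : tv (g • u) c ∈ K := by
  rw [← H48.tv_conj]; exact mul_mem (mul_mem hg hu) (inv_mem hg)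

theorem gd_rat {u : V} (hu : RV F₀ u) : Gd F₀ K u 1 := fun t ht => by
  rw [mul_one]; exact tv_mem_rat hK hu ht

/-- The part of a centre in one rational pair becomes a centre. -/
theorem split (h2 : (2 : F) ≠ 0) (h : Fr F₀ a a' b b') {v : V} {c : F} (hv : Gd F₀ K v c) :
    Gd F₀ K (sf v a' • a - sf v a • a') (c ^ 2 * sf v b ^ 2) := by
  have ha'a : sf a' a = -1 := by rw [H48.sf_swap a a', h.haa]
  set v₁ := sf v a' • a - sf v a • a' with hv₁
  set v₂ := v - v₁ with hv₂
  have hv12 : v₁ + v₂ = v := add_sub_cancel _ _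
  have h12 : sf v₁ v₂ = 0 := by
    rw [hv₂, map_sub, H48.sf_self, sub_zero, hv₁, map_sub, LinearMap.sub_apply, map_smul, map_smul,
      LinearMap.smul_apply, LinearMap.smul_apply, H48.sf_swap v a, H48.sf_swap v a', smul_eq_mul, smul_eq_mul]
    ring
  have hi : tv a (1 : F) * tv a' 1 * tv a 1 * (tv a 1 * tv a' 1 * tv a 1) ∈ K := by
    have h1 := tv_mem_rat hK h.ra (one_mem F₀)
    have h3 := tv_mem_rat hK h.ra' (one_mem F₀)
    exact mul_mem (mul_mem (mul_mem h1 h3) h1) (mul_mem (mul_mem h1 h3) h1)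
  set i := tv a (1 : F) * tv a' 1 * tv a 1 * (tv a 1 * tv a' 1 * tv a 1)
  have hiv : i • v = v₂ - v₁ := by
    simp only [i, hv₂, hv₁, mul_smul, H48.tv_smul, map_add, LinearMap.add_apply, map_smul, LinearMap.smul_apply,
      smul_eq_mul, H48.sf_self, h.haa, ha'a]
    module
  set γ := tv b (1 : F) with hγ
  have hγK : γ ∈ K := tv_mem_rat hK h.rb (one_mem _)
  set β := sf v b with hβ
  have h1b : sf v₁ b = 0 := by simp [hv₁, h.hab, h.ha'b]
  have h2b : sf v₂ b = β := by rw [hv₂, map_sub, LinearMap.sub_apply, h1b, sub_zero]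
  have hγ1 : γ • v₁ = v₁ := by rw [hγ, H48.tv_smul, h1b]; simp
  have hγ2 : γ • v₂ = v₂ + β • b := by rw [hγ, H48.tv_smul, h2b, one_mul]
  have hS : ∀ t ∈ F₀, sroot v₁ v₂ (t * c) ∈ K := by
    intro t ht
    have h2' : (2 : F)⁻¹ ∈ F₀ := inv_mem (ofNat_mem F₀ 2)
    have h1 := mul_mem (inv_mem (conj_mem hi (hv (t * 2⁻¹) (mul_mem ht h2')))) (hv (t * 2⁻¹) (mul_mem ht h2'))
    rw [hiv, H48.tv_inv] at h1
    have e : sroot v₁ v₂ (t * c) = tv (v₂ - v₁) (-(t * 2⁻¹ * c)) * tv v (t * 2⁻¹ * c) := by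
      refine H48.sp_ext fun w => ?_
      have h21 := H48.sf_eq_zero_comm h12
      rw [← hv12]
      simp only [mul_smul, sroot_smul h12, H48.tv_smul, map_add, map_sub, LinearMap.add_apply, LinearMap.sub_apply,
        map_smul, LinearMap.smul_apply, smul_eq_mul, H48.sf_self, h12, h21, mul_zero, add_zero, sub_zero]
      match_scalars <;> field_simp <;> ring
    rw [e]; exact h1
  have h12' : sf v₁ (v₂ + β • b) = 0 := by rw [map_add, h12, map_smul, h1b]; simp
  have hS' : ∀ t ∈ F₀, sroot v₁ (v₂ + β • b) (t * c) ∈ K := fun t ht => by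
    rw [← hγ2, ← hγ1, ← sroot_conj]
    exact mul_mem (mul_mem hγK (hS t ht)) (inv_mem hγK)
  intro t₀ ht₀
  obtain ⟨t, ht, rfl⟩ : ∃ t ∈ F₀, t₀ = -t := ⟨-t₀, neg_mem ht₀, (neg_neg _).symm⟩
  have h2' : (2 : F)⁻¹ ∈ F₀ := inv_mem (ofNat_mem F₀ 2)
  have hx := mul_mem (mul_mem (hS (t * 2⁻¹) (mul_mem ht h2')) (hS' 1 (one_mem _)))
    (mul_mem (hS (-(t * 2⁻¹)) (neg_mem (mul_mem ht h2'))) (hS' (-1) (neg_mem (one_mem _))))
  have e : tv v₁ (-t * (c ^ 2 * β ^ 2)) =
      sroot v₁ v₂ (t * 2⁻¹ * c) * sroot v₁ (v₂ + β • b) (1 * c) *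
        (sroot v₁ v₂ (-(t * 2⁻¹) * c) * sroot v₁ (v₂ + β • b) (-1 * c)) := by
    refine H48.sp_ext fun w => ?_
    have h21 := H48.sf_eq_zero_comm h12
    have hb1 := H48.sf_eq_zero_comm h1b
    simp only [mul_smul, sroot_smul h12, sroot_smul h12', H48.tv_smul, map_add, LinearMap.add_apply, map_smul,
      LinearMap.smul_apply, smul_eq_mul, H48.sf_self, h12, h21, hb1, h1b, h2b, H48.sf_swap v₂ b, mul_zero,
      add_zero, zero_add]
    match_scalars <;> field_simp <;> ring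
  rw [e]; exact hx

omit hK

/-- The scalar is attached to every rational centre. -/
def LongSc (F₀ : Subfield F) (K : Subgroup (Matrix.symplecticGroup (Fin m) F)) (c : F) : Prop :=
  ∀ u : Fin m ⊕ Fin m → F, RV F₀ u → tv u c ∈ K

include hK

/-- A scalar on one non-zero rational centre is on every one. -/
theorem longSc_of {a : V} (ha : RV F₀ a) (ha0 : a ≠ 0) {c : F} (hc : tv a c ∈ K) : LongSc F₀ K c := by
  intro u hu
  rcases eq_or_ne u 0 with rfl | hu0
  · rw [H48.tv_zero_left]; exact one_mem _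
  have key : ∀ x y : V, RV F₀ x → RV F₀ y → sf x y ≠ 0 → tv x c ∈ K → tv y c ∈ K := by
    intro x y hx hy hxy hxK
    have hg : tv (x - y) (sf x y)⁻¹ ∈ K :=
      hK _ (isRat_tv (hx.sub hy) (inv_mem (sf_rat hx hy)))
    have h1 := conj_mem hg hxK
    have e : tv (x - y) (sf x y)⁻¹ • x = y := by
      simp only [H48.tv_smul, map_sub, H48.sf_self, zero_sub, mul_neg, inv_mul_cancel₀ hxy, neg_smul, one_smul]
      abel
    rwa [e] at h1
  have hne : ∀ x : V, x ≠ 0 → ∃ i, sf x (uvec i) ≠ 0 := by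
    intro x hx
    by_contra hcon
    simp only [not_exists, not_not] at hcon
    exact hx (funext fun i => by rw [apply_eq_sf x i, hcon, mul_zero, Pi.zero_apply])
  obtain ⟨i, hi⟩ := hne a ha0
  obtain ⟨j, hj⟩ := hne u hu0
  obtain ⟨z, hz, haz, huz⟩ : ∃ z : V, RV F₀ z ∧ sf a z ≠ 0 ∧ sf u z ≠ 0 := by
    by_cases h1 : sf u (uvec i) = 0
    · by_cases h3 : sf a (uvec j) = 0
      · exact ⟨uvec i + uvec j, fun k => add_mem (uvec_rat i k) (uvec_rat j k), by simpa [h3] using hi,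
          by simpa [h1] using hj⟩
      · exact ⟨uvec j, uvec_rat j, h3, hj⟩
    · exact ⟨uvec i, uvec_rat i, hi, h1⟩
  exact key z u hz hu (fun e => huz (H48.sf_eq_zero_comm e)) (key a z ha hz haz hc)

/-- A centre with one vanishing value gives a scalar. -/
theorem scalar_of_zero (h2 : (2 : F) ≠ 0) (h : Fr F₀ a a' b b') {v : V} {c : F} (hv : Gd F₀ K v c)
    (h0 : sf v a' = 0) : LongSc F₀ K (c ^ 2 * (sf v a ^ 2 * sf v b ^ 2)) := by
  have h1 := split hK h2 h hv 1 (one_mem _)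
  rw [h0, zero_smul, zero_sub, ← neg_smul, H48.tv_scale] at h1
  refine longSc_of hK h.ra' (fun e => by have := h.haa; rw [e, map_zero] at this; exact zero_ne_one this) ?_
  rwa [show c ^ 2 * (sf v a ^ 2 * sf v b ^ 2) = -sf v a * -sf v a * (1 * (c ^ 2 * sf v b ^ 2)) by ring]

omit hK in
theorem ratio_mem {c x y : F} (h2 : (2 : F) ≠ 0) (hc : c ≠ 0) (hy : y ≠ 0)
    (h1 : c ^ 2 * (y ^ 2 * x ^ 2) ∈ F₀) (hp : c ^ 2 * (y ^ 2 * (x + y) ^ 2) ∈ F₀)
    (hm : c ^ 2 * (y ^ 2 * (x - y) ^ 2) ∈ F₀) : x / y ∈ F₀ := by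
  have hA : c ^ 2 * (y ^ 3 * x) ∈ F₀ := by
    have := mul_mem (inv_mem (mul_mem (ofNat_mem F₀ 2) (ofNat_mem F₀ 2))) (sub_mem hp hm)
    convert this using 1
    field_simp
    ring
  have hB : c ^ 2 * y ^ 4 ∈ F₀ := by
    have := sub_mem (mul_mem (inv_mem (ofNat_mem F₀ 2)) (add_mem hp hm)) h1
    convert this using 1
    field_simp
    ring
  have := div_mem hA hB
  convert this using 1
  field_simp

/-- A centre inside one pair with non-rational ratio. -/
theorem scalar_single (h2 : (2 : F) ≠ 0) (h : Fr F₀ a a' b b') {p q c : F} (hc : c ≠ 0) (hq : q ≠ 0)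
    (hr : p / q ∉ F₀) (hv : Gd F₀ K (p • a + q • a') c) : ∃ d, d ∉ F₀ ∧ LongSc F₀ K d := by
  set v := p • a + q • a' with hvdef
  have hba : sf b a = 0 := H48.sf_eq_zero_comm h.hab
  have ha'a : sf a' a = -1 := by rw [H48.sf_swap a a', h.haa]
  have hva : sf v a = -q := by simp [hvdef, ha'a]
  have hvb : sf v b = 0 := by simp [hvdef, h.hab, h.ha'b]
  have hvb' : sf v b' = 0 := by simp [hvdef, h.hab', h.ha'b']
  have hva' : sf v a' = p := by simp [hvdef, h.haa]
  have f := h.tilt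
  have hfirst : sf v (a + b) ^ 2 = q ^ 2 := by rw [map_add, hva, hvb]; ring
  have g₁ : LongSc F₀ K (c ^ 2 * (q ^ 2 * p ^ 2)) := by
    have h3 := scalar_of_zero hK h2 f.swap.rot₁.swap hv hvb'
    rw [hfirst, map_sub, hva', hvb', sub_zero] at h3
    exact h3
  have g₂ : ∀ t : F, t ∈ F₀ → LongSc F₀ K (c ^ 2 * (q ^ 2 * (t * p - q) ^ 2)) := fun t ht => by
    have h3 := scalar_of_zero hK h2 (f.slide ht) hv hvb'
    rw [hfirst, map_add, map_smul, map_sub, hva, hva', hvb', sub_zero, smul_eq_mul] at h3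
    rwa [show t * p - q = -q + t * p by ring]
  by_contra hcon
  simp only [not_exists, not_and] at hcon
  have hmem : ∀ d, LongSc F₀ K d → d ∈ F₀ := fun d hd => by_contra fun hn => hcon d hn hd
  refine hr (ratio_mem h2 hc hq (hmem _ g₁) ?_ ?_)
  · have := hmem _ (g₂ (-1) (neg_mem (one_mem _)))
    rwa [show (-1 : F) * p - q = -(p + q) by ring, neg_sq] at this
  · have := hmem _ (g₂ 1 (one_mem _))
    rwa [one_mul] at this

omit hK in
theorem fr_of_indices {x y : Fin m} (hxy : x ≠ y) :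
    Fr F₀ (uvec (F := F) (Sum.inr x)) (uvec (Sum.inl x)) (uvec (Sum.inr y)) (uvec (Sum.inl y)) := by
  have e : ∀ z : Fin m, sf (uvec (F := F) (Sum.inr z : ι)) (uvec (Sum.inl z)) = 1 := fun z =>
    sf_uvec_swap (Sum.inl z : ι)
  exact ⟨uvec_rat _, uvec_rat _, uvec_rat _, uvec_rat _, e x, e y, sf_uvec_uvec_eq_zero hxy,
    sf_uvec_uvec_eq_zero hxy, sf_uvec_uvec_eq_zero hxy, sf_uvec_uvec_eq_zero hxy⟩

omit hK in
theorem ratLine_of_ratio {v : V} {r : F} (hr : r ≠ 0) (hall : ∀ z : ι, sf v (uvec z) / r ∈ F₀) :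
    IsRatLine F₀ v := by
  refine ⟨r, fun i => r⁻¹ * v i, fun i => ?_, funext fun i => by simp [hr]⟩
  show r⁻¹ * v i ∈ F₀
  rw [apply_eq_sf v i, ← mul_assoc, mul_comm r⁻¹, mul_assoc, inv_mul_eq_div]
  exact mul_mem (usign_rat _) (hall _)

/-- A centre off the rational lines gives a scalar outside the subfield. -/
theorem exists_scalar (h2 : (2 : F) ≠ 0) (hm : 2 ≤ m) {v : V} {c : F} (hc : c ≠ 0) (hv : Gd F₀ K v c)
    (hnot : ¬ IsRatLine F₀ v) : ∃ d, d ∉ F₀ ∧ LongSc F₀ K d := by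
  by_cases hA : ∃ x : Fin m, sf v (uvec (Sum.inl x)) ≠ 0 ∧
      sf v (uvec (Sum.inr x)) / sf v (uvec (Sum.inl x)) ∉ F₀
  · -- a part with non-rational ratio
    obtain ⟨x, hx, hxr⟩ := hA
    by_cases hB : ∃ y : ι, hpair y ≠ x ∧ sf v (uvec y) ≠ 0
    · obtain ⟨y, hyx, hy⟩ := hB
      obtain ⟨a', b', f⟩ : ∃ (a' b' : V), Fr F₀ (uvec (F := F) (Sum.inr x)) a' (uvec y) b' ∧
          a' = uvec (Sum.inl x) := by
        rcases y with j | j
        · exact ⟨_, _, ((fr_of_indices (F₀ := F₀) (Ne.symm hyx)).swap.rot₁.swap), rfl⟩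
        · exact ⟨_, _, fr_of_indices (F₀ := F₀) (Ne.symm hyx), rfl⟩
      obtain ⟨f, rfl⟩ := f
      have h1 := split hK h2 f hv
      rw [sub_eq_add_neg, ← neg_smul] at h1
      have hx' : sf v (uvec (Sum.inr x)) ≠ 0 := fun e => hxr (by rw [e, zero_div]; exact zero_mem _)
      refine scalar_single hK h2 f (mul_ne_zero (pow_ne_zero 2 hc) (pow_ne_zero 2 hy)) (neg_ne_zero.2 hx') ?_ h1
      intro e
      apply hxr
      have := neg_mem (inv_mem e)
      rwa [inv_div, neg_div, neg_neg] at this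
    · simp only [not_exists, not_and, not_not] at hB
      obtain ⟨y, hy⟩ := exists_fresh {x} (by simp; omega)
      have hxy : x ≠ y := fun e => hy (Finset.mem_singleton.2 e.symm)
      have f := fr_of_indices (F₀ := F₀) hxy
      have hx' : sf v (uvec (Sum.inr x)) ≠ 0 := fun e => hxr (by rw [e, zero_div]; exact zero_mem _)
      have hvd : v = sf v (uvec (Sum.inl x)) • uvec (Sum.inr x) +
          (-sf v (uvec (Sum.inr x))) • uvec (Sum.inl x) := by
        funext z
        rw [apply_eq_sf v z]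
        rcases z with j | j
        · by_cases hj : j = x
          · subst hj; simp [uvec, usign]
          · rw [Sum.swap_inl, hB (Sum.inr j) (by simpa [hpair] using hj)]; simp [uvec, hj]
        · by_cases hj : j = x
          · subst hj; simp [uvec, usign]
          · rw [Sum.swap_inr, hB (Sum.inl j) (by simpa [hpair] using hj)]; simp [uvec, hj]
      rw [hvd] at hv
      refine scalar_single hK h2 f hc (neg_ne_zero.2 hx') ?_ hv
      intro e
      apply hxr
      have := neg_mem (inv_mem e)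
      rwa [inv_div, neg_div, neg_neg] at this
  simp only [not_exists, not_and, not_not] at hA
  -- every part is rational: adapt the vectors
  have hex : ∀ x : Fin m, (∀ z : ι, hpair z = x → sf v (uvec z) = 0) ∨
      ∃ w w' : V, (∀ (y : Fin m), y ≠ x → (sf w (uvec (Sum.inl y)) = 0 ∧ sf w (uvec (Sum.inr y)) = 0 ∧
        sf w' (uvec (Sum.inl y)) = 0 ∧ sf w' (uvec (Sum.inr y)) = 0)) ∧ RV F₀ w ∧ RV F₀ w' ∧ sf w w' = 1 ∧
        sf v w' = 0 ∧ sf v w ≠ 0 ∧ (∀ z : ι, hpair z = x → sf v (uvec z) / sf v w ∈ F₀) ∧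
        ∀ u : V, sf (uvec (Sum.inl x)) u = 0 → sf (uvec (Sum.inr x)) u = 0 → sf w u = 0 ∧ sf w' u = 0 := by
    intro x
    have e := sf_uvec_swap (F := F) (Sum.inl x : ι)
    have e' := sf_uvec_swap (F := F) (Sum.inr x : ι)
    simp only [Sum.swap_inl, Sum.swap_inr, usign, Sum.elim_inl, Sum.elim_inr] at e e'
    by_cases h0 : sf v (uvec (Sum.inl x)) = 0
    · by_cases h1 : sf v (uvec (Sum.inr x)) = 0
      · left
        rintro (j | j) (rfl : j = x)
        exacts [h0, h1]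
      right
      refine ⟨uvec (Sum.inr x), uvec (Sum.inl x), fun y hy => ?_, uvec_rat _, uvec_rat _, e, h0, h1, ?_,
        fun u hu1 hu2 => ⟨hu2, hu1⟩⟩
      · refine ⟨?_, ?_, ?_, ?_⟩ <;> exact sf_uvec_uvec_eq_zero (Ne.symm hy)
      · rintro (j | j) (rfl : j = x)
        · rw [h0, zero_div]; exact zero_mem _
        · rw [div_self h1]; exact one_mem _
    right
    set r := sf v (uvec (Sum.inr x)) / sf v (uvec (Sum.inl x)) with hr
    have hrm : r ∈ F₀ := hA x h0
    refine ⟨-uvec (Sum.inl x), uvec (Sum.inr x) - r • uvec (Sum.inl x), fun y hy => ?_,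
      fun i => neg_mem (uvec_rat _ i), fun i => sub_mem (uvec_rat _ i) (mul_mem hrm (uvec_rat _ i)), ?_, ?_, ?_, ?_,
      fun u hu1 hu2 => ⟨by simp [hu1], by simp [hu1, hu2]⟩⟩
    · have k : ∀ z w : ι, hpair z = x → hpair w = y → sf (uvec (F := F) z) (uvec w) = 0 := fun z w hz hw =>
        sf_uvec_uvec_eq_zero (by rw [hz, hw]; exact Ne.symm hy)
      refine ⟨?_, ?_, ?_, ?_⟩ <;> simp [k _ _ (rfl : hpair (Sum.inl x : ι) = x) (rfl : hpair (Sum.inl y : ι) = y),
        k _ _ (rfl : hpair (Sum.inl x : ι) = x) (rfl : hpair (Sum.inr y : ι) = y),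
        k _ _ (rfl : hpair (Sum.inr x : ι) = x) (rfl : hpair (Sum.inl y : ι) = y),
        k _ _ (rfl : hpair (Sum.inr x : ι) = x) (rfl : hpair (Sum.inr y : ι) = y)]
    · simp [e']
    · simp [hr, h0]
    · simp [h0]
    · rintro (j | j) (rfl : j = x)
      · rw [map_neg, div_neg, div_self h0]; exact neg_mem (one_mem _)
      · rw [map_neg, div_neg]; exact neg_mem hrm
  obtain ⟨z₀, hz₀⟩ : ∃ z : ι, sf v (uvec z) ≠ 0 := by
    by_contra hcon
    simp only [not_exists, not_not] at hcon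
    exact hnot ⟨0, 0, fun i => zero_mem _, funext fun i => by simp [apply_eq_sf v i, hcon]⟩
  obtain ⟨w, w', hwo, rw', rw'', hww, hvw', hvw, hwr, hwu⟩ :=
    (hex (hpair z₀)).resolve_left fun h => hz₀ (h z₀ rfl)
  obtain ⟨y, hy⟩ : ∃ z : ι, sf v (uvec z) / sf v w ∉ F₀ := by
    by_contra hcon
    simp only [not_exists, not_not] at hcon
    exact hnot (ratLine_of_ratio hvw hcon)
  have hyx : hpair y ≠ hpair z₀ := fun e => hy (hwr y e)
  obtain ⟨u, u', huo, ru, ru', huu, hvu', hvu, hur, -⟩ :=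
    (hex (hpair y)).resolve_left fun h => hy (by rw [h y rfl, zero_div]; exact zero_mem _)
  have hr : sf v w / sf v u ∉ F₀ := fun e => hy (by
    have := div_mem (hur y rfl) e
    convert this using 1
    field_simp)
  obtain ⟨k1, k2, k3, k4⟩ := huo (hpair z₀) (Ne.symm hyx)
  obtain ⟨hwu1, hwu1'⟩ := hwu u (H48.sf_eq_zero_comm k1) (H48.sf_eq_zero_comm k2)
  obtain ⟨hwu2, hwu2'⟩ := hwu u' (H48.sf_eq_zero_comm k3) (H48.sf_eq_zero_comm k4)
  have f : Fr F₀ w w' u u' := ⟨rw', rw'', ru, ru', hww, huu, hwu1, hwu2, hwu1', hwu2'⟩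
  by_contra hcon
  simp only [not_exists, not_and] at hcon
  have hmem : ∀ d, LongSc F₀ K d → d ∈ F₀ := fun d hd => by_contra fun hn => hcon d hn hd
  have g : ∀ t ∈ F₀, c ^ 2 * ((sf v w + t * sf v u) ^ 2 * sf v u ^ 2) ∈ F₀ := fun t ht => by
    have h3 := scalar_of_zero hK h2 (f.shear ht) hv hvw'
    rw [map_add, map_smul, smul_eq_mul] at h3
    exact hmem _ h3
  refine hr (ratio_mem h2 hc hvu ?_ ?_ ?_)
  · have := g 0 (zero_mem _)
    rwa [zero_mul, add_zero, mul_comm (sf v w ^ 2)] at this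
  · have := g 1 (one_mem _)
    rwa [one_mul, mul_comm ((sf v w + sf v u) ^ 2)] at this
  · have := g (-1) (neg_mem (one_mem _))
    rwa [neg_one_mul, ← sub_eq_add_neg, mul_comm ((sf v w - sf v u) ^ 2)] at this

omit hK in
theorem sroot_mem (hall : ∀ c, LongSc F₀ K c) {x y : V} (hx : RV F₀ x) (hy : RV F₀ y) (c : F) :
    sroot x y c ∈ K :=
  mul_mem (hall c _ (hx.add hy)) (mul_mem (hall (-c) _ hx) (hall (-c) _ hy))

/-- One scalar outside the subfield of prime index gives all. -/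
theorem longSc_univ [Fintype F] (h2 : (2 : F) ≠ 0) (hm : 2 ≤ m) {r : ℕ} (hr : r.Prime)
    (hcard : Fintype.card F = Nat.card F₀ ^ r) {c₀ : F} (hc₀ : c₀ ∉ F₀) (hc : LongSc F₀ K c₀) :
    ∀ c, LongSc F₀ K c := by
  have hadd : ∀ {c d}, LongSc F₀ K c → LongSc F₀ K d → LongSc F₀ K (c + d) := fun {c d} h h' u hu => by
    rw [← H48.tv_mul]; exact mul_mem (h u hu) (h' u hu)
  have hneg : ∀ {c}, LongSc F₀ K c → LongSc F₀ K (-c) := fun {c} h u hu => by
    rw [← H48.tv_inv]; exact inv_mem (h u hu)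
  have hsq : ∀ {c s}, s ∈ F₀ → LongSc F₀ K c → LongSc F₀ K (s * s * c) := fun {c s} hs h u hu => by
    rw [← H48.tv_scale]; exact h _ (hu.smul hs)
  have hscal : ∀ {s c}, s ∈ F₀ → LongSc F₀ K c → LongSc F₀ K (s * c) := fun {s c} hs h => by
    have hi : (2 : F)⁻¹ ∈ F₀ := inv_mem (ofNat_mem F₀ 2)
    have := hadd (hsq (mul_mem (add_mem hs (one_mem _)) hi) h)
      (hneg (hsq (mul_mem (sub_mem hs (one_mem _)) hi) h))
    convert this using 1
    field_simp
    ring
  obtain ⟨x, hx⟩ := exists_fresh (∅ : Finset (Fin m)) (by simp; omega)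
  obtain ⟨y, hy⟩ := exists_fresh ({x} : Finset (Fin m)) (by simp; omega)
  have f := fr_of_indices (F₀ := F₀) (F := F) (x := x) (y := y) fun e => hy (Finset.mem_singleton.2 e.symm)
  set a : V := uvec (Sum.inr x)
  set a' : V := uvec (Sum.inl x)
  set b : V := uvec (Sum.inr y)
  set b' : V := uvec (Sum.inl y)
  have hmul : ∀ {c d}, LongSc F₀ K c → LongSc F₀ K d → LongSc F₀ K (c * d) := fun {c d} h h' => by
    have hba : sf b a = 0 := H48.sf_eq_zero_comm f.hab
    have hb'a : sf b' a = 0 := H48.sf_eq_zero_comm f.hab'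
    have hb'b : sf b' b = -1 := by rw [H48.sf_swap b b', f.hbb]
    have hS : ∀ {c}, LongSc F₀ K c → ∀ {u w : V}, RV F₀ u → RV F₀ w → sroot u w c ∈ K := fun {c} h {u w} hu hw =>
      mul_mem (h _ (hu.add hw)) (mul_mem (hneg h _ hu) (hneg h _ hw))
    have hk := mul_mem (mul_mem (hS h f.ra f.rb) (hS h' f.ra f.rb'))
      (mul_mem (hS (hneg h) f.ra f.rb) (hS (hneg h') f.ra f.rb'))
    have e : tv a (-(2 * (c * d))) = sroot a b c * sroot a b' d * (sroot a b (-c) * sroot a b' (-d)) := by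
      refine H48.sp_ext fun w => ?_
      simp only [mul_smul, sroot_smul f.hab, sroot_smul f.hab', H48.tv_smul, map_add, LinearMap.add_apply,
        map_smul, LinearMap.smul_apply, smul_eq_mul, H48.sf_self, f.hab, f.hab', hba, hb'a, f.hbb, hb'b,
        mul_zero, add_zero, zero_add]
      match_scalars <;> ring
    rw [← e] at hk
    have ha0 : a ≠ 0 := fun e => by have := f.haa; rw [e, map_zero] at this; exact zero_ne_one this
    have h3 := hscal (inv_mem (ofNat_mem F₀ 2)) (hneg (longSc_of hK f.ra ha0 hk))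
    rw [neg_neg] at h3
    rwa [inv_mul_cancel_left₀ h2] at h3
  let R : Subring F :=
    { carrier := {c | LongSc F₀ K c}
      mul_mem' := fun h h' => hmul h h'
      one_mem' := fun u hu => tv_mem_rat hK hu (one_mem _)
      zero_mem' := fun u hu => tv_mem_rat hK hu (zero_mem _)
      add_mem' := fun h h' => hadd h h'
      neg_mem' := fun h => hneg h }
  let T : Subfield F :=
    { R with
      inv_mem' := fun x hx => by
        rcases eq_or_ne x 0 with rfl | hx0
        · rw [_root_.inv_zero]; exact R.zero_mem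
        · rw [show x⁻¹ = x ^ (Fintype.card F - 2) from inv_eq_of_mul_eq_one_left (by
            rw [← pow_succ, show Fintype.card F - 2 + 1 = Fintype.card F - 1 by
              have := Fintype.one_lt_card (α := F); omega]
            exact FiniteField.pow_card_sub_one_eq_one x hx0)]
          exact R.pow_mem hx _ }
  intro c
  exact eq_top_of_lt_subfield (S := T) hr hcard (fun s hs => fun u hu => tv_mem_rat hK hu hs)
    (fun hge => hc₀ (hge hc)) c

/-- All long root elements on the rational centres give the whole group. -/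
theorem eq_top_of_longSc (hm : 2 ≤ m) (hall : ∀ c, LongSc F₀ K c) : K = ⊤ := by
  classical
  have hctr : ∀ y : ι, IsCtr K (uvec y) := fun y c => hall c _ (uvec_rat y)
  have hsr : ∀ (x y : ι) (c : F), sroot (uvec (F := F) x) (uvec y) c ∈ K := fun x y c =>
    sroot_mem hall (uvec_rat x) (uvec_rat y) c
  apply eq_top_of_ctr
  suffices h : ∀ s : Finset ι, ∀ v : V, (∀ x ∉ s, v x = 0) → IsCtr K v by
    exact fun v => h Finset.univ v (fun x hx => absurd (Finset.mem_univ x) hx)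
  intro s
  induction s using Finset.induction with
  | empty =>
    intro v hv c
    rw [show v = 0 from funext fun x => hv x (Finset.notMem_empty x), H48.tv_zero_left]
    exact one_mem _
  | @insert k s hk ih =>
    intro v hv
    set v' := v - v k • uvec k with hv'
    have hv'C : IsCtr K v' := ih v' fun x hx => by
      by_cases hxk : x = k
      · subst hxk; simp [v', uvec]
      · simp [v', uvec, hxk, hv x (by simp [hxk, hx])]
    have hdec : v' + v k • uvec k = v := sub_add_cancel _ _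
    rw [← hdec]
    by_cases hne : sf v' (uvec k) ≠ 0
    · exact hv'C.add_smul_of_ne (hctr k) hne _
    rw [not_not] at hne
    by_cases hy : ∃ y, hpair y ≠ hpair k ∧ sf v' (uvec y) ≠ 0
    · obtain ⟨y, hyk, hy0⟩ := hy
      have := hv'C.group_smul (hsr k y (v k / sf v' (uvec y)))
      rw [sroot_smul (sf_uvec_uvec_eq_zero (Ne.symm hyk)), hne, mul_zero, zero_smul, add_zero,
        div_mul_cancel₀ _ hy0] at this
      exact this
    simp only [not_exists, not_and, not_not] at hy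
    have hprop : v' = v' k • uvec k := by
      funext z
      by_cases hz : z = k
      · subst hz; simp [uvec]
      · rw [apply_eq_sf v' z]
        have : sf v' (uvec z.swap) = 0 := by
          by_cases hp : hpair z.swap = hpair k
          · have : z.swap = k := by
              rw [hpair_swap] at hp
              rcases z with i | i <;> rcases k with j | j <;> simp_all [hpair]
            rw [this]; exact hne
          · exact hy _ hp
        rw [this, mul_zero]
        simp [uvec, hz]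
    rw [hprop, ← add_smul]
    exact (hctr k).smul_vec _


theorem eq_top_of_subfield_odd [Fintype F] (h2 : (2 : F) ≠ 0) (hm : 2 ≤ m) {r : ℕ} (hr : r.Prime)
    (hcard : Fintype.card F = Nat.card F₀ ^ r) {g : Sp} (hg : g ∈ K)
    (hnot : ¬ ∃ a : F, a ≠ 0 ∧ ∀ i j, a⁻¹ * (g : Matrix ι ι F) i j ∈ F₀) : K = ⊤ := by
  by_contra hne
  apply hnot
  refine exists_scalar_of_ratLines hm g fun u hu => ?_
  by_contra hline
  apply hne
  obtain ⟨c, hc, hcK⟩ := exists_scalar hK h2 hm one_ne_zero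
    (fun t ht => conj_mem hg (gd_rat hK hu t ht)) hline
  exact eq_top_of_longSc hK hm (longSc_univ hK h2 hm hr hcard hc hcK)

end H42.SpOdd
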