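import Cfsg.Agent.H49.ShortRoot
import Cfsg.Agent.H49.SubfieldMax
import Mathlib

/-!
A symplectic space as the product of a hyperbolic plane and an orthogonal space: `V = iW ⊕ jW`.
-/

set_option autoImplicit false
set_option linter.unusedSectionVars false
set_option linter.unusedSimpArgs false

namespace H42.SpT

open Matrix
open H48 (sf tv)

variable {m : ℕ} {F : Type*} [Field F] {W : Type*} [AddCommGroup W] [Module F W]

local notation "V" => (Fin m ⊕ Fin m → F)
local notation "Sp" => Matrix.symplecticGroup (Fin m) F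

/-- The two embeddings of the orthogonal factor. -/
structure TStr (i j : W →ₗ[F] (Fin m ⊕ Fin m → F)) (B : LinearMap.BilinForm F W) : Prop where
  ii : ∀ a b, sf (i a) (i b) = 0
  jj : ∀ a b, sf (j a) (j b) = 0
  ij : ∀ a b, sf (i a) (j b) = B a b
  symm : ∀ a b, B a b = B b a
  nd : ∀ a, (∀ b, B a b = 0) → a = 0
  dec : ∀ v, ∃ a b, v = i a + j b
  two : (2 : F) ≠ 0
  five : 5 ≤ Module.finrank F W

/-- The tensor elements. -/
def IsTens (i j : W →ₗ[F] (Fin m ⊕ Fin m → F)) (g : Matrix.symplecticGroup (Fin m) F) : Prop :=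
  ∃ (α β γ δ : F) (h : W →ₗ[F] W), ∀ a,
    g • i a = α • i (h a) + γ • j (h a) ∧ g • j a = β • i (h a) + δ • j (h a)

/-- A reflection. -/
def reflW (B : LinearMap.BilinForm F W) (c : W) : W →ₗ[F] W :=
  LinearMap.id - (2 / B c c) • (B.flip c).smulRight c

theorem reflW_apply (B : LinearMap.BilinForm F W) (c x : W) :
    reflW B c x = x - (2 / B c c * B x c) • c := by
  simp [reflW, smul_smul]

namespace TStr

variable {i j : W →ₗ[F] (Fin m ⊕ Fin m → F)} {B : LinearMap.BilinForm F W} (d : TStr i j B)
include d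

theorem ji (a b : W) : sf (j a) (i b) = - B a b := by
  rw [H48.sf_swap (i b) (j a), d.ij, d.symm]

theorem sf_sum (p p' q q' : W) : sf (i p + j p') (i q + j q') = B p q' - B p' q := by
  simp only [map_add, LinearMap.add_apply, d.ii, d.jj, d.ij, d.ji]
  ring

theorem eq_zero {a b : W} (h : i a + j b = 0) : a = 0 ∧ b = 0 := by
  constructor
  · refine d.nd a fun c => ?_
    have := d.sf_sum a b 0 c
    simp only [h, map_zero, LinearMap.zero_apply, zero_add] at this
    simpa using this.symm
  · refine d.nd b fun c => ?_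
    have := d.sf_sum a b c 0
    simp only [h, map_zero, LinearMap.zero_apply, add_zero] at this
    simpa using this.symm

theorem inj {a b a' b' : W} (h : i a + j b = i a' + j b') : a = a' ∧ b = b' := by
  have h1 : i (a - a') + j (b - b') = 0 := by
    rw [map_sub, map_sub]
    linear_combination (norm := abel) h
  obtain ⟨h2, h3⟩ := d.eq_zero h1
  exact ⟨sub_eq_zero.1 h2, sub_eq_zero.1 h3⟩

/-- Elements of the symplectic group given in blocks. -/
theorem exists_map (α β γ δ : W →ₗ[F] W)
    (h : ∀ a b a' b', B (α a + β b) (γ a' + δ b') - B (γ a + δ b) (α a' + β b') = B a b' - B b a') :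
    ∃ g : Sp, ∀ a b, g • (i a + j b) = i (α a + β b) + j (γ a + δ b) := by
  let φ : (W × W) ≃ₗ[F] V := LinearEquiv.ofBijective (i.coprod j) ⟨by
      intro x y e
      obtain ⟨h1, h2⟩ := d.inj (a := x.1) (b := x.2) (a' := y.1) (b' := y.2) (by simpa using e)
      exact Prod.ext h1 h2, fun v => by
      obtain ⟨a, b, rfl⟩ := d.dec v
      exact ⟨(a, b), by simp⟩⟩
  let L : V →ₗ[F] V := φ.toLinearMap ∘ₗ ((α.coprod β).prod (γ.coprod δ)) ∘ₗ φ.symm.toLinearMap
  have hL : ∀ a b, L (i a + j b) = i (α a + β b) + j (γ a + δ b) := fun a b => by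
    have e : φ.symm (i a + j b) = (a, b) := by
      rw [LinearEquiv.symm_apply_eq]
      show _ = (i.coprod j) (a, b)
      rw [LinearMap.coprod_apply]
    show φ (((α.coprod β).prod (γ.coprod δ)) (φ.symm (i a + j b))) = _
    rw [e]
    show (i.coprod j) (α a + β b, γ a + δ b) = _
    rw [LinearMap.coprod_apply]
  have hv : ∀ v, LinearMap.toMatrix' L *ᵥ v = L v := fun v => LinearMap.toMatrix'_mulVec L v
  refine ⟨⟨LinearMap.toMatrix' L, H48.mem_symplectic_iff.2 fun u v => ?_⟩, fun a b => ?_⟩
  · obtain ⟨a, b, rfl⟩ := d.dec u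
    obtain ⟨a', b', rfl⟩ := d.dec v
    rw [hv, hv, hL, hL, d.sf_sum, d.sf_sum, h]
  · show LinearMap.toMatrix' L *ᵥ (i a + j b) = _
    rw [hv, hL]

/-- Scalar elements on the left. -/
theorem exists_left (α β γ δ : F) (hdet : α * δ - β * γ = 1) :
    ∃ g : Sp, IsTens i j g ∧
      ∀ a b, g • (i a + j b) = i (α • a + β • b) + j (γ • a + δ • b) := by
  obtain ⟨g, hg⟩ := d.exists_map (α • LinearMap.id) (β • LinearMap.id) (γ • LinearMap.id) (δ • LinearMap.id)
    (fun a b a' b' => by
      simp only [LinearMap.smul_apply, LinearMap.id_apply, map_add, map_smul, LinearMap.add_apply, smul_eq_mul]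
      linear_combination (B a b' - B b a') * hdet)
  simp only [LinearMap.smul_apply, LinearMap.id_apply] at hg
  refine ⟨g, ⟨α, β, γ, δ, LinearMap.id, fun a => ⟨?_, ?_⟩⟩, hg⟩
  · simpa using hg a 0
  · simpa using hg 0 a

/-- Isometries on the right. -/
theorem exists_right (h : W →ₗ[F] W) (hh : ∀ a b, B (h a) (h b) = B a b) :
    ∃ g : Sp, IsTens i j g ∧ ∀ a b, g • (i a + j b) = i (h a) + j (h b) := by
  obtain ⟨g, hg⟩ := d.exists_map h 0 0 h (fun a b a' b' => by simp [hh])
  simp only [LinearMap.zero_apply, add_zero, zero_add] at hg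
  refine ⟨g, ⟨1, 0, 0, 1, h, fun a => ⟨?_, ?_⟩⟩, hg⟩
  · simpa using hg a 0
  · simpa using hg 0 a

theorem reflW_isom {c : W} (hc : B c c ≠ 0) (a b : W) : B (reflW B c a) (reflW B c b) = B a b := by
  simp only [reflW_apply, map_sub, map_smul, LinearMap.sub_apply, LinearMap.smul_apply, smul_eq_mul,
    d.symm c b]
  field_simp
  ring

/-- An isometry moving a vector to another of the same norm, fixing what is orthogonal to both. -/
theorem reflect_move {u u' : W} (hu : B u u = B u' u') (hne : B u u ≠ 0) :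
    ∃ h : W →ₗ[F] W, (∀ a b, B (h a) (h b) = B a b) ∧ h u = u' ∧
      ∀ x, B x u = 0 → B x u' = 0 → h x = x := by
  have h2 := d.two
  have hs := d.symm u' u
  by_cases hm : B (u - u') (u - u') = 0
  · have hp : B (u + u') (u + u') = 4 * B u u := by
      simp only [map_sub, map_add, LinearMap.sub_apply, LinearMap.add_apply, hs] at hm ⊢
      linear_combination (-1 : F) * hm - (2 : F) * hu
    have hp0 : B (u + u') (u + u') ≠ 0 := by
      rw [hp]
      exact mul_ne_zero (by rw [show (4 : F) = 2 * 2 by norm_num]; exact mul_ne_zero h2 h2) hne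
    have hu'0 : B u' u' ≠ 0 := hu ▸ hne
    refine ⟨(reflW B u').comp (reflW B (u + u')), fun a b => ?_, ?_, fun x hx hx' => ?_⟩
    · rw [LinearMap.comp_apply, LinearMap.comp_apply, d.reflW_isom hu'0, d.reflW_isom hp0]
    · have e : reflW B (u + u') u = -u' := by
        have e2 : 2 / B (u + u') (u + u') * B u (u + u') = 1 := by
          rw [div_mul_eq_mul_div, div_eq_one_iff_eq hp0]
          simp only [map_add, LinearMap.add_apply, hs]
          linear_combination hu
        rw [reflW_apply, e2, one_smul]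
        abel
      rw [LinearMap.comp_apply, e, map_neg, reflW_apply, div_mul_cancel₀ _ hu'0, two_smul]
      abel
    · have e3 : B x (u + u') = 0 := by rw [map_add, hx, hx', add_zero]
      rw [LinearMap.comp_apply, reflW_apply B (u + u') x, e3, mul_zero, zero_smul,
        sub_zero, reflW_apply, hx', mul_zero, zero_smul, sub_zero]
  · refine ⟨reflW B (u - u'), d.reflW_isom hm, ?_, fun x hx hx' => ?_⟩
    · have e2 : 2 / B (u - u') (u - u') * B u (u - u') = 1 := by
        rw [div_mul_eq_mul_div, div_eq_one_iff_eq hm]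
        simp only [map_sub, LinearMap.sub_apply, hs]
        linear_combination hu
      rw [reflW_apply, e2, one_smul]
      abel
    · have e3 : B x (u - u') = 0 := by rw [map_sub, hx, hx', sub_zero]
      rw [reflW_apply, e3, mul_zero, zero_smul, sub_zero]

variable [FiniteDimensional F W]

/-- The orthogonal of at most two vectors is not totally isotropic. -/
theorem exists_aniso_perp {s : Finset W} (hs : s.card ≤ 2) :
    ∃ x ∈ B.orthogonal (Submodule.span F (s : Set W)), B x x ≠ 0 := by
  classical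
  set P := B.orthogonal (Submodule.span F (s : Set W))
  by_contra hcon
  simp only [not_exists, not_and, not_not] at hcon
  have hz : P ≤ B.orthogonal P := by
    intro x hx y hy
    have h := hcon _ (P.add_mem hx hy)
    simp only [map_add, LinearMap.add_apply, hcon x hx, hcon y hy, d.symm x y] at h
    have : (2 : F) * B y x = 0 := by linear_combination h
    exact (mul_eq_zero.1 this).resolve_left d.two
  have hB : B.Nondegenerate := ⟨d.nd, fun y hy => d.nd y fun x => by rw [d.symm]; exact hy x⟩
  have h1 := Submodule.finrank_mono hz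
  have h2 := LinearMap.BilinForm.finrank_orthogonal hB P
  have h3 : Module.finrank F P = Module.finrank F W - Module.finrank F (Submodule.span F (s : Set W)) :=
    LinearMap.BilinForm.finrank_orthogonal hB _
  have h4 : Module.finrank F (Submodule.span F (s : Set W)) ≤ 2 := (finrank_span_finset_le_card (R := F) s).trans hs
  have := d.five
  omega

/-- Anisotropic vectors span a subspace containing one of them. -/
theorem aniso_span {P : Submodule F W} {a₀ : W} (h₀ : a₀ ∈ P) (hQ : B a₀ a₀ ≠ 0)
    (φ : W →ₗ[F] F) (hφ : ∀ x ∈ P, B x x ≠ 0 → φ x = 0) (y : W) (hy : y ∈ P) : φ y = 0 := by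
  have h1 := hφ a₀ h₀ hQ
  by_cases hyy : B y y = 0
  swap
  · exact hφ y hy hyy
  by_cases hp : B (y + a₀) (y + a₀) = 0
  · have hm : B (y - a₀) (y - a₀) ≠ 0 := by
      intro e
      simp only [map_add, map_sub, LinearMap.add_apply, LinearMap.sub_apply, d.symm a₀ y, hyy] at hp e
      exact hQ ((mul_eq_zero.1 (show (2 : F) * B a₀ a₀ = 0 by linear_combination hp + e)).resolve_left d.two)
    have h := hφ _ (P.sub_mem hy h₀) hm
    rwa [map_sub, h1, sub_zero] at h
  · have h := hφ _ (P.add_mem hy h₀) hp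
    rwa [map_add, h1, add_zero] at h

/-- A vector orthogonal to the anisotropic vectors orthogonal to two vectors lies in their span. -/
theorem mem_span_of_perp {w₁ w₂ x : W}
    (h : ∀ b, B b b ≠ 0 → B w₁ b = 0 → B w₂ b = 0 → B x b = 0) :
    x ∈ Submodule.span F ({w₁, w₂} : Set W) := by
  classical
  obtain ⟨a₀, ha₀, hQ⟩ := d.exists_aniso_perp (s := {w₁, w₂}) Finset.card_le_two
  rw [Finset.coe_insert, Finset.coe_singleton] at ha₀
  set S := Submodule.span F ({w₁, w₂} : Set W)
  have hB : B.Nondegenerate := ⟨d.nd, fun y hy => d.nd y fun x => by rw [d.symm]; exact hy x⟩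
  have hrefl : B.IsRefl := fun a b e => by rw [d.symm]; exact e
  rw [← LinearMap.BilinForm.orthogonal_orthogonal hB hrefl S]
  intro y hy
  show B y x = 0
  rw [d.symm]
  refine d.aniso_span ha₀ hQ (B x) (fun b hb hbb => h b hbb ?_ ?_) y hy
  · exact hb w₁ (Submodule.subset_span (Set.mem_insert _ _))
  · exact hb w₂ (Submodule.subset_span (Set.mem_insert_of_mem _ rfl))

/-- An anisotropic vector orthogonal to two vectors. -/
theorem exists_aniso_two (w₁ w₂ : W) : ∃ x, B w₁ x = 0 ∧ B w₂ x = 0 ∧ B x x ≠ 0 := by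
  classical
  obtain ⟨x, hx, hQ⟩ := d.exists_aniso_perp (s := {w₁, w₂}) Finset.card_le_two
  exact ⟨x, hx w₁ (Submodule.subset_span (by simp)), hx w₂ (Submodule.subset_span (by simp)), hQ⟩

/-- Vectors orthogonal to an anisotropic one with non-zero value at a given vector. -/
theorem exists_aniso_perp_ne {a p : W} (hp0 : p ≠ 0) (hp : B a p = 0) (ha : B a a ≠ 0) :
    ∃ c, B a c = 0 ∧ B c c ≠ 0 ∧ B p c ≠ 0 := by
  classical
  by_contra hcon
  simp only [not_exists, not_and, not_not] at hcon
  obtain ⟨a₀, ha₀, hQ⟩ := d.exists_aniso_perp (s := {a}) (by simp)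
  rw [Finset.coe_singleton] at ha₀
  apply hp0
  refine d.nd p fun b => ?_
  have hb : b - (B a b / B a a) • a ∈ B.orthogonal (Submodule.span F {a}) := by
    intro y hy
    obtain ⟨c, rfl⟩ := Submodule.mem_span_singleton.1 hy
    show B (c • a) _ = 0
    simp only [map_sub, map_smul, LinearMap.smul_apply, smul_eq_mul]
    field_simp
    ring
  have h := d.aniso_span ha₀ hQ (B p)
    (fun x hx hxx => hcon x (hx a (Submodule.mem_span_singleton_self a)) hxx) _ hb
  rwa [map_sub, map_smul, d.symm p a, hp, smul_zero, sub_zero] at h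

end TStr

/-- The involution with the given plane as eigenspace lies in `K`. -/
def InvIn (K : Subgroup (Matrix.symplecticGroup (Fin m) F)) (x y : Fin m ⊕ Fin m → F) : Prop :=
  sf x y ≠ 0 ∧ ∃ g ∈ K, ∀ w, g • w = w - (2 / sf x y * sf w y) • x + (2 / sf x y * sf w x) • y

theorem InvIn.group_smul {K : Subgroup Sp} {x y : V} (h : InvIn K x y) {k : Sp} (hk : k ∈ K) :
    InvIn K (k • x) (k • y) := by
  obtain ⟨hne, g, hg, hgv⟩ := h
  refine ⟨by rwa [H48.sf_smul_smul], k * g * k⁻¹, mul_mem (mul_mem hk hg) (inv_mem hk), fun w => ?_⟩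
  have e : ∀ z, sf w (k • z) = sf (k⁻¹ • w) z := fun z => by
    rw [H48.sf_smul_left, inv_inv]
  rw [mul_smul, mul_smul, hgv, H48.sf_smul_smul, e, e]
  simp only [smul_add, smul_sub, smul_inv_smul, smul_comm k]

/-- Two involution planes meeting along the orthogonal of the second give a short root element. -/
theorem InvIn.short {K : Subgroup Sp} (h2 : (2 : F) ≠ 0) {x y p q : V} (h : InvIn K x y) (h' : InvIn K p q)
    (hp : sf x p = 0) (hq : sf x q = 0) (hy : sf y p ≠ 0 ∨ sf y q ≠ 0) :
    ∃ r, r ≠ 0 ∧ sf x r = 0 ∧ sf y r = 0 ∧ H49.sroot x r 1 ∈ K := by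
  obtain ⟨hμ, s, hs, hsv⟩ := h
  obtain ⟨hν, s', hs', hsv'⟩ := h'
  have hpx := H48.sf_eq_zero_comm hp
  have hqx := H48.sf_eq_zero_comm hq
  have hsx : s' • x = x := by rw [hsv', hp, hq]; simp
  set r := s' • y - y with hr
  have hre : r = -(2 / sf p q * sf y q) • p + (2 / sf p q * sf y p) • q := by
    rw [hr, hsv', neg_smul]
    abel
  have hrx : sf x r = 0 := by rw [hre]; simp [hp, hq]
  have hry : sf y r = 0 := by rw [hre]; simp; ring
  have hr0 : r ≠ 0 := by
    intro e
    have h1 := congrArg (sf · q) e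
    have h3 := congrArg (sf · p) e
    simp only [hre, map_add, LinearMap.add_apply, map_smul, LinearMap.smul_apply, map_zero, LinearMap.zero_apply,
      smul_eq_mul, H48.sf_self, mul_zero, add_zero, zero_add, H48.sf_swap p q] at h1 h3
    field_simp at h1 h3
    rcases hy with hy | hy
    · apply hy
      have : (2 : F) * sf y p = 0 := by linear_combination -h3
      exact (mul_eq_zero.1 this).resolve_left h2
    · apply hy
      have : (2 : F) * sf y q = 0 := by linear_combination -h1
      exact (mul_eq_zero.1 this).resolve_left h2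
  have hsy : s' • y = y + r := by rw [hr, add_sub_cancel]
  clear_value r
  have hkey : s' * s * s'⁻¹ * s = H49.sroot x r (-2 / sf x y) := by
    refine H48.sp_ext fun w => ?_
    have hsv'' : ∀ z, (s' * s * s'⁻¹) • z =
        z - (2 / sf x y * sf z (y + r)) • x + (2 / sf x y * sf z x) • (y + r) := fun z => by
      have e1 : sf (s'⁻¹ • z) x = sf z x := by
        conv_rhs => rw [← hsx]
        rw [← H48.sf_smul_smul s' (s'⁻¹ • z) x, smul_inv_smul]
      have e2 : sf (s'⁻¹ • z) y = sf z (y + r) := by
        rw [← hsy, ← H48.sf_smul_smul s' (s'⁻¹ • z) y, smul_inv_smul]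
      rw [mul_smul, mul_smul, hsv, e1, e2]
      simp only [smul_add, smul_sub, smul_inv_smul, smul_comm s', hsx, hsy]
    have hrx' := H48.sf_eq_zero_comm hrx
    rw [mul_smul, hsv'', hsv, H49.sroot_smul hrx]
    simp only [map_add, map_sub, map_smul, LinearMap.add_apply, LinearMap.sub_apply, LinearMap.smul_apply,
      smul_eq_mul, H48.sf_self, hrx, hry, H48.sf_swap x y]
    match_scalars <;> field_simp <;> ring
  refine ⟨(-2 / sf x y) • r, smul_ne_zero (div_ne_zero (neg_ne_zero.2 h2) hμ) hr0, by simp [hrx], by simp [hry], ?_⟩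
  rw [H49.sroot_scale_right x r hrx, mul_one, ← hkey]
  exact mul_mem (mul_mem (mul_mem hs' hs) (inv_mem hs')) hs

end H42.SpT
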