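import Cfsg.Agent.H42.SpTensorShort

/-!
Overgroups of the tensor group of a plane and an orthogonal space are tensor or everything.
-/

set_option autoImplicit false
set_option linter.unusedSectionVars false
set_option linter.unusedSimpArgs false

namespace H42.SpT

open Matrix
open H48 (sf tv)
open H49 (sroot IsShort IsCtr)

variable {m : ℕ} {F : Type*} [Field F] [Fintype F] {W : Type*} [AddCommGroup W] [Module F W]
  [FiniteDimensional F W]

local notation "V" => (Fin m ⊕ Fin m → F)
local notation "Sp" => Matrix.symplecticGroup (Fin m) F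

namespace TStr

variable {i j : W →ₗ[F] (Fin m ⊕ Fin m → F)} {B : LinearMap.BilinForm F W} (d : TStr i j B)
include d

/-- Orthogonal anisotropic vectors fewer than the dimension leave an anisotropic orthogonal one. -/
theorem exists_aniso_orth {k : ℕ} (v : Fin k → W) (hk : k < Module.finrank F W) (hv : ∀ l, B (v l) (v l) ≠ 0)
    (ho : ∀ l l', l ≠ l' → B (v l) (v l') = 0) : ∃ x, (∀ l, B (v l) x = 0) ∧ B x x ≠ 0 := by
  classical
  set S := Submodule.span F (Set.range v)
  set P := B.orthogonal S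
  have hmem : ∀ x, x ∈ P → ∀ l, B (v l) x = 0 := fun x hx l => hx _ (Submodule.subset_span ⟨l, rfl⟩)
  by_contra hcon
  simp only [not_exists, not_and, not_not] at hcon
  have hB : B.Nondegenerate := ⟨d.nd, fun y hy => d.nd y fun x => by rw [d.symm]; exact hy x⟩
  have hrefl : B.IsRefl := fun a b e => by rw [d.symm]; exact e
  have hPS : P ≤ S := by
    rw [← LinearMap.BilinForm.orthogonal_orthogonal hB hrefl S]
    intro x hx y hy
    have h := hcon _ (hmem _ (P.add_mem hx hy))
    simp only [map_add, LinearMap.add_apply, hcon x (hmem x hx), hcon y (hmem y hy), d.symm x y] at h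
    exact (mul_eq_zero.1 (show (2 : F) * B y x = 0 by linear_combination h)).resolve_left d.two
  have hbot : P = ⊥ := by
    rw [eq_bot_iff]
    intro x hx
    obtain ⟨c, hc⟩ := (Submodule.mem_span_range_iff_exists_fun F).1 (hPS hx)
    have hc0 : ∀ l, c l = 0 := by
      intro l
      have h := hmem x hx l
      rw [← hc, map_sum, Finset.sum_eq_single l] at h
      · simpa [hv l] using h
      · intro l' _ hl'
        rw [map_smul, ho l l' (Ne.symm hl'), smul_zero]
      · simp
    simp [← hc, hc0]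
  have h2 : Module.finrank F P = Module.finrank F W - Module.finrank F S :=
    LinearMap.BilinForm.finrank_orthogonal hB _
  rw [hbot, finrank_bot] at h2
  have h4 : Module.finrank F S ≤ k := (finrank_range_le_card v).trans (by simp)
  omega

/-- Prescribed Gram matrices orthogonal to two orthogonal anisotropic vectors. -/
theorem exists_gram_perp {u v : W} (hu : B u u ≠ 0) (hv : B v v ≠ 0) (huv : B u v = 0) (N₁₁ N₁₂ N₂₂ : F) :
    ∃ z₁ z₂, B u z₁ = 0 ∧ B v z₁ = 0 ∧ B u z₂ = 0 ∧ B v z₂ = 0 ∧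
      B z₁ z₁ = N₁₁ ∧ B z₁ z₂ = N₁₂ ∧ B z₂ z₂ = N₂₂ := by
  have hvu : B v u = 0 := by rw [d.symm, huv]
  by_cases h1 : N₁₁ = 0
  · subst h1
    by_cases h12 : N₁₂ = 0
    · obtain ⟨w, hw1, hw2, hw⟩ := d.exists_norm_perp hu hv huv N₂₂
      exact ⟨0, w, by simp, by simp, hw1, hw2, by simp, by simp [h12], hw⟩
    obtain ⟨c, hc1, hc2, hcc⟩ := d.exists_aniso_two u v
    obtain ⟨w, hw1, hw2, hw3, hw⟩ : ∃ w, B u w = 0 ∧ B v w = 0 ∧ B c w = 0 ∧ B w w = -(B c c) := by
      obtain ⟨e₁, k1, k2, k3, k4⟩ := d.exists_aniso_three hu hv hcc huv hc1 hc2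
      obtain ⟨e₂, l1, l2⟩ := d.exists_aniso_orth ![u, v, c, e₁] (by have := d.five; omega)
        (fun l => by fin_cases l <;> assumption)
        (fun l l' hl => by fin_cases l <;> fin_cases l' <;> simp_all [d.symm c u, d.symm c v, d.symm e₁ u,
          d.symm e₁ v, d.symm e₁ c])
      obtain ⟨x, y, hxy⟩ := exists_two_squares d.two k4 l2 (-(B c c))
      have l10 := l1 0
      have l11 := l1 1
      have l12 := l1 2
      have l13 := l1 3
      simp at l10 l11 l12 l13
      refine ⟨x • e₁ + y • e₂, by simp [k1, l10], by simp [k2, l11], by simp [k3, l12], ?_⟩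
      simp only [map_add, map_smul, LinearMap.add_apply, LinearMap.smul_apply, smul_eq_mul, l13, d.symm e₂ e₁]
      linear_combination hxy
    set x := (N₁₂ / B c c + N₂₂ / N₁₂) / 2 with hx
    set y := (N₂₂ / N₁₂ - N₁₂ / B c c) / 2 with hy
    have h2 := d.two
    refine ⟨c + w, x • c + y • w, by simp [hc1, hw1], by simp [hc2, hw2], by simp [hc1, hw1], by simp [hc2, hw2],
      by simp [hw3, d.symm w c, hw], ?_, ?_⟩
    · simp only [map_add, map_smul, LinearMap.add_apply, smul_eq_mul, hw3, d.symm w c, hw, hx, hy]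
      field_simp
      ring
    · simp only [map_add, map_smul, LinearMap.add_apply, LinearMap.smul_apply, smul_eq_mul, hw3, d.symm w c, hw,
        hx, hy]
      field_simp
      ring
  · obtain ⟨z, hz1, hz2, hz⟩ := d.exists_norm_perp hu hv huv N₁₁
    have hzz : B z z ≠ 0 := by rw [hz]; exact h1
    obtain ⟨e₁, k1, k2, k3, k4⟩ := d.exists_aniso_three hu hv hzz huv hz1 hz2
    obtain ⟨e₂, l1, l2⟩ := d.exists_aniso_orth ![u, v, z, e₁] (by have := d.five; omega)
      (fun l => by fin_cases l <;> assumption)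
      (fun l l' hl => by fin_cases l <;> fin_cases l' <;> simp_all [d.symm z u, d.symm z v, d.symm e₁ u,
        d.symm e₁ v, d.symm e₁ z])
    have l10 := l1 0
    have l11 := l1 1
    have l12 := l1 2
    have l13 := l1 3
    simp at l10 l11 l12 l13
    obtain ⟨x, y, hxy⟩ := exists_two_squares d.two k4 l2 (N₂₂ - N₁₂ / N₁₁ * N₁₂)
    refine ⟨z, (N₁₂ / N₁₁) • z + (x • e₁ + y • e₂), hz1, hz2, by simp [hz1, k1, l10], by simp [hz2, k2, l11],
      hz, ?_, ?_⟩
    · simp only [map_add, map_smul, smul_eq_mul, hz, k3, l12, mul_zero, add_zero]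
      field_simp
    · simp only [map_add, map_smul, LinearMap.add_apply, LinearMap.smul_apply, smul_eq_mul, hz, k3, l12, l13,
        d.symm e₁ z, d.symm e₂ z, d.symm e₂ e₁, mul_zero, add_zero, zero_add]
      field_simp at hxy ⊢
      linear_combination hxy

variable {K : Subgroup (Matrix.symplecticGroup (Fin m) F)} (hK : ∀ g, IsTens i j g → g ∈ K)
include hK

/-- The standard planes. -/
theorem invIn_std {a : W} (ha : B a a ≠ 0) : InvIn K (i a) (j a) := by
  obtain ⟨g, hg, hgv⟩ := d.exists_right_mem hK (reflW B a) (d.reflW_isom ha)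
  refine ⟨by rwa [d.ij], g, hg, fun w => ?_⟩
  obtain ⟨x, y, rfl⟩ := d.dec w
  rw [hgv, d.ij]
  simp only [map_add, LinearMap.add_apply, d.ii, d.jj, d.ij, d.ji, reflW_apply, map_sub, map_smul]
  module

variable (hne : K ≠ ⊤)
include hne

/-- No moved plane meets the orthogonal of another. -/
theorem no_meet {f : Sp} (hf : f ∈ K) {a : W} (ha : B a a ≠ 0) {p q : V} (h : InvIn K p q)
    (hp : sf (f • i a) p = 0) (hq : sf (f • i a) q = 0) : sf (f • j a) p = 0 ∧ sf (f • j a) q = 0 := by
  by_contra hcon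
  rw [not_and_or] at hcon
  obtain ⟨r, hr0, hrx, hry, hr⟩ := ((d.invIn_std hK ha).group_smul hf).short d.two h hp hq hcon
  obtain ⟨p₀, p₁, hr'⟩ := d.dec (f⁻¹ • r)
  have h1 : sroot (i a) (i p₀ + j p₁) 1 ∈ K := by
    have e : f⁻¹ * sroot (f • i a) r 1 * f⁻¹⁻¹ = sroot (i a) (i p₀ + j p₁) 1 := by
      rw [H49.sroot_conj, inv_smul_smul, hr']
    rw [← e]
    exact mul_mem (mul_mem (inv_mem hf) hr) (inv_mem (inv_mem hf))
  have e1 : sf (i a) (f⁻¹ • r) = 0 := by rw [← H48.sf_smul_left, hrx]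
  have e2 : sf (j a) (f⁻¹ • r) = 0 := by rw [← H48.sf_smul_left, hry]
  rw [hr'] at e1 e2
  simp only [map_add, d.ii, d.jj, d.ij, d.ji, zero_add, add_zero, neg_eq_zero] at e1 e2
  refine hne (d.eq_top_of_short hK ha e2 e1 (fun e => hr0 ?_) h1)
  rw [← hr', smul_eq_zero_iff_eq] at e
  exact e

/-- The components of the second column vector lie in the span of those of the first. -/
theorem comps_mem {f : Sp} (hf : f ∈ K) {a : W} (ha : B a a ≠ 0) {w₁ w₂ v₁ v₂ : W}
    (h : f • i a = i w₁ + j w₂) (h' : f • j a = i v₁ + j v₂) :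
    v₁ ∈ Submodule.span F ({w₁, w₂} : Set W) ∧ v₂ ∈ Submodule.span F ({w₁, w₂} : Set W) := by
  have key : ∀ b, B b b ≠ 0 → B w₁ b = 0 → B w₂ b = 0 → B v₁ b = 0 ∧ B v₂ b = 0 := by
    intro b hb h1 h2
    obtain ⟨e1, e2⟩ := d.no_meet hK hne hf ha (d.invIn_std hK hb) (by simp [h, d.ii, d.ji, h2])
      (by simp [h, d.jj, d.ij, h1])
    rw [h'] at e1 e2
    simp only [map_add, LinearMap.add_apply, d.ii, d.jj, d.ij, d.ji, zero_add, add_zero, neg_eq_zero] at e1 e2
    exact ⟨e2, e1⟩
  exact ⟨d.mem_span_of_perp fun b hb h1 h2 => (key b hb h1 h2).1,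
    d.mem_span_of_perp fun b hb h1 h2 => (key b hb h1 h2).2⟩

/-- A two-dimensional pencil is impossible once a suitable isometry exists. -/
theorem pencil_false {f : Sp} (hf : f ∈ K) {a : W} (ha : B a a ≠ 0) {w₁ w₂ : W} {α β γ δ σ : F}
    (h : f • i a = i w₁ + j w₂) (h' : f • j a = i (α • w₁ + β • w₂) + j (γ • w₁ + δ • w₂)) (hγ : γ ≠ 0)
    (e : W →ₗ[F] W) (he : ∀ x y, B (e x) (e y) = B x y) (he22 : B w₂ (e w₂) = 0) (he12 : B w₁ (e w₂) = σ)
    (he21 : B w₂ (e w₁) = σ) (hσ : σ ≠ 0) (hs : γ * B w₁ (e w₁) + (δ - α) * σ ≠ 0) : False := by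
  set s := (γ * B w₁ (e w₁) + (δ - α) * σ) / (γ * σ) with hsdef
  have hs0 : s ≠ 0 := div_ne_zero hs (mul_ne_zero hγ hσ)
  obtain ⟨u, hu, huv⟩ := d.exists_left_mem hK 1 s 0 1 (by ring)
  obtain ⟨v, hv, hvv⟩ := d.exists_right_mem hK e he
  have hkv : ∀ x y, (u * v) • (i x + j y) = i (e x + s • e y) + j (e y) := fun x y => by
    rw [mul_smul, hvv, huv]; simp
  have h0 := d.no_meet hK hne hf ha (((d.invIn_std hK ha).group_smul hf).group_smul (mul_mem hu hv))
    (by
      rw [h, hkv, d.sf_sum, map_add, map_smul, he12, he21, he22, smul_zero, add_zero, sub_self])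
    (by
      rw [h, h', hkv, d.sf_sum]
      simp only [map_add, map_smul, smul_eq_mul, he12, he21, he22, hsdef]
      field_simp
      ring)
  have h1 := h0.1
  rw [h, h', hkv, d.sf_sum] at h1
  simp only [map_add, map_smul, LinearMap.add_apply, LinearMap.smul_apply, smul_eq_mul, he12, he21, he22] at h1
  have h2 : -(2 * γ * s * σ) = 0 := by
    have e3 : γ * σ * s = γ * B w₁ (e w₁) + (δ - α) * σ := by
      rw [hsdef]; field_simp
    linear_combination h1 - e3
  exact mul_ne_zero (mul_ne_zero (mul_ne_zero d.two hγ) hs0) hσ (neg_eq_zero.1 h2)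

/-- The data of a two-dimensional pencil. -/
theorem pencil_data {f : Sp} (hf : f ∈ K) {a : W} (ha : B a a ≠ 0) {w₁ w₂ : W}
    (h : f • i a = i w₁ + j w₂) (hli : LinearIndependent F ![w₁, w₂]) :
    ∃ α β γ δ : F, γ ≠ 0 ∧ f • j a = i (α • w₁ + β • w₂) + j (γ • w₁ + δ • w₂) ∧
      γ * B w₁ w₁ + (δ - α) * B w₁ w₂ - β * B w₂ w₂ = B a a := by
  obtain ⟨v₁, v₂, h'⟩ := d.dec (f • j a)
  obtain ⟨hv1, hv2⟩ := d.comps_mem hK hne hf ha h h'
  obtain ⟨α, β, rfl⟩ := Submodule.mem_span_pair.1 hv1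
  obtain ⟨γ, δ, rfl⟩ := Submodule.mem_span_pair.1 hv2
  refine ⟨α, β, γ, δ, fun hγ => ?_, h', ?_⟩
  · subst hγ
    obtain ⟨u, hu, huv⟩ := d.exists_left_mem hK (-α) (-1) 1 0 (by ring)
    have hui : u • i a = -α • i a + j a := by simpa using huv a 0
    have huj : u • j a = -i a := by simpa using huv 0 a
    have e1 : (f * u) • i a = i (β • w₂) + j ((δ - α) • w₂) := by
      rw [mul_smul, hui, smul_add, smul_comm f (-α), h, h']
      simp only [map_add, map_smul]
      module
    have e2 : (f * u) • j a = i (-w₁) + j (-w₂) := by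
      rw [mul_smul, huj, smul_neg, h, map_neg, map_neg]
      abel
    have h1 := (d.comps_mem hK hne (mul_mem hf hu) ha e1 e2).1
    obtain ⟨p, q, hpq⟩ := Submodule.mem_span_pair.1 h1
    have h2 : (1 : F) • w₁ + (p * β + q * (δ - α)) • w₂ = 0 := by
      linear_combination (norm := module) hpq
    exact one_ne_zero (LinearIndependent.pair_iff.1 hli _ _ h2).1
  · have e : sf (f • i a) (f • j a) = B a a := by rw [H48.sf_smul_smul, d.ij]
    rw [h, h', d.sf_sum] at e
    simp only [map_add, map_smul, smul_eq_mul, d.symm w₂ w₁] at e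
    linear_combination e

/-- A pencil with anisotropic second component is impossible. -/
theorem pencil_aniso {f : Sp} (hf : f ∈ K) {a : W} (ha : B a a ≠ 0) {w₁ w₂ : W}
    (h : f • i a = i w₁ + j w₂) (hli : LinearIndependent F ![w₁, w₂]) (h22 : B w₂ w₂ ≠ 0) : False := by
  classical
  obtain ⟨α, β, γ, δ, hγ, h', hn⟩ := d.pencil_data hK hne hf ha h hli
  have h2 := d.two
  have h21 := d.symm w₂ w₁
  set x := B w₁ w₂ / B w₂ w₂ with hx
  set v := w₁ - x • w₂ with hv
  have hvw : B v w₂ = 0 := by simp [v, x, div_mul_cancel₀ _ h22]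
  have hwv : B w₂ v = 0 := by rw [d.symm]; exact hvw
  by_cases hD : B v v = 0
  · -- a reflection
    obtain ⟨v₁, hv1, hv1'⟩ : ∃ t : F, t ≠ x ∧ t ≠ (α - δ) / γ - x := by
      by_contra hcon
      simp only [not_exists, not_and, not_not] at hcon
      have h0 : x + 1 ≠ x := fun e => one_ne_zero (α := F) (by linear_combination e)
      have h1 : x - 1 ≠ x := fun e => one_ne_zero (α := F) (by linear_combination -e)
      exact h2 (by linear_combination hcon _ h0 - hcon _ h1)
    have hv0 : v ≠ 0 := fun e => by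
      have : (1 : F) • w₁ + (-x) • w₂ = 0 := by rw [one_smul, neg_smul, ← sub_eq_add_neg]; exact e
      exact one_ne_zero (LinearIndependent.pair_iff.1 hli _ _ this).1
    obtain ⟨e₀, he₀⟩ : ∃ z, B v z ≠ 0 := by
      by_contra hcon
      simp only [not_exists, not_not] at hcon
      exact hv0 (d.nd v hcon)
    set ε := v₁ - x with hε
    have hε0 : ε ≠ 0 := sub_ne_zero.2 hv1
    set e₁ := (ε / B v e₀) • e₀ with he₁
    set e' := e₁ - (B w₂ e₁ / B w₂ w₂) • w₂ with he'
    have hve : B v e' = ε := by simp [e', e₁, hvw, div_mul_cancel₀ _ he₀]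
    have hwe : B w₂ e' = 0 := by simp [e', div_mul_cancel₀ _ h22]
    set τ := (2 / B w₂ w₂ - 1 / B w₂ w₂ - B e' e') / (2 * ε) with hτ
    set c := (B w₂ w₂)⁻¹ • w₂ + e' + τ • v with hc
    have hwc : B w₂ c = 1 := by simp [c, hwe, hwv, inv_mul_cancel₀ h22]
    have hvc : B v c = ε := by simp [c, hve, hD, hvw]
    have hw1c : B w₁ c = v₁ := by
      have : w₁ = v + x • w₂ := by rw [hv, sub_add_cancel]
      rw [this, map_add B v (x • w₂), LinearMap.add_apply, map_smul B x w₂, LinearMap.smul_apply, hvc, hwc, hε, smul_eq_mul, mul_one,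
        sub_add_cancel]
    have hcc : B c c = 2 / B w₂ w₂ := by
      simp only [hc, map_add, map_smul, LinearMap.add_apply, LinearMap.smul_apply, smul_eq_mul, hwe, hwv, hvw,
        d.symm e' w₂, d.symm e' v, hve, hD]
      rw [hτ]
      field_simp
      ring
    have hcc0 : B c c ≠ 0 := by rw [hcc]; exact div_ne_zero h2 h22
    have hk : 2 / B c c = B w₂ w₂ := by rw [hcc]; field_simp
    have h11 : B w₁ w₁ = x * x * B w₂ w₂ := by
      have h12 : B w₁ w₂ = x * B w₂ w₂ := by rw [hx, div_mul_cancel₀ _ h22]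
      simp only [hv, map_sub, map_smul, LinearMap.sub_apply, LinearMap.smul_apply, smul_eq_mul, h21, h12] at hD
      linear_combination hD
    refine d.pencil_false hK hne hf ha (σ := B w₂ w₂ * (x - v₁)) h h' hγ (reflW B c) (d.reflW_isom hcc0) ?_ ?_ ?_
      (mul_ne_zero h22 (sub_ne_zero.2 (Ne.symm hv1))) ?_
    · rw [reflW_apply, map_sub, map_smul, hwc, hk]; simp
    · rw [reflW_apply, map_sub, map_smul, hwc, hw1c, hk, smul_eq_mul, hx]
      field_simp
    · rw [reflW_apply, map_sub, map_smul, hwc, hw1c, hk, h21, smul_eq_mul, hx]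
      field_simp
    · rw [reflW_apply, map_sub, map_smul, hw1c, hk, h11, smul_eq_mul]
      intro e
      have e2 : B w₂ w₂ * ((x - v₁) * (γ * (x + v₁) + (δ - α))) = 0 := by linear_combination e
      rcases mul_eq_zero.1 e2 with e2 | e2
      · exact h22 e2
      rcases mul_eq_zero.1 e2 with e2 | e2
      · exact hv1 (sub_eq_zero.1 e2).symm
      · apply hv1'
        field_simp
        linear_combination e2
  · -- two reflections
    set g₀ : F := if δ = α then 1 else 0 with hg₀
    have hg : γ * g₀ + (δ - α) ≠ 0 := by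
      rw [hg₀]
      split_ifs with he
      · simpa [he] using hγ
      · simpa using sub_ne_zero.2 he
    -- components in the span
    set a₁ := ((g₀ - x) / B v v) • v + (1 / B w₂ w₂) • w₂ with ha₁
    set a₂ := (1 / B v v) • v with ha₂
    obtain ⟨z₁, z₂, k1, k2, k3, k4, k11, k12, k22⟩ := d.exists_gram_perp h22 hD hwv
      (B w₁ w₁ - B a₁ a₁) (B w₁ w₂ - B a₁ a₂) (B w₂ w₂ - B a₂ a₂)
    have hw1 : w₁ = v + x • w₂ := by rw [hv, sub_add_cancel]
    have m1 : B w₂ a₁ = 1 := by simp [a₁, hwv, inv_mul_cancel₀ h22]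
    have m2 : B w₂ a₂ = 0 := by simp [a₂, hwv]
    have m3 : B v a₁ = g₀ - x := by simp [a₁, hvw, div_mul_cancel₀ _ hD]
    have m4 : B v a₂ = 1 := by simp [a₂, inv_mul_cancel₀ hD]
    set u₁ := a₁ + z₁ with hu₁
    set u₂ := a₂ + z₂ with hu₂
    have n1 : ∀ z, B w₂ z = 0 → B v z = 0 → B a₁ z = 0 ∧ B a₂ z = 0 := fun z hz hz' =>
      ⟨by simp [a₁, hz, hz'], by simp [a₂, hz']⟩
    obtain ⟨q11, q21⟩ := n1 z₁ k1 k2
    obtain ⟨q12, q22⟩ := n1 z₂ k3 k4
    have g11 : B u₁ u₁ = B w₁ w₁ := by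
      simp only [u₁, map_add, LinearMap.add_apply, q11, d.symm z₁ a₁, k11]; ring
    have g12 : B u₁ u₂ = B w₁ w₂ := by
      simp only [u₁, u₂, map_add, LinearMap.add_apply, q12, q21, d.symm z₁ a₂, k12]; ring
    have g22 : B u₂ u₂ = B w₂ w₂ := by
      simp only [u₂, map_add, LinearMap.add_apply, q22, d.symm z₂ a₂, k22]; ring
    obtain ⟨e₁, he₁, he₁2, -⟩ := d.reflect_move g22.symm h22
    set v' := u₁ - x • u₂ with hv'
    have hu2v : B u₂ v' = 0 := by
      simp only [v', map_sub, map_smul, smul_eq_mul, d.symm u₂ u₁, g12, g22, hx]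
      field_simp
      ring
    have hvv : B (e₁ v) (e₁ v) = B v' v' := by
      rw [he₁]
      simp only [v', hv, map_sub, map_smul, LinearMap.sub_apply, LinearMap.smul_apply, smul_eq_mul, d.symm u₂ u₁,
        g11, g12, g22, h21]
    obtain ⟨e₂, he₂, he₂v, he₂fix⟩ := d.reflect_move hvv (by rw [he₁]; exact hD)
    have hfix : e₂ u₂ = u₂ := he₂fix u₂ (by rw [← he₁2, he₁, hwv]) hu2v
    have E2 : e₂ (e₁ w₂) = u₂ := by rw [he₁2, hfix]
    have E1 : e₂ (e₁ w₁) = u₁ := by
      rw [hw1, map_add, map_add, map_smul, map_smul, E2, he₂v, hv', sub_add_cancel]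
    refine d.pencil_false hK hne hf ha (σ := 1) h h' hγ (e₂.comp e₁)
      (fun p q => by rw [LinearMap.comp_apply, LinearMap.comp_apply, he₂, he₁]) ?_ ?_ ?_ one_ne_zero ?_
    · rw [LinearMap.comp_apply, E2]; simp [u₂, m2, k3]
    · rw [LinearMap.comp_apply, E2, hw1]; simp [u₂, m2, m4, k3, k4]
    · rw [LinearMap.comp_apply, E1]; simp [u₁, m1, k1]
    · have : B w₁ (e₂.comp e₁ w₁) = g₀ := by
        rw [LinearMap.comp_apply, E1]
        nth_rw 1 [hw1]
        simp [u₁, m1, m3, k1, k2]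
      rw [this, mul_one]
      exact hg

/-- No pencils. -/
theorem not_pencil {f : Sp} (hf : f ∈ K) {a : W} (ha : B a a ≠ 0) {w₁ w₂ : W}
    (h : f • i a = i w₁ + j w₂) : ¬ LinearIndependent F ![w₁, w₂] := by
  intro hli
  obtain ⟨α, β, γ, δ, hγ, h', hn⟩ := d.pencil_data hK hne hf ha h hli
  by_cases h22 : B w₂ w₂ = 0
  swap
  · exact d.pencil_aniso hK hne hf ha h hli h22
  by_cases h12 : B w₁ w₂ = 0
  swap
  · refine d.pencil_false hK hne hf ha (σ := B w₁ w₂) h h' hγ LinearMap.id (fun x y => rfl) h22 rfl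
      (d.symm w₂ w₁) h12 ?_
    show γ * B w₁ w₁ + (δ - α) * B w₁ w₂ ≠ 0
    have e : γ * B w₁ w₁ + (δ - α) * B w₁ w₂ = B a a := by linear_combination hn + β * h22
    rw [e]; exact ha
  obtain ⟨u, hu, huv⟩ := d.exists_left_mem hK 1 0 1 1 (by ring)
  have hui : u • i a = i a + j a := by simpa using huv a 0
  have huj : u • j a = j a := by simpa using huv 0 a
  have e1 : (f * u) • i a = i ((1 + α) • w₁ + β • w₂) + j (γ • w₁ + (1 + δ) • w₂) := by
    rw [mul_smul, hui, smul_add, h, h']
    simp only [map_add, map_smul]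
    module
  have e2 : (f * u) • j a = i (α • w₁ + β • w₂) + j (γ • w₁ + δ • w₂) := by rw [mul_smul, huj, h']
  set b₁ := (1 + α) • w₁ + β • w₂
  set b₂ := γ • w₁ + (1 + δ) • w₂
  have hb2 : b₂ ≠ 0 := fun e => hγ (LinearIndependent.pair_iff.1 hli _ _ e).1
  have hli' : LinearIndependent F ![b₁, b₂] := by
    by_contra hdep
    have hc : b₁ ∈ Submodule.span F {b₂} := by
      by_contra hmem
      apply hdep
      rw [LinearIndependent.pair_iff]
      intro p q hpq
      by_cases hp : p = 0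
      · subst hp
        rw [zero_smul, zero_add, smul_eq_zero] at hpq
        exact ⟨rfl, hpq.resolve_right hb2⟩
      · exfalso
        refine hmem (Submodule.mem_span_singleton.2 ⟨-(q / p), ?_⟩)
        have h1 : p • b₁ = -(q • b₂) := eq_neg_of_add_eq_zero_left hpq
        rw [← inv_smul_smul₀ hp b₁, h1, smul_neg, smul_smul, neg_smul]
        congr 2
        ring
    have hle : Submodule.span F ({b₁, b₂} : Set W) ≤ Submodule.span F {b₂} := by
      rw [Submodule.span_le]
      rintro y (rfl | rfl)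
      · exact hc
      · exact Submodule.mem_span_singleton_self _
    obtain ⟨m1, m2⟩ := d.comps_mem hK hne (mul_mem hf hu) ha e1 e2
    have l1 : w₁ ∈ Submodule.span F {b₂} := by
      have := Submodule.sub_mem _ hc (hle m1)
      rwa [show b₁ - (α • w₁ + β • w₂) = w₁ by simp only [b₁]; module] at this
    have l2 : w₂ ∈ Submodule.span F {b₂} := by
      have := Submodule.sub_mem _ (Submodule.mem_span_singleton_self b₂) (hle m2)
      rwa [show b₂ - (γ • w₁ + δ • w₂) = w₂ by simp only [b₂]; module] at this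
    obtain ⟨p, hp⟩ := Submodule.mem_span_singleton.1 l1
    obtain ⟨q, hq⟩ := Submodule.mem_span_singleton.1 l2
    have : q • w₁ + (-p) • w₂ = 0 := by rw [← hp, ← hq]; module
    obtain ⟨hq0, -⟩ := LinearIndependent.pair_iff.1 hli _ _ this
    rw [hq0, zero_smul] at hq
    exact (LinearIndependent.ne_zero 1 hli : w₂ ≠ 0) hq.symm
  refine d.pencil_aniso hK hne (mul_mem hf hu) ha e1 hli' ?_
  have e3 : B b₂ b₂ = γ * γ * B w₁ w₁ := by
    simp only [b₂, map_add, map_smul, LinearMap.add_apply, LinearMap.smul_apply, smul_eq_mul, h22, h12,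
      d.symm w₂ w₁]
    ring
  have e4 : γ * B w₁ w₁ = B a a := by linear_combination hn - (δ - α) * h12 + β * h22
  rw [e3, mul_assoc, e4]
  exact mul_ne_zero hγ ha

/-- Anisotropic columns go to columns. -/
theorem col_to_col {f : Sp} (hf : f ∈ K) {a : W} (ha : B a a ≠ 0) :
    ∃ (w : W) (α β γ δ : F), f • i a = α • i w + γ • j w ∧ f • j a = β • i w + δ • j w := by
  obtain ⟨w₁, w₂, h⟩ := d.dec (f • i a)
  obtain ⟨v₁, v₂, h'⟩ := d.dec (f • j a)
  obtain ⟨hv1, hv2⟩ := d.comps_mem hK hne hf ha h h'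
  obtain ⟨w, hw1, hw2⟩ : ∃ w, w₁ ∈ Submodule.span F {w} ∧ w₂ ∈ Submodule.span F {w} := by
    by_cases h1 : w₁ = 0
    · exact ⟨w₂, h1 ▸ Submodule.zero_mem _, Submodule.mem_span_singleton_self _⟩
    refine ⟨w₁, Submodule.mem_span_singleton_self _, ?_⟩
    by_contra hmem
    refine d.not_pencil hK hne hf ha h ?_
    rw [LinearIndependent.pair_iff' h1]
    exact fun c hc => hmem (Submodule.mem_span_singleton.2 ⟨c, hc⟩)
  have hle : Submodule.span F ({w₁, w₂} : Set W) ≤ Submodule.span F {w} := by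
    rw [Submodule.span_le]
    rintro y (rfl | rfl)
    · exact hw1
    · exact hw2
  obtain ⟨α, rfl⟩ := Submodule.mem_span_singleton.1 hw1
  obtain ⟨γ, rfl⟩ := Submodule.mem_span_singleton.1 hw2
  obtain ⟨β, rfl⟩ := Submodule.mem_span_singleton.1 (hle hv1)
  obtain ⟨δ, rfl⟩ := Submodule.mem_span_singleton.1 (hle hv2)
  exact ⟨w, α, β, γ, δ, by rw [h, map_smul, map_smul], by rw [h', map_smul, map_smul]⟩

/-- The overgroup consists of tensor elements. -/
theorem all_tens {f : Sp} (hf : f ∈ K) : IsTens i j f := by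
  obtain ⟨a, -, -, ha⟩ := d.exists_aniso_two 0 0
  obtain ⟨w, α, β, γ, δ, hi, hj⟩ := d.col_to_col hK hne hf ha
  set D := α * δ - β * γ with hD
  have hDa : D * B w w = B a a := by
    have e : sf (f • i a) (f • j a) = B a a := by rw [H48.sf_smul_smul, d.ij]
    rw [hi, hj] at e
    simp only [map_add, map_smul, LinearMap.add_apply, LinearMap.smul_apply, smul_eq_mul, d.ii, d.jj, d.ij,
      d.ji] at e
    rw [hD]; linear_combination e
  have hD0 : D ≠ 0 := fun e => ha (by rw [← hDa, e, zero_mul])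
  -- the four component maps
  let ψ : V →ₗ[F] W × W := (LinearEquiv.ofBijective (i.coprod j) ⟨by
      intro x y e
      obtain ⟨h1, h2⟩ := d.inj (a := x.1) (b := x.2) (a' := y.1) (b' := y.2) (by simpa using e)
      exact Prod.ext h1 h2, fun v => by
      obtain ⟨p, q, rfl⟩ := d.dec v
      exact ⟨(p, q), by simp⟩⟩).symm.toLinearMap
  have hψ : ∀ p q, ψ (i p + j q) = (p, q) := fun p q => by
    show (LinearEquiv.ofBijective (i.coprod j) _).symm _ = _
    rw [LinearEquiv.symm_apply_eq]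
    show _ = (i.coprod j) (p, q)
    rw [LinearMap.coprod_apply]
  let L : V →ₗ[F] V := (DistribMulAction.toLinearEquiv F V f).toLinearMap
  let A : W →ₗ[F] W := LinearMap.fst F W W ∘ₗ ψ ∘ₗ L ∘ₗ i
  let C : W →ₗ[F] W := LinearMap.snd F W W ∘ₗ ψ ∘ₗ L ∘ₗ i
  let Bm : W →ₗ[F] W := LinearMap.fst F W W ∘ₗ ψ ∘ₗ L ∘ₗ j
  let Dm : W →ₗ[F] W := LinearMap.snd F W W ∘ₗ ψ ∘ₗ L ∘ₗ j
  have hA : ∀ x, f • i x = i (A x) + j (C x) ∧ f • j x = i (Bm x) + j (Dm x) := by
    intro x
    constructor
    · obtain ⟨p, q, e⟩ := d.dec (f • i x)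
      show _ = i (ψ (f • i x)).1 + j (ψ (f • i x)).2
      rw [e, hψ]
    · obtain ⟨p, q, e⟩ := d.dec (f • j x)
      show _ = i (ψ (f • j x)).1 + j (ψ (f • j x)).2
      rw [e, hψ]
  have hval : ∀ {x y : W} {p q r s : F}, f • i x = p • i y + r • j y → f • j x = q • i y + s • j y →
      A x = p • y ∧ C x = r • y ∧ Bm x = q • y ∧ Dm x = s • y := by
    intro x y p q r s h1 h2
    obtain ⟨h3, h4⟩ := d.inj ((hA x).1.symm.trans (h1.trans (by rw [map_smul, map_smul])) :
      i (A x) + j (C x) = i (p • y) + j (r • y))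
    obtain ⟨h5, h6⟩ := d.inj ((hA x).2.symm.trans (h2.trans (by rw [map_smul, map_smul])) :
      i (Bm x) + j (Dm x) = i (q • y) + j (s • y))
    exact ⟨h3, h4, h5, h6⟩
  let h : W →ₗ[F] W := D⁻¹ • (δ • A - γ • Bm)
  let E : Submodule F W := LinearMap.ker (A - α • h) ⊓ LinearMap.ker (C - γ • h) ⊓
    LinearMap.ker (Bm - β • h) ⊓ LinearMap.ker (Dm - δ • h)
  have hE : ∀ x, x ∈ E ↔ A x = α • h x ∧ C x = γ • h x ∧ Bm x = β • h x ∧ Dm x = δ • h x := fun x => by
    simp [E, sub_eq_zero, and_assoc]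
  obtain ⟨ha1, ha2, ha3, ha4⟩ := hval hi hj
  have hha : h a = w := by
    simp only [h, LinearMap.smul_apply, LinearMap.sub_apply, ha1, ha3, smul_sub, smul_smul]
    rw [← sub_smul, show D⁻¹ * δ * α - D⁻¹ * γ * β = 1 by field_simp; rw [hD]; ring, one_smul]
  have haE : a ∈ E := (hE a).2 ⟨by rw [ha1, hha], by rw [ha2, hha], by rw [ha3, hha], by rw [ha4, hha]⟩
  -- pairs with anisotropic sum
  have hstep : ∀ b, B b b ≠ 0 → B (a + b) (a + b) ≠ 0 → b ∈ E := by
    intro b hb hab
    obtain ⟨y, p, q, r, s, hyi, hyj⟩ := d.col_to_col hK hne hf hb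
    obtain ⟨z, p', q', r', s', hzi, hzj⟩ := d.col_to_col hK hne hf hab
    obtain ⟨hb1, hb2, hb3, hb4⟩ := hval hyi hyj
    obtain ⟨hc1, hc2, hc3, hc4⟩ := hval hzi hzj
    rw [map_add, ha1, hb1] at hc1
    rw [map_add, ha2, hb2] at hc2
    rw [map_add, ha3, hb3] at hc3
    rw [map_add, ha4, hb4] at hc4
    by_cases hli : LinearIndependent F ![w, y]
    · have key : ∀ {u u' k : F} {v v' k' : F}, u • w + u' • y = k • z → v • w + v' • y = k' • z →
          u * v' = u' * v := by
        intro u u' k v v' k' e e'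
        have e2 : (k' * u - k * v) • w + (k' * u' - k * v') • y = 0 := by
          linear_combination (norm := module) (k' : F) • e - (k : F) • e'
        obtain ⟨f1, f2⟩ := LinearIndependent.pair_iff.1 hli _ _ e2
        by_cases hk : k = 0
        · subst hk
          rw [zero_smul] at e
          obtain ⟨g1, g2⟩ := LinearIndependent.pair_iff.1 hli _ _ e
          rw [g1, g2, zero_mul, zero_mul]
        · exact mul_left_cancel₀ hk (by linear_combination u' * f1 - u * f2)
      have k1 := key hc1 hc2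
      have k2 := key hc1 hc3
      have k3 := key hc1 hc4
      have k4 := key hc2 hc3
      have k5 := key hc2 hc4
      have k6 := key hc3 hc4
      have hhb : h b = (D⁻¹ * (δ * p - γ * q)) • y := by
        simp only [h, LinearMap.smul_apply, LinearMap.sub_apply, hb1, hb3, smul_smul, smul_sub]
        rw [← sub_smul]
        congr 1
        ring
      refine (hE b).2 ⟨?_, ?_, ?_, ?_⟩ <;>
        simp only [hb1, hb2, hb3, hb4, hhb, smul_smul] <;> congr 1 <;> field_simp <;> rw [hD]
      · linear_combination γ * k2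
      · linear_combination δ * k1 + γ * k4
      · linear_combination δ * k2
      · linear_combination δ * k3 + γ * (-k6)
    · -- proportional images
      have hw0 : w ≠ 0 := fun e => ha (by rw [← hDa, e]; simp)
      obtain ⟨c, hc⟩ : ∃ c : F, c • w = y := by
        by_contra hcon
        simp only [not_exists] at hcon
        exact hli ((LinearIndependent.pair_iff' hw0).2 hcon)
      obtain ⟨u, v, hu⟩ : ∃ u v : F, f • i b = f • (u • i a + v • j a) := by
        refine ⟨D⁻¹ * c * (δ * p - β * r), D⁻¹ * c * (α * r - γ * p), ?_⟩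
        rw [smul_add, smul_comm f _ (i a), smul_comm f _ (j a), hi, hj, hyi, ← hc, map_smul, map_smul]
        match_scalars <;> field_simp <;> rw [hD] <;> ring
      have e := MulAction.injective f hu
      rw [← add_zero (i b), ← map_smul, ← map_smul, ← map_zero j] at e
      obtain ⟨e1, -⟩ := d.inj e
      rw [e1]
      exact E.smul_mem _ haE
  have htop : ∀ y, y ∈ E := by
    intro y
    set k := B a y / B a a with hk
    suffices hperp : ∀ y, B a y = 0 → y ∈ E by
      have h1 := hperp (y - k • a) (by simp [hk, div_mul_cancel₀ _ ha])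
      simpa using E.add_mem h1 (E.smul_mem k haE)
    intro y hy
    have hya : B y a = 0 := by rw [d.symm, hy]
    have hgood : ∀ y, B a y = 0 → B y y ≠ -B a a → y ∈ E := by
      intro y hy hne'
      have hya : B y a = 0 := by rw [d.symm, hy]
      by_cases hyy : B y y = 0
      · have h1 := hstep (a + y) (by simp [hy, hya, hyy, ha]) (by
          simp only [map_add, LinearMap.add_apply, hy, hya, hyy]
          intro e
          exact mul_ne_zero (mul_ne_zero d.two d.two) ha (by linear_combination e))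
        simpa using E.sub_mem h1 haE
      · exact hstep y hyy (by
          simp only [map_add, LinearMap.add_apply, hy, hya]
          intro e
          exact hne' (by linear_combination e))
    by_cases hyy : B y y = -B a a
    swap
    · exact hgood y hy hyy
    obtain ⟨c, hc1, hc2, hcc⟩ := d.exists_aniso_two a y
    have hcy : B c y = 0 := by rw [d.symm, hc2]
    have h1 := hgood (y + c) (by simp [hy, hc1]) (by simp [hyy, hc2, hcy, hcc])
    have h2 := hgood (y - c) (by simp [hy, hc1]) (by simp [hyy, hc2, hcy, hcc])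
    have h3 := E.add_mem h1 h2
    rw [show y + c + (y - c) = (2 : F) • y by rw [two_smul]; abel] at h3
    exact (E.smul_mem_iff d.two).1 h3
  refine ⟨α, β, γ, δ, h, fun x => ?_⟩
  obtain ⟨e1, e2, e3, e4⟩ := (hE x).1 (htop x)
  rw [(hA x).1, (hA x).2, e1, e2, e3, e4]
  simp

end TStr

/-- Overgroups of the tensor group. -/
theorem isTens_or_top {i j : W →ₗ[F] (Fin m ⊕ Fin m → F)} {B : LinearMap.BilinForm F W} (d : TStr i j B)
    {K : Subgroup (Matrix.symplecticGroup (Fin m) F)} (hK : ∀ g, IsTens i j g → g ∈ K) :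
    K = ⊤ ∨ ∀ g ∈ K, IsTens i j g := by
  by_cases hne : K = ⊤
  · exact Or.inl hne
  · exact Or.inr fun g hg => d.all_tens hK hne hg

end H42.SpT
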