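import Cfsg.Agent.H42.SpTensorMain
import Cfsg.Prelude.Def_GeometricClasses

/-!
The tensor group `Sp₂ ⊗ GOₙ` is maximal in the symplectic group for `n ≥ 5`.
-/

set_option autoImplicit false
set_option linter.unusedSectionVars false
set_option linter.unusedSimpArgs false

namespace H42.SpT

open Matrix
open scoped Kronecker
open H48 (sf tv)

variable {m : ℕ} {F : Type*} [Field F] [Fintype F] {n : ℕ}

local notation "V" => (Fin m ⊕ Fin m → F)
local notation "Sp" => Matrix.symplecticGroup (Fin m) F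

/-- Coordinate embedding of the second factor. -/
def slot (k : Fin 2) : (Fin n → F) →ₗ[F] (Fin 2 × Fin n → F) where
  toFun a p := if p.1 = k then a p.2 else 0
  map_add' a b := by funext p; by_cases h : p.1 = k <;> simp [h]
  map_smul' c a := by funext p; by_cases h : p.1 = k <;> simp [h]

theorem slot_apply (k : Fin 2) (a : Fin n → F) (p : Fin 2 × Fin n) :
    slot (F := F) k a p = if p.1 = k then a p.2 else 0 := rfl

theorem slot_dec (y : Fin 2 × Fin n → F) :
    y = slot 0 (fun l => y (0, l)) + slot 1 (fun l => y (1, l)) := by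
  funext ⟨k, l⟩
  fin_cases k <;> simp [slot_apply]

theorem kron_slot (a : Matrix (Fin 2) (Fin 2) F) (b : Matrix (Fin n) (Fin n) F) (k : Fin 2) (x : Fin n → F) :
    (a ⊗ₖ b) *ᵥ slot k x = a 0 k • slot 0 (b *ᵥ x) + a 1 k • slot 1 (b *ᵥ x) := by
  funext ⟨k', l⟩
  show ∑ q : Fin 2 × Fin n, (a ⊗ₖ b) (k', l) q * slot k x q = _
  rw [Fintype.sum_prod_type, Finset.sum_eq_single k]
  · simp only [slot_apply, Matrix.kroneckerMap_apply, if_true, Pi.add_apply, Pi.smul_apply, smul_eq_mul,
      Matrix.mulVec, dotProduct]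
    fin_cases k' <;> simp [Finset.mul_sum, mul_assoc]
  · intro c _ hc
    simp [slot_apply, hc]
  · simp

/-- The bilinear form of the orthogonal factor. -/
def wForm (f₂ : (Fin n → F) → (Fin n → F) → F) (hb : Cfsg.Geo.IsBilinearForm f₂) (κ : F) :
    LinearMap.BilinForm F (Fin n → F) :=
  LinearMap.mk₂ F (fun a b => κ * f₂ a b)
    (fun a a' b => by rw [hb.add_left]; ring) (fun c a b => by rw [hb.smul_left, smul_eq_mul]; ring)
    (fun a b b' => by rw [hb.add_right]; ring) (fun c a b => by rw [hb.smul_right, smul_eq_mul]; ring)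

theorem wForm_apply (f₂ : (Fin n → F) → (Fin n → F) → F) (hb : Cfsg.Geo.IsBilinearForm f₂) (κ : F)
    (a b : Fin n → F) : wForm f₂ hb κ a b = κ * f₂ a b := rfl

theorem form_eq_sum {f₂ : (Fin n → F) → (Fin n → F) → F} (hb : Cfsg.Geo.IsBilinearForm f₂) (x y : Fin n → F) :
    f₂ x y = ∑ a, ∑ b, x a * Cfsg.Geo.gramMatrix f₂ a b * y b := by
  let β : LinearMap.BilinForm F (Fin n → F) :=
    LinearMap.mk₂ F f₂ hb.add_left hb.smul_left hb.add_right hb.smul_right
  have hG : Cfsg.Geo.gramMatrix f₂ = LinearMap.toMatrix₂' F β := by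
    ext p r
    rw [LinearMap.toMatrix₂'_apply]
    rfl
  have h1 : f₂ x y = β x y := rfl
  rw [h1, ← Matrix.toLinearMap₂'_toMatrix' (R := F) β, ← hG, Matrix.toLinearMap₂'_apply']
  simp only [dotProduct, Matrix.mulVec, Finset.mul_sum, mul_assoc]

/-- The tensor stabiliser `Sp₂ ⊗ GOₙ` is maximal. -/
theorem maximal (hn : 5 ≤ n) (hodd : Odd (Fintype.card F)) (e : (Fin m ⊕ Fin m) ≃ Fin 2 × Fin n)
    (P : Matrix.GeneralLinearGroup (Fin m ⊕ Fin m) F) (f₁ : (Fin 2 → F) → (Fin 2 → F) → F)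
    (f₂ : (Fin n → F) → (Fin n → F) → F) (hf₁ : Cfsg.Geo.IsSymplecticForm f₁) (hf₂ : Cfsg.Geo.IsSymmetricForm f₂)
    (hT : Cfsg.Geo.IsTensorFormStructure id (Cfsg.sympForm m F) f₁ f₂ e P) :
    Cfsg.Geo.IsMaximalIn (Cfsg.spGL m F) (Cfsg.Geo.tensorProductSubgroup 2 n e P ⊓ Cfsg.spGL m F) := by
  classical
  obtain ⟨c, hc, hform⟩ := hT
  set Pm : Matrix (Fin m ⊕ Fin m) (Fin m ⊕ Fin m) F := (P : Matrix (Fin m ⊕ Fin m) (Fin m ⊕ Fin m) F)
  let T : (Fin 2 × Fin n → F) →ₗ[F] V := Pm.mulVecLin ∘ₗ LinearMap.funLeft F F e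
  have hT' : ∀ y, T y = Pm *ᵥ (y ∘ e) := fun y => rfl
  let i : (Fin n → F) →ₗ[F] V := T ∘ₗ slot 0
  let j : (Fin n → F) →ₗ[F] V := T ∘ₗ slot 1
  set G₁ := Cfsg.Geo.gramMatrix f₁ with hG₁
  set κ : F := c * G₁ 0 1 with hκ
  set B := wForm f₂ hf₂.bilinear κ with hB
  have hdiag : ∀ k, G₁ k k = 0 := fun k => hf₁.alternating _
  have h10 : G₁ 1 0 = - G₁ 0 1 := hf₁.skew _ _
  have h01 : G₁ 0 1 ≠ 0 := by
    intro h0
    obtain ⟨x, hx⟩ := (hf₁.nondegenerate (Pi.single 0 1) (by simp)).2
    apply hx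
    let β : LinearMap.BilinForm F (Fin 2 → F) :=
      LinearMap.mk₂ F f₁ hf₁.bilinear.add_left hf₁.bilinear.smul_left hf₁.bilinear.add_right
        hf₁.bilinear.smul_right
    show β (Pi.single 0 1) x = 0
    have hx' : x = x 0 • (Pi.single 0 1 : Fin 2 → F) + x 1 • Pi.single 1 1 := by
      funext k; fin_cases k <;> simp
    rw [hx', map_add, map_smul, map_smul,
      show β (Pi.single 0 1) (Pi.single 0 1) = 0 from hdiag 0,
      show β (Pi.single 0 1) (Pi.single 1 1) = 0 from h0, smul_zero, smul_zero, add_zero]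
  have hsf : ∀ k l a b, sf (T (slot k a)) (T (slot l b)) = c * (G₁ k l * f₂ a b) := by
    intro k l a b
    rw [← H48.sympForm_eq_sf, hT', hT', hform]
    congr 1
    rw [form_eq_sum hf₂.bilinear a b, Cfsg.Geo.formOfGram, Fintype.sum_prod_type, Finset.sum_eq_single k]
    · rw [Finset.mul_sum]
      refine Finset.sum_congr rfl fun p _ => ?_
      rw [Fintype.sum_prod_type, Finset.sum_eq_single l]
      · rw [Finset.mul_sum]
        refine Finset.sum_congr rfl fun q _ => ?_
        simp only [slot_apply, if_true, Matrix.kroneckerMap_apply, id]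
        ring
      · intro q _ hq; simp [slot_apply, hq]
      · simp
    · intro p _ hp; simp [slot_apply, hp]
    · simp
  have hTsurj : ∀ v, ∃ y, T y = v := fun v => by
    obtain ⟨w, hw⟩ := (Matrix.mulVec_surjective_iff_isUnit.2 P.isUnit) v
    exact ⟨w ∘ e.symm, by rw [hT', Function.comp_assoc, Equiv.symm_comp_self, Function.comp_id]; exact hw⟩
  have d : TStr i j B := by
    refine ⟨fun a b => ?_, fun a b => ?_, fun a b => ?_, fun a b => ?_, fun a ha => ?_, fun v => ?_, ?_, ?_⟩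
    · show sf (T (slot 0 a)) (T (slot 0 b)) = 0
      rw [hsf, hdiag]; ring
    · show sf (T (slot 1 a)) (T (slot 1 b)) = 0
      rw [hsf, hdiag]; ring
    · show sf (T (slot 0 a)) (T (slot 1 b)) = _
      rw [hsf, hB, wForm_apply, hκ]; ring
    · rw [hB, wForm_apply, wForm_apply, hf₂.symm]
    · by_contra ha0
      obtain ⟨x, hx⟩ := (hf₂.nondegenerate a ha0).2
      have := ha x
      rw [hB, wForm_apply] at this
      exact hx ((mul_eq_zero.1 this).resolve_left (mul_ne_zero hc h01))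
    · obtain ⟨y, rfl⟩ := hTsurj v
      exact ⟨fun l => y (0, l), fun l => y (1, l), by
        show T y = T (slot 0 _) + T (slot 1 _)
        rw [← map_add, ← slot_dec]⟩
    · intro h2
      have h : ringChar F = 2 := by
        apply CharP.ringChar_of_prime_eq_zero Nat.prime_two
        exact_mod_cast h2
      have := FiniteField.even_card_iff_char_two.mp h
      rw [Nat.odd_iff] at hodd
      omega
    · simpa using hn
  -- membership
  have hkey : ∀ (g : Matrix.GeneralLinearGroup (Fin m ⊕ Fin m) F) (ab : Matrix.GeneralLinearGroup (Fin 2 × Fin n) F),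
      P * Cfsg.Geo.glReindex e.symm ab * P⁻¹ = g →
      ∀ y, (g : Matrix (Fin m ⊕ Fin m) (Fin m ⊕ Fin m) F) *ᵥ T y =
        T ((ab : Matrix (Fin 2 × Fin n) (Fin 2 × Fin n) F) *ᵥ y) := by
    intro g ab hg y
    rw [← hg, hT', hT', Units.val_mul, Units.val_mul, Matrix.mulVec_mulVec, mul_assoc,
      show ((P⁻¹ : Matrix.GeneralLinearGroup (Fin m ⊕ Fin m) F) : Matrix (Fin m ⊕ Fin m) (Fin m ⊕ Fin m) F) * Pm = 1
        from P.inv_mul, mul_one, ← Matrix.mulVec_mulVec]
    congr 1
    show (Matrix.reindex e.symm e.symm (ab : Matrix (Fin 2 × Fin n) (Fin 2 × Fin n) F)) *ᵥ (y ∘ e) = _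
    rw [Matrix.reindex_apply, Matrix.submatrix_mulVec_equiv]
    simp [Function.comp_assoc]
  have hmem : ∀ s : Sp, H49.spHom m F s ∈ Cfsg.Geo.tensorProductSubgroup 2 n e P ↔ IsTens i j s := by
    intro s
    constructor
    · rintro ⟨_, ⟨ab, ⟨a, b, hab⟩, rfl⟩, hg⟩
      simp only [MulEquiv.coe_toMonoidHom, MulAut.conj_apply] at hg
      refine ⟨(a : Matrix (Fin 2) (Fin 2) F) 0 0, (a : Matrix (Fin 2) (Fin 2) F) 0 1,
        (a : Matrix (Fin 2) (Fin 2) F) 1 0, (a : Matrix (Fin 2) (Fin 2) F) 1 1,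
        (b : Matrix (Fin n) (Fin n) F).mulVecLin, fun x => ⟨?_, ?_⟩⟩
      · have h := hkey _ ab hg (slot 0 x)
        rw [H49.spHom_mulVec, hab, kron_slot, map_add, map_smul, map_smul] at h
        exact h
      · have h := hkey _ ab hg (slot 1 x)
        rw [H49.spHom_mulVec, hab, kron_slot, map_add, map_smul, map_smul] at h
        exact h
    · rintro ⟨α, β, γ, δ, h, hh⟩
      set a : Matrix (Fin 2) (Fin 2) F := !![α, β; γ, δ] with ha
      set b : Matrix (Fin n) (Fin n) F := LinearMap.toMatrix' h with hb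
      set S := H49.spHom m F s
      have hS : ∀ y, (S : Matrix (Fin m ⊕ Fin m) (Fin m ⊕ Fin m) F) *ᵥ T y = T ((a ⊗ₖ b) *ᵥ y) := by
        intro y
        rw [slot_dec y, map_add, Matrix.mulVec_add, Matrix.mulVec_add, kron_slot, kron_slot, map_add, map_add,
          map_add, map_smul, map_smul, map_smul, map_smul]
        show s • i _ + s • j _ = _
        rw [(hh _).1, (hh _).2]
        simp only [a, b, LinearMap.toMatrix'_mulVec, Matrix.cons_val', Matrix.cons_val_zero, Matrix.cons_val_one,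
          Matrix.empty_val', Matrix.cons_val_fin_one, Matrix.of_apply]
        rfl
      have hinj : Function.Injective ((a ⊗ₖ b) *ᵥ ·) := by
        intro y y' hy
        have hTinj : Function.Injective T := by
          intro u u' hu
          rw [hT', hT'] at hu
          have := Matrix.mulVec_injective_of_isUnit P.isUnit hu
          funext p
          simpa using congrFun this (e.symm p)
        apply hTinj
        apply Matrix.mulVec_injective_of_isUnit S.isUnit
        show (S : Matrix (Fin m ⊕ Fin m) (Fin m ⊕ Fin m) F) *ᵥ T y = (S : Matrix (Fin m ⊕ Fin m) (Fin m ⊕ Fin m) F) *ᵥ T y'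
        rw [hS, hS]
        exact congrArg T hy
      have hu : IsUnit (a ⊗ₖ b) := Matrix.mulVec_injective_iff_isUnit.1 hinj
      have hdet : (a ⊗ₖ b).det ≠ 0 := ((Matrix.isUnit_iff_isUnit_det _).1 hu).ne_zero
      rw [Matrix.det_kronecker] at hdet
      have hadet : a.det ≠ 0 := fun h0 => hdet (by rw [h0, zero_pow (by simp; omega), zero_mul])
      have hbdet : b.det ≠ 0 := fun h0 => hdet (by rw [h0, zero_pow (by simp), mul_zero])
      set A := Matrix.GeneralLinearGroup.mkOfDetNeZero a hadet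
      set Bu := Matrix.GeneralLinearGroup.mkOfDetNeZero b hbdet
      set ab : Matrix.GeneralLinearGroup (Fin 2 × Fin n) F := hu.unit
      refine ⟨_, ⟨ab, ⟨A, Bu, hu.unit_spec⟩, rfl⟩, ?_⟩
      simp only [MulEquiv.coe_toMonoidHom, MulAut.conj_apply]
      apply Units.ext
      refine Matrix.ext_iff_mulVec.2 fun v => ?_
      obtain ⟨y, rfl⟩ := hTsurj v
      rw [hkey _ ab rfl, hS, hu.unit_spec]
  refine ⟨lt_of_le_of_ne inf_le_right fun heq => ?_, fun M hHM hMK => ?_⟩
  · obtain ⟨b₀, -, -, hb₀⟩ := d.exists_aniso_two 0 0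
    obtain ⟨x', hx', -, hxx⟩ := d.exists_aniso_two b₀ b₀
    have hmemT : H49.spHom m F (tv (j b₀) 1) ∈ Cfsg.Geo.tensorProductSubgroup 2 n e P := by
      have := H49.spHom_mem_spGL (tv (j b₀) (1 : F))
      rw [← heq] at this
      exact this.1
    obtain ⟨α, β, γ, δ, h, hh⟩ := (hmem _).1 hmemT
    have e1 := (hh (b₀ + x')).1
    rw [H48.tv_smul, d.ij, one_mul, ← map_smul j, ← map_smul i, ← map_smul j] at e1
    obtain ⟨e2, e3⟩ := d.inj e1
    have hval : B (b₀ + x') b₀ = B b₀ b₀ := by simp [d.symm x' b₀, hx']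
    rw [hval] at e3
    by_cases hγ : γ = 0
    · rw [hγ, zero_smul, smul_eq_zero] at e3
      rcases e3 with e3 | e3
      · exact hb₀ e3
      · exact hb₀ (by rw [e3]; simp)
    · have hx2 : B x' (b₀ + x') = B x' x' := by simp [d.symm x' b₀, hx']
      have e4 : γ • (b₀ + x') = (α * B b₀ b₀) • b₀ := by
        rw [e2, smul_smul, mul_comm γ α, mul_smul α γ, ← e3, smul_smul]
      have h2 := congrArg (B x') e4
      simp only [map_smul, smul_eq_mul, hx2, show B x' b₀ = 0 by rw [d.symm, hx'], mul_zero] at h2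
      exact mul_ne_zero hγ hxx h2
  · let K := M.comap (H49.spHom m F)
    have hK : ∀ g, IsTens i j g → g ∈ K := fun g hg => hHM ⟨(hmem g).2 hg, H49.spHom_mem_spGL g⟩
    rcases isTens_or_top d hK with htop | hall
    · refine Or.inr (le_antisymm hMK fun g hg => ?_)
      obtain ⟨s, rfl⟩ := H49.exists_spHom_eq hg
      have : s ∈ K := htop ▸ Subgroup.mem_top s
      exact this
    · refine Or.inl (le_antisymm (fun g hg => ?_) hHM)
      obtain ⟨s, rfl⟩ := H49.exists_spHom_eq (hMK hg)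
      exact ⟨(hmem s).2 (hall s hg), H49.spHom_mem_spGL s⟩

end H42.SpT
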