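import Mathlib

/-!
Every endomorphism of a finite-dimensional vector space is self-adjoint for some non-degenerate
bilinear form (hence every square matrix is similar to its transpose).
-/

set_option autoImplicit false

open Polynomial
open scoped DirectSum

namespace H42

variable {F : Type*} [Field F]

/-- On `F[X] ⧸ (f)`, `f ≠ 0`, some functional vanishes on no non-zero ideal. -/
lemma exists_quot_functional (f : F[X]) (hf : f ≠ 0) :
    ∃ τ : (F[X] ⧸ Submodule.span F[X] {f}) →ₗ[F] F,
      ∀ a : F[X] ⧸ Submodule.span F[X] {f}, a ≠ 0 → ∃ g : F[X], τ (g • a) ≠ 0 := by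
  classical
  set m := normalize f with hm
  have hmon : m.Monic := Polynomial.monic_normalize hf
  have hspan : Submodule.span F[X] {f} = Submodule.span F[X] {m} :=
    Ideal.span_singleton_eq_span_singleton.2 (associated_normalize f)
  set L : F[X] →ₗ[F] F := (Polynomial.lcoeff F (m.natDegree - 1)).comp (Polynomial.modByMonicHom m)
    with hL
  have hker : (Submodule.span F[X] {f}).restrictScalars F ≤ LinearMap.ker L := by
    intro g hg
    rw [Submodule.restrictScalars_mem, hspan, Submodule.mem_span_singleton] at hg
    obtain ⟨c, rfl⟩ := hg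
    simp [hL, Polynomial.modByMonicHom, (Polynomial.modByMonic_eq_zero_iff_dvd hmon).2 (dvd_mul_left m c)]
  refine ⟨((Submodule.span F[X] {f}).restrictScalars F).liftQ L hker ∘ₗ
    (Submodule.Quotient.restrictScalarsEquiv F (Submodule.span F[X] {f})).symm.toLinearMap, ?_⟩
  intro a ha
  obtain ⟨h, rfl⟩ := Submodule.Quotient.mk_surjective _ a
  set r := h %ₘ m with hr
  have hr0 : r ≠ 0 := by
    intro h0
    refine ha ((Submodule.Quotient.mk_eq_zero _).2 ?_)
    rw [hspan, Submodule.mem_span_singleton]
    obtain ⟨c, hc⟩ := (Polynomial.modByMonic_eq_zero_iff_dvd hmon).1 h0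
    exact ⟨c, by rw [hc, smul_eq_mul, mul_comm]⟩
  have hdeg : r.natDegree < m.natDegree :=
    Polynomial.natDegree_modByMonic_lt h hmon (fun h1 => hr0 (by rw [hr, h1, Polynomial.modByMonic_one]))
  refine ⟨X ^ (m.natDegree - 1 - r.natDegree), ?_⟩
  rw [← Submodule.Quotient.mk_smul]
  change L ((X ^ (m.natDegree - 1 - r.natDegree) : F[X]) • h) ≠ 0
  have hmod : ((X ^ (m.natDegree - 1 - r.natDegree) : F[X]) • h) %ₘ m
      = X ^ (m.natDegree - 1 - r.natDegree) * r := by
    rw [smul_eq_mul]
    refine (Polynomial.div_modByMonic_unique (X ^ (m.natDegree - 1 - r.natDegree) * (h /ₘ m)) _ hmon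
      ⟨?_, ?_⟩).2
    · conv_rhs => rw [← Polynomial.modByMonic_add_div h m]
      rw [hr]; ring
    · rw [Polynomial.degree_eq_natDegree hmon.ne_zero,
        Polynomial.degree_eq_natDegree (mul_ne_zero (pow_ne_zero _ Polynomial.X_ne_zero) hr0),
        Polynomial.natDegree_mul (pow_ne_zero _ Polynomial.X_ne_zero) hr0, Polynomial.natDegree_X_pow]
      exact_mod_cast (by omega)
  simp only [hL, LinearMap.comp_apply, Polynomial.modByMonicHom, LinearMap.coe_mk, AddHom.coe_mk,
    Polynomial.lcoeff_apply, hmod]
  rw [show m.natDegree - 1 = r.natDegree + (m.natDegree - 1 - r.natDegree) by omega,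
    Nat.add_sub_cancel_left, Polynomial.coeff_X_pow_mul]
  exact Polynomial.leadingCoeff_ne_zero.2 hr0

/-- Every endomorphism of a finite-dimensional space is self-adjoint for a non-degenerate
bilinear form. -/
theorem exists_selfAdjoint_form {V : Type*} [AddCommGroup V] [Module F V] [FiniteDimensional F V]
    (T : V →ₗ[F] V) : ∃ B : V →ₗ[F] V →ₗ[F] F,
      (∀ v, (∀ w, B v w = 0) → v = 0) ∧ ∀ v w, B (T v) w = B v (T w) := by
  classical
  obtain ⟨ι, _, p, hp, k, ⟨e⟩⟩ :=
    Module.equiv_directSum_of_isTorsion (Module.AEval.isTorsion_of_finiteDimensional F V T)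
  choose τ hτ using fun i => exists_quot_functional (p i ^ k i) (pow_ne_zero _ (hp i).ne_zero)
  let c : V → ∀ i, F[X] ⧸ Submodule.span F[X] {p i ^ k i} := fun v i => e (Module.AEval'.of T v) i
  have cadd : ∀ v w i, c (v + w) i = c v i + c w i := fun v w i => by
    simp only [c, map_add, DirectSum.add_apply]
  have csmul : ∀ (a : F) v i, c (a • v) i = a • c v i := fun a v i => by
    simp only [c, map_smul]
    rw [← algebraMap_smul F[X] a (Module.AEval'.of T v), map_smul, DirectSum.smul_apply, algebraMap_smul]
  have cT : ∀ v i, c (T v) i = (X : F[X]) • c v i := fun v i => by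
    simp only [c]
    rw [← Module.AEval'.X_smul_of, map_smul, DirectSum.smul_apply]
  refine ⟨LinearMap.mk₂ F (fun v w => ∑ i, τ i (c v i * c w i))
    (fun u v w => by simp [cadd, add_mul, Finset.sum_add_distrib])
    (fun a v w => by simp [csmul, smul_mul_assoc, mul_smul_comm, Finset.mul_sum])
    (fun u v w => by simp [cadd, mul_add, Finset.sum_add_distrib])
    (fun a v w => by simp [csmul, smul_mul_assoc, mul_smul_comm, Finset.mul_sum]), ?_, ?_⟩
  · intro v hv
    have hzero : e (Module.AEval'.of T v) = 0 := by
      apply DFinsupp.ext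
      intro i
      by_contra hne
      obtain ⟨g, hg⟩ := hτ i _ hne
      apply hg
      have h1 := hv ((Module.AEval'.of T).symm
        (e.symm (DirectSum.of (fun i => F[X] ⧸ Submodule.span F[X] {p i ^ k i}) i
          (Submodule.Quotient.mk g))))
      simp only [LinearMap.mk₂_apply, c, LinearEquiv.apply_symm_apply] at h1
      rw [Finset.sum_eq_single i] at h1
      · rw [DirectSum.of_eq_same] at h1
        convert h1 using 2
        change g • _ = _
        rw [mul_comm]
        rfl
      · intro j _ hj
        rw [DirectSum.of_eq_of_ne _ _ _ hj, mul_zero, map_zero]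
      · simp
    simpa using hzero
  · intro v w
    simp [cT, smul_mul_assoc, mul_smul_comm]

/-- Every square matrix over a field is conjugate, by an invertible matrix, to its transpose. -/
theorem exists_units_conj_transpose {n : Type*} [Fintype n] [DecidableEq n] (A : Matrix n n F) :
    ∃ P : (Matrix n n F)ˣ, (P : Matrix n n F) * A = A.transpose * (P : Matrix n n F) := by
  obtain ⟨B, hB, hadj⟩ := exists_selfAdjoint_form (Matrix.toLin' A)
  set P := LinearMap.toMatrix₂' F B with hP
  have hval : ∀ v w, B v w = dotProduct v (P.mulVec w) := by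
    intro v w
    conv_lhs => rw [← Matrix.toLinearMap₂'_toMatrix' (R := F) B]
    rw [Matrix.toLinearMap₂'_apply', hP]
  have hinj : Function.Injective P.vecMul := by
    intro x y hxy
    rw [← sub_eq_zero]
    apply hB
    intro w
    simp only at hxy
    rw [hval, Matrix.dotProduct_mulVec, Matrix.sub_vecMul, hxy, sub_self, zero_dotProduct]
  have hU : IsUnit P := Matrix.vecMul_injective_iff_isUnit.1 hinj
  refine ⟨hU.unit, ?_⟩
  rw [IsUnit.unit_spec]
  have key : ∀ v w : n → F, dotProduct v ((A.transpose * P).mulVec w) = dotProduct v ((P * A).mulVec w) := by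
    intro v w
    have h := hadj v w
    rw [hval, hval, Matrix.toLin'_apply, Matrix.toLin'_apply, Matrix.mulVec_mulVec] at h
    rw [← Matrix.mulVec_mulVec, Matrix.dotProduct_mulVec v A.transpose, Matrix.vecMul_transpose]
    exact h
  ext i j
  have := key (Pi.single i 1) (Pi.single j 1)
  simpa [Matrix.mulVec_single] using this.symm

end H42
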