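import Cfsg.Agent.H43.Eichler

/-!
A quadratic space as the product of two symplectic spaces.
-/

set_option autoImplicit false
set_option linter.unusedSectionVars false
set_option linter.unusedSimpArgs false

namespace H42.SS

open H43

variable {F : Type*} [Field F] [Finite F]
  {V : Type*} [AddCommGroup V] [Module F V] [FiniteDimensional F V]
  {A : Type*} [AddCommGroup A] [Module F A] [FiniteDimensional F A]
  {B : Type*} [AddCommGroup B] [Module F B] [FiniteDimensional F B]

/-- The product structure. -/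
structure SStr (Q : QuadraticForm F V) (τ : A →ₗ[F] B →ₗ[F] V) (ω : LinearMap.BilinForm F A)
    (ω' : LinearMap.BilinForm F B) : Prop where
  form : ∀ p v q w, polB Q (τ p v) (τ q w) = ω p q * ω' v w
  sing : ∀ p v, Q (τ p v) = 0
  altA : ∀ p, ω p p = 0
  altB : ∀ v, ω' v v = 0
  ndA : ω.Nondegenerate
  ndB : ω'.Nondegenerate
  ndV : (polB Q).Nondegenerate
  spans : Submodule.span F (Set.range fun p : A × B => τ p.1 p.2) = ⊤
  five : 5 ≤ Module.finrank F V

/-- The tensor elements. -/
def IsTens {Q : QuadraticForm F V} (τ : A →ₗ[F] B →ₗ[F] V) (g : orthGroup Q) : Prop :=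
  ∃ (x : A →ₗ[F] A) (y : B →ₗ[F] B), ∀ p u, g.1 (τ p u) = τ (x p) (y u)

theorem isTens_one {Q : QuadraticForm F V} (τ : A →ₗ[F] B →ₗ[F] V) : IsTens τ (1 : orthGroup Q) :=
  ⟨LinearMap.id, LinearMap.id, fun _ _ => rfl⟩

theorem IsTens.mul {Q : QuadraticForm F V} {τ : A →ₗ[F] B →ₗ[F] V} {g h : orthGroup Q}
    (hg : IsTens τ g) (hh : IsTens τ h) : IsTens τ (g * h) := by
  obtain ⟨x, y, hxy⟩ := hg
  obtain ⟨x', y', hxy'⟩ := hh
  exact ⟨x ∘ₗ x', y ∘ₗ y', fun p u => by rw [orth_mul_apply, hxy', hxy]; rfl⟩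

theorem isTens_flip {Q : QuadraticForm F V} {τ : A →ₗ[F] B →ₗ[F] V} {g : orthGroup Q}
    (hg : IsTens τ.flip g) : IsTens τ g := by
  obtain ⟨x, y, hxy⟩ := hg
  exact ⟨y, x, fun p u => hxy u p⟩

/-- The symplectic transvection. -/
def tvL {U : Type*} [AddCommGroup U] [Module F U] (β : LinearMap.BilinForm F U) (w : U) (s : F) :
    U →ₗ[F] U :=
  LinearMap.id + s • (β.flip w).smulRight w

theorem tvL_apply {U : Type*} [AddCommGroup U] [Module F U] (β : LinearMap.BilinForm F U) (w u : U)
    (s : F) : tvL β w s u = u + (s * β u w) • w := by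
  simp [tvL, smul_smul]

theorem tvL_tvL {U : Type*} [AddCommGroup U] [Module F U] {β : LinearMap.BilinForm F U}
    (hβ : ∀ u, β u u = 0) (w u : U) (s : F) : tvL β w s (tvL β w (-s) u) = u := by
  simp only [tvL_apply, map_add, map_smul, LinearMap.add_apply, LinearMap.smul_apply, hβ,
    smul_eq_mul, mul_zero, add_zero]
  module

theorem tvL_isom {U : Type*} [AddCommGroup U] [Module F U] {β : LinearMap.BilinForm F U}
    (hβ : ∀ u, β u u = 0) (w : U) (s : F) (u u' : U) : β (tvL β w s u) (tvL β w s u') = β u u' := by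
  have hskew : β u' w = - β w u' := by
    have h := hβ (w + u')
    simp only [map_add, LinearMap.add_apply, hβ] at h
    linear_combination h
  simp only [tvL_apply, map_add, map_smul, LinearMap.add_apply, LinearMap.smul_apply, hβ,
    smul_eq_mul, hskew]
  ring

/-- A vector outside a subspace pairs to one with something orthogonal to the subspace. -/
theorem exists_dual {U : Type*} [AddCommGroup U] [Module F U] [FiniteDimensional F U]
    {β : LinearMap.BilinForm F U} (hβ : β.Nondegenerate) (halt : ∀ u, β u u = 0)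
    {S : Submodule F U} {x : U} (hx : x ∉ S) : ∃ q, (∀ s ∈ S, β s q = 0) ∧ β x q = 1 := by
  obtain ⟨φ, hφ, hφS⟩ := Submodule.exists_dual_map_eq_bot_of_notMem hx inferInstance
  have hskew : ∀ a b, β a b = - β b a := fun a b => by
    have h := halt (a + b)
    simp only [map_add, LinearMap.add_apply, halt] at h
    linear_combination h
  set q := (β.toDual hβ).symm φ
  have hq : ∀ a, β q a = φ a := LinearMap.BilinForm.apply_toDual_symm_apply (B := β) (hB := hβ) φ
  refine ⟨(-(φ x)⁻¹) • q, fun s hs => ?_, ?_⟩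
  · have : φ s = 0 := by
      have : φ s ∈ S.map φ := ⟨s, hs, rfl⟩
      rwa [hφS, Submodule.mem_bot] at this
    rw [map_smul, hskew, hq, this]; simp
  · rw [map_smul, hskew, hq]; simp [hφ]

/-- Linear maps preserving all lines are scalar. -/
theorem scalar_of_lines {U : Type*} [AddCommGroup U] [Module F U] (M : U →ₗ[F] U)
    (h : ∀ u, ∃ k : F, M u = k • u) : ∃ k : F, ∀ u, M u = k • u := by
  by_cases hU : ∀ u : U, u = 0
  · exact ⟨0, fun u => by rw [hU u]; simp⟩
  push Not at hU
  obtain ⟨u₀, hu₀⟩ := hU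
  obtain ⟨k, hk⟩ := h u₀
  refine ⟨k, fun u => ?_⟩
  obtain ⟨l, hl⟩ := h u
  by_cases hli : u ∈ F ∙ u₀
  · obtain ⟨c, rfl⟩ := Submodule.mem_span_singleton.1 hli
    rw [map_smul, hk, smul_comm]
  obtain ⟨m, hm⟩ := h (u + u₀)
  rw [map_add, hl, hk, smul_add] at hm
  have h1 : (l - m) • u = (m - k) • u₀ := by linear_combination (norm := module) hm
  have h2 : l - m = 0 := by
    by_contra hne
    exact hli ((Submodule.smul_mem_iff _ hne).1 (Submodule.mem_span_singleton.2 ⟨_, h1.symm⟩))
  rw [h2, zero_smul, eq_comm, smul_eq_zero] at h1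
  have h3 : m - k = 0 := h1.resolve_right hu₀
  rw [hl, show l = k by linear_combination h2 + h3]

namespace SStr

variable {Q : QuadraticForm F V} {τ : A →ₗ[F] B →ₗ[F] V} {ω : LinearMap.BilinForm F A}
  {ω' : LinearMap.BilinForm F B} (d : SStr Q τ ω ω')
include d

theorem flip : SStr Q τ.flip ω' ω where
  form p v q w := by rw [LinearMap.flip_apply, LinearMap.flip_apply, d.form, mul_comm]
  sing p v := d.sing v p
  altA := d.altB
  altB := d.altA
  ndA := d.ndB
  ndB := d.ndA
  ndV := d.ndV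
  spans := by
    rw [← d.spans]
    congr 1
    ext z
    exact ⟨fun ⟨p, hp⟩ => ⟨(p.2, p.1), hp⟩, fun ⟨p, hp⟩ => ⟨(p.2, p.1), hp⟩⟩
  five := d.five

theorem skew (p q : A) : ω p q = - ω q p := by
  have h := d.altA (p + q)
  simp only [map_add, LinearMap.add_apply, d.altA] at h
  linear_combination h

theorem skew' (v w : B) : ω' v w = - ω' w v := d.flip.skew v w

theorem extA {p p' : A} (h : ∀ q, ω p q = ω p' q) : p = p' :=
  sub_eq_zero.1 (d.ndA.1 _ fun q => by rw [map_sub, LinearMap.sub_apply, h, sub_self])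

theorem extB {v v' : B} (h : ∀ w, ω' v w = ω' v' w) : v = v' := d.flip.extA h

theorem ext_lin {W : Type*} [AddCommGroup W] [Module F W] {f g : V →ₗ[F] W}
    (h : ∀ p u, f (τ p u) = g (τ p u)) (z : V) : f z = g z := by
  have hz : z ∈ Submodule.span F (Set.range fun p : A × B => τ p.1 p.2) := by rw [d.spans]; trivial
  induction hz using Submodule.span_induction with
  | mem x hx => obtain ⟨⟨p, u⟩, rfl⟩ := hx; exact h p u
  | zero => rw [map_zero, map_zero]
  | add x y _ _ hx hy => rw [map_add, map_add, hx, hy]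
  | smul c x _ hx => rw [map_smul, map_smul, hx]

theorem orth_ext_tau {g h : orthGroup Q} (H : ∀ p u, g.1 (τ p u) = h.1 (τ p u)) : g = h :=
  orth_ext fun z => d.ext_lin (f := (g.1 : V →ₗ[F] V)) (g := (h.1 : V →ₗ[F] V)) H z

/-- The contraction along a vector of the second factor. -/
noncomputable def ctr (v : B) : V →ₗ[F] A :=
  (ω.toDual d.ndA).symm.toLinearMap ∘ₗ (LinearMap.lcomp F F (τ.flip v)) ∘ₗ (polB Q)

theorem ctr_spec (v : B) (z : V) (q : A) : ω (d.ctr v z) q = polB Q z (τ q v) := by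
  show ω ((ω.toDual d.ndA).symm _) q = _
  rw [LinearMap.BilinForm.apply_toDual_symm_apply]
  rfl

theorem ctr_unique {v : B} {z : V} {p : A} (h : ∀ q, ω p q = polB Q z (τ q v)) : d.ctr v z = p :=
  d.extA fun q => by rw [d.ctr_spec, h]

theorem ctr_tau (v u : B) (p : A) : d.ctr v (τ p u) = ω' u v • p :=
  d.ctr_unique fun q => by rw [map_smul, LinearMap.smul_apply, smul_eq_mul, d.form, mul_comm]

theorem ctr_add (v v' : B) (z : V) : d.ctr (v + v') z = d.ctr v z + d.ctr v' z :=
  d.ctr_unique fun q => by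
    rw [map_add ω, LinearMap.add_apply, d.ctr_spec, d.ctr_spec, map_add (τ q), map_add (polB Q z)]

theorem ctr_smul (c : F) (v : B) (z : V) : d.ctr (c • v) z = c • d.ctr v z :=
  d.ctr_unique fun q => by
    rw [map_smul ω, LinearMap.smul_apply, d.ctr_spec, map_smul (τ q), map_smul (polB Q z)]

theorem ctr_zero (z : V) : d.ctr 0 z = 0 := by
  simpa using d.ctr_smul (0 : F) 0 z

theorem exists_partner {v : B} (hv : v ≠ 0) : ∃ v', ω' v v' = 1 := by
  obtain ⟨w, -, hw⟩ := exists_dual d.ndB d.altB (S := ⊥) (x := v) (by simpa using hv)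
  exact ⟨w, hw⟩

theorem tau_inj {v : B} (hv : v ≠ 0) {p q : A} (h : τ p v = τ q v) : p = q := by
  obtain ⟨v', hv'⟩ := d.exists_partner hv
  have := congrArg (d.ctr v') h
  rwa [d.ctr_tau, d.ctr_tau, hv', one_smul, one_smul] at this

theorem tau_inj' {p : A} (hp : p ≠ 0) {u v : B} (h : τ p u = τ p v) : u = v :=
  d.flip.tau_inj hp h

/-- A vector killed by the contractions orthogonal to `v` lies in the column of `v`. -/
theorem eq_col {v v' : B} (hv : ω' v v' = 1) {z : V} (h : ∀ e, ω' v e = 0 → d.ctr e z = 0) :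
    z = τ (d.ctr v' z) v := by
  refine sub_eq_zero.1 (d.ndV.1 _ ?_)
  intro w
  have key : ∀ p u, polB Q (z - τ (d.ctr v' z) v) (τ p u) = (0 : V →ₗ[F] F) (τ p u) := by
    intro p u
    rw [← d.ctr_spec, map_sub, LinearMap.zero_apply]
    have h1 := h (u - ω' v u • v') (by simp [hv])
    rw [sub_eq_add_neg, ← neg_smul, d.ctr_add, d.ctr_smul, neg_smul, ← sub_eq_add_neg, sub_eq_zero] at h1
    rw [h1, d.ctr_tau, sub_self, map_zero, LinearMap.zero_apply]
  exact d.ext_lin key w

/-- Centre elements lie in `Ω`. -/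
theorem exists_cen (v : B) : ∀ M : A →ₗ[F] A, (∀ u, ω (M u) u = 0) →
    ∃ g ∈ commutator (orthGroup Q), ∀ z, g.1 z = z + τ (M (d.ctr v z)) v := by
  suffices H : ∀ (k : ℕ) (M : A →ₗ[F] A), (∀ u, ω (M u) u = 0) →
      Module.finrank F A - Module.finrank F (LinearMap.ker M) = k →
      ∃ g ∈ commutator (orthGroup Q), ∀ z, g.1 z = z + τ (M (d.ctr v z)) v from
    fun M hM => H _ M hM rfl
  intro k
  induction k using Nat.strong_induction_on with
  | _ k ih =>
    intro M hM hk
    by_cases h0 : ∀ u, M u = 0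
    · exact ⟨1, one_mem _, fun z => by simp [h0, orth_one_apply]⟩
    push Not at h0
    obtain ⟨u₀, hu₀⟩ := h0
    obtain ⟨r, hr⟩ : ∃ r, ω (M u₀) r = 1 := by
      obtain ⟨r, -, hr⟩ := exists_dual d.ndA d.altA (S := ⊥) (x := M u₀) (by simpa using hu₀)
      exact ⟨r, hr⟩
    have hsym : ∀ a b, ω (M a) b = ω a (M b) := fun a b => by
      have h := hM (a + b)
      simp only [map_add, LinearMap.add_apply, hM] at h
      rw [d.skew a (M b)]
      linear_combination h
    set a := M r with ha
    set b := M u₀ with hb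
    -- the short operator agreeing with `M` on `u₀` and `r`
    let S : A →ₗ[F] A := (ω.flip a).smulRight b - (ω.flip b).smulRight a
    have hS : ∀ u, S u = ω u a • b - ω u b • a := fun u => rfl
    have hMr : ω (M r) u₀ = -1 := by rw [hsym, d.skew, hr]
    have hS₀ : S u₀ = M u₀ := by
      rw [hS, ha, ← hsym u₀ r, hb, ← hsym u₀ u₀, hM, hr, zero_smul, sub_zero, one_smul]
    have hSr : S r = M r := by
      rw [hS, ha, ← hsym r r, hM, hb, ← hsym r u₀, hMr, zero_smul, zero_sub, neg_smul, neg_neg,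
        one_smul]
    have hSk : ∀ u, M u = 0 → S u = 0 := fun u hu => by
      rw [hS, ha, hb, ← hsym u r, ← hsym u u₀, hu]; simp
    have hSalt : ∀ u, ω (S u) u = 0 := fun u => by
      rw [hS, map_sub, map_smul, map_smul]
      simp only [LinearMap.sub_apply, LinearMap.smul_apply, smul_eq_mul]
      rw [d.skew b u, d.skew a u]; ring
    have hM' : ∀ u, ω ((M - S) u) u = 0 := fun u => by
      rw [LinearMap.sub_apply, map_sub, LinearMap.sub_apply, hM, hSalt, sub_zero]
    have hker : LinearMap.ker M < LinearMap.ker (M - S) := by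
      refine lt_of_le_of_ne (fun u hu => ?_) fun e => hu₀ ?_
      · rw [LinearMap.mem_ker] at hu ⊢
        rw [LinearMap.sub_apply, hu, hSk u hu, sub_self]
      · have : u₀ ∈ LinearMap.ker (M - S) := by
          rw [LinearMap.mem_ker, LinearMap.sub_apply, hS₀, sub_self]
        rw [← e] at this
        exact LinearMap.mem_ker.1 this
    have h1 := Submodule.finrank_lt_finrank_of_lt hker
    have h2 := Submodule.finrank_le (LinearMap.ker (M - S))
    obtain ⟨g, hg, hgz⟩ := ih _ (by omega) (M - S) hM' rfl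
    have hab : polB Q (τ a v) (τ b v) = 0 := by rw [d.form, d.altB, mul_zero]
    refine ⟨eichler Q (τ a v) (τ b v) * g, mul_mem ?_ hg, fun z => ?_⟩
    · rw [commutator_eq_eichlerSub d.ndV d.five]
      exact eichler_mem (d.sing _ _) hab
    · rw [orth_mul_apply, eichler_apply (d.sing _ _) hab, d.sing, ← d.ctr_spec, ← d.ctr_spec, hgz]
      simp only [map_add, d.ctr_tau, d.altB, zero_smul, add_zero, zero_mul]
      rw [LinearMap.sub_apply, hS, map_sub τ, map_sub τ, map_smul τ, map_smul τ]
      simp only [LinearMap.sub_apply, LinearMap.smul_apply]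
      module

/-- Symplectic transvections of the second factor give tensor elements of `Ω`. -/
theorem exists_tvB (v : B) (s : F) : ∃ g ∈ commutator (orthGroup Q),
    (∀ z, g.1 z = z + τ (s • d.ctr v z) v) ∧ ∀ p u, g.1 (τ p u) = τ p (tvL ω' v s u) := by
  obtain ⟨g, hg, hgz⟩ := d.exists_cen v (s • LinearMap.id) fun u => by simp [d.altA]
  refine ⟨g, hg, hgz, fun p u => ?_⟩
  rw [hgz, d.ctr_tau, tvL_apply]
  simp only [LinearMap.smul_apply, LinearMap.id_apply, map_smul, map_add, smul_smul, mul_comm s]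

theorem exists_tvA (w : A) (s : F) : ∃ g ∈ commutator (orthGroup Q),
    ∀ p u, g.1 (τ p u) = τ (tvL ω w s p) u := by
  obtain ⟨g, hg, -, hgt⟩ := d.flip.exists_tvB w s
  exact ⟨g, hg, fun p u => hgt u p⟩

end SStr

end H42.SS
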