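import Cfsg.Agent.H42.SympSympStab
import Cfsg.Agent.H45.OrthTransfer
import Cfsg.Agent.H45.EvenTensorTwo
import Cfsg.Agent.H43.Forms

/-!
The product of two symplectic groups is maximal in the orthogonal commutator group.
-/

set_option autoImplicit false
set_option linter.unusedSectionVars false
set_option linter.unusedSimpArgs false

namespace H42.SS

open H43
open scoped Matrix Kronecker

/-- A subgroup of `Ω` above the product group is the product group or `Ω`. -/
theorem overgroup_cases {F : Type*} [Field F] [Finite F]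
    {V : Type*} [AddCommGroup V] [Module F V] [FiniteDimensional F V]
    {A : Type*} [AddCommGroup A] [Module F A] [FiniteDimensional F A]
    {B : Type*} [AddCommGroup B] [Module F B] [FiniteDimensional F B]
    {Q : QuadraticForm F V} {τ : A →ₗ[F] B →ₗ[F] V} {ω : LinearMap.BilinForm F A}
    {ω' : LinearMap.BilinForm F B} (d : SStr Q τ ω ω') (h2 : 2 ≤ Module.finrank F A)
    (hlt : Module.finrank F A + 2 ≤ Module.finrank F B) (h6 : 6 ≤ Module.finrank F B)
    (hex : (∃ c : F, c ≠ 0 ∧ c ≠ 1) ∨ 4 ≤ Module.finrank F A) {K : Subgroup (orthGroup Q)}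
    (hK : K ≤ commutator (orthGroup Q))
    (ht : ∀ g, IsTens τ g → g ∈ commutator (orthGroup Q) → g ∈ K) :
    (∀ g ∈ K, IsTens τ g) ∨ K = commutator (orthGroup Q) := by
  by_cases hne : commutator (orthGroup Q) ≤ K
  · exact Or.inr (le_antisymm hK hne)
  · exact Or.inl fun g hg => (⟨d, hK, ht, hne, h2, hlt, h6, hex⟩ : Small τ ω ω' K).all_tens hg

/-- Some element of `Ω` is not a product. -/
theorem exists_not_tens {F : Type*} [Field F] [Finite F]
    {V : Type*} [AddCommGroup V] [Module F V] [FiniteDimensional F V]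
    {A : Type*} [AddCommGroup A] [Module F A] [FiniteDimensional F A]
    {B : Type*} [AddCommGroup B] [Module F B] [FiniteDimensional F B]
    {Q : QuadraticForm F V} {τ : A →ₗ[F] B →ₗ[F] V} {ω : LinearMap.BilinForm F A}
    {ω' : LinearMap.BilinForm F B} (d : SStr Q τ ω ω') (h2 : 2 ≤ Module.finrank F A)
    (h6 : 4 ≤ Module.finrank F B) :
    ∃ g ∈ commutator (orthGroup Q), ¬ IsTens τ g := by
  haveI : Nontrivial A := Module.nontrivial_of_finrank_pos (R := F) (by omega)
  haveI : Nontrivial B := Module.nontrivial_of_finrank_pos (R := F) (by omega)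
  obtain ⟨p, hp⟩ := exists_ne (0 : A)
  obtain ⟨q₁, hq₁⟩ := d.flip.exists_partner hp
  obtain ⟨v, hv⟩ := exists_ne (0 : B)
  obtain ⟨v', hv'⟩ := d.exists_partner hv
  have hspan : ∀ {k : ℕ} (f : Fin k → B), k < Module.finrank F B →
      ∃ x, x ∉ Submodule.span F (Set.range f) := by
    intro k f hk
    by_contra hcon
    push Not at hcon
    have h3 := Submodule.finrank_mono (show (⊤ : Submodule F B) ≤ _ from fun r _ => hcon r)
    rw [finrank_top] at h3
    have h4 : Module.finrank F (Submodule.span F (Set.range f)) ≤ k :=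
      (finrank_range_le_card f).trans (by simp)
    omega
  obtain ⟨e, hve, hv'e, he⟩ : ∃ e, ω' v e = 0 ∧ ω' v' e = 0 ∧ e ≠ 0 := by
    obtain ⟨x, hx⟩ := hspan ![v, v'] (by omega)
    refine ⟨x + ω' v' x • v - ω' v x • v', ?_, ?_, fun h0 => hx ?_⟩
    · simp [d.altB, hv']
    · simp [d.altB, d.skew' v' v, hv']
    · rw [show x = ω' v x • v' - ω' v' x • v by linear_combination (norm := module) h0]
      exact sub_mem (Submodule.smul_mem _ _ (Submodule.subset_span ⟨1, rfl⟩))
        (Submodule.smul_mem _ _ (Submodule.subset_span ⟨0, rfl⟩))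
  obtain ⟨e', he'S, hee⟩ := exists_dual d.ndB d.altB (S := Submodule.span F (Set.range ![v, v'])) (x := e) (by
    intro hm
    obtain ⟨k, hk⟩ := (Submodule.mem_span_range_iff_exists_fun F).1 hm
    simp only [Fin.sum_univ_two, Matrix.cons_val_zero, Matrix.cons_val_one] at hk
    apply he
    have a1 : k 1 = 0 := by
      have := hve
      rw [← hk] at this
      simpa [d.altB, hv'] using this
    have a2 : k 0 = 0 := by
      have := hv'e
      rw [← hk] at this
      simpa [d.altB, d.skew' v' v, hv'] using this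
    rw [← hk, a1, a2]; simp)
  have hve' : ω' v e' = 0 := he'S v (Submodule.subset_span ⟨0, rfl⟩)
  have hv'e' : ω' v' e' = 0 := he'S v' (Submodule.subset_span ⟨1, rfl⟩)
  have hperp : polB Q (τ p v) (τ p e) = 0 := by rw [d.form, d.altA, zero_mul]
  refine ⟨eichler Q (τ p v) (τ p e), ?_, ?_⟩
  · rw [commutator_eq_eichlerSub d.ndV d.five]
    exact eichler_mem (d.sing _ _) hperp
  rintro ⟨x, y, hxy⟩
  have h1 := hxy q₁ v'
  rw [eichler_apply (d.sing _ _) hperp, d.form, d.form, d.sing, d.skew q₁ p, hq₁, d.skew' v' v, hv', hv'e] at h1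
  simp only [neg_mul_neg, mul_one, mul_zero, one_smul, zero_smul, sub_zero, zero_mul] at h1
  have k1 := congrArg (d.ctr v) h1
  have k2 := congrArg (d.ctr e') h1
  simp only [map_add, d.ctr_tau, d.skew' v' v, hv', d.skew' e v, hve, hv'e', hee, neg_zero, zero_smul,
    one_smul, add_zero, zero_add, neg_smul] at k1 k2
  have h3 : ω p q₁ = 0 := by
    by_cases hk : ω' (y v') v = 0
    · rw [hk, zero_smul, neg_eq_zero] at k1
      rw [k1, map_zero]
    · have h4 : x q₁ = -((ω' (y v') v)⁻¹ • q₁) := by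
        rw [← smul_neg, k1, smul_smul, inv_mul_cancel₀ hk, one_smul]
      rw [h4, smul_neg, smul_smul] at k2
      rw [k2]
      simp [d.altA]
  rw [hq₁] at h3
  exact one_ne_zero h3

/-- A bilinear form given as a function. -/
def bil {F : Type*} [Field F] {n : ℕ} (f : (Fin n → F) → (Fin n → F) → F)
    (hb : Cfsg.Geo.IsBilinearForm f) (c : F) : LinearMap.BilinForm F (Fin n → F) :=
  LinearMap.mk₂ F (fun a b => c * f a b)
    (fun a a' b => by rw [hb.add_left]; ring) (fun k a b => by rw [hb.smul_left, smul_eq_mul]; ring)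
    (fun a b b' => by rw [hb.add_right]; ring) (fun k a b => by rw [hb.smul_right, smul_eq_mul]; ring)

theorem bil_apply {F : Type*} [Field F] {n : ℕ} (f : (Fin n → F) → (Fin n → F) → F)
    (hb : Cfsg.Geo.IsBilinearForm f) (c : F) (a b : Fin n → F) : bil f hb c a b = c * f a b := rfl

theorem bil_nondeg {F : Type*} [Field F] {n : ℕ} {f : (Fin n → F) → (Fin n → F) → F}
    (hf : Cfsg.Geo.IsSymplecticForm f) {c : F} (hc : c ≠ 0) : (bil f hf.bilinear c).Nondegenerate := by
  have key : ∀ a, (∀ b, bil f hf.bilinear c a b = 0) → a = 0 := fun a ha => by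
    by_contra h0
    obtain ⟨b, hb⟩ := (hf.nondegenerate a h0).2
    exact hb ((mul_eq_zero.1 (ha b)).resolve_left hc)
  exact ⟨key, fun b hb => key b fun a => by
    rw [bil_apply, hf.skew, mul_neg, ← bil_apply f hf.bilinear c, hb, neg_zero]⟩

theorem even_of_symplectic {F : Type*} [Field F] {n : ℕ} {f : (Fin n → F) → (Fin n → F) → F}
    (hf : Cfsg.Geo.IsSymplecticForm f) : Even n := by
  have hA : (bil f hf.bilinear 1).IsAlt := fun a => by rw [bil_apply, hf.alternating, mul_zero]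
  obtain ⟨m, k, b, hspan, hmk, -, -, -, hrad⟩ :=
    H43.exists_symplectic_basis (F := F) _ (Fin n → F) (bil f hf.bilinear 1) hA rfl
  have hk : k = 0 := by
    by_contra h0
    have hz : b (.inr ⟨0, Nat.pos_of_ne_zero h0⟩) = 0 :=
      (bil_nondeg hf one_ne_zero).1 _ (hrad _)
    classical
    have hcard : Module.finrank F (Submodule.span F (Set.range fun s : {s // b s ≠ 0} => b s.1)) ≤
        Fintype.card {s // b s ≠ 0} := finrank_range_le_card _
    have h2 : Submodule.span F (Set.range b) ≤ Submodule.span F (Set.range fun s : {s // b s ≠ 0} => b s.1) := by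
      rw [Submodule.span_le]
      rintro _ ⟨s, rfl⟩
      by_cases hs : b s = 0
      · rw [hs]; exact Submodule.zero_mem _
      · exact Submodule.subset_span ⟨⟨s, hs⟩, rfl⟩
    have h3 := Submodule.finrank_mono h2
    rw [hspan, finrank_top] at h3
    have h4 : Fintype.card {s // b s ≠ 0} < Fintype.card ((Fin m ⊕ Fin m) ⊕ Fin k) :=
      Fintype.card_subtype_lt (x := .inr ⟨0, Nat.pos_of_ne_zero h0⟩) (by simpa using hz)
    simp only [Fintype.card_sum, Fintype.card_fin] at h4
    simp only [Module.finrank_pi, Fintype.card_fin] at h3 hmk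
    omega
  rw [Module.finrank_pi, Fintype.card_fin] at hmk
  exact ⟨m, by omega⟩

theorem kron_mulVec_pure {F : Type*} [Field F] {n₁ n₂ : ℕ} (a : Matrix (Fin n₁) (Fin n₁) F)
    (b : Matrix (Fin n₂) (Fin n₂) F) (x : Fin n₁ → F) (y : Fin n₂ → F) :
    ((a ⊗ₖ b) *ᵥ fun p : Fin n₁ × Fin n₂ => x p.1 * y p.2) = fun p => (a *ᵥ x) p.1 * (b *ᵥ y) p.2 := by
  funext ⟨i, j⟩
  simp only [Matrix.mulVec, dotProduct, Fintype.sum_prod_type, Matrix.kroneckerMap_apply, Finset.sum_mul_sum]
  exact Finset.sum_congr rfl fun _ _ => Finset.sum_congr rfl fun _ _ => by ring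

variable {F : Type*} [Field F] [Fintype F] {n : ℕ}

/-- The tensor stabiliser of two symplectic forms is maximal. -/
theorem maximal (hn : 13 ≤ n) (Q : (Fin n → F) → F) (hQ : Cfsg.Geo.IsNondegenerateQuadraticForm Q)
    (n₁ n₂ : ℕ) (h12 : n₁ < n₂) (hex : ¬ (Fintype.card F = 2 ∧ n₁ = 2)) (e : Fin n ≃ Fin n₁ × Fin n₂)
    (P : Matrix.GeneralLinearGroup (Fin n) F) (f₁ : (Fin n₁ → F) → (Fin n₁ → F) → F)
    (f₂ : (Fin n₂ → F) → (Fin n₂ → F) → F) (hf₁ : Cfsg.Geo.IsSymplecticForm f₁)
    (hf₂ : Cfsg.Geo.IsSymplecticForm f₂)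
    (hT : Cfsg.Geo.IsTensorFormStructure id (QuadraticMap.polar Q) f₁ f₂ e P)
    (hpure : ∀ (x₁ : Fin n₁ → F) (x₂ : Fin n₂ → F), Q (Matrix.mulVec (P : Matrix (Fin n) (Fin n) F)
      ((fun a : Fin n₁ × Fin n₂ => x₁ a.1 * x₂ a.2) ∘ e)) = 0) :
    Cfsg.Geo.IsMaximalIn (Cfsg.Geo.omegaGL Q)
      (Cfsg.Geo.tensorProductSubgroup n₁ n₂ e P ⊓ Cfsg.Geo.omegaGL Q) := by
  classical
  obtain ⟨q, rfl, hq⟩ := H45.exists_quadForm hQ
  obtain ⟨c, hc, hform⟩ := hT
  set Pm : Matrix (Fin n) (Fin n) F := (P : Matrix (Fin n) (Fin n) F)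
  let T : (Fin n₁ × Fin n₂ → F) →ₗ[F] (Fin n → F) := Pm.mulVecLin ∘ₗ LinearMap.funLeft F F e
  have hT' : ∀ y, T y = Pm *ᵥ (y ∘ e) := fun y => rfl
  let τ : (Fin n₁ → F) →ₗ[F] (Fin n₂ → F) →ₗ[F] (Fin n → F) :=
    LinearMap.mk₂ F (fun x y => T fun a => x a.1 * y a.2)
      (fun x x' y => by rw [← map_add]; congr 1; funext a; simp [add_mul])
      (fun k x y => by rw [← map_smul]; congr 1; funext a; simp [mul_assoc])
      (fun x y y' => by rw [← map_add]; congr 1; funext a; simp [mul_add])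
      (fun k x y => by rw [← map_smul]; congr 1; funext a; simp [mul_left_comm])
  have hτ : ∀ x y, τ x y = T fun a => x a.1 * y a.2 := fun x y => rfl
  have hG1 : ∀ u v, bil f₁ hf₁.bilinear 1 u v = ∑ a, ∑ b, u a * Cfsg.Geo.gramMatrix f₁ a b * v b := by
    intro u v
    have hG : Cfsg.Geo.gramMatrix f₁ = LinearMap.toMatrix₂' F (bil f₁ hf₁.bilinear 1) := by
      ext p r; rw [LinearMap.toMatrix₂'_apply, bil_apply, one_mul]; rfl
    rw [← Matrix.toLinearMap₂'_toMatrix' (R := F) (bil f₁ hf₁.bilinear 1), ← hG, Matrix.toLinearMap₂'_apply']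
    simp only [dotProduct, Matrix.mulVec, Finset.mul_sum, mul_assoc]
  have hG2 : ∀ u v, bil f₂ hf₂.bilinear 1 u v = ∑ a, ∑ b, u a * Cfsg.Geo.gramMatrix f₂ a b * v b := by
    intro u v
    have hG : Cfsg.Geo.gramMatrix f₂ = LinearMap.toMatrix₂' F (bil f₂ hf₂.bilinear 1) := by
      ext p r; rw [LinearMap.toMatrix₂'_apply, bil_apply, one_mul]; rfl
    rw [← Matrix.toLinearMap₂'_toMatrix' (R := F) (bil f₂ hf₂.bilinear 1), ← hG, Matrix.toLinearMap₂'_apply']
    simp only [dotProduct, Matrix.mulVec, Finset.mul_sum, mul_assoc]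
  have hTsurj : ∀ v, ∃ y, T y = v := fun v => by
    obtain ⟨w, hw⟩ := (Matrix.mulVec_surjective_iff_isUnit.2 P.isUnit) v
    exact ⟨w ∘ e.symm, by rw [hT', Function.comp_assoc, Equiv.symm_comp_self, Function.comp_id]; exact hw⟩
  have hnn : n = n₁ * n₂ := by simpa using Fintype.card_congr e
  have hev₁ := even_of_symplectic hf₁
  have hev₂ := even_of_symplectic hf₂
  have h2n : 2 ≤ n₁ := by
    rcases Nat.eq_zero_or_pos n₁ with h0 | h0
    · rw [h0, zero_mul] at hnn; omega
    · obtain ⟨k, hk⟩ := hev₁; omega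
  have hlt : n₁ + 2 ≤ n₂ := by obtain ⟨k, hk⟩ := hev₁; obtain ⟨l, hl⟩ := hev₂; omega
  have h6 : 6 ≤ n₂ := by
    by_contra h0
    push Not at h0
    have : n₁ * n₂ ≤ 3 * 5 := Nat.mul_le_mul (by omega) (by omega)
    obtain ⟨k, hk⟩ := hev₁
    obtain ⟨l, hl⟩ := hev₂
    have : n₂ ≤ 4 := by omega
    have : n₁ * n₂ ≤ 2 * 4 := Nat.mul_le_mul (by omega) this
    omega
  have d : SStr q τ (bil f₁ hf₁.bilinear c) (bil f₂ hf₂.bilinear 1) := by
    refine ⟨fun p v p' w => ?_, fun p v => hpure p v, fun p => ?_, fun v => ?_, bil_nondeg hf₁ hc,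
      bil_nondeg hf₂ one_ne_zero, hq, ?_, ?_⟩
    · show QuadraticMap.polar (⇑q) (τ p v) (τ p' w) = _
      rw [hτ, hτ, hT', hT', hform, hG2 v w,
        show bil f₁ hf₁.bilinear c p p' = c * bil f₁ hf₁.bilinear 1 p p' by
          rw [bil_apply, bil_apply, one_mul],
        hG1 p p', mul_assoc, Cfsg.Geo.formOfGram]
      congr 1
      simp only [Fintype.sum_prod_type, Finset.sum_mul, Matrix.kroneckerMap_apply, id]
      refine Finset.sum_congr rfl fun a _ => ?_
      rw [Finset.sum_comm]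
      refine Finset.sum_congr rfl fun a' _ => ?_
      rw [Finset.mul_sum]
      refine Finset.sum_congr rfl fun b _ => ?_
      rw [Finset.mul_sum]
      refine Finset.sum_congr rfl fun b' _ => ?_
      ring
    · rw [bil_apply, hf₁.alternating, mul_zero]
    · rw [bil_apply, hf₂.alternating, mul_zero]
    · rw [eq_top_iff]
      intro v _
      obtain ⟨y, rfl⟩ := hTsurj v
      rw [pi_eq_sum_univ' y, map_sum]
      refine Submodule.sum_mem _ fun a _ => ?_
      rw [map_smul]
      refine Submodule.smul_mem _ _ (Submodule.subset_span ⟨(Pi.single a.1 1, Pi.single a.2 1), ?_⟩)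
      show τ (Pi.single a.1 1) (Pi.single a.2 1) = T (Pi.single a 1)
      rw [hτ]
      congr 1
      funext b
      obtain ⟨b₁, b₂⟩ := b
      obtain ⟨a₁, a₂⟩ := a
      by_cases e1 : b₁ = a₁ <;> by_cases e2 : b₂ = a₂ <;> simp [e1, e2]
    · rw [Module.finrank_pi, Fintype.card_fin]; omega
  have hkey : ∀ (g : orthGroup q) (a : GL (Fin n₁) F) (b : GL (Fin n₂) F) (k : GL (Fin n₁ × Fin n₂) F),
      (k : Matrix (Fin n₁ × Fin n₂) (Fin n₁ × Fin n₂) F) =
          (a : Matrix (Fin n₁) (Fin n₁) F) ⊗ₖ (b : Matrix (Fin n₂) (Fin n₂) F) →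
        (∀ x y, g.1 (τ x y) = τ ((a : Matrix (Fin n₁) (Fin n₁) F) *ᵥ x) ((b : Matrix (Fin n₂) (Fin n₂) F) *ᵥ y)) →
          P * Cfsg.Geo.glReindex e.symm k * P⁻¹ = H45.toGL q g := by
    intro g a b k hk hg
    apply Units.ext
    refine Matrix.ext_iff_mulVec.2 fun z => ?_
    rw [H45.toGL_apply]
    have hK : ∀ y, ((P * Cfsg.Geo.glReindex e.symm k * P⁻¹ : GL (Fin n) F) : Matrix (Fin n) (Fin n) F) *ᵥ T y =
        T ((k : Matrix (Fin n₁ × Fin n₂) (Fin n₁ × Fin n₂) F) *ᵥ y) := by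
      intro y
      rw [hT', hT', Units.val_mul, Units.val_mul, Matrix.mulVec_mulVec, mul_assoc,
        show ((P⁻¹ : GL (Fin n) F) : Matrix (Fin n) (Fin n) F) * Pm = 1 from P.inv_mul, mul_one,
        ← Matrix.mulVec_mulVec]
      congr 1
      show (Matrix.reindex e.symm e.symm (k : Matrix (Fin n₁ × Fin n₂) (Fin n₁ × Fin n₂) F)) *ᵥ (y ∘ e) = _
      rw [Matrix.reindex_apply, Matrix.submatrix_mulVec_equiv]
      simp [Function.comp_assoc]
    refine d.ext_lin (f := Matrix.mulVecLin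
      ((P * Cfsg.Geo.glReindex e.symm k * P⁻¹ : GL (Fin n) F) : Matrix (Fin n) (Fin n) F))
      (g := (g.1 : (Fin n → F) →ₗ[F] (Fin n → F))) (fun x y => ?_) z
    show _ *ᵥ τ x y = g.1 (τ x y)
    rw [hg, hτ, hτ, hK, hk, kron_mulVec_pure]
  have hmem : ∀ g : orthGroup q,
      H45.toGL q g ∈ Cfsg.Geo.tensorProductSubgroup n₁ n₂ e P ↔ IsTens τ g := by
    intro g
    constructor
    · intro hg
      obtain ⟨a, b, hab⟩ := H45.tensor_orth_apply hg
      refine ⟨(a : Matrix (Fin n₁) (Fin n₁) F).mulVecLin, (b : Matrix (Fin n₂) (Fin n₂) F).mulVecLin,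
        fun x y => ?_⟩
      rw [hτ, hτ, hT', hT', hab, kron_mulVec_pure]
      rfl
    · rintro ⟨x, y, hxy⟩
      haveI : Nonempty (Fin n₁) := ⟨⟨0, by omega⟩⟩
      haveI : Nonempty (Fin n₂) := ⟨⟨0, by omega⟩⟩
      have hxi : Function.Injective x := (injective_iff_map_eq_zero x).2 fun p hp => by
        obtain ⟨u, hu⟩ := exists_ne (0 : Fin n₂ → F)
        have h1 := hxy p u
        rw [hp, map_zero, LinearMap.zero_apply, LinearEquiv.map_eq_zero_iff] at h1
        exact d.tau_inj hu (by rw [h1, map_zero, LinearMap.zero_apply])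
      have hyi : Function.Injective y := (injective_iff_map_eq_zero y).2 fun u hu => by
        obtain ⟨p, hp⟩ := exists_ne (0 : Fin n₁ → F)
        have h1 := hxy p u
        rw [hu, map_zero, LinearEquiv.map_eq_zero_iff] at h1
        exact d.tau_inj' hp (by rw [h1, map_zero])
      have hxu : IsUnit (LinearMap.toMatrix' x) := Matrix.mulVec_injective_iff_isUnit.1 (by
        intro u v huv
        exact hxi (by simpa [LinearMap.toMatrix'_mulVec] using huv))
      have hyu : IsUnit (LinearMap.toMatrix' y) := Matrix.mulVec_injective_iff_isUnit.1 (by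
        intro u v huv
        exact hyi (by simpa [LinearMap.toMatrix'_mulVec] using huv))
      have hku : IsUnit ((hxu.unit : Matrix (Fin n₁) (Fin n₁) F) ⊗ₖ (hyu.unit : Matrix (Fin n₂) (Fin n₂) F)) :=
        IsUnit.of_mul_eq_one
          (((hxu.unit⁻¹ : GL (Fin n₁) F) : Matrix (Fin n₁) (Fin n₁) F) ⊗ₖ
            ((hyu.unit⁻¹ : GL (Fin n₂) F) : Matrix (Fin n₂) (Fin n₂) F))
          (by rw [← Matrix.mul_kronecker_mul, Units.mul_inv, Units.mul_inv, Matrix.one_kronecker_one])
      refine ⟨_, ⟨hku.unit, ⟨hxu.unit, hyu.unit, hku.unit_spec⟩, rfl⟩, ?_⟩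
      simp only [MulEquiv.coe_toMonoidHom, MulAut.conj_apply]
      exact hkey g hxu.unit hyu.unit hku.unit hku.unit_spec fun u v => by
        rw [hxy, hxu.unit_spec, hyu.unit_spec, LinearMap.toMatrix'_mulVec, LinearMap.toMatrix'_mulVec]
  have hfA : Module.finrank F (Fin n₁ → F) = n₁ := by simp
  have hfB : Module.finrank F (Fin n₂ → F) = n₂ := by simp
  have hexc : (∃ c : F, c ≠ 0 ∧ c ≠ 1) ∨ 4 ≤ Module.finrank F (Fin n₁ → F) := by
    by_cases h4 : 4 ≤ n₁
    · exact Or.inr (by omega)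
    refine Or.inl ?_
    have hn₁ : n₁ = 2 := by obtain ⟨k, hk⟩ := hev₁; omega
    by_contra hcon
    push Not at hcon
    apply hex
    refine ⟨?_, hn₁⟩
    have h1 : (Finset.univ : Finset F) = {0, 1} := Finset.ext fun a => by
      simp only [Finset.mem_univ, Finset.mem_insert, Finset.mem_singleton, true_iff]
      rcases eq_or_ne a 0 with h | h
      · exact Or.inl h
      · exact Or.inr (hcon a h)
    rw [← Finset.card_univ, h1, Finset.card_pair zero_ne_one]
  refine H45.isMaximalIn_of_orth q _ ((Cfsg.Geo.tensorProductSubgroup n₁ n₂ e P).comap (H45.toGL q))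
    (fun g _ => Iff.rfl) ⟨lt_of_le_of_ne inf_le_right fun heq => ?_, fun M hSM hM => ?_⟩
  · obtain ⟨g, hg, hgT⟩ := exists_not_tens d (by omega) (by omega)
    exact hgT ((hmem g).1 (inf_eq_right.1 heq hg))
  · rcases overgroup_cases d (by omega) (by omega) (by omega) hexc hM
      (fun g hg hgΩ => hSM ⟨(hmem g).2 hg, hgΩ⟩) with hall | htop
    · exact Or.inl (le_antisymm (fun g hg => ⟨(hmem g).2 (hall g hg), hM hg⟩) hSM)
    · exact Or.inr htop

end H42.SS
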