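import Cfsg.Agent.H42.SympSympBase
import Cfsg.Agent.H45.SingMax

/-!
Root elements in an overgroup of a product of two symplectic groups.
-/

set_option autoImplicit false
set_option linter.unusedSectionVars false
set_option linter.unusedSimpArgs false

namespace H42.SS

open H43
open H45 (EIn eIn_map eIn_smul)

variable {F : Type*} [Field F] [Finite F]
  {V : Type*} [AddCommGroup V] [Module F V] [FiniteDimensional F V]
  {A : Type*} [AddCommGroup A] [Module F A] [FiniteDimensional F A]
  {B : Type*} [AddCommGroup B] [Module F B] [FiniteDimensional F B]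
  {Q : QuadraticForm F V}

/-- A subgroup of `Ω` above the tensor group, not the whole of `Ω`. -/
structure Small (τ : A →ₗ[F] B →ₗ[F] V) (ω : LinearMap.BilinForm F A) (ω' : LinearMap.BilinForm F B)
    (K : Subgroup (orthGroup Q)) : Prop where
  str : SStr Q τ ω ω'
  le : K ≤ commutator (orthGroup Q)
  tens : ∀ g, IsTens τ g → g ∈ commutator (orthGroup Q) → g ∈ K
  ne : ¬ commutator (orthGroup Q) ≤ K
  two_le : 2 ≤ Module.finrank F A
  lt : Module.finrank F A + 2 ≤ Module.finrank F B
  six : 6 ≤ Module.finrank F B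
  exc : (∃ c : F, c ≠ 0 ∧ c ≠ 1) ∨ 4 ≤ Module.finrank F A

/-- An element of `K` acts as a product of two isometries. -/
def TIn (τ : A →ₗ[F] B →ₗ[F] V) (ω : LinearMap.BilinForm F A) (ω' : LinearMap.BilinForm F B)
    (K : Subgroup (orthGroup Q)) (x : A →ₗ[F] A) (y : B →ₗ[F] B) : Prop :=
  (∀ p q, ω (x p) (x q) = ω p q) ∧ (∀ u w, ω' (y u) (y w) = ω' u w) ∧
    ∃ g ∈ K, ∀ p u, g.1 (τ p u) = τ (x p) (y u)

/-- All multiples of a root element lie in `K`. -/
def RIn (K : Subgroup (orthGroup Q)) (u w : V) : Prop :=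
  polB Q u w = 0 ∧ ∀ t : F, eichler Q u (t • w) ∈ K

theorem RIn.map {K : Subgroup (orthGroup Q)} {u w : V} (hu : Q u = 0) (h : RIn K u w)
    {g : orthGroup Q} (hg : g ∈ K) : RIn K (g.1 u) (g.1 w) := by
  refine ⟨by rw [orth_polB_map]; exact h.1, fun t => ?_⟩
  rw [← map_smul, ← eichler_conj g hu (by rw [map_smul, h.1, smul_zero])]
  exact mul_mem (mul_mem hg (h.2 t)) (inv_mem hg)

theorem RIn.swap {K : Subgroup (orthGroup Q)} {u w : V} (hu : Q u = 0) (hw : Q w = 0)
    (h : RIn K u w) : RIn K w u := by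
  refine ⟨by rw [polB_comm]; exact h.1, fun t => ?_⟩
  have e : eichler Q w (t • u) = eichler Q u ((-t) • w) := by
    apply orth_ext
    intro z
    rw [eichler_apply hw (by rw [map_smul, polB_comm, h.1, smul_zero]),
      eichler_apply hu (by rw [map_smul, h.1, smul_zero]), qmap_smul, qmap_smul, hu, hw]
    simp only [map_smul, smul_eq_mul]
    module
  rw [e]
  exact h.2 _

/-- The commutator of two roots. -/
theorem RIn.rule {K : Subgroup (orthGroup Q)} {p q u w : V} (hp : Q p = 0) (hu : Q u = 0)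
    (h : RIn K p q) (h' : RIn K u w) (hup : polB Q u p = 0) (huq : polB Q u q = 0)
    (hwp : polB Q w p = 0) (hwq : polB Q w q ≠ 0) : RIn K u p := by
  refine ⟨hup, fun t => ?_⟩
  set c := polB Q w q
  set s := -(t / c) with hs
  have hgu : (eichler Q p ((1 : F) • q)).1 u = u := by
    rw [one_smul]
    exact eichler_fix hp h.1 hup huq
  have hgw : (eichler Q p ((1 : F) • q)).1 (s • w) = s • w + t • p := by
    rw [one_smul, eichler_apply hp h.1]
    simp only [map_smul, LinearMap.smul_apply, smul_eq_mul, hwp, mul_zero, zero_smul, add_zero, sub_zero]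
    rw [hs, sub_eq_add_neg, ← neg_smul]
    congr 2
    show -(-(t / c) * c) = t
    field_simp
  have hg := h.2 1
  have h1 : eichler Q u (s • w + t • p) ∈ K := by
    have := eichler_conj (eichler Q p ((1 : F) • q)) (u := u) (w := s • w) hu
      (by rw [map_smul, h'.1, smul_zero])
    rw [hgu, hgw] at this
    rw [← this]
    exact mul_mem (mul_mem hg (h'.2 s)) (inv_mem hg)
  have h2 := mul_mem (inv_mem (h'.2 s)) h1
  rwa [← eichler_mul hu (by rw [map_smul, h'.1, smul_zero]) (by rw [map_smul, hup, smul_zero]),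
    inv_mul_cancel_left] at h2

/-- The second vectors of the roots at `u`. -/
def rootSpace (K : Subgroup (orthGroup Q)) (u : V) (hu : Q u = 0) : Submodule F V where
  carrier := {w | RIn K u w}
  zero_mem' := ⟨map_zero _, fun t => by rw [smul_zero, eichler_zero hu]; exact one_mem _⟩
  add_mem' := by
    rintro a b ⟨ha, ha'⟩ ⟨hb, hb'⟩
    refine ⟨by rw [map_add, ha, hb, add_zero], fun t => ?_⟩
    rw [smul_add, ← eichler_mul hu (by rw [map_smul, ha, smul_zero]) (by rw [map_smul, hb, smul_zero])]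
    exact mul_mem (ha' t) (hb' t)
  smul_mem' := by
    rintro c a ⟨ha, ha'⟩
    exact ⟨by rw [map_smul, ha, smul_zero], fun t => by rw [smul_smul]; exact ha' _⟩

/-- Vectors orthogonal to a given one are moved onto one another by transvections fixing it. -/
theorem exists_iso_move {U : Type*} [AddCommGroup U] [Module F U] [FiniteDimensional F U]
    {β : LinearMap.BilinForm F U} (hβ : β.Nondegenerate) (halt : ∀ u, β u u = 0)
    (P : (U →ₗ[F] U) → Prop) (h1 : P LinearMap.id)
    (h2 : ∀ f r s, P f → P (tvL β r s ∘ₗ f)) {v u u' : U} (hu : β v u = 0) (hu' : β v u' = 0)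
    (hun : u ∉ F ∙ v) (hun' : u' ∉ F ∙ v) : ∃ y, P y ∧ y v = v ∧ y u = u' := by
  have key : ∀ a b, β v a = 0 → β v b = 0 → β a b ≠ 0 →
      ∃ r s, tvL β r s v = v ∧ tvL β r s a = b := by
    intro a b ha hb hab
    refine ⟨b - a, (β a b)⁻¹, ?_, ?_⟩
    · rw [tvL_apply, map_sub, ha, hb]; simp
    · rw [tvL_apply, map_sub, halt, sub_zero, inv_mul_cancel₀ hab, one_smul, add_sub_cancel]
  obtain ⟨m, hm, hum, hu'm⟩ : ∃ m, β v m = 0 ∧ β u m ≠ 0 ∧ β u' m ≠ 0 := by
    obtain ⟨q₁, hq₁, hq₁'⟩ := exists_dual hβ halt hun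
    obtain ⟨q₂, hq₂, hq₂'⟩ := exists_dual hβ halt hun'
    have e₁ := hq₁ v (Submodule.mem_span_singleton_self v)
    have e₂ := hq₂ v (Submodule.mem_span_singleton_self v)
    by_cases k₁ : β u' q₁ = 0
    · by_cases k₂ : β u q₂ = 0
      · exact ⟨q₁ + q₂, by rw [map_add, e₁, e₂, add_zero], by rw [map_add, hq₁', k₂]; simp,
          by rw [map_add, hq₂', k₁]; simp⟩
      · exact ⟨q₂, e₂, k₂, by rw [hq₂']; exact one_ne_zero⟩
    · exact ⟨q₁, e₁, by rw [hq₁']; exact one_ne_zero, k₁⟩
  have hskew : β m u' ≠ 0 := by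
    intro e
    apply hu'm
    have h := halt (m + u')
    simp only [map_add, LinearMap.add_apply, halt, e] at h
    simpa using h
  obtain ⟨r, s, hrv, hru⟩ := key u m hu hm hum
  obtain ⟨r', s', hrv', hrm⟩ := key m u' hm hu' hskew
  exact ⟨tvL β r' s' ∘ₗ (tvL β r s ∘ₗ LinearMap.id), h2 _ _ _ (h2 _ _ _ h1),
    by simp [hrv, hrv'], by simp [hru, hrm]⟩

namespace Small

variable {τ : A →ₗ[F] B →ₗ[F] V} {ω : LinearMap.BilinForm F A} {ω' : LinearMap.BilinForm F B}
  {K : Subgroup (orthGroup Q)} (S : Small τ ω ω' K)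
include S

theorem tA (w : A) (s : F) : TIn τ ω ω' K (tvL ω w s) LinearMap.id := by
  obtain ⟨g, hg, hgt⟩ := S.str.exists_tvA w s
  exact ⟨tvL_isom S.str.altA w s, fun _ _ => rfl, g,
    S.tens g ⟨_, LinearMap.id, hgt⟩ hg, hgt⟩

theorem tB (r : B) (s : F) : TIn τ ω ω' K LinearMap.id (tvL ω' r s) := by
  obtain ⟨g, hg, -, hgt⟩ := S.str.exists_tvB r s
  exact ⟨fun _ _ => rfl, tvL_isom S.str.altB r s, g,
    S.tens g ⟨LinearMap.id, _, hgt⟩ hg, hgt⟩

theorem tComp {x x' : A →ₗ[F] A} {y y' : B →ₗ[F] B} (h : TIn τ ω ω' K x y)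
    (h' : TIn τ ω ω' K x' y') : TIn τ ω ω' K (x ∘ₗ x') (y ∘ₗ y') := by
  obtain ⟨hx, hy, g, hg, hgt⟩ := h
  obtain ⟨hx', hy', g', hg', hgt'⟩ := h'
  refine ⟨fun p q => by rw [LinearMap.comp_apply, LinearMap.comp_apply, hx, hx'],
    fun p q => by rw [LinearMap.comp_apply, LinearMap.comp_apply, hy, hy'],
    g * g', mul_mem hg hg', fun p u => by rw [orth_mul_apply, hgt', hgt]; rfl⟩

theorem tId : TIn τ ω ω' K LinearMap.id LinearMap.id :=
  ⟨fun _ _ => rfl, fun _ _ => rfl, 1, one_mem _, fun _ _ => rfl⟩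

theorem exists_moveA {v u u' : A} (hu : ω v u = 0) (hu' : ω v u' = 0)
    (hun : u ∉ F ∙ v) (hun' : u' ∉ F ∙ v) :
    ∃ x, TIn τ ω ω' K x LinearMap.id ∧ x v = v ∧ x u = u' :=
  exists_iso_move S.str.ndA S.str.altA (fun x => TIn τ ω ω' K x LinearMap.id) S.tId
    (fun _ r s hf => S.tComp (S.tA r s) hf) hu hu' hun hun'

theorem exists_moveB {v u u' : B} (hu : ω' v u = 0) (hu' : ω' v u' = 0)
    (hun : u ∉ F ∙ v) (hun' : u' ∉ F ∙ v) :
    ∃ y, TIn τ ω ω' K LinearMap.id y ∧ y v = v ∧ y u = u' :=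
  exists_iso_move S.str.ndB S.str.altB (fun y => TIn τ ω ω' K LinearMap.id y) S.tId
    (fun _ r s hf => S.tComp (S.tB r s) hf) hu hu' hun hun'

theorem exists_toA {u u' : A} (hu : u ≠ 0) (hu' : u' ≠ 0) :
    ∃ x, TIn τ ω ω' K x LinearMap.id ∧ x u = u' := by
  obtain ⟨x, hx, -, hxu⟩ := S.exists_moveA (v := 0) (u := u) (u' := u') (by simp) (by simp)
    (by simpa using hu) (by simpa using hu')
  exact ⟨x, hx, hxu⟩

theorem exists_toB {u u' : B} (hu : u ≠ 0) (hu' : u' ≠ 0) :
    ∃ y, TIn τ ω ω' K LinearMap.id y ∧ y u = u' := by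
  obtain ⟨y, hy, -, hyu⟩ := S.exists_moveB (v := 0) (u := u) (u' := u') (by simp) (by simp)
    (by simpa using hu) (by simpa using hu')
  exact ⟨y, hy, hyu⟩

/-- Two vectors have a non-orthogonal pair orthogonal to both. -/
theorem exists_pair_perp (v e : B) : ∃ v₁ e₁, ω' v₁ v = 0 ∧ ω' v₁ e = 0 ∧ ω' e₁ v = 0 ∧
    ω' e₁ e = 0 ∧ ω' v₁ e₁ ≠ 0 := by
  have hflip := S.str.skew'
  set U := Submodule.span F (Set.range ![v, e]) with hU
  have hU2 : Module.finrank F U ≤ 2 := (finrank_range_le_card _).trans (by simp)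
  set P := ω'.orthogonal U
  have hmem : ∀ x ∈ P, ω' x v = 0 ∧ ω' x e = 0 := fun x hx =>
    ⟨by rw [hflip, hx v (Submodule.subset_span ⟨0, rfl⟩), neg_zero],
      by rw [hflip, hx e (Submodule.subset_span ⟨1, rfl⟩), neg_zero]⟩
  by_contra hcon
  push Not at hcon
  have hle : P ≤ ω'.orthogonal P := fun x hx y hy =>
    hcon y x (hmem y hy).1 (hmem y hy).2 (hmem x hx).1 (hmem x hx).2
  have h1 := Submodule.finrank_mono hle
  have h2 : Module.finrank F P = Module.finrank F B - Module.finrank F U :=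
    LinearMap.BilinForm.finrank_orthogonal S.str.ndB U
  have h3 : Module.finrank F (ω'.orthogonal P) = Module.finrank F B - Module.finrank F P :=
    LinearMap.BilinForm.finrank_orthogonal S.str.ndB P
  have := S.six
  omega

/-- Roots joining a vector to its multiples give everything. -/
theorem false_of_sameA {w : A} (hw : w ≠ 0)
    (h : ∀ v e, ω' v e = 0 → RIn K (τ w v) (τ w e)) : False := by
  have d := S.str
  have hs : ∀ p v, Q (τ p v) = 0 := d.sing
  -- all vectors of the first factor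
  have h1 : ∀ p v e, ω' v e = 0 → RIn K (τ p v) (τ p e) := by
    intro p v e hve
    by_cases hp : p = 0
    · simp only [hp, map_zero, LinearMap.zero_apply]
      exact (rootSpace K (0 : V) (map_zero Q)).zero_mem
    obtain ⟨x, ⟨-, -, g, hg, hgt⟩, hxw⟩ := S.exists_toA hw hp
    have := (h v e hve).map (hs _ _) hg
    rwa [hgt, hgt, hxw] at this
  -- non-orthogonal vectors of the first factor
  have h2 : ∀ p q v e, ω p q ≠ 0 → ω' v e = 0 → RIn K (τ p v) (τ q e) := by
    intro p q v e hpq hve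
    obtain ⟨v₁, e₁, a1, a2, a3, a4, a5⟩ := S.exists_pair_perp v e
    refine (h1 q e e₁ ?_).rule (hs _ _) (hs _ _) (h1 p v v₁ ?_) ?_ ?_ ?_ ?_
    · rw [d.skew', a4, neg_zero]
    · rw [d.skew', a1, neg_zero]
    · rw [d.form, hve, mul_zero]
    · rw [d.form, d.skew' v, a3, neg_zero, mul_zero]
    · rw [d.form, a2, mul_zero]
    · rw [d.form]; exact mul_ne_zero hpq a5
  have h3 : ∀ p q v e, ω' v e = 0 → RIn K (τ p v) (τ q e) := by
    intro p q v e hve
    by_cases hp : p = 0
    · simp only [hp, map_zero, LinearMap.zero_apply]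
      refine ⟨by simp, fun t => ?_⟩
      rw [show eichler Q (0 : V) (t • τ q e) = 1 from orth_ext fun z => by
        simp [eichler_apply (map_zero Q) (by simp : polB Q (0 : V) (t • τ q e) = 0), orth_one_apply]]
      exact one_mem _
    obtain ⟨q₀, hq₀⟩ := d.flip.exists_partner hp
    by_cases hpq : ω p q = 0
    · have e1 := h2 p (q + q₀) v e (by rw [map_add, hpq, hq₀, zero_add]; exact one_ne_zero) hve
      have e2 := h2 p q₀ v e (by rw [hq₀]; exact one_ne_zero) hve
      have := (rootSpace K (τ p v) (hs _ _)).sub_mem e1 e2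
      rwa [map_add, LinearMap.add_apply, add_sub_cancel_right] at this
    · exact h2 p q v e hpq hve
  -- orthogonal vectors of the first factor
  obtain ⟨p₀, q₀, hpq₀⟩ : ∃ p₀ q₀, ω p₀ q₀ ≠ 0 := by
    obtain ⟨q₀, hq₀⟩ := d.flip.exists_partner hw
    exact ⟨w, q₀, by rw [hq₀]; exact one_ne_zero⟩
  have h4 : ∀ p q v e, ω p q = 0 → ω' v e ≠ 0 → RIn K (τ p v) (τ q e) := by
    intro p q v e hpq hve
    obtain ⟨v₁, e₁, a1, a2, a3, a4, a5⟩ := S.exists_pair_perp v e
    refine (h3 q q₀ e e₁ ?_).rule (hs _ _) (hs _ _) (h3 p p₀ v v₁ ?_) ?_ ?_ ?_ ?_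
    · rw [d.skew', a4, neg_zero]
    · rw [d.skew', a1, neg_zero]
    · rw [d.form, hpq, zero_mul]
    · rw [d.form, d.skew' v, a3, neg_zero, mul_zero]
    · rw [d.form, a2, mul_zero]
    · rw [d.form]; exact mul_ne_zero hpq₀ a5
  -- pure vectors are centres
  have h5 : ∀ p v, EIn Q K (τ p v) := by
    intro p v
    refine ⟨hs _ _, fun z hz => ?_⟩
    suffices hY : z ∈ rootSpace K (τ p v) (hs _ _) by simpa using hY.2 1
    set Y := rootSpace K (τ p v) (hs _ _)
    rcases eq_or_ne v 0 with rfl | hv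
    · refine ⟨hz, fun t => ?_⟩
      rw [show eichler Q (τ p (0 : B)) (t • z) = 1 from orth_ext fun z' => by
        rw [eichler_apply (hs _ _) (by rw [map_smul, hz, smul_zero])]
        simp [orth_one_apply]]
      exact one_mem _
    obtain ⟨v', hv'⟩ := d.exists_partner hv
    let π : V →ₗ[F] V := LinearMap.id + (τ.flip v') ∘ₗ d.ctr v
    have hπ : ∀ z', π z' ∈ Y := by
      intro z'
      have : Y.mkQ.comp π = 0 := LinearMap.ext fun z'' => d.ext_lin (fun q u => by
        rw [LinearMap.comp_apply, LinearMap.zero_apply, Submodule.mkQ_apply, Submodule.Quotient.mk_eq_zero]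
        have e : π (τ q u) = τ q (u + ω' u v • v') := by
          simp [π, d.ctr_tau]
        rw [e]
        refine h3 p q v _ ?_
        rw [map_add, map_smul, hv', d.skew' u v]
        simp) z''
      have := LinearMap.congr_fun this z'
      rwa [LinearMap.comp_apply, LinearMap.zero_apply, Submodule.mkQ_apply, Submodule.Quotient.mk_eq_zero] at this
    have hr : ω p (d.ctr v z) = 0 := by
      rw [d.skew, d.ctr_spec, polB_comm, hz, neg_zero]
    have h6 : τ (d.ctr v z) v' ∈ Y := h4 p _ v v' hr (by rw [hv']; exact one_ne_zero)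
    have := Y.sub_mem (hπ z) h6
    simpa [π] using this
  -- all singular vectors are centres
  have h6 : ∀ z, Q z = 0 → EIn Q K z := by
    intro z hz
    rcases eq_or_ne z 0 with rfl | hz0
    · simpa using h5 0 0
    obtain ⟨p, v, hpv⟩ : ∃ p v, polB Q z (τ p v) ≠ 0 := by
      by_contra hcon
      push Not at hcon
      exact hz0 (d.ndV.1 z fun y => d.ext_lin (f := polB Q z) (g := 0) hcon y)
    set u := τ p v
    set c := polB Q z u
    obtain ⟨q, r, hqr⟩ : ∃ q r, polB Q u (τ q r) ≠ 0 := by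
      by_contra hcon
      push Not at hcon
      exact hpv ((polB_comm z u).trans (d.ext_lin (f := polB Q u) (g := 0) hcon z))
    set y := τ ((c / polB Q u (τ q r)) • q) r with hy
    have hyu : polB Q y u = c := by
      rw [hy, map_smul, LinearMap.smul_apply, polB_comm, map_smul, smul_eq_mul, div_mul_cancel₀ _ hqr]
    have hw : polB Q u (c⁻¹ • (y - z)) = 0 := by
      rw [map_smul, map_sub, polB_comm u y, polB_comm u z, hyu, sub_self, smul_zero]
    set g := eichler Q u (c⁻¹ • (y - z))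
    have hg : g ∈ K := (h5 p v).2 _ hw
    have hgz : g.1 z = y := by
      rw [eichler_apply (hs _ _) hw, qmap_smul, qmap_sub, hs, hz, map_smul, map_sub, polB_self, hz,
        smul_eq_mul, smul_smul, mul_inv_cancel₀ hpv, polB_comm z y]
      match_scalars <;> field_simp <;> ring
    have := eIn_map (inv_mem hg) (h5 ((c / polB Q u (τ q r)) • q) r)
    rwa [← hy, ← hgz, orth_inv_apply_self] at this
  apply S.ne
  rw [commutator_eq_closure_singular d.ndV d.five, Subgroup.closure_le]
  rintro _ ⟨u, w', hu, -, huw, rfl⟩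
  exact (h6 u hu).2 w' huw

/-- Centre elements of `K` are scalar. -/
theorem cen_scalar {v : B} (hv : v ≠ 0) {M : A →ₗ[F] A} {g : orthGroup Q} (hg : g ∈ K)
    (hgz : ∀ z, g.1 z = z + τ (M (S.str.ctr v z)) v) : ∃ μ : F, ∀ u, M u = μ • u := by
  have d := S.str
  obtain ⟨v', hv'⟩ := d.exists_partner hv
  have halt : ∀ u, ω (M u) u = 0 := by
    intro u
    have h := orth_qmap g (τ u v')
    rw [hgz, d.ctr_tau, qmap_add, d.sing, d.sing, d.form, d.skew' v' v, hv', zero_add, zero_add] at h
    simp only [map_smul, map_neg, neg_smul, one_smul] at h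
    rw [d.skew]
    linear_combination -h
  have hsym : ∀ a b, ω (M a) b = ω a (M b) := fun a b => by
    have h := halt (a + b)
    simp only [map_add, LinearMap.add_apply, halt] at h
    rw [d.skew a (M b)]
    linear_combination h
  by_contra hcon
  obtain ⟨w, hw⟩ : ∃ w, ∀ k : F, M w ≠ k • w := by
    by_contra h
    push Not at h
    exact hcon (scalar_of_lines M h)
  set x := M w with hx
  have hw0 : w ≠ 0 := fun e => hw 0 (by rw [hx, e, map_zero, smul_zero])
  have hxn : x ∉ F ∙ w := fun h => by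
    obtain ⟨k, hk⟩ := Submodule.mem_span_singleton.1 h
    exact hw k hk.symm
  have hxw : ω x w = 0 := halt w
  have hwx : ω w x = 0 := by rw [d.skew, hxw, neg_zero]
  -- a root in an isotropic plane
  have hroot : RIn K (τ x v) (τ w v) := by
    refine ⟨by rw [d.form, hxw, zero_mul], fun s => ?_⟩
    obtain ⟨hti, -, t, ht, htt⟩ := S.tA w s
    have e : eichler Q (τ x v) (s • τ w v) * (g * t) = t * g := by
      refine d.orth_ext_tau fun p u => ?_
      rw [orth_mul_apply, orth_mul_apply, orth_mul_apply, htt, hgz, hgz]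
      simp only [d.ctr_tau, LinearMap.id_apply, map_smul, map_add, LinearMap.smul_apply, htt]
      have hperp : polB Q (τ x v) (s • τ w v) = 0 := by rw [map_smul, d.form, hxw, zero_mul, smul_zero]
      simp only [eichler_apply (d.sing x v) hperp, qmap_smul, d.sing, mul_zero, zero_mul, zero_smul, sub_zero]
      simp only [map_add, map_smul, LinearMap.add_apply, LinearMap.smul_apply, d.form, smul_eq_mul,
        d.altB, mul_zero, zero_mul, add_zero, tvL_apply, hwx, d.altA]
      have e1 : ω (M p) w = ω p x := hsym p w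
      rw [e1, ← hx]
      match_scalars <;> ring
    have h1 : eichler Q (τ x v) (s • τ w v) = t * g * (g * t)⁻¹ := eq_mul_inv_of_mul_eq e
    rw [h1]
    exact mul_mem (mul_mem ht hg) (inv_mem (mul_mem hg ht))
  -- a second plane
  obtain ⟨r, hrS, hxr⟩ := exists_dual d.ndA d.altA hxn
  have hwr := hrS w (Submodule.mem_span_singleton_self w)
  set x' := x + r with hx'
  have hroot' : RIn K (τ x' v) (τ w v) := by
    obtain ⟨-, -, t, ht, htt⟩ := S.tA r 1
    have := hroot.map (d.sing _ _) ht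
    rw [htt, htt] at this
    simp only [tvL_apply, LinearMap.id_apply, one_mul, hxr, hwr, zero_smul, add_zero, one_smul] at this
    exact this
  apply S.false_of_sameA hw0
  -- roots joining `w` to its multiples
  have key : ∀ u e, ω' u e ≠ 0 → RIn K (τ w u) (τ w e) := by
    intro u e hue
    have hu0 : u ≠ 0 := fun h => hue (by rw [h]; simp)
    have he0 : e ≠ 0 := fun h => hue (by rw [h]; simp)
    obtain ⟨y, ⟨-, -, a, ha, hat⟩, hyu⟩ := S.exists_toB hv hu0
    obtain ⟨y', ⟨-, -, b, hb, hbt⟩, hye⟩ := S.exists_toB hv he0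
    have k1 := (hroot.map (d.sing _ _) ha).swap (by rw [orth_qmap, d.sing]) (by rw [orth_qmap, d.sing])
    have k2 := (hroot'.map (d.sing _ _) hb).swap (by rw [orth_qmap, d.sing]) (by rw [orth_qmap, d.sing])
    rw [hat, hat, hyu] at k1
    rw [hbt, hbt, hye] at k2
    simp only [LinearMap.id_apply] at k1 k2
    refine k2.rule (d.sing _ _) (d.sing _ _) k1 ?_ ?_ ?_ ?_
    · rw [d.form, d.altA, zero_mul]
    · rw [d.form, hx', map_add, hwx, hwr, add_zero, zero_mul]
    · rw [d.form, hxw, zero_mul]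
    · rw [d.form, hx', map_add, d.altA, hxr, zero_add, one_mul]; exact hue
  intro u e _
  rcases eq_or_ne u 0 with rfl | hu0
  · refine ⟨by simp, fun t => ?_⟩
    rw [show eichler Q (τ w (0 : B)) (t • τ w e) = 1 from orth_ext fun z' => by
      rw [eichler_apply (d.sing _ _) (by simp)]
      simp [orth_one_apply]]
    exact one_mem _
  by_cases hue : ω' u e = 0
  · obtain ⟨e₀, he₀⟩ := d.exists_partner hu0
    have k1 := key u (e + e₀) (by rw [map_add, hue, he₀, zero_add]; exact one_ne_zero)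
    have k2 := key u e₀ (by rw [he₀]; exact one_ne_zero)
    have := (rootSpace K (τ w u) (d.sing _ _)).sub_mem k1 k2
    rwa [map_add (τ w), add_sub_cancel_right] at this
  · exact key u e hue

end Small

end H42.SS
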