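import Cfsg.Agent.H42.SympSympRoot

/-!
Elements fixing a column and trivial on the quotient of its orthogonal by it.
-/

set_option autoImplicit false
set_option linter.unusedSectionVars false
set_option linter.unusedSimpArgs false

namespace H42.SS

open H43

variable {F : Type*} [Field F] [Finite F]
  {V : Type*} [AddCommGroup V] [Module F V] [FiniteDimensional F V]
  {A : Type*} [AddCommGroup A] [Module F A] [FiniteDimensional F A]
  {B : Type*} [AddCommGroup B] [Module F B] [FiniteDimensional F B]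
  {Q : QuadraticForm F V}

theorem isom_bijective {U : Type*} [AddCommGroup U] [Module F U] [FiniteDimensional F U]
    {β : LinearMap.BilinForm F U} (hβ : β.Nondegenerate) {x : U →ₗ[F] U}
    (hx : ∀ p q, β (x p) (x q) = β p q) : Function.Bijective x := by
  have hinj : Function.Injective x := (injective_iff_map_eq_zero x).2 fun p hp =>
    hβ.1 p fun q => by rw [← hx, hp, map_zero, LinearMap.zero_apply]
  exact ⟨hinj, LinearMap.injective_iff_surjective.1 hinj⟩

theorem SStr.exists_adj {τ : A →ₗ[F] B →ₗ[F] V} {ω : LinearMap.BilinForm F A}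
    {ω' : LinearMap.BilinForm F B} (d : SStr Q τ ω ω') (L : A →ₗ[F] A) :
    ∃ L' : A →ₗ[F] A, ∀ r u, ω (L' r) u = ω r (L u) :=
  ⟨(ω.toDual d.ndA).symm.toLinearMap ∘ₗ (LinearMap.lcomp F F L) ∘ₗ ω, fun r u => by
    show ω ((ω.toDual d.ndA).symm _) u = _
    rw [LinearMap.BilinForm.apply_toDual_symm_apply]; rfl⟩

theorem SStr.ctr_move {τ : A →ₗ[F] B →ₗ[F] V} {ω : LinearMap.BilinForm F A}
    {ω' : LinearMap.BilinForm F B} (d : SStr Q τ ω ω') {g : orthGroup Q} {x : A →ₗ[F] A}
    {y : B →ₗ[F] B} (hy : ∀ u w, ω' (y u) (y w) = ω' u w)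
    (hg : ∀ p u, g.1 (τ p u) = τ (x p) (y u)) (v : B) (z : V) :
    d.ctr (y v) (g.1 z) = x (d.ctr v z) :=
  d.ext_lin (f := d.ctr (y v) ∘ₗ (g.1 : V →ₗ[F] V)) (g := x ∘ₗ d.ctr v) (fun p u => by
    show d.ctr (y v) (g.1 (τ p u)) = x (d.ctr v (τ p u))
    rw [hg, d.ctr_tau, d.ctr_tau, map_smul, hy]) z

namespace Small

variable {τ : A →ₗ[F] B →ₗ[F] V} {ω : LinearMap.BilinForm F A} {ω' : LinearMap.BilinForm F B}
  {K : Subgroup (orthGroup Q)}

/-- An element of `K` fixing the column of `v` acts as `L` towards the column of `e`. -/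
def LIn (S : Small τ ω ω' K) (v e : B) (L : A →ₗ[F] A) : Prop :=
  ∃ g ∈ K, (∀ p, g.1 (τ p v) = τ p v) ∧
    ∀ z, ∃ r, g.1 z = z + τ (L (S.str.ctr v z)) e + τ r v

variable (S : Small τ ω ω' K)
include S

theorem lin_move {v e : B} {L L₁ : A →ₗ[F] A} (h : S.LIn v e L) {x : A →ₗ[F] A} {y : B →ₗ[F] B}
    (ht : TIn τ ω ω' K x y) (hL : ∀ u, L₁ (x u) = x (L u)) : S.LIn (y v) (y e) L₁ := by
  obtain ⟨hx, hy, g, hg, hgt⟩ := ht
  obtain ⟨k, hk, hkf, hkz⟩ := h
  refine ⟨g * k * g⁻¹, mul_mem (mul_mem hg hk) (inv_mem hg), fun p => ?_, fun z => ?_⟩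
  · obtain ⟨p, rfl⟩ := (isom_bijective S.str.ndA hx).2 p
    rw [← hgt, orth_mul_apply, orth_mul_apply, orth_inv_apply_self, hkf]
  · obtain ⟨z, rfl⟩ : ∃ z₀, g.1 z₀ = z := ⟨(g⁻¹).1 z, orth_apply_inv_self g z⟩
    obtain ⟨r, hr⟩ := hkz z
    refine ⟨x r, ?_⟩
    rw [orth_mul_apply, orth_mul_apply, orth_inv_apply_self, hr, map_add, map_add, hgt, hgt,
      S.str.ctr_move hy hgt, hL]

theorem lin_zero (v e : B) : S.LIn v e 0 :=
  ⟨1, one_mem _, fun _ => rfl, fun z => ⟨0, by simp [orth_one_apply]⟩⟩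

theorem lin_add {v e : B} (hve : ω' v e = 0) {L M : A →ₗ[F] A} (h : S.LIn v e L) (h' : S.LIn v e M) :
    S.LIn v e (L + M) := by
  have d := S.str
  obtain ⟨g, hg, hgf, hgz⟩ := h
  obtain ⟨k, hk, hkf, hkz⟩ := h'
  refine ⟨g * k, mul_mem hg hk, fun p => by rw [orth_mul_apply, hkf, hgf], fun z => ?_⟩
  obtain ⟨r, hr⟩ := hkz z
  obtain ⟨r', hr'⟩ := hgz (k.1 z)
  refine ⟨r + r', ?_⟩
  rw [orth_mul_apply, hr', hr]
  simp only [map_add, d.ctr_tau, d.altB, d.skew' e v, hve, neg_zero, zero_smul, add_zero,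
    LinearMap.add_apply]
  abel

theorem lin_congr {v e : B} {L M : A →ₗ[F] A} (h : S.LIn v e L) (he : ∀ u, L u = M u) :
    S.LIn v e M := by
  rwa [show M = L from LinearMap.ext fun u => (he u).symm]

theorem lin_transfer {v e v' e' : B} {L : A →ₗ[F] A} (h : S.LIn v e L) (hve : ω' v e = 0)
    (he : e ∉ F ∙ v) (hv : v ≠ 0) (hv' : v' ≠ 0) (hve' : ω' v' e' = 0) (he' : e' ∉ F ∙ v') :
    S.LIn v' e' L := by
  obtain ⟨y, hy, hyv⟩ := S.exists_toB hv hv'
  have h1 := S.lin_move h hy (L₁ := L) fun u => rfl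
  rw [hyv] at h1
  have hperp : ω' v' (y e) = 0 := by rw [← hyv, hy.2.1, hve]
  have hne : y e ∉ F ∙ v' := by
    intro hmem
    obtain ⟨k, hk⟩ := Submodule.mem_span_singleton.1 hmem
    apply he
    rw [Submodule.mem_span_singleton]
    refine ⟨k, (isom_bijective S.str.ndB hy.2.1).1 ?_⟩
    rw [map_smul, hyv, hk]
  obtain ⟨y', hy', hyv', hye'⟩ := S.exists_moveB hperp hve' hne he'
  have h2 := S.lin_move h1 hy' (L₁ := L) fun u => rfl
  rwa [hyv', hye'] at h2

theorem lin_smul {v e : B} (hve : ω' v e = 0) (he : e ∉ F ∙ v) (hv : v ≠ 0) {L : A →ₗ[F] A}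
    (h : S.LIn v e L) (c : F) : S.LIn v e (c • L) := by
  rcases eq_or_ne c 0 with rfl | hc
  · rw [zero_smul]; exact S.lin_zero v e
  obtain ⟨g, hg, hgf, hgz⟩ := S.lin_transfer h hve he hv hv (e' := c • e)
    (by rw [map_smul, hve, smul_zero]) fun hm => he ((Submodule.smul_mem_iff _ hc).1 hm)
  refine ⟨g, hg, hgf, fun z => ?_⟩
  obtain ⟨r, hr⟩ := hgz z
  refine ⟨r, ?_⟩
  rw [hr]
  simp only [LinearMap.smul_apply, map_smul]

theorem lin_sub {v e : B} (hve : ω' v e = 0) (he : e ∉ F ∙ v) (hv : v ≠ 0) {L M : A →ₗ[F] A}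
    (h : S.LIn v e L) (h' : S.LIn v e M) : S.LIn v e (L - M) := by
  have := S.lin_add hve h (S.lin_smul hve he hv h' (-1))
  rwa [neg_one_smul, ← sub_eq_add_neg] at this

/-- The shape of such an element. -/
theorem lin_exact {v e : B} (hv : v ≠ 0) (hve : ω' v e = 0) {L : A →ₗ[F] A} (h : S.LIn v e L) :
    ∃ g ∈ K, ∃ L' N : A →ₗ[F] A, (∀ r u, ω (L' r) u = ω r (L u)) ∧
      ∀ z, g.1 z = z + τ (L (S.str.ctr v z)) e + τ (L' (S.str.ctr e z)) v + τ (N (S.str.ctr v z)) v := by
  have d := S.str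
  obtain ⟨g, hg, -, hgz⟩ := h
  obtain ⟨L', hL'⟩ := d.exists_adj L
  obtain ⟨v', hv'⟩ := d.exists_partner hv
  have hev : ω' e v = 0 := by rw [d.skew', hve, neg_zero]
  let f : V →ₗ[F] A := (d.ctr v') ∘ₗ ((g.1 : V →ₗ[F] V) - LinearMap.id - (τ.flip e) ∘ₗ L ∘ₗ d.ctr v)
  have hf : ∀ z, g.1 z = z + τ (L (d.ctr v z)) e + τ (f z) v := by
    intro z
    obtain ⟨r, hr⟩ := hgz z
    have : f z = r := by
      show d.ctr v' (g.1 z - z - τ (L (d.ctr v z)) e) = r
      rw [hr, add_sub_assoc, show z + τ (L (d.ctr v z)) e + (τ r v - z) - τ (L (d.ctr v z)) e = τ r v by abel,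
        d.ctr_tau, hv', one_smul]
    rw [this]; exact hr
  have hker : ∀ z, d.ctr v z = 0 → f z = L' (d.ctr e z) := by
    intro z hz
    refine d.extA fun u => ?_
    rw [hL', d.skew]
    have h1 := orth_polB_map g (τ u (-v')) z
    rw [hf, hf, hz, map_zero, map_zero, LinearMap.zero_apply, add_zero, d.ctr_tau] at h1
    simp only [map_neg, LinearMap.neg_apply, d.skew' v' v, hv', neg_neg, one_smul] at h1
    rw [polB_comm (τ u v') z] at h1
    simp only [map_add, map_neg, LinearMap.add_apply, LinearMap.neg_apply, d.form, d.altB, hev, mul_zero,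
      add_zero, d.skew' v' v, hv', mul_neg, mul_one, neg_neg, ← d.ctr_spec] at h1
    rw [polB_comm _ z, polB_comm _ z, polB_comm _ z] at h1
    simp only [← d.ctr_spec, hz, map_zero, LinearMap.zero_apply, add_zero] at h1
    linear_combination -h1
  let σ : A →ₗ[F] V := τ.flip (-v')
  have hσ : ∀ u, d.ctr v (σ u) = u := fun u => by
    show d.ctr v (τ u (-v')) = u
    rw [map_neg, map_neg, d.ctr_tau, d.skew', hv', neg_smul, one_smul, neg_neg]
  refine ⟨g, hg, L', (f - L' ∘ₗ d.ctr e) ∘ₗ σ, hL', fun z => ?_⟩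
  have h1 := hker (z - σ (d.ctr v z)) (by rw [map_sub, hσ, sub_self])
  rw [map_sub, map_sub, map_sub, sub_eq_iff_eq_add] at h1
  rw [hf, h1]
  simp only [LinearMap.comp_apply, LinearMap.sub_apply, map_add, map_sub, LinearMap.add_apply]
  abel

/-- The siegel element of the second factor. -/
theorem exists_sigma {v c : B} (hvc : ω' v c = 0) : ∃ g ∈ K,
    ∀ z, g.1 z = z + τ (S.str.ctr v z) c + τ (S.str.ctr c z) v := by
  have d := S.str
  obtain ⟨-, -, g, hg, hgt⟩ := S.tComp (S.tB (v + c) 1) (S.tComp (S.tB v (-1)) (S.tB c (-1)))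
  refine ⟨g, hg, fun z => d.ext_lin (f := (g.1 : V →ₗ[F] V))
    (g := LinearMap.id + (τ.flip c) ∘ₗ d.ctr v + (τ.flip v) ∘ₗ d.ctr c) (fun p u => ?_) z⟩
  show g.1 (τ p u) = τ p u + τ (d.ctr v (τ p u)) c + τ (d.ctr c (τ p u)) v
  rw [hgt, d.ctr_tau, d.ctr_tau]
  have hcv : ω' c v = 0 := by rw [d.skew', hvc, neg_zero]
  simp only [LinearMap.comp_apply, LinearMap.id_apply, tvL_apply, map_add, map_smul, LinearMap.add_apply,
    LinearMap.smul_apply, smul_eq_mul, hvc, hcv, d.altB, mul_zero, add_zero]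
  module

theorem lin_id {v c : B} (hvc : ω' v c = 0) : S.LIn v c LinearMap.id := by
  obtain ⟨g, hg, hgz⟩ := S.exists_sigma hvc
  refine ⟨g, hg, fun p => ?_, fun z => ⟨_, hgz z⟩⟩
  rw [hgz, S.str.ctr_tau, S.str.ctr_tau, S.str.altB, hvc]
  simp

/-- The commutator with the same column. -/
theorem comm_same {v e g : B} (hv : v ≠ 0) (hve : ω' v e = 0) (hvg : ω' v g = 0)
    {L₁ L₂ : A →ₗ[F] A} (h₁ : S.LIn v e L₁) (h₂ : S.LIn v g L₂) :
    ∃ μ : F, ∀ u r, ω' e g * (ω (L₂ u) (L₁ r) + ω (L₁ u) (L₂ r)) = μ * ω u r := by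
  have d := S.str
  obtain ⟨k₁, hk₁, L₁', N₁, hL₁, hz₁⟩ := S.lin_exact hv hve h₁
  obtain ⟨k₂, hk₂, L₂', N₂, hL₂, hz₂⟩ := S.lin_exact hv hvg h₂
  have hev : ω' e v = 0 := by rw [d.skew', hve, neg_zero]
  have hgv : ω' g v = 0 := by rw [d.skew', hvg, neg_zero]
  set M := (-ω' e g) • (L₁' ∘ₗ L₂ + L₂' ∘ₗ L₁) with hM
  have hη : ∀ z, (k₁ * k₂ * k₁⁻¹ * k₂⁻¹).1 z = z + τ (M (d.ctr v z)) v := by
    intro z
    obtain ⟨y, rfl⟩ : ∃ y, k₂.1 (k₁.1 y) = z :=
      ⟨(k₁⁻¹).1 ((k₂⁻¹).1 z), by rw [orth_apply_inv_self, orth_apply_inv_self]⟩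
    simp only [orth_mul_apply, orth_inv_apply_self]
    simp only [hz₁, hz₂, map_add, d.ctr_tau, d.altB, hev, hgv, hve, hvg, d.skew' g e, zero_smul, add_zero,
      map_zero, map_smul, map_neg, neg_smul, LinearMap.add_apply, LinearMap.smul_apply, LinearMap.zero_apply,
      LinearMap.neg_apply, hM, LinearMap.comp_apply, smul_add]
    module
  obtain ⟨μ, hμ⟩ := S.cen_scalar hv (mul_mem (mul_mem (mul_mem hk₁ hk₂) (inv_mem hk₁)) (inv_mem hk₂)) hη
  refine ⟨-μ, fun u r => ?_⟩
  have := congrArg (fun p => ω p r) (hμ u)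
  simp only [hM, LinearMap.smul_apply, LinearMap.add_apply, LinearMap.comp_apply, map_add, map_smul,
    smul_eq_mul, hL₁, hL₂] at this
  linear_combination -this

/-- The commutator with another column. -/
theorem comm_cross {v e f g : B} (hv : v ≠ 0) (hf : f ≠ 0) (hve : ω' v e = 0) (hfg : ω' f g = 0)
    (hvf : ω' v f = 0) (hvg : ω' v g = 0) (hef : ω' e f = 0) (heg : ω' e g = 1)
    {L₁ L₂ : A →ₗ[F] A} (h₁ : S.LIn v e L₁) (h₂ : S.LIn f g L₂) :
    ∃ L, S.LIn v f L ∧ ∀ u, ω (L u) u = - ω (L₁ u) (L₂ u) := by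
  have d := S.str
  obtain ⟨k₁, hk₁, L₁', N₁, hL₁, hz₁⟩ := S.lin_exact hv hve h₁
  obtain ⟨k₂, hk₂, L₂', N₂, hL₂, hz₂⟩ := S.lin_exact hf hfg h₂
  have hev : ω' e v = 0 := by rw [d.skew', hve, neg_zero]
  have hfv : ω' f v = 0 := by rw [d.skew', hvf, neg_zero]
  have hgv : ω' g v = 0 := by rw [d.skew', hvg, neg_zero]
  have hfe : ω' f e = 0 := by rw [d.skew', hef, neg_zero]
  have hgf : ω' g f = 0 := by rw [d.skew', hfg, neg_zero]
  have hge : ω' g e = -1 := by rw [d.skew', heg]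
  refine ⟨-(L₂' ∘ₗ L₁), ⟨k₁ * k₂ * k₁⁻¹ * k₂⁻¹,
    mul_mem (mul_mem (mul_mem hk₁ hk₂) (inv_mem hk₁)) (inv_mem hk₂), fun p => ?_, fun z => ?_⟩,
    fun u => ?_⟩
  · have f₁ : k₁.1 (τ p v) = τ p v := by
      simp [hz₁, d.ctr_tau, d.altB, hve]
    have f₂ : k₂.1 (τ p v) = τ p v := by
      simp [hz₂, d.ctr_tau, hvf, hvg]
    have f₁' : (k₁⁻¹).1 (τ p v) = τ p v := by
      conv_lhs => rw [← f₁]
      rw [orth_inv_apply_self]
    have f₂' : (k₂⁻¹).1 (τ p v) = τ p v := by
      conv_lhs => rw [← f₂]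
      rw [orth_inv_apply_self]
    simp only [orth_mul_apply, f₁, f₂, f₁', f₂']
  · obtain ⟨y, rfl⟩ : ∃ y, k₂.1 (k₁.1 y) = z :=
      ⟨(k₁⁻¹).1 ((k₂⁻¹).1 z), by rw [orth_apply_inv_self, orth_apply_inv_self]⟩
    simp only [orth_mul_apply, orth_inv_apply_self]
    refine ⟨- L₁' (L₂ (d.ctr f y)), ?_⟩
    simp only [hz₁, hz₂, map_add, d.ctr_tau, d.altB, hev, hfv, hgv, hfe, hgf, hge, hve, hvf, hvg, hef, hfg,
      heg, zero_smul, add_zero, map_zero, map_smul, map_neg, neg_smul, one_smul, LinearMap.add_apply,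
      LinearMap.smul_apply, LinearMap.zero_apply, LinearMap.neg_apply, LinearMap.comp_apply]
    abel
  · rw [LinearMap.neg_apply, LinearMap.comp_apply, map_neg, LinearMap.neg_apply, hL₂]

/-- The forms `ω (L u) u` vanish. -/
theorem lin_alt {v e : B} (hv : v ≠ 0) (hve : ω' v e = 0) (he : e ∉ F ∙ v) {L : A →ₗ[F] A}
    (h : S.LIn v e L) (w : A) : ω (L w) w = 0 := by
  have d := S.str
  have he0 : e ≠ 0 := fun h0 => he (h0 ▸ zero_mem _)
  by_contra hγ
  set γ := ω (L w) w with hγdef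
  have hw : w ≠ 0 := fun h0 => hγ (by rw [hγdef, h0, map_zero])
  -- conjugation by a transvection
  have hD : ∀ s, S.LIn v e (tvL ω w s ∘ₗ L ∘ₗ tvL ω w (-s) - L) := fun s => by
    refine S.lin_sub hve he hv ?_ h
    have := S.lin_move h (S.tA w s) (L₁ := tvL ω w s ∘ₗ L ∘ₗ tvL ω w (-s)) fun u => by
      have e1 := tvL_tvL d.altA w u (-s)
      rw [neg_neg] at e1
      rw [LinearMap.comp_apply, LinearMap.comp_apply, e1]
    simpa using this
  by_cases hq : ∃ c : F, c ≠ 0 ∧ c ≠ 1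
  · -- a root
    obtain ⟨c, hc0, hc1⟩ := hq
    set P : A →ₗ[F] A := (ω.flip w).smulRight w with hPdef
    have hP : ∀ u, P u = ω u w • w := fun u => rfl
    have hPin : S.LIn v e P := by
      refine S.lin_congr (S.lin_smul hve he hv
        (S.lin_sub hve he hv (hD c) (S.lin_smul hve he hv (hD 1) c)) (((c - c * c) * γ)⁻¹)) fun u => ?_
      have hne : (c - c * c) * γ ≠ 0 := mul_ne_zero (fun h0 => hc1 (by
        have : c * (1 - c) = 0 := by linear_combination h0
        exact (sub_eq_zero.1 ((mul_eq_zero.1 this).resolve_left hc0)).symm)) hγ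
      simp only [LinearMap.smul_apply, LinearMap.sub_apply, LinearMap.comp_apply, tvL_apply, hP, map_add,
        map_smul, LinearMap.add_apply, smul_eq_mul, ← hγdef]
      match_scalars <;> field_simp <;> ring
    obtain ⟨k, hk, P', N, hP', hkz⟩ := S.lin_exact hv hve hPin
    have hP'' : ∀ r, P' r = -(ω r w • w) := fun r => d.extA fun u => by
      rw [hP', hP, map_smul, map_neg, LinearMap.neg_apply, map_smul, LinearMap.smul_apply, smul_eq_mul,
        smul_eq_mul, d.skew w u]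
      ring
    obtain ⟨y, ⟨-, hy, g, hg, hgt⟩, hyv, hye⟩ := S.exists_moveB (v := v) (u := e) (u' := c • e) hve
      (by rw [map_smul, hve, smul_zero]) he fun hm => he ((Submodule.smul_mem_iff _ hc0).1 hm)
    have hperp : polB Q (τ w v) ((c - 1) • τ w e) = 0 := by rw [map_smul, d.form, d.altA, zero_mul, smul_zero]
    have hev : ω' e v = 0 := by rw [d.skew', hve, neg_zero]
    have hρ : eichler Q (τ w v) ((c - 1) • τ w e) ∈ K := by
      have e1 : eichler Q (τ w v) ((c - 1) • τ w e) * (k * g) = g * k := by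
        apply orth_ext
        intro z
        have hcv : d.ctr v (g.1 z) = d.ctr v z := by
          have := d.ctr_move hy hgt v z
          rwa [hyv] at this
        have hce : d.ctr e (g.1 z) = c⁻¹ • d.ctr e z := by
          have := d.ctr_move hy hgt e z
          rw [hye, d.ctr_smul] at this
          rw [LinearMap.id_apply] at this
          rw [← this, smul_smul, inv_mul_cancel₀ hc0, one_smul]
        simp only [orth_mul_apply]
        rw [hkz, hkz, eichler_apply (d.sing w v) hperp, qmap_smul, d.sing, map_smul]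
        simp only [hP, hP'', hcv, hce, map_add, map_neg, map_smul, LinearMap.add_apply, LinearMap.neg_apply,
          LinearMap.smul_apply, hgt, LinearMap.id_apply, hyv, hye, d.form, d.altA, d.altB, hve, hev,
          mul_zero, zero_mul, add_zero, neg_zero, smul_eq_mul, ← d.ctr_spec]
        match_scalars <;> field_simp <;> ring
      rw [eq_mul_inv_of_mul_eq e1]
      exact mul_mem (mul_mem hg hk) (inv_mem (mul_mem hk hg))
    refine S.false_of_sameA hw fun v₁ e₁ hve₁ => ?_
    refine ⟨by rw [d.form, d.altA, zero_mul], fun t => ?_⟩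
    by_cases hdeg : v₁ = 0 ∨ t = 0 ∨ e₁ ∈ F ∙ v₁
    · have e2 : eichler Q (τ w v₁) (t • τ w e₁) = 1 := orth_ext fun z => by
        rw [eichler_apply (d.sing _ _) (by rw [map_smul, d.form, d.altA, zero_mul, smul_zero]), qmap_smul,
          d.sing]
        rcases hdeg with rfl | rfl | hm
        · simp [orth_one_apply]
        · simp [orth_one_apply]
        · obtain ⟨k', rfl⟩ := Submodule.mem_span_singleton.1 hm
          simp only [map_smul, smul_eq_mul, mul_zero, zero_mul, zero_smul, sub_zero, orth_one_apply]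
          module
      rw [e2]
      exact one_mem _
    push Not at hdeg
    obtain ⟨hv₁, ht, he₁⟩ := hdeg
    obtain ⟨y₁, ⟨-, hy₁, g₁, hg₁, hgt₁⟩, hyv₁⟩ := S.exists_toB hv hv₁
    have hk1 : t / (c - 1) ≠ 0 := div_ne_zero ht (sub_ne_zero.2 hc1)
    obtain ⟨y₂, ⟨-, -, g₂, hg₂, hgt₂⟩, hyv₂, hye₂⟩ := S.exists_moveB (v := v₁) (u := y₁ e)
      (u' := (t / (c - 1)) • e₁) (by rw [← hyv₁, hy₁, hve]) (by rw [map_smul, hve₁, smul_zero])
      (fun hm => he (by
        obtain ⟨k', hk'⟩ := Submodule.mem_span_singleton.1 hm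
        rw [Submodule.mem_span_singleton]
        refine ⟨k', (isom_bijective d.ndB hy₁).1 ?_⟩
        rw [map_smul, hyv₁, hk']))
      fun hm => he₁ ((Submodule.smul_mem_iff _ hk1).1 hm)
    have e3 := eichler_conj (g₂ * g₁) (d.sing w v) hperp
    simp only [orth_mul_apply, map_smul, hgt₁, hgt₂, LinearMap.id_apply, hyv₁, hyv₂, hye₂] at e3
    rw [smul_smul, mul_div_cancel₀ _ (sub_ne_zero.2 hc1)] at e3
    rw [← e3]
    exact mul_mem (mul_mem (mul_mem hg₂ hg₁) hρ) (inv_mem (mul_mem hg₂ hg₁))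
  · -- two elements
    push Not at hq
    have ha : 4 ≤ Module.finrank F A := S.exc.resolve_left fun ⟨c, h1, h2⟩ => h2 (hq c h1)
    have h2 : (2 : F) = 0 := by
      by_contra h0
      exact one_ne_zero (α := F) (by linear_combination hq 2 h0)
    have hsw : ∀ p q, ω p q = ω q p := fun p q => by
      rw [d.skew]; linear_combination -(ω q p) * h2
    set x := L w with hx
    have hxw : ω x w = 1 := hq γ hγ
    have hwx : ω w x = 1 := by rw [hsw, hxw]
    obtain ⟨g, hg, hgv⟩ : ∃ g, ω' v g = 0 ∧ ω' e g = 1 := by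
      obtain ⟨g, hg, hg1⟩ := exists_dual d.ndB d.altB he
      exact ⟨g, hg v (Submodule.mem_span_singleton_self v), hg1⟩
    obtain ⟨μ, hμ⟩ := S.comm_same hv hve hg h (S.lin_id hg)
    simp only [hgv, one_mul, LinearMap.id_apply] at hμ
    -- the difference
    set D := tvL ω w 1 ∘ₗ L ∘ₗ tvL ω w (-1) - L with hDdef
    have hDu : ∀ u, D u = ω u x • w + ω u w • x + ((μ + 1) * ω u w) • w := by
      intro u
      have e1 : ω (L u) w = μ * ω u w - ω u x := by linear_combination hμ u w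
      simp only [D, LinearMap.sub_apply, LinearMap.comp_apply, tvL_apply, map_add, map_smul,
        LinearMap.add_apply, LinearMap.smul_apply, smul_eq_mul, ← hx, hxw, e1]
      match_scalars <;> linear_combination (norm := (ring_nf <;> simp [h2]))
    obtain ⟨y₀, hy₀, hyw, hyx⟩ : ∃ y₀, y₀ ≠ 0 ∧ ω y₀ w = 0 ∧ ω y₀ x = 0 := by
      obtain ⟨r, hr⟩ : ∃ r, r ∉ Submodule.span F (Set.range ![w, x]) := by
        by_contra hcon
        push Not at hcon
        have h3 : (⊤ : Submodule F A) ≤ Submodule.span F (Set.range ![w, x]) := fun r _ => hcon r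
        have h4 := Submodule.finrank_mono h3
        rw [finrank_top] at h4
        have h5 : Module.finrank F (Submodule.span F (Set.range ![w, x])) ≤ 2 :=
          (finrank_range_le_card _).trans (by simp)
        omega
      refine ⟨r + ω r x • w + ω r w • x, fun h0 => hr ?_, ?_, ?_⟩
      · rw [show r = -(ω r x • w + ω r w • x) by linear_combination (norm := module) h0]
        exact neg_mem (add_mem (Submodule.smul_mem _ _ (Submodule.subset_span ⟨0, rfl⟩))
          (Submodule.smul_mem _ _ (Submodule.subset_span ⟨1, rfl⟩)))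
      · simp only [map_add, map_smul, LinearMap.add_apply, LinearMap.smul_apply, smul_eq_mul, d.altA, hxw]
        linear_combination ω r w * h2
      · simp only [map_add, map_smul, LinearMap.add_apply, LinearMap.smul_apply, smul_eq_mul, d.altA, hwx]
        linear_combination ω r x * h2
    obtain ⟨r, hrS, hyr⟩ := exists_dual d.ndA d.altA (S := Submodule.span F (Set.range ![w, x])) (x := y₀) (by
      intro hm
      obtain ⟨k, hk⟩ := (Submodule.mem_span_range_iff_exists_fun F).1 hm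
      simp only [Fin.sum_univ_two, Matrix.cons_val_zero, Matrix.cons_val_one] at hk
      apply hy₀
      have a1 : k 0 = 0 := by
        have := hyx
        rw [← hk] at this
        simpa [d.altA, hwx] using this
      have a2 : k 1 = 0 := by
        have := hyw
        rw [← hk] at this
        simpa [d.altA, hxw] using this
      rw [← hk, a1, a2]; simp)
    have hwr : ω w r = 0 := hrS w (Submodule.subset_span ⟨0, rfl⟩)
    have hxr : ω x r = 0 := hrS x (Submodule.subset_span ⟨1, rfl⟩)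
    set y := w + y₀ with hy
    have hwy : ω w y = 0 := by rw [hy, map_add, d.altA, hsw w y₀, hyw, add_zero]
    have hxy : ω x y = 1 := by rw [hy, map_add, hxw, hsw x y₀, hyx, add_zero]
    -- the short operator
    set T : A →ₗ[F] A := (ω.flip y).smulRight w + (ω.flip w).smulRight y with hTdef
    have hTu : ∀ u, T u = ω u y • w + ω u w • y := fun u => rfl
    have hTin : S.LIn v e T := by
      have hD1 : S.LIn v e D := hD 1
      have hmv := S.lin_move hD1 (S.tA y 1) (L₁ := tvL ω y 1 ∘ₗ D ∘ₗ tvL ω y (-1)) fun u => by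
        have e1 := tvL_tvL d.altA y u (-1)
        rw [neg_neg] at e1
        rw [LinearMap.comp_apply, LinearMap.comp_apply, e1]
      simp only [LinearMap.id_apply] at hmv
      refine S.lin_congr (S.lin_sub hve he hv hmv hD1) fun u => ?_
      simp only [LinearMap.sub_apply, LinearMap.comp_apply, hTu, hDu, tvL_apply, map_add, map_smul,
        LinearMap.add_apply, LinearMap.smul_apply, smul_eq_mul, hwy, hxy, hsw y x, hsw y w, d.altA]
      match_scalars <;> linear_combination (norm := (ring_nf <;> simp [h2]))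
    have he'' : g ∉ F ∙ v := fun hm => by
      obtain ⟨k, hk⟩ := Submodule.mem_span_singleton.1 hm
      rw [← hk, map_smul, d.skew' e v, hve] at hgv
      simp at hgv
    obtain ⟨μ', hμ'⟩ := S.comm_same hv hve hg (hD 1) (S.lin_transfer hTin hve he hv hv hg he'')
    have h6 := hμ' x r
    simp only [hgv, one_mul] at h6
    rw [show tvL ω w 1 ∘ₗ L ∘ₗ tvL ω w (-1) - L = D from rfl] at h6
    simp only [hDu, hTu, hxr, hsw r w, hwr, hsw r x, hsw r y, hy, map_add, map_smul, LinearMap.add_apply,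
      LinearMap.smul_apply, smul_eq_mul, d.altA, hxw, hwx, hsw x y₀, hyx, hsw w y₀, hyw, hyr, hsw r y₀] at h6
    exact one_ne_zero (α := F) (by linear_combination h6)

/-- The operators are scalar. -/
theorem lin_scalar {v e : B} (hv : v ≠ 0) (hve : ω' v e = 0) (he : e ∉ F ∙ v) {L : A →ₗ[F] A}
    (h : S.LIn v e L) : ∃ k : F, ∀ u, L u = k • u := by
  have d := S.str
  have halt := S.lin_alt hv hve he h
  have hsym : ∀ a b, ω (L a) b = ω a (L b) := fun a b => by
    have h' := halt (a + b)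
    simp only [map_add, LinearMap.add_apply, halt] at h'
    rw [d.skew a (L b)]
    linear_combination h'
  obtain ⟨g, hg, hgv⟩ : ∃ g, ω' v g = 0 ∧ ω' e g = 1 := by
    obtain ⟨g, hg, hg1⟩ := exists_dual d.ndB d.altB he
    exact ⟨g, hg v (Submodule.mem_span_singleton_self v), hg1⟩
  by_cases h2 : (2 : F) = 0
  swap
  · obtain ⟨μ, hμ⟩ := S.comm_same hv hve hg h (S.lin_id hg)
    refine ⟨μ / 2, fun u => d.extA fun r => ?_⟩
    have := hμ u r
    simp only [hgv, one_mul, LinearMap.id_apply, ← hsym u r] at this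
    rw [map_smul, LinearMap.smul_apply, smul_eq_mul, div_mul_eq_mul_div, eq_div_iff h2]
    linear_combination this
  have hsw : ∀ p q, ω p q = ω q p := fun p q => by
    rw [d.skew]; linear_combination -(ω q p) * h2
  by_contra hcon
  obtain ⟨w, hw⟩ : ∃ w, ∀ k : F, L w ≠ k • w := by
    by_contra h'
    push Not at h'
    exact hcon (scalar_of_lines L h')
  set x := L w with hx
  have hw0 : w ≠ 0 := fun h0 => hw 0 (by rw [hx, h0, map_zero, smul_zero])
  have hxn : x ∉ F ∙ w := fun hm => by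
    obtain ⟨k, hk⟩ := Submodule.mem_span_singleton.1 hm
    exact hw k hk.symm
  have hxw : ω x w = 0 := halt w
  -- the short operator
  set D : A →ₗ[F] A := (ω.flip x).smulRight w + (ω.flip w).smulRight x with hDdef
  have hDu : ∀ u, D u = ω u x • w + ω u w • x := fun u => rfl
  have hDin : S.LIn v e D := by
    have hmv := S.lin_move h (S.tA w 1) (L₁ := tvL ω w 1 ∘ₗ L ∘ₗ tvL ω w (-1)) fun u => by
      have e1 := tvL_tvL d.altA w u (-1)
      rw [neg_neg] at e1
      rw [LinearMap.comp_apply, LinearMap.comp_apply, e1]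
    simp only [LinearMap.id_apply] at hmv
    refine S.lin_congr (S.lin_sub hve he hv hmv h) fun u => ?_
    simp only [LinearMap.sub_apply, LinearMap.comp_apply, hDu, tvL_apply, map_add, map_smul,
      LinearMap.add_apply, LinearMap.smul_apply, smul_eq_mul, hsym u w, ← hx, hxw]
    match_scalars <;> linear_combination (norm := (ring_nf <;> simp [h2]))
  -- its mate
  obtain ⟨w', hwS, hww⟩ : ∃ w', ω x w' = 0 ∧ ω w w' = 1 := by
    obtain ⟨q, hq, hq1⟩ := exists_dual d.ndA d.altA (S := F ∙ x) (x := w) (fun hm => by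
      obtain ⟨k, hk⟩ := Submodule.mem_span_singleton.1 hm
      have hk0 : k ≠ 0 := fun h0 => hw0 (by rw [← hk, h0, zero_smul])
      exact hxn (Submodule.mem_span_singleton.2 ⟨k⁻¹, by rw [← hk, smul_smul, inv_mul_cancel₀ hk0, one_smul]⟩))
    exact ⟨q, hq x (Submodule.mem_span_singleton_self x), hq1⟩
  obtain ⟨x', hx'S, hxx⟩ := exists_dual d.ndA d.altA (S := Submodule.span F (Set.range ![w, w'])) (x := x) (by
    intro hm
    obtain ⟨k, hk⟩ := (Submodule.mem_span_range_iff_exists_fun F).1 hm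
    simp only [Fin.sum_univ_two, Matrix.cons_val_zero, Matrix.cons_val_one] at hk
    apply hxn
    have a2 : k 1 = 0 := by
      have := hxw
      rw [← hk] at this
      simpa [d.altA, hsw w' w, hww] using this
    rw [← hk, a2, zero_smul, add_zero]
    exact Submodule.smul_mem _ _ (Submodule.mem_span_singleton_self w))
  have hwx' : ω w x' = 0 := hx'S w (Submodule.subset_span ⟨0, rfl⟩)
  have hw'x' : ω w' x' = 0 := hx'S w' (Submodule.subset_span ⟨1, rfl⟩)
  set D' : A →ₗ[F] A := (ω.flip x').smulRight w' + (ω.flip w').smulRight x' with hD'def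
  have hD'u : ∀ u, D' u = ω u x' • w' + ω u w' • x' := fun u => rfl
  have hD'in : S.LIn v e D' := by
    have hmv := S.lin_move hDin (S.tComp (S.tA (x + x') 1) (S.tA (w + w') 1)) (L₁ := D') fun u => by
      have iw : ∀ z, ω (tvL ω (w + w') 1 z) (tvL ω (w + w') 1 w) = ω z w := fun z => tvL_isom d.altA _ _ _ _
      have eX : (tvL ω (x + x') 1 ∘ₗ tvL ω (w + w') 1) x = x' := by
        simp only [LinearMap.comp_apply, tvL_apply, map_add, map_smul, hxw, hwS, d.altA, hxx, add_zero,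
          zero_add, mul_one, mul_zero, zero_smul, one_smul]
        linear_combination (norm := module) h2 • x
      have eW : (tvL ω (x + x') 1 ∘ₗ tvL ω (w + w') 1) w = w' := by
        simp only [LinearMap.comp_apply, tvL_apply, map_add, map_smul, LinearMap.add_apply,
          LinearMap.smul_apply, hsw w x, hxw, hwx', d.altA, hww, hsw w' x, hwS, hw'x', add_zero, zero_add,
          mul_one, mul_zero, zero_smul, one_smul, smul_eq_mul]
        linear_combination (norm := module) h2 • w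
      have hi : ∀ p q, ω ((tvL ω (x + x') 1 ∘ₗ tvL ω (w + w') 1) p)
          ((tvL ω (x + x') 1 ∘ₗ tvL ω (w + w') 1) q) = ω p q := fun p q => by
        rw [LinearMap.comp_apply, LinearMap.comp_apply, tvL_isom d.altA, tvL_isom d.altA]
      rw [hD'u, hDu, map_add, map_smul, map_smul, eX, eW, ← hi u x, ← hi u w, eX, eW]
    simpa using hmv
  obtain ⟨f, g', hf0, hfv, hef, hfg, hvg', heg'⟩ : ∃ f g', f ∉ F ∙ v ∧ ω' v f = 0 ∧ ω' e f = 0 ∧
      ω' f g' = 0 ∧ ω' v g' = 0 ∧ ω' e g' = 1 := by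
    obtain ⟨v₁, e₁, a1, a2, a3, a4, a5⟩ := S.exists_pair_perp v e
    refine ⟨v₁, g + (-(ω' v₁ g) / ω' v₁ e₁) • e₁, fun hm => a5 ?_, ?_, ?_, ?_, ?_, ?_⟩
    · obtain ⟨k, hk⟩ := Submodule.mem_span_singleton.1 hm
      rw [← hk, map_smul, LinearMap.smul_apply, d.skew' v e₁, a3, neg_zero, smul_zero]
    · rw [d.skew', a1, neg_zero]
    · rw [d.skew', a2, neg_zero]
    · rw [map_add, map_smul, smul_eq_mul, div_mul_cancel₀ _ a5, add_neg_cancel]
    · rw [map_add, map_smul, hg, d.skew' v e₁, a3]; simp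
    · rw [map_add, map_smul, hgv, d.skew' e e₁, a4]; simp
  have hg'f : g' ∉ F ∙ f := fun hm => by
    obtain ⟨k, hk⟩ := Submodule.mem_span_singleton.1 hm
    rw [← hk, map_smul, hef] at heg'
    simp at heg'
  have hfz : f ≠ 0 := fun h0 => hf0 (h0 ▸ zero_mem _)
  obtain ⟨L'', hL'', hval⟩ := S.comm_cross hv hfz hve hfg hfv hvg' hef heg' hDin
    (S.lin_transfer hD'in hve he hv hfz hfg hg'f)
  have h7 := S.lin_alt hv hfv hf0 hL'' (w + w')
  rw [hval] at h7
  simp only [hDu, hD'u, map_add, map_smul, LinearMap.add_apply, LinearMap.smul_apply, smul_eq_mul, d.altA,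
    hxw, hsw w x, hwS, hsw w' x, hwx', hw'x', hww, hsw w' w, hxx, add_zero, zero_add, mul_zero, zero_mul,
    mul_one] at h7
  exact one_ne_zero (α := F) (by linear_combination -h7)

end Small

end H42.SS
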