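import Cfsg.Agent.H42.SympSympShort

/-!
Elements mapping a column onto a column are tensor elements.
-/

set_option autoImplicit false
set_option linter.unusedSectionVars false
set_option linter.unusedSimpArgs false

namespace H42.SS

open H43

variable {F : Type*} [Field F] [Finite F]
  {V : Type*} [AddCommGroup V] [Module F V] [FiniteDimensional F V]
  {A : Type*} [AddCommGroup A] [Module F A] [FiniteDimensional F A]
  {B : Type*} [AddCommGroup B] [Module F B] [FiniteDimensional F B]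
  {Q : QuadraticForm F V}

namespace Small

variable {τ : A →ₗ[F] B →ₗ[F] V} {ω : LinearMap.BilinForm F A} {ω' : LinearMap.BilinForm F B}
  {K : Subgroup (orthGroup Q)} (S : Small τ ω ω' K)
include S

theorem ctr_eq_of_fix {v : B} {g : orthGroup Q} (hg : ∀ p, g.1 (τ p v) = τ p v) (z : V) :
    S.str.ctr v (g.1 z) = S.str.ctr v z :=
  S.str.ctr_unique fun q => by
    conv_rhs => rw [← hg q, orth_polB_map, ← S.str.ctr_spec]

/-- The quotient map of such an element is a vector of the second factor. -/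
theorem exists_shift {v : B} (hv : v ≠ 0) {g : orthGroup Q} (hg : g ∈ K)
    (hgf : ∀ p, g.1 (τ p v) = τ p v)
    (hgk : ∀ z, S.str.ctr v z = 0 → ∃ r, g.1 z = z + τ r v) :
    ∃ e₀, ω' v e₀ = 0 ∧ ∀ z, ∃ r, g.1 z = z + τ (S.str.ctr v z) e₀ + τ r v := by
  have d := S.str
  obtain ⟨v', hv'⟩ := d.exists_partner hv
  let σ : A →ₗ[F] V := τ.flip (-v')
  have hσ : ∀ u, d.ctr v (σ u) = u := fun u => by
    show d.ctr v (τ u (-v')) = u
    rw [map_neg, map_neg, d.ctr_tau, d.skew', hv', neg_smul, one_smul, neg_neg]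
  let φ : A →ₗ[F] V := (g.1 : V →ₗ[F] V) ∘ₗ σ - σ
  have hφ : ∀ z, ∃ r, g.1 z = z + φ (d.ctr v z) + τ r v := by
    intro z
    obtain ⟨r, hr⟩ := hgk (z - σ (d.ctr v z)) (by rw [map_sub, hσ, sub_self])
    refine ⟨r, ?_⟩
    rw [map_sub, sub_eq_iff_eq_add] at hr
    rw [hr]
    show _ = z + (g.1 (σ (d.ctr v z)) - σ (d.ctr v z)) + τ r v
    abel
  have hφv : ∀ u, d.ctr v (φ u) = 0 := fun u => by
    show d.ctr v (g.1 (σ u) - σ u) = 0
    rw [map_sub, S.ctr_eq_of_fix hgf, sub_self]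
  have key : ∀ e, ω' v e = 0 → ∃ k : F, ∀ u, d.ctr e (φ u) = k • u := by
    intro e hve
    by_cases he : e ∈ F ∙ v
    · obtain ⟨k, rfl⟩ := Submodule.mem_span_singleton.1 he
      exact ⟨0, fun u => by rw [d.ctr_smul, hφv, smul_zero, zero_smul]⟩
    obtain ⟨t, htΩ, htz, htt⟩ := d.exists_tvB e 1
    have ht : t ∈ K := S.tens t ⟨LinearMap.id, _, htt⟩ htΩ
    have htv : ∀ p, t.1 (τ p v) = τ p v := fun p => by rw [htz, d.ctr_tau, hve]; simp
    have htv' : ∀ p, (t⁻¹).1 (τ p v) = τ p v := fun p => by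
      conv_lhs => rw [← htv p]
      rw [orth_inv_apply_self]
    have hgf' : ∀ p, (g⁻¹).1 (τ p v) = τ p v := fun p => by
      conv_lhs => rw [← hgf p]
      rw [orth_inv_apply_self]
    refine S.lin_scalar hv hve he (L := d.ctr e ∘ₗ φ)
      ⟨t * g * t⁻¹ * g⁻¹, mul_mem (mul_mem (mul_mem ht hg) (inv_mem ht)) (inv_mem hg),
        fun p => by simp only [orth_mul_apply, hgf', htv', hgf, htv], fun z => ?_⟩
    obtain ⟨y, rfl⟩ : ∃ y, g.1 (t.1 y) = z :=
      ⟨(t⁻¹).1 ((g⁻¹).1 z), by rw [orth_apply_inv_self, orth_apply_inv_self]⟩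
    simp only [orth_mul_apply, orth_inv_apply_self]
    obtain ⟨r, hr⟩ := hφ y
    obtain ⟨r', hr'⟩ := hφ (t.1 y)
    have hcu : d.ctr v (t.1 y) = d.ctr v y := S.ctr_eq_of_fix htv y
    rw [S.ctr_eq_of_fix hgf (t.1 y), hcu, hr, hr', hcu, map_add, map_add, htv,
      htz (φ (d.ctr v y))]
    refine ⟨r - r', ?_⟩
    simp only [one_smul, LinearMap.comp_apply, map_sub, LinearMap.sub_apply]
    abel
  obtain ⟨w, hw⟩ : ∃ w : A, w ≠ 0 := by
    haveI : Nontrivial A := Module.nontrivial_of_finrank_pos (R := F) (by have := S.two_le; omega)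
    exact exists_ne 0
  obtain ⟨r₀, hr₀⟩ := d.flip.exists_partner hw
  let Λ : B →ₗ[F] F :=
    { toFun := fun e => ω (d.ctr e (φ w)) r₀
      map_add' := fun a b => by rw [d.ctr_add, map_add, LinearMap.add_apply]
      map_smul' := fun c a => by rw [d.ctr_smul, map_smul, LinearMap.smul_apply, RingHom.id_apply] }
  set e₀ := (ω'.toDual d.ndB).symm Λ
  have he₀ : ∀ e, ω' e₀ e = ω (d.ctr e (φ w)) r₀ := fun e =>
    LinearMap.BilinForm.apply_toDual_symm_apply (B := ω') (hB := d.ndB) Λ e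
  refine ⟨e₀, by rw [d.skew', he₀, hφv, map_zero, LinearMap.zero_apply, neg_zero], fun z => ?_⟩
  have hcol : ∀ u, φ u - τ u e₀ = τ (d.ctr v' (φ u - τ u e₀)) v := fun u => d.eq_col hv' fun e hve => by
    obtain ⟨k, hk⟩ := key e hve
    rw [map_sub, d.ctr_tau, he₀, hk, hk, map_smul, LinearMap.smul_apply, hr₀, smul_eq_mul, mul_one, sub_self]
  obtain ⟨r, hr⟩ := hφ z
  refine ⟨d.ctr v' (φ (d.ctr v z) - τ (d.ctr v z) e₀) + r, ?_⟩
  rw [map_add τ, LinearMap.add_apply, ← hcol, hr]
  abel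

/-- An element fixing a column acts as a product on the vectors orthogonal to it. -/
theorem stab_perp {v : B} (hv : v ≠ 0) {h : orthGroup Q} (hh : h ∈ K) {x : A →ₗ[F] A}
    (hx : ∀ p, h.1 (τ p v) = τ (x p) v) {c : B} (hc : ω' v c = 0) :
    ∃ e, ω' v e = 0 ∧ ∀ p, h.1 (τ p c) = τ (x p) e := by
  have d := S.str
  by_cases hcv : c ∈ F ∙ v
  · obtain ⟨k, rfl⟩ := Submodule.mem_span_singleton.1 hcv
    exact ⟨k • v, hc, fun p => by rw [map_smul, map_smul, hx, map_smul]⟩
  have hxinj : Function.Injective x := (injective_iff_map_eq_zero x).2 fun p hp => by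
    have h1 := hx p
    rw [hp, map_zero, LinearMap.zero_apply, LinearEquiv.map_eq_zero_iff] at h1
    exact d.tau_inj hv (by rw [h1, map_zero, LinearMap.zero_apply])
  have hxsurj : Function.Surjective x := LinearMap.injective_iff_surjective.1 hxinj
  obtain ⟨x', hx'⟩ := d.exists_adj x
  have hcv' : ∀ z, d.ctr v ((h⁻¹).1 z) = x' (d.ctr v z) := fun z => d.ctr_unique fun q => by
    rw [hx', d.ctr_spec, ← hx, ← orth_polB_map h ((h⁻¹).1 z) (τ q v), orth_apply_inv_self]
  have hinvv : ∀ p, (h⁻¹).1 (τ (x p) v) = τ p v := fun p => by rw [← hx, orth_inv_apply_self]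
  -- the similitude
  obtain ⟨μ, hμ⟩ : ∃ μ : F, ∀ u, x (x' u) = μ • u := by
    obtain ⟨t, htΩ, htz, htt⟩ := d.exists_tvB v 1
    refine S.cen_scalar hv (M := x ∘ₗ x')
      (mul_mem (mul_mem hh (S.tens t ⟨LinearMap.id, _, htt⟩ htΩ)) (inv_mem hh)) fun z => ?_
    rw [orth_mul_apply, orth_mul_apply, htz, map_add, orth_apply_inv_self, one_smul, hx, hcv']
    rfl
  have hμ' : ∀ p, x' (x p) = μ • p := fun p => hxinj (by rw [hμ, map_smul])
  have hμ0 : μ ≠ 0 := by
    intro h0
    haveI : Nontrivial A := Module.nontrivial_of_finrank_pos (R := F) (by have := S.two_le; omega)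
    obtain ⟨p, hp⟩ := exists_ne (0 : A)
    obtain ⟨q, hq⟩ := d.flip.exists_partner hp
    obtain ⟨q', rfl⟩ := hxsurj q
    have h1 := hx' p q'
    rw [hq] at h1
    obtain ⟨p', rfl⟩ := hxsurj p
    rw [hμ', h0] at h1
    simp at h1
  -- the image of the column of `c`
  obtain ⟨σ, hσ, hσz⟩ := S.exists_sigma hc
  have hσv : ∀ p, σ.1 (τ p v) = τ p v := fun p => by
    rw [hσz, d.ctr_tau, d.ctr_tau, d.altB, hc]; simp
  obtain ⟨e₀, he₀, hshift⟩ := S.exists_shift hv (g := h * σ * h⁻¹)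
    (mul_mem (mul_mem hh hσ) (inv_mem hh))
    (fun p => by
      obtain ⟨p, rfl⟩ := hxsurj p
      rw [orth_mul_apply, orth_mul_apply, hinvv, hσv, hx])
    (fun z hz => by
      refine ⟨x (d.ctr c ((h⁻¹).1 z)), ?_⟩
      rw [orth_mul_apply, orth_mul_apply, hσz, map_add, map_add, orth_apply_inv_self, hcv', hz,
        map_zero, map_zero, LinearMap.zero_apply, map_zero, add_zero, hx])
  obtain ⟨v', hv'⟩ := d.exists_partner hv
  have himg : ∀ p, ∃ r, h.1 (τ p c) = τ (x p) (μ⁻¹ • e₀) + τ r v := by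
    intro p
    obtain ⟨r, hr⟩ := hshift (τ (x p) (-v'))
    rw [orth_mul_apply, orth_mul_apply, hσz, map_add, map_add, orth_apply_inv_self, hcv', hx,
      d.ctr_tau, map_neg ω', LinearMap.neg_apply, d.skew' v' v, hv', neg_neg, one_smul, hμ'] at hr
    refine ⟨μ⁻¹ • (r - x (d.ctr c ((h⁻¹).1 (τ (x p) (-v'))))), ?_⟩
    rw [map_smul τ, LinearMap.smul_apply, map_smul] at hr
    rw [map_smul, map_smul τ, LinearMap.smul_apply, map_sub τ, LinearMap.sub_apply, ← smul_add]
    apply smul_right_injective V hμ0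
    show μ • _ = μ • _
    rw [smul_smul μ μ⁻¹, mul_inv_cancel₀ hμ0, one_smul]
    linear_combination (norm := abel) hr
  set e := μ⁻¹ • e₀
  have hve : ω' v e = 0 := by rw [map_smul, he₀, smul_zero]
  let M : A →ₗ[F] A := (d.ctr v') ∘ₗ ((h.1 : V →ₗ[F] V) ∘ₗ τ.flip c - (τ.flip e) ∘ₗ x)
  have hM : ∀ p, h.1 (τ p c) = τ (x p) e + τ (M p) v := by
    intro p
    obtain ⟨r, hr⟩ := himg p
    have : M p = r := by
      show d.ctr v' (h.1 (τ p c) - τ (x p) e) = r
      rw [hr, add_sub_cancel_left, d.ctr_tau, hv', one_smul]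
    rw [this]; exact hr
  have he : e ∉ F ∙ v := by
    intro hm
    obtain ⟨k, hk⟩ := Submodule.mem_span_singleton.1 hm
    haveI : Nontrivial A := Module.nontrivial_of_finrank_pos (R := F) (by have := S.two_le; omega)
    obtain ⟨p, hp⟩ := exists_ne (0 : A)
    obtain ⟨p', hp'⟩ := hxsurj (k • x p + M p)
    have h1 : h.1 (τ p c) = h.1 (τ p' v) := by
      rw [hM, hx, hp', ← hk, map_smul, map_add τ, LinearMap.add_apply, map_smul τ, LinearMap.smul_apply]
    have h2 := h.1.injective h1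
    obtain ⟨q, hq, hq'⟩ := exists_dual d.ndB d.altB hcv
    have h3 := congrArg (d.ctr q) h2
    rw [d.ctr_tau, d.ctr_tau, hq', hq v (Submodule.mem_span_singleton_self v), one_smul, zero_smul] at h3
    exact hp h3
  -- the second component is a multiple of the first
  obtain ⟨M', hM'⟩ := d.exists_adj M
  obtain ⟨t, htΩ, htz, htt⟩ := d.exists_tvB c 1
  obtain ⟨s, hsΩ, hsz, hst⟩ := d.exists_tvB e (-μ)
  have ht : t ∈ K := S.tens t ⟨LinearMap.id, _, htt⟩ htΩ
  have hs : s ∈ K := S.tens s ⟨LinearMap.id, _, hst⟩ hsΩ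
  have hev : ω' e v = 0 := by rw [d.skew', hve, neg_zero]
  have hcc : ∀ z, d.ctr c ((h⁻¹).1 z) = x' (d.ctr e z) + M' (d.ctr v z) := fun z => d.ctr_unique fun q => by
    rw [map_add ω, LinearMap.add_apply, hx', hM', d.ctr_spec, d.ctr_spec,
      ← orth_polB_map h ((h⁻¹).1 z) (τ q c), orth_apply_inv_self, hM, map_add]
  obtain ⟨k, hk⟩ := S.lin_scalar hv hve he (L := x ∘ₗ M') ⟨h * t * h⁻¹ * s,
    mul_mem (mul_mem (mul_mem hh ht) (inv_mem hh)) hs, fun p => by
      obtain ⟨p, rfl⟩ := hxsurj p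
      have e1 : s.1 (τ (x p) v) = τ (x p) v := by rw [hsz, d.ctr_tau, hve]; simp
      have e2 : t.1 (τ p v) = τ p v := by rw [htz, d.ctr_tau, hc]; simp
      simp only [orth_mul_apply, e1, hinvv, e2, hx], fun z => by
      refine ⟨M (x' (d.ctr e z) + M' (d.ctr v z)), ?_⟩
      rw [orth_mul_apply, orth_mul_apply, orth_mul_apply, htz, map_add, orth_apply_inv_self, one_smul,
        hcc, hsz, hM]
      simp only [map_add, map_smul, neg_smul, map_neg, LinearMap.add_apply, LinearMap.neg_apply,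
        LinearMap.smul_apply, d.ctr_tau, d.altB, hev, zero_smul, smul_zero, add_zero, neg_zero,
        LinearMap.comp_apply, hμ, map_zero, LinearMap.zero_apply]
      abel⟩
  have hMx : ∀ p, M p = (k / μ) • x p := by
    intro p
    refine d.extA fun r => ?_
    have h1 : μ • M' r = k • x' r := by rw [← hμ' (M' r), show x (M' r) = k • r from hk r, map_smul]
    have h2 := congrArg (fun a => ω a p) h1
    simp only [map_smul, LinearMap.smul_apply, smul_eq_mul, hM', hx'] at h2
    rw [map_smul, LinearMap.smul_apply, smul_eq_mul, d.skew, d.skew (x p) r]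
    field_simp
    linear_combination -h2
  refine ⟨e + (k / μ) • v, by rw [map_add, hve, map_smul, d.altB]; simp, fun p => ?_⟩
  simp only [hM, hMx, map_add, map_smul, LinearMap.smul_apply]

/-- An element fixing a column is a tensor element. -/
theorem isTens_of_stab {v : B} (hv : v ≠ 0) {h : orthGroup Q} (hh : h ∈ K)
    (hW : ∀ p, ∃ r, h.1 (τ p v) = τ r v) : IsTens τ h := by
  have d := S.str
  obtain ⟨v', hv'⟩ := d.exists_partner hv
  let x : A →ₗ[F] A := d.ctr v' ∘ₗ (h.1 : V →ₗ[F] V) ∘ₗ τ.flip v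
  have hx : ∀ p, h.1 (τ p v) = τ (x p) v := fun p => by
    obtain ⟨r, hr⟩ := hW p
    have : x p = r := by
      show d.ctr v' (h.1 (τ p v)) = r
      rw [hr, d.ctr_tau, hv', one_smul]
    rw [this]; exact hr
  obtain ⟨c, c', hcv, hc', hcc', hcn⟩ : ∃ c c', ω' v c = 0 ∧ ω' v c' = 0 ∧ ω' c c' = 1 ∧ c ≠ 0 := by
    obtain ⟨v₁, e₁, a1, -, a3, -, a5⟩ := S.exists_pair_perp v v
    refine ⟨v₁, (ω' v₁ e₁)⁻¹ • e₁, by rw [d.skew', a1, neg_zero],
      by rw [map_smul, d.skew' v e₁, a3]; simp, by rw [map_smul, smul_eq_mul, inv_mul_cancel₀ a5],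
      fun h0 => a5 (by rw [h0]; simp)⟩
  obtain ⟨e, -, hce⟩ := S.stab_perp hv hh hx hcv
  have he : e ≠ 0 := by
    intro h0
    haveI : Nontrivial A := Module.nontrivial_of_finrank_pos (R := F) (by have := S.two_le; omega)
    obtain ⟨p, hp⟩ := exists_ne (0 : A)
    have h1 := hce p
    rw [h0, map_zero, LinearEquiv.map_eq_zero_iff] at h1
    exact hcn (d.tau_inj' hp (by rw [h1, map_zero]))
  obtain ⟨y, ⟨-, hy, g, hg, hgt⟩, hye⟩ := S.exists_toB he hcn
  have hgc : ∀ p, (g * h).1 (τ p c) = τ (x p) c := fun p => by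
    rw [orth_mul_apply, hce, hgt, hye]; rfl
  have hperp : ∀ w, ω' v w = 0 ∨ ω' c w = 0 → ∃ f, ∀ p, h.1 (τ p w) = τ (x p) f := by
    rintro w (hw | hw)
    · obtain ⟨f, -, hf⟩ := S.stab_perp hv hh hx hw
      exact ⟨f, hf⟩
    · obtain ⟨f, -, hf⟩ := S.stab_perp hcn (mul_mem hg hh) hgc hw
      obtain ⟨f', rfl⟩ := (isom_bijective d.ndB hy).2 f
      refine ⟨f', fun p => g.1.injective ?_⟩
      rw [← orth_mul_apply, hf, hgt]; rfl
  haveI : Nontrivial A := Module.nontrivial_of_finrank_pos (R := F) (by have := S.two_le; omega)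
  obtain ⟨p₀, hp₀⟩ := exists_ne (0 : A)
  obtain ⟨q₀, hq₀⟩ := d.flip.exists_partner (v := x p₀) (fun h0 => by
    have h1 := hx p₀
    rw [h0, map_zero, LinearMap.zero_apply, LinearEquiv.map_eq_zero_iff] at h1
    exact hp₀ (d.tau_inj hv (by rw [h1, map_zero, LinearMap.zero_apply])))
  refine ⟨x, d.flip.ctr q₀ ∘ₗ (h.1 : V →ₗ[F] V) ∘ₗ τ p₀, fun p u => ?_⟩
  obtain ⟨f, hf⟩ : ∃ f, ∀ p, h.1 (τ p u) = τ (x p) f := by
    set d₀ := v' + (-(ω' c v')) • c' with hd₀
    have h1 : ω' c d₀ = 0 := by rw [hd₀, map_add, map_smul, hcc']; simp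
    have h2 : ω' v d₀ = 1 := by rw [hd₀, map_add, map_smul, hv', hc']; simp
    obtain ⟨f₁, hf₁⟩ := hperp d₀ (Or.inr h1)
    obtain ⟨f₂, hf₂⟩ := hperp (u - ω' v u • d₀) (Or.inl (by rw [map_sub, map_smul, h2]; simp))
    refine ⟨f₂ + ω' v u • f₁, fun p => ?_⟩
    have e1 := hf₂ p
    rw [map_sub, map_sub, map_smul, map_smul, hf₁, sub_eq_iff_eq_add] at e1
    rw [e1, map_add, map_smul]
  have : f = d.flip.ctr q₀ (h.1 (τ p₀ u)) := by
    rw [hf, ← LinearMap.flip_apply τ, d.flip.ctr_tau, hq₀, one_smul]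
  rw [hf, this]
  rfl

theorem isTens_inv {g : orthGroup Q} (h : IsTens τ g) : IsTens τ g⁻¹ := by
  have d := S.str
  obtain ⟨x, y, hxy⟩ := h
  haveI : Nontrivial A := Module.nontrivial_of_finrank_pos (R := F) (by have := S.two_le; omega)
  haveI : Nontrivial B := Module.nontrivial_of_finrank_pos (R := F) (by have := S.six; omega)
  have hx : Function.Injective x := (injective_iff_map_eq_zero x).2 fun p hp => by
    obtain ⟨u, hu⟩ := exists_ne (0 : B)
    have h1 := hxy p u
    rw [hp, map_zero, LinearMap.zero_apply, LinearEquiv.map_eq_zero_iff] at h1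
    exact d.tau_inj hu (by rw [h1, map_zero, LinearMap.zero_apply])
  have hy : Function.Injective y := (injective_iff_map_eq_zero y).2 fun u hu => by
    obtain ⟨p, hp⟩ := exists_ne (0 : A)
    have h1 := hxy p u
    rw [hu, map_zero, LinearEquiv.map_eq_zero_iff] at h1
    exact d.tau_inj' hp (by rw [h1, map_zero])
  let X := LinearEquiv.ofInjectiveEndo x hx
  let Y := LinearEquiv.ofInjectiveEndo y hy
  refine ⟨X.symm.toLinearMap, Y.symm.toLinearMap, fun p u => g.1.injective ?_⟩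
  rw [orth_apply_inv_self, hxy]
  show τ p u = τ (X (X.symm p)) (Y (Y.symm u))
  rw [LinearEquiv.apply_symm_apply, LinearEquiv.apply_symm_apply]

/-- An element mapping a column onto a column is a tensor element. -/
theorem isTens_of_map {v u : B} (hv : v ≠ 0) (hu : u ≠ 0) {h : orthGroup Q} (hh : h ∈ K)
    (hW : ∀ p, ∃ r, h.1 (τ p v) = τ r u) : IsTens τ h := by
  obtain ⟨y, ⟨-, -, g, hg, hgt⟩, hyu⟩ := S.exists_toB hu hv
  have h1 : IsTens τ (g * h) := S.isTens_of_stab hv (mul_mem hg hh) fun p => by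
    obtain ⟨r, hr⟩ := hW p
    exact ⟨r, by rw [orth_mul_apply, hr, hgt, hyu]; rfl⟩
  have h2 := (S.isTens_inv ⟨LinearMap.id, y, hgt⟩).mul h1
  rwa [inv_mul_cancel_left] at h2

/-- An element conjugating a transvection to a tensor element is a tensor element. -/
theorem root_conj {h : orthGroup Q} (hh : h ∈ K) {b : B} (hb : b ≠ 0) {t : orthGroup Q}
    (ht : ∀ z, t.1 z = z + τ (S.str.ctr b z) b) (hT : IsTens τ (h * t * h⁻¹)) : IsTens τ h := by
  have d := S.str
  obtain ⟨x, y, hxy⟩ := hT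
  haveI : Nontrivial A := Module.nontrivial_of_finrank_pos (R := F) (by have := S.two_le; omega)
  obtain ⟨p₁, hp₁⟩ := exists_ne (0 : A)
  set U := LinearMap.range ((h.1 : V →ₗ[F] V) ∘ₗ τ.flip b) with hU
  have hUr : Module.finrank F U ≤ Module.finrank F A := LinearMap.finrank_range_le _
  have hmem : ∀ p u, τ (x p) (y u) - τ p u ∈ U := by
    intro p u
    refine ⟨d.ctr b ((h⁻¹).1 (τ p u)), ?_⟩
    rw [← hxy, orth_mul_apply, orth_mul_apply, ht, map_add, orth_apply_inv_self, add_sub_cancel_left]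
    rfl
  by_cases hxs : ∀ p, ∃ k : F, x p = k • p
  · obtain ⟨k, hk⟩ := scalar_of_lines x hxs
    set N := k • y - LinearMap.id with hN
    have hτ : ∀ p u, τ p (N u) = τ (x p) (y u) - τ p u := fun p u => by
      rw [hN, hk, map_smul τ, LinearMap.smul_apply, LinearMap.sub_apply, LinearMap.smul_apply,
        LinearMap.id_apply, map_sub, map_smul]
    obtain ⟨u, hu⟩ : ∃ u, N u ≠ 0 := by
      by_contra hcon
      push Not at hcon
      have h1 : h * t * h⁻¹ = 1 := d.orth_ext_tau fun p u => by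
        rw [hxy, orth_one_apply, ← sub_eq_zero, ← hτ, hcon, map_zero]
      have h2 : t = 1 := conj_eq_one_iff.1 h1
      obtain ⟨b', hb'⟩ := d.exists_partner hb
      have h3 := ht (τ p₁ b')
      rw [h2, orth_one_apply, d.ctr_tau, d.skew', hb', left_eq_add, neg_smul, one_smul] at h3
      refine hp₁ (neg_eq_zero.1 (d.tau_inj hb ?_))
      rw [h3, map_zero, LinearMap.zero_apply]
    have hle : LinearMap.range (τ.flip (N u)) ≤ U := by
      rintro _ ⟨p, rfl⟩
      rw [LinearMap.flip_apply, hτ]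
      exact hmem p u
    have heq : LinearMap.range (τ.flip (N u)) = U :=
      Submodule.eq_of_le_of_finrank_le hle (hUr.trans
        (LinearMap.finrank_range_of_inj (f := τ.flip (N u)) fun p q hpq => d.tau_inj hu hpq).ge)
    refine S.isTens_of_map hb hu hh fun p => ?_
    have : h.1 (τ p b) ∈ U := ⟨p, rfl⟩
    rw [← heq] at this
    obtain ⟨r, hr⟩ := this
    exact ⟨r, hr.symm⟩
  · exfalso
    push Not at hxs
    obtain ⟨p, hp⟩ := hxs
    have hn : x p ∉ F ∙ p := fun hm => by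
      obtain ⟨k, hk⟩ := Submodule.mem_span_singleton.1 hm
      exact hp k hk.symm
    obtain ⟨q, hq, hxq⟩ := exists_dual d.ndA d.altA hn
    let L : B →ₗ[F] U := (τ (x p) ∘ₗ y - τ p).codRestrict U (hmem p)
    have hL : Function.Injective L := (injective_iff_map_eq_zero L).2 fun f hf => by
      have h1 : τ (x p) (y f) - τ p f = 0 := congrArg Subtype.val hf
      have h2 := congrArg (d.flip.ctr q) h1
      rw [map_sub, map_zero, ← LinearMap.flip_apply τ (x p), ← LinearMap.flip_apply τ p, d.flip.ctr_tau,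
        d.flip.ctr_tau, hxq, hq p (Submodule.mem_span_singleton_self p), one_smul, zero_smul, sub_zero] at h2
      rw [h2, map_zero, zero_sub, neg_eq_zero] at h1
      by_cases hp0 : p = 0
      · exact absurd (by rw [hp0, map_zero, smul_zero] : x p = (0 : F) • p) (hp 0)
      · exact d.tau_inj' hp0 (by rw [h1, map_zero])
    have := LinearMap.finrank_le_finrank_of_injective hL
    have := S.lt
    omega

/-- The elements of `K` are tensor elements. -/
theorem all_tens {g : orthGroup Q} (hg : g ∈ K) : IsTens τ g := by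
  have d := S.str
  by_contra hgT
  suffices H : ∀ (j : ℕ) (g : orthGroup Q), g ∈ K → ¬ IsTens τ g → ∀ v u : B, v ≠ 0 → u ≠ 0 →
      Module.finrank F A - Module.finrank F
        ((LinearMap.range (τ.flip u)).comap ((g.1 : V →ₗ[F] V) ∘ₗ τ.flip v)) = j → False by
    haveI : Nontrivial B := Module.nontrivial_of_finrank_pos (R := F) (by have := S.six; omega)
    obtain ⟨v, hv⟩ := exists_ne (0 : B)
    exact H _ g hg hgT v v hv hv rfl
  clear hg hgT g
  intro j
  induction j using Nat.strong_induction_on with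
  | _ j ih =>
    intro g hg hgT v u hv hu hj
    set P := (LinearMap.range (τ.flip u)).comap ((g.1 : V →ₗ[F] V) ∘ₗ τ.flip v)
    have hPmem : ∀ {p}, p ∈ P → ∃ r, τ r u = g.1 (τ p v) := fun hp => hp
    by_cases hPtop : P = ⊤
    · refine hgT (S.isTens_of_map hv hu hg fun p => ?_)
      obtain ⟨r, hr⟩ := hPmem (p := p) (hPtop ▸ Submodule.mem_top)
      exact ⟨r, hr.symm⟩
    set R := (LinearMap.range (τ.flip v)).comap (((g⁻¹).1 : V →ₗ[F] V) ∘ₗ τ.flip u)
    have hRP : Module.finrank F P ≤ Module.finrank F R := by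
      obtain ⟨u', hu'⟩ := d.exists_partner hu
      let f : P →ₗ[F] R := ((d.ctr u' ∘ₗ (g.1 : V →ₗ[F] V) ∘ₗ τ.flip v).domRestrict P).codRestrict R
        fun p => by
          obtain ⟨r, hr⟩ := hPmem p.2
          refine ⟨p.1, ?_⟩
          show τ p.1 v = (g⁻¹).1 (τ (d.ctr u' (g.1 (τ p.1 v))) u)
          rw [← hr, d.ctr_tau, hu', one_smul, hr, orth_inv_apply_self]
      refine LinearMap.finrank_le_finrank_of_injective (f := f) ((injective_iff_map_eq_zero f).2 fun p hp => ?_)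
      obtain ⟨r, hr⟩ := hPmem p.2
      have h1 : d.ctr u' (g.1 (τ p.1 v)) = 0 := congrArg Subtype.val hp
      rw [← hr, d.ctr_tau, hu', one_smul] at h1
      rw [h1, map_zero, LinearMap.zero_apply, eq_comm, LinearEquiv.map_eq_zero_iff] at hr
      exact Subtype.ext (d.tau_inj hv (by rw [hr, ZeroMemClass.coe_zero, map_zero, LinearMap.zero_apply]))
    obtain ⟨r₀, hr₀⟩ : ∃ r₀, r₀ ∉ R := by
      by_contra hcon
      push Not at hcon
      apply hPtop
      rw [eq_top_iff]
      intro p _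
      obtain ⟨v', hv'⟩ := d.exists_partner hv
      let f : A →ₗ[F] A := d.ctr v' ∘ₗ ((g⁻¹).1 : V →ₗ[F] V) ∘ₗ τ.flip u
      have hf : ∀ r, (g⁻¹).1 (τ r u) = τ (f r) v := fun r => by
        obtain ⟨q, hq⟩ : ∃ q, τ q v = (g⁻¹).1 (τ r u) := hcon r
        have : f r = q := by
          show d.ctr v' ((g⁻¹).1 (τ r u)) = q
          rw [← hq, d.ctr_tau, hv', one_smul]
        rw [this, hq]
      have hfi : Function.Injective f := (injective_iff_map_eq_zero f).2 fun r hr => by
        have h1 := hf r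
        rw [hr, map_zero, LinearMap.zero_apply, LinearEquiv.map_eq_zero_iff] at h1
        exact d.tau_inj hu (by rw [h1, map_zero, LinearMap.zero_apply])
      obtain ⟨r, rfl⟩ := LinearMap.injective_iff_surjective.1 hfi p
      refine ⟨r, ?_⟩
      show τ r u = g.1 (τ (f r) v)
      rw [← hf, orth_apply_inv_self]
    let Φ : B →ₗ[F] A × F :=
      LinearMap.prod
        { toFun := fun b => d.ctr b ((g⁻¹).1 (τ r₀ u))
          map_add' := fun a b => d.ctr_add a b _
          map_smul' := fun c a => d.ctr_smul c a _ }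
        (ω' v)
    obtain ⟨b, hb, hb0⟩ : ∃ b ∈ LinearMap.ker Φ, b ≠ 0 := by
      refine Submodule.exists_mem_ne_zero_of_ne_bot (LinearMap.ker_ne_bot_of_finrank_lt ?_)
      rw [Module.finrank_prod, Module.finrank_self]
      have := S.lt
      omega
    rw [LinearMap.mem_ker] at hb
    have hb₁ : d.ctr b ((g⁻¹).1 (τ r₀ u)) = 0 := congrArg Prod.fst hb
    have hb₂ : ω' v b = 0 := congrArg Prod.snd hb
    obtain ⟨t, htΩ, htz, htt⟩ := d.exists_tvB b 1
    have ht : t ∈ K := S.tens t ⟨LinearMap.id, _, htt⟩ htΩ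
    have ht' : ∀ z, t.1 z = z + τ (d.ctr b z) b := fun z => by rw [htz, one_smul]
    set P' := (LinearMap.range (τ.flip u)).comap (((g * t * g⁻¹).1 : V →ₗ[F] V) ∘ₗ τ.flip u)
    have hRP' : ∀ r, r ∈ R ⊔ F ∙ r₀ → r ∈ P' := by
      intro r hr
      have hle : R ⊔ F ∙ r₀ ≤ P' := by
        refine sup_le (fun r' hr' => ?_) ((Submodule.span_singleton_le_iff_mem _ _).2 ?_)
        · obtain ⟨p, hp⟩ : ∃ p, τ p v = (g⁻¹).1 (τ r' u) := hr'
          refine ⟨r', ?_⟩
          show τ r' u = (g * t * g⁻¹).1 (τ r' u)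
          rw [orth_mul_apply, orth_mul_apply, ← hp, ht', d.ctr_tau, hb₂, zero_smul, map_zero,
            LinearMap.zero_apply, add_zero, hp, orth_apply_inv_self]
        · refine ⟨r₀, ?_⟩
          show τ r₀ u = (g * t * g⁻¹).1 (τ r₀ u)
          rw [orth_mul_apply, orth_mul_apply, ht', hb₁, map_zero, LinearMap.zero_apply, add_zero,
            orth_apply_inv_self]
      exact hle hr
    have hlt : R < R ⊔ F ∙ r₀ := lt_of_le_of_ne le_sup_left fun e => hr₀ (by
      rw [e]
      exact le_sup_right (a := R) (Submodule.mem_span_singleton_self r₀))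
    have h1 := Submodule.finrank_lt_finrank_of_lt hlt
    have h2 := Submodule.finrank_mono (show R ⊔ F ∙ r₀ ≤ P' from hRP')
    have h3 := Submodule.finrank_le P'
    refine ih (Module.finrank F A - Module.finrank F P') (by omega) (g * t * g⁻¹)
      (mul_mem (mul_mem hg ht) (inv_mem hg)) (fun hT => hgT (S.root_conj hg hb0 ht' hT)) u u hu hu rfl

end Small

end H42.SS
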