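import Mathlib
import Cfsg.Agent.H49.Transvec

/-!
Overgroups of a tensor product group: producing transvections from one new root element.
-/

set_option autoImplicit false
set_option linter.unusedSectionVars false

namespace H42.TensorMax

open scoped Kronecker MatrixGroups

variable {F : Type*} [Field F] {I J : Type} [Fintype I] [DecidableEq I] [Fintype J] [DecidableEq J]

/-- `H` has determinant one and contains the determinant-one Kronecker products. -/
structure Over (H : Subgroup (GL (I × J) F)) : Prop where
  det_one : ∀ g ∈ H, (g : Matrix (I × J) (I × J) F).det = 1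
  tens : ∀ (g : GL (I × J) F) (a : Matrix I I F) (b : Matrix J J F),
    (g : Matrix (I × J) (I × J) F).det = 1 → (g : Matrix (I × J) (I × J) F) = a ⊗ₖ b → g ∈ H

/-- `1 + Z` lies in `H`. -/
def OneAdd (H : Subgroup (GL (I × J) F)) (Z : Matrix (I × J) (I × J) F) : Prop :=
  ∃ g ∈ H, (g : Matrix (I × J) (I × J) F) = 1 + Z

variable {H : Subgroup (GL (I × J) F)}

theorem OneAdd.add {Z W : Matrix (I × J) (I × J) F} (hZ : OneAdd H Z) (hW : OneAdd H W)
    (h : Z * W = 0) : OneAdd H (Z + W) := by
  obtain ⟨g, hg, hge⟩ := hZ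
  obtain ⟨k, hk, hke⟩ := hW
  refine ⟨g * k, mul_mem hg hk, ?_⟩
  rw [Units.val_mul, hge, hke, mul_add, mul_one, add_mul, one_mul, h, add_zero, add_assoc]

theorem OneAdd.neg {Z : Matrix (I × J) (I × J) F} (hZ : OneAdd H Z) (h : Z * Z = 0) :
    OneAdd H (-Z) := by
  obtain ⟨g, hg, hge⟩ := hZ
  refine ⟨g⁻¹, inv_mem hg, ?_⟩
  have h1 : (g : Matrix (I × J) (I × J) F) * (1 + -Z) = 1 := by
    rw [hge, mul_add, mul_one, add_mul, one_mul, mul_neg, h, neg_zero, add_zero, add_neg_cancel_right]
  exact Units.inv_eq_of_mul_eq_one_right h1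

theorem OneAdd.sub {Z W : Matrix (I × J) (I × J) F} (hZ : OneAdd H Z) (hW : OneAdd H W)
    (h : Z * W = 0) (h' : W * W = 0) : OneAdd H (Z - W) := by
  rw [sub_eq_add_neg]
  exact hZ.add (hW.neg h') (by rw [mul_neg, h, neg_zero])

variable (hO : Over H)
include hO

theorem Over.one_add_tensor {a a' : Matrix I I F} {b b' : Matrix J J F} (ha : a * a' = 1)
    (hb : b * b' = 1) (hdet : (a ⊗ₖ b).det = 1) : ∃ g ∈ H,
      (g : Matrix (I × J) (I × J) F) = a ⊗ₖ b ∧ ((g⁻¹ : GL (I × J) F) : Matrix (I × J) (I × J) F) = a' ⊗ₖ b' := by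
  have h1 : a ⊗ₖ b * a' ⊗ₖ b' = 1 := by
    rw [← Matrix.mul_kronecker_mul, ha, hb, Matrix.one_kronecker_one]
  refine ⟨⟨a ⊗ₖ b, a' ⊗ₖ b', h1, mul_eq_one_comm.1 h1⟩, ?_, rfl, rfl⟩
  exact hO.tens _ a b hdet rfl

theorem Over.conj {a a' : Matrix I I F} {b b' : Matrix J J F} (ha : a * a' = 1)
    (hb : b * b' = 1) (hdet : (a ⊗ₖ b).det = 1) {M : Matrix I I F} {N : Matrix J J F}
    (h : OneAdd H (M ⊗ₖ N)) : OneAdd H ((a * M * a') ⊗ₖ (b * N * b')) := by
  obtain ⟨g, hg, hge, hgi⟩ := hO.one_add_tensor ha hb hdet
  obtain ⟨k, hk, hke⟩ := h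
  refine ⟨g * k * g⁻¹, mul_mem (mul_mem hg hk) (inv_mem hg), ?_⟩
  rw [Units.val_mul, Units.val_mul, hke, mul_add, mul_one, add_mul, hge, hgi,
    ← Matrix.mul_kronecker_mul, ha, hb, Matrix.one_kronecker_one, ← Matrix.mul_kronecker_mul,
    ← Matrix.mul_kronecker_mul]

theorem Over.conj_right {j l : J} (hjl : j ≠ l) (c : F) {M : Matrix I I F} {N : Matrix J J F}
    (h : OneAdd H (M ⊗ₖ N)) :
    OneAdd H (M ⊗ₖ (Matrix.transvection j l c * N * Matrix.transvection j l (-c))) := by
  have hb : Matrix.transvection j l c * Matrix.transvection j l (-c) = 1 := by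
    rw [Matrix.transvection_mul_transvection_same _ _ hjl, add_neg_cancel, Matrix.transvection_zero]
  have := hO.conj (one_mul (1 : Matrix I I F)) hb (by
    rw [Matrix.det_kronecker, Matrix.det_one, Matrix.det_transvection_of_ne _ _ hjl]; simp) h
  simpa using this

theorem Over.conj_left {a b : I} (hab : a ≠ b) (c : F) {M : Matrix I I F} {N : Matrix J J F}
    (h : OneAdd H (M ⊗ₖ N)) :
    OneAdd H ((Matrix.transvection a b c * M * Matrix.transvection a b (-c)) ⊗ₖ N) := by
  have ha : Matrix.transvection a b c * Matrix.transvection a b (-c) = 1 := by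
    rw [Matrix.transvection_mul_transvection_same _ _ hab, add_neg_cancel, Matrix.transvection_zero]
  have := hO.conj ha (one_mul (1 : Matrix J J F)) (by
    rw [Matrix.det_kronecker, Matrix.det_one, Matrix.det_transvection_of_ne _ _ hab]; simp) h
  simpa using this

omit hO in
theorem kron_sq_zero {j l : J} (hjl : j ≠ l) (M M' : Matrix I I F) (c d : F) :
    (M ⊗ₖ Matrix.single j l c) * (M' ⊗ₖ Matrix.single j l d) = 0 := by
  rw [← Matrix.mul_kronecker_mul, Matrix.single_mul_single_of_ne _ _ _ _ hjl.symm,
    Matrix.kronecker_zero]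

omit hO in
theorem smul_kron_single (c : F) (M : Matrix I I F) (j l : J) :
    (c • M) ⊗ₖ Matrix.single j l (1 : F) = M ⊗ₖ Matrix.single j l c := by
  rw [Matrix.smul_kronecker, ← Matrix.kronecker_smul, Matrix.smul_single, smul_eq_mul, mul_one]

/-- Move the row index. -/
theorem Over.moveRow {M : Matrix I I F} {j l m : J} (hjl : j ≠ l) (hmj : m ≠ j) (hml : m ≠ l) {c d : F}
    (h : OneAdd H (M ⊗ₖ Matrix.single j l d)) : OneAdd H (M ⊗ₖ Matrix.single m l (c * d)) := by
  have h1 := hO.conj_right hmj c h
  have e : Matrix.transvection m j c * Matrix.single j l d * Matrix.transvection m j (-c) =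
      Matrix.single j l d + Matrix.single m l (c * d) := by
    simp only [Matrix.transvection, add_mul, one_mul, mul_add, mul_one,
      Matrix.single_mul_single_same, Matrix.single_mul_single_of_ne _ _ _ _ hml.symm, add_zero]
  rw [e, Matrix.kronecker_add] at h1
  have h2 := h1.sub h (by
    rw [add_mul, kron_sq_zero hjl, zero_add, ← Matrix.mul_kronecker_mul,
      Matrix.single_mul_single_of_ne _ _ _ _ hjl.symm, Matrix.kronecker_zero]) (kron_sq_zero hjl ..)
  rwa [add_sub_cancel_left] at h2

/-- Move the column index. -/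
theorem Over.moveCol {M : Matrix I I F} {j l m : J} (hjl : j ≠ l) (hmj : m ≠ j) (hml : m ≠ l) {c d : F}
    (h : OneAdd H (M ⊗ₖ Matrix.single j l d)) : OneAdd H (M ⊗ₖ Matrix.single j m (d * c)) := by
  have h1 := hO.conj_right hml.symm (-c) h
  have e : Matrix.transvection l m (-c) * Matrix.single j l d * Matrix.transvection l m (- -c) =
      Matrix.single j l d + Matrix.single j m (d * c) := by
    simp only [Matrix.transvection, add_mul, one_mul, mul_add, mul_one, neg_neg,
      Matrix.single_mul_single_same, Matrix.single_mul_single_of_ne _ _ _ _ hmj,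
      zero_mul, add_zero]
  rw [e, Matrix.kronecker_add] at h1
  have h2 := h1.sub h (by
    rw [add_mul, kron_sq_zero hjl, zero_add, ← Matrix.mul_kronecker_mul,
      Matrix.single_mul_single_of_ne _ _ _ _ hmj, Matrix.kronecker_zero]) (kron_sq_zero hjl ..)
  rwa [add_sub_cancel_left] at h2

/-- All `M ⊗ E_{jl}` are present. -/
def AllPos (H : Subgroup (GL (I × J) F)) (M : Matrix I I F) : Prop :=
  ∀ (j l : J), j ≠ l → ∀ c : F, OneAdd H (M ⊗ₖ Matrix.single j l c)

theorem Over.allPos_of_one (hJ : 3 ≤ Fintype.card J) {M : Matrix I I F} {j₀ l₀ : J} (h0 : j₀ ≠ l₀)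
    (h : OneAdd H (M ⊗ₖ Matrix.single j₀ l₀ 1)) : AllPos H M := by
  have third : ∀ a b : J, ∃ m, m ≠ a ∧ m ≠ b := fun a b => by
    obtain ⟨m, hm⟩ : ∃ m, m ∉ ({a, b} : Finset J) := by
      by_contra hcon
      push_neg at hcon
      have h1 := Finset.card_le_card (fun x _ => hcon x : (Finset.univ : Finset J) ⊆ {a, b})
      rw [Finset.card_univ] at h1
      have := (Finset.card_le_two : ({a, b} : Finset J).card ≤ 2)
      omega
    simp only [Finset.mem_insert, Finset.mem_singleton, not_or] at hm
    exact ⟨m, hm⟩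
  -- scalar multiples at the same place
  have hsame : ∀ c, OneAdd H (M ⊗ₖ Matrix.single j₀ l₀ c) := by
    intro c
    obtain ⟨m, hm1, hm2⟩ := third j₀ l₀
    have h1 := hO.moveRow (c := c) h0 hm1 hm2 h
    have h2 := hO.moveRow (c := 1) hm2 hm1.symm h0 h1
    simpa using h2
  -- change of column
  have hcol : ∀ {j l : J}, j ≠ l → (∀ c, OneAdd H (M ⊗ₖ Matrix.single j l c)) →
      ∀ {m}, j ≠ m → ∀ c, OneAdd H (M ⊗ₖ Matrix.single j m c) := by
    intro j l hjl hh m hjm c
    by_cases hm : m = l
    · rw [hm]; exact hh c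
    · simpa using hO.moveCol (c := c) hjl hjm.symm hm (hh 1)
  -- change of row
  have hrow : ∀ {j l : J}, j ≠ l → (∀ c, OneAdd H (M ⊗ₖ Matrix.single j l c)) →
      ∀ {m}, m ≠ l → ∀ c, OneAdd H (M ⊗ₖ Matrix.single m l c) := by
    intro j l hjl hh m hml c
    by_cases hm : m = j
    · rw [hm]; exact hh c
    · simpa using hO.moveRow (c := c) hjl hm hml (hh 1)
  intro j l hjl
  by_cases hl : l = j₀
  · obtain ⟨m, hm1, hm2⟩ := third j₀ l₀
    exact hrow (hl.symm ▸ hm1 : m ≠ l) (hcol hm2 (hrow h0 hsame hm2) (hl.symm ▸ hm1)) hjl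
  · exact hrow (Ne.symm hl) (hcol h0 hsame (Ne.symm hl)) hjl

omit hO in
theorem AllPos.smul {M : Matrix I I F} (h : AllPos H M) (a : F) : AllPos H (a • M) := by
  intro j l hjl c
  have : (a • M) ⊗ₖ Matrix.single j l c = M ⊗ₖ Matrix.single j l (a * c) := by
    rw [Matrix.smul_kronecker, ← Matrix.kronecker_smul, Matrix.smul_single, smul_eq_mul]
  rw [this]
  exact h j l hjl _

omit hO in
theorem AllPos.sub {M M' : Matrix I I F} (h : AllPos H M) (h' : AllPos H M') : AllPos H (M - M') := by
  intro j l hjl c
  have := (h j l hjl c).sub (h' j l hjl c) (kron_sq_zero hjl ..) (kron_sq_zero hjl ..)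
  convert this using 1
  rw [eq_sub_iff_add_eq, ← Matrix.add_kronecker, sub_add_cancel]

theorem Over.allPos_op {M : Matrix I I F} (h : AllPos H M) {a b : I} (hab : a ≠ b) (c : F) :
    AllPos H (Matrix.single a b c * M - M * Matrix.single a b c - Matrix.single a b c * M * Matrix.single a b c) := by
  have h1 : AllPos H (Matrix.transvection a b c * M * Matrix.transvection a b (-c)) :=
    fun j l hjl d => hO.conj_left hab c (h j l hjl d)
  have h2 := h1.sub h
  convert h2 using 1
  simp only [Matrix.transvection, add_mul, one_mul, mul_add, mul_one, ← Matrix.single_neg, mul_neg]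
  abel

omit hO in
theorem single_mul_entry (a b : I) (M : Matrix I I F) (i j : I) :
    (Matrix.single a b (1 : F) * M) i j = if i = a then M b j else 0 := by
  split_ifs with h
  · subst h; rw [Matrix.single_mul_apply_same, one_mul]
  · rw [Matrix.single_mul_apply_of_ne _ _ _ _ _ h]

omit hO in
theorem mul_single_entry (a b : I) (M : Matrix I I F) (i j : I) :
    (M * Matrix.single a b (1 : F)) i j = if j = b then M i a else 0 := by
  split_ifs with h
  · subst h; rw [Matrix.mul_single_apply_same, mul_one]
  · rw [Matrix.mul_single_apply_of_ne _ _ _ _ _ h]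

omit hO in
theorem single_entry (a b : I) (t : F) (i j : I) :
    Matrix.single a b t i j = if i = a ∧ j = b then t else 0 := by
  rw [Matrix.single_apply]
  simp [eq_comm]

omit hO in
theorem AllPos.single_scale {a b : I} (h : AllPos H (Matrix.single a b (1 : F))) (c : F) :
    AllPos H (Matrix.single a b c) := by
  have := h.smul c
  rwa [Matrix.smul_single, smul_eq_mul, mul_one] at this

/-- A non-scalar `M` yields a matrix unit. -/
theorem Over.exists_single {M : Matrix I I F} (h : AllPos H M) (hM : ∀ t : F, M ≠ t • 1)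
    (hbig : 3 ≤ Fintype.card I ∨ ∃ d : F, d ≠ 0 ∧ d ≠ 1) :
    ∃ a b, a ≠ b ∧ AllPos H (Matrix.single a b (1 : F)) := by
  by_cases hoff : ∃ a b, a ≠ b ∧ M b a ≠ 0
  · obtain ⟨a, b, hab, hba⟩ := hoff
    have hop : ∀ c, AllPos H (c • (Matrix.single a b 1 * M - M * Matrix.single a b 1) -
        Matrix.single a b (c * c * M b a)) := by
      intro c
      have := hO.allPos_op h hab c
      convert this using 1
      rw [Matrix.single_mul_mul_single, smul_sub, ← Matrix.smul_mul, ← Matrix.mul_smul, Matrix.smul_single,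
        smul_eq_mul, mul_one, mul_right_comm]
    rcases hbig with h3 | ⟨d, hd0, hd1⟩
    · obtain ⟨c, hca, hcb⟩ : ∃ c, c ≠ a ∧ c ≠ b := by
        by_contra hcon
        push_neg at hcon
        have h1 : (Finset.univ : Finset I) ⊆ {a, b} := fun x _ => by
          rcases eq_or_ne x a with h | h
          · simp [h]
          · simp [hcon x h]
        have h1 := Finset.card_le_card h1
        rw [Finset.card_univ] at h1
        have := (Finset.card_le_two : ({a, b} : Finset I).card ≤ 2)
        omega
      have hD := hop 1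
      have hD' := hO.allPos_op (hO.allPos_op hD hcb 1) (show a ≠ c from hca.symm) 1
      refine ⟨a, b, hab, ?_⟩
      have := (hD'.smul (-(M b a)⁻¹))
      convert this using 1
      set t := M b a with ht
      set D := (1 : F) • (Matrix.single a b 1 * M - M * Matrix.single a b 1) -
        Matrix.single a b (1 * 1 * t) with hDdef
      have hDe : ∀ i j, D i j = (if i = a then M b j else 0) - (if j = b then M i a else 0) -
          (if i = a ∧ j = b then t else 0) := by
        intro i j
        rw [hDdef]
        simp only [one_smul, one_mul, Matrix.sub_apply, single_mul_entry, mul_single_entry,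
          single_entry]
      set D1 := Matrix.single c b 1 * D - D * Matrix.single c b 1 -
        Matrix.single c b 1 * D * Matrix.single c b 1 with hD1def
      have hD1e : ∀ i j, D1 i j = if j = b then (-(if i = c then t else 0) - (if i = a then M b c else 0)) else 0 := by
        intro i j
        rw [hD1def, Matrix.sub_apply, Matrix.sub_apply, single_mul_entry, mul_single_entry,
          Matrix.single_mul_mul_single, single_entry, hDe, hDe, hDe]
        simp only [hca, hcb, hab.symm, ← ht, if_false, false_and]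
        split_ifs <;> simp_all
      ext i j
      rw [Matrix.smul_apply, Matrix.sub_apply, Matrix.sub_apply, single_mul_entry, mul_single_entry,
        Matrix.single_mul_mul_single, single_entry, single_entry, hD1e, hD1e, hD1e]
      simp only [hca, hca.symm, hab, if_false, if_true, smul_eq_mul]
      split_ifs <;> simp_all
    · refine ⟨a, b, hab, ?_⟩
      have h2 := ((hop 1).smul d).sub (hop d)
      have h3 := h2.smul ((d * d - d) * M b a)⁻¹
      convert h3 using 1
      have hne : (d * d - d) * M b a ≠ 0 := by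
        refine mul_ne_zero (fun e => ?_) hba
        exact hd1 (mul_left_cancel₀ hd0 (by linear_combination e))
      ext i j
      simp only [Matrix.smul_apply, Matrix.sub_apply, smul_eq_mul, Matrix.single_apply]
      split_ifs with hij
      · field_simp; ring
      · ring
  · push_neg at hoff
    obtain ⟨a, b, hab, hne⟩ : ∃ a b, a ≠ b ∧ M a a ≠ M b b := by
      by_contra hcon
      push_neg at hcon
      rcases isEmpty_or_nonempty I with hI | ⟨⟨i₀⟩⟩
      · exact hM 0 (Matrix.ext fun i => isEmptyElim i)
      refine hM (M i₀ i₀) (Matrix.ext fun i j => ?_)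
      rcases eq_or_ne i j with rfl | hij
      · rcases eq_or_ne i i₀ with rfl | hi
        · simp
        · simp [hcon i i₀ hi]
      · simp [hij, hoff j i hij.symm]
    refine ⟨a, b, hab, ?_⟩
    have := (hO.allPos_op h hab 1).smul (M b b - M a a)⁻¹
    convert this using 1
    have hne' : M b b - M a a ≠ 0 := sub_ne_zero.2 hne.symm
    ext i j
    rw [Matrix.smul_apply, Matrix.sub_apply, Matrix.sub_apply, single_mul_entry, mul_single_entry,
      Matrix.single_mul_mul_single, single_entry, single_entry, hoff a b hab, smul_eq_mul]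
    simp only [mul_zero, zero_mul, ite_self, sub_zero]
    rcases eq_or_ne i a with hi | hi <;> rcases eq_or_ne j b with hj | hj
    · simp [hi, hj, hne']
    · simp [hi, hj, hoff j b hj]
    · simp [hi, hj, hoff a i (Ne.symm hi)]
    · simp [hi, hj]

/-- Matrix units spread. -/
theorem Over.allPos_singles (hbig : 3 ≤ Fintype.card I ∨ ∃ d : F, d ≠ 0 ∧ d ≠ 1)
    {a b : I} (hab : a ≠ b) (h : AllPos H (Matrix.single a b (1 : F))) :
    ∀ i j, i ≠ j → AllPos H (Matrix.single i j (1 : F)) := by
  have flipR : ∀ {a b i : I}, a ≠ b → AllPos H (Matrix.single a b (1 : F)) → i ≠ a → i ≠ b →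
      AllPos H (Matrix.single i b (1 : F)) := by
    intro a b i hab h hia hib
    have := hO.allPos_op h hia 1
    convert this using 1
    rw [Matrix.single_mul_single_same, Matrix.single_mul_single_of_ne _ _ _ _ (Ne.symm hib),
      Matrix.single_mul_single_of_ne _ _ _ _ (Ne.symm hib)]
    simp
  have flipC : ∀ {a b j : I}, a ≠ b → AllPos H (Matrix.single a b (1 : F)) → j ≠ a → j ≠ b →
      AllPos H (Matrix.single a j (1 : F)) := by
    intro a b j hab h hja hjb
    have := (hO.allPos_op h hjb.symm 1).smul (-1)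
    convert this using 1
    rw [Matrix.single_mul_single_same, Matrix.single_mul_single_of_ne _ _ _ _ hja]
    simp
  intro i j hij
  by_cases h1 : j = a
  · subst h1
    by_cases h2 : ∃ m, m ≠ j ∧ m ≠ b
    · obtain ⟨m, hm1, hm2⟩ := h2
      -- (j,b) → (m,b) → (m,j) → (i,j)
      have hmb := flipR hab h hm1 hm2
      have hmj := flipC hm2 hmb hm1.symm hab
      by_cases him : i = m
      · rw [him]; exact hmj
      · exact flipR hm1 hmj him hij
    · push_neg at h2
      have hib : i = b := h2 i hij
      subst hib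
      rcases hbig with h3 | ⟨d, hd0, hd1⟩
      · exfalso
        have h1 : (Finset.univ : Finset I) ⊆ {i, j} := fun x _ => by
          rcases eq_or_ne x j with hx | hx
          · simp [hx]
          · simp [h2 x hx]
        have h1 := Finset.card_le_card h1
        rw [Finset.card_univ] at h1
        have := (Finset.card_le_two : ({i, j} : Finset I).card ≤ 2)
        omega
      · have hop := fun c => hO.allPos_op h (show i ≠ j from hij) c
        have h2 := ((hop 1).smul d).sub (hop d)
        have h3 := h2.smul (d * d - d)⁻¹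
        convert h3 using 1
        have hne : d * d - d ≠ 0 := fun e => hd1 (mul_left_cancel₀ hd0 (by linear_combination e))
        simp only [Matrix.single_mul_single_same, smul_sub, Matrix.smul_single, smul_eq_mul]
        ext x y
        simp only [Matrix.sub_apply, single_entry]
        split_ifs with p q r <;> (field_simp; ring)
  · by_cases h2 : j = b
    · subst h2
      by_cases hia : i = a
      · subst hia; exact h
      · exact flipR hab h hia hij
    · have h3 := flipC hab h h1 h2
      by_cases hia : i = a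
      · subst hia; exact h3
      · exact flipR (fun e => h1 e.symm) h3 hia hij

/-- One non-scalar root element gives all of `SL`. -/
theorem Over.sl_le (hJ : 3 ≤ Fintype.card J) (hI : 2 ≤ Fintype.card I)
    (hbig : 3 ≤ Fintype.card I ∨ ∃ d : F, d ≠ 0 ∧ d ≠ 1)
    {M : Matrix I I F} (h : AllPos H M) (hM : ∀ t : F, M ≠ t • 1)
    (g : GL (I × J) F) (hg : (g : Matrix (I × J) (I × J) F).det = 1) : g ∈ H := by
  obtain ⟨a, b, hab, h1⟩ := hO.exists_single h hM hbig
  have hall := hO.allPos_singles hbig hab h1
  haveI : Nontrivial I := Fintype.one_lt_card_iff_nontrivial.1 hI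
  haveI : Nontrivial J := Fintype.one_lt_card_iff_nontrivial.1 (by omega)
  have key : ∀ (a b : I) (i j : J), a ≠ b → i ≠ j → ∀ c,
      OneAdd H (Matrix.single (a, i) (b, j) c : Matrix (I × J) (I × J) F) := by
    intro a b i j hab hij c
    have := hall a b hab i j hij c
    rwa [Matrix.single_kronecker_single, one_mul] at this
  -- composition of root elements
  have comp : ∀ {u v w : I × J}, u ≠ v → v ≠ w → u ≠ w → (∀ c, OneAdd H (Matrix.single u v c)) →
      (∀ c, OneAdd H (Matrix.single v w c)) → ∀ c, OneAdd H (Matrix.single u w c) := by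
    intro u v w huv hvw huw hX hY c
    obtain ⟨x, hx, hxe⟩ := hX c
    obtain ⟨y, hy, hye⟩ := hY 1
    have hxi : ((x⁻¹ : GL (I × J) F) : Matrix (I × J) (I × J) F) = 1 + Matrix.single u v (-c) :=
      Units.inv_eq_of_mul_eq_one_right (by
        rw [hxe]
        show Matrix.transvection u v c * Matrix.transvection u v (-c) = 1
        rw [Matrix.transvection_mul_transvection_same _ _ huv, add_neg_cancel, Matrix.transvection_zero])
    have hyi : ((y⁻¹ : GL (I × J) F) : Matrix (I × J) (I × J) F) = 1 + Matrix.single v w (-1) :=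
      Units.inv_eq_of_mul_eq_one_right (by
        rw [hye]
        show Matrix.transvection v w (1 : F) * Matrix.transvection v w (-1) = 1
        rw [Matrix.transvection_mul_transvection_same _ _ hvw, add_neg_cancel, Matrix.transvection_zero])
    refine ⟨x * y * x⁻¹ * y⁻¹, mul_mem (mul_mem (mul_mem hx hy) (inv_mem hx)) (inv_mem hy), ?_⟩
    rw [Units.val_mul, Units.val_mul, Units.val_mul, hxe, hye, hxi, hyi]
    simp only [add_mul, mul_add, one_mul, mul_one, Matrix.single_mul_single_same,
      Matrix.single_mul_single_of_ne _ _ _ _ huv.symm, Matrix.single_mul_single_of_ne _ _ _ _ hvw.symm,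
      Matrix.single_mul_single_of_ne _ _ _ _ huw.symm, ← Matrix.single_neg, mul_neg, neg_mul, add_zero,
      zero_mul, neg_zero, neg_neg]
    abel
  have hrow : ∀ (a : I) (i j : J), i ≠ j → ∀ c, OneAdd H (Matrix.single (a, i) (a, j) c : Matrix (I × J) (I × J) F) := by
    intro a i j hij
    obtain ⟨b, hb⟩ := exists_ne a
    obtain ⟨m, hm⟩ : ∃ m, m ∉ ({i, j} : Finset J) := by
      by_contra hcon
      push_neg at hcon
      have h1 := Finset.card_le_card (fun x _ => hcon x : (Finset.univ : Finset J) ⊆ {i, j})
      rw [Finset.card_univ] at h1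
      have := (Finset.card_le_two : ({i, j} : Finset J).card ≤ 2)
      omega
    simp only [Finset.mem_insert, Finset.mem_singleton, not_or] at hm
    exact comp (u := (a, i)) (v := (b, m)) (w := (a, j)) (by simp [hb.symm]) (by simp [hb])
      (by simp [hij]) (key a b i m hb.symm (Ne.symm hm.1)) (key b a m j hb hm.2)
  have hall' : ∀ u v : I × J, u ≠ v → ∀ c, OneAdd H (Matrix.single u v c) := by
    rintro ⟨a, i⟩ ⟨b, j⟩ huv
    by_cases hab : a = b
    · subst hab
      exact hrow a i j (fun e => huv (by rw [e]))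
    · by_cases hij : i = j
      · subst hij
        obtain ⟨m, hm⟩ := exists_ne i
        exact comp (u := (a, i)) (v := (b, m)) (w := (b, i)) (by simp [hab]) (by simp [hm]) huv
          (key a b i m hab hm.symm) (hrow b m i hm)
      · exact key a b i j hab hij
  refine H49.sl_le_of_elem_mem H (fun u v huv c => ?_) g hg
  obtain ⟨k, hk, hke⟩ := hall' u v huv c
  convert hk using 1
  apply Units.ext
  rw [hke, H49.elem, H49.tr_val, H49.trM]
  congr 1
  ext x y
  rw [Matrix.vecMulVec_apply, Matrix.single_apply, Pi.single_apply, Pi.single_apply]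
  by_cases hx : x = u <;> by_cases hy : y = v
  · simp [hx, hy]
  · simp [hx, hy, Ne.symm hy]
  · simp [hx, hy, Ne.symm hx]
  · simp [hx, hy, Ne.symm hx]

end H42.TensorMax
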