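import Cfsg.Agent.H42.TensorElem
import Cfsg.Agent.H42.SubspaceMove

/-!
Overgroups of a tensor product group are tensor or contain `SL`.
-/

set_option autoImplicit false
set_option linter.unusedSectionVars false

namespace H42.TensorMax

open scoped Kronecker MatrixGroups Matrix

variable {F : Type*} [Field F] {I J : Type} [Fintype I] [DecidableEq I] [Fintype J] [DecidableEq J]

/-- The invertible matrix is a Kronecker product. -/
def IsT (g : GL (I × J) F) : Prop :=
  ∃ (a : Matrix I I F) (b : Matrix J J F), (g : Matrix (I × J) (I × J) F) = a ⊗ₖ b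

/-- `x ↦ x ⊗ v`. -/
def col (v : J → F) : (I → F) →ₗ[F] (I × J → F) where
  toFun x := fun p => x p.1 * v p.2
  map_add' x y := by funext p; simp [add_mul]
  map_smul' c x := by funext p; simp [mul_assoc]

/-- The tensor column. -/
def W (v : J → F) : Submodule F (I × J → F) := LinearMap.range (col (I := I) v)

theorem col_injective {v : J → F} (hv : v ≠ 0) : Function.Injective (col (I := I) v) := by
  obtain ⟨j, hj⟩ := Function.ne_iff.1 hv
  intro x y h
  funext a
  exact mul_right_cancel₀ hj (congrFun h (a, j))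

theorem finrank_W {v : J → F} (hv : v ≠ 0) : Module.finrank F (W (I := I) v) = Fintype.card I := by
  rw [W, LinearMap.finrank_range_of_inj (col_injective hv), Module.finrank_pi]

theorem col_smul (v : J → F) (c : F) (x : I → F) : col (I := I) (c • v) x = col v (c • x) := by
  funext p
  show x p.1 * (c • v) p.2 = (c • x) p.1 * v p.2
  simp only [Pi.smul_apply, smul_eq_mul]; ring

theorem kron_mulVec_col (a : Matrix I I F) (b : Matrix J J F) (v : J → F) (x : I → F) :
    (a ⊗ₖ b) *ᵥ col v x = col (b *ᵥ v) (a *ᵥ x) := by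
  funext ⟨i, j⟩
  show ∑ q : I × J, (a ⊗ₖ b) (i, j) q * (x q.1 * v q.2) = (∑ k, a i k * x k) * ∑ l, b j l * v l
  rw [Fintype.sum_prod_type, Finset.sum_mul_sum]
  refine Finset.sum_congr rfl fun k _ => Finset.sum_congr rfl fun l _ => ?_
  rw [Matrix.kroneckerMap_apply]; ring

/-- The contraction by `φ`. -/
def ctr (φ : J → F) : (I × J → F) →ₗ[F] (I → F) where
  toFun w := fun a => ∑ j, φ j * w (a, j)
  map_add' x y := by funext a; simp [mul_add, Finset.sum_add_distrib]
  map_smul' c x := by funext a; simp [Finset.mul_sum, mul_left_comm]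

theorem root_mulVec (v φ : J → F) (w : I × J → F) :
    ((1 : Matrix I I F) ⊗ₖ Matrix.vecMulVec v φ) *ᵥ w = col v (ctr φ w) := by
  funext ⟨i, j⟩
  show ∑ q : I × J, ((1 : Matrix I I F) ⊗ₖ Matrix.vecMulVec v φ) (i, j) q * w q = (∑ l, φ l * w (i, l)) * v j
  rw [Fintype.sum_prod_type, Finset.sum_mul, Finset.sum_eq_single i]
  · refine Finset.sum_congr rfl fun l _ => ?_
    rw [Matrix.kroneckerMap_apply, Matrix.one_apply_eq, Matrix.vecMulVec_apply]; ring
  · intro k _ hk
    refine Finset.sum_eq_zero fun l _ => ?_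
    rw [Matrix.kroneckerMap_apply, Matrix.one_apply_ne hk.symm]; ring
  · simp

theorem IsT.mul {g k : GL (I × J) F} (hg : IsT g) (hk : IsT k) : IsT (g * k) := by
  obtain ⟨a, b, hg⟩ := hg
  obtain ⟨c, d, hk⟩ := hk
  exact ⟨a * c, b * d, by rw [Units.val_mul, hg, hk, Matrix.mul_kronecker_mul]⟩

theorem IsT.inv [Nonempty I] [Nonempty J] {g : GL (I × J) F} (hg : IsT g) : IsT g⁻¹ := by
  obtain ⟨a, b, hg⟩ := hg
  have hd : (g : Matrix (I × J) (I × J) F).det ≠ 0 :=
    ((Matrix.isUnit_iff_isUnit_det _).1 g.isUnit).ne_zero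
  rw [hg, Matrix.det_kronecker] at hd
  have ha : a.det ≠ 0 := fun h => hd (by rw [h, zero_pow Fintype.card_ne_zero, zero_mul])
  have hb : b.det ≠ 0 := fun h => hd (by rw [h, zero_pow Fintype.card_ne_zero, mul_zero])
  refine ⟨a⁻¹, b⁻¹, Units.inv_eq_of_mul_eq_one_right ?_⟩
  rw [hg, ← Matrix.mul_kronecker_mul, Matrix.mul_nonsing_inv _ (isUnit_iff_ne_zero.2 ha),
    Matrix.mul_nonsing_inv _ (isUnit_iff_ne_zero.2 hb), Matrix.one_kronecker_one]

variable {H : Subgroup (GL (I × J) F)}

theorem OneAdd.conjGen {Z : Matrix (I × J) (I × J) F} (hZ : OneAdd H Z) {g : GL (I × J) F} (hg : g ∈ H) :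
    OneAdd H ((g : Matrix (I × J) (I × J) F) * Z * ((g⁻¹ : GL (I × J) F) : Matrix (I × J) (I × J) F)) := by
  obtain ⟨k, hk, hke⟩ := hZ
  refine ⟨g * k * g⁻¹, mul_mem (mul_mem hg hk) (inv_mem hg), ?_⟩
  rw [Units.val_mul, Units.val_mul, hke, mul_add, mul_one, add_mul, ← Units.val_mul, mul_inv_cancel,
    Units.val_one]

/-- The hypotheses of the maximality argument. -/
structure Small (H : Subgroup (GL (I × J) F)) : Prop where
  ov : Over H
  two_le : 2 ≤ Fintype.card I
  lt : Fintype.card I < Fintype.card J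
  scalar : ∀ (M : Matrix I I F) (j l : J), j ≠ l → OneAdd H (M ⊗ₖ Matrix.single j l 1) → ∃ t : F, M = t • 1

variable (hS : Small H)
include hS

theorem Small.root_mem {v φ : J → F} (h : φ ⬝ᵥ v = 0) :
    OneAdd H ((1 : Matrix I I F) ⊗ₖ Matrix.vecMulVec v φ) := by
  have h1 : (1 + Matrix.vecMulVec v φ) * (1 + Matrix.vecMulVec v (-φ)) = (1 : Matrix J J F) := by
    show H49.trM v φ * H49.trM v (-φ) = 1
    rw [H49.trM_mul v φ (-φ) h, add_neg_cancel, H49.trM_zero]
  obtain ⟨g, hg, hge, -⟩ := hS.ov.one_add_tensor (one_mul (1 : Matrix I I F)) h1 (by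
    rw [Matrix.det_kronecker, Matrix.det_one, show (1 + Matrix.vecMulVec v φ).det = 1 from
      (H49.det_trM v φ).trans (by rw [h, add_zero])]
    simp)
  exact ⟨g, hg, by rw [hge, Matrix.kronecker_add, Matrix.one_kronecker_one]⟩

/-- The shape of `H ∩ Q`. -/
theorem Small.q_shape (j₀ : J) {Z : Matrix (I × J) (I × J) F} (hZ : OneAdd H Z)
    (hrow : ∀ p q, p.2 ≠ j₀ → Z p q = 0) (hcol : ∀ p q, q.2 = j₀ → Z p q = 0) :
    ∃ ψ : J → F, ψ j₀ = 0 ∧ Z = (1 : Matrix I I F) ⊗ₖ Matrix.vecMulVec (Pi.single j₀ 1) ψ := by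
  have h3 : 3 ≤ Fintype.card J := by have := hS.two_le; have := hS.lt; omega
  have hZZ : Z * Z = 0 := by
    ext p q
    rw [Matrix.mul_apply]
    refine Finset.sum_eq_zero fun r _ => ?_
    by_cases hr : r.2 = j₀
    · rw [hcol p r hr, zero_mul]
    · rw [hrow r q hr, mul_zero]
  have hcomp : ∀ l, l ≠ j₀ → ∃ t : F, (Matrix.of fun a b => Z (a, j₀) (b, l)) = t • (1 : Matrix I I F) := by
    intro l hl
    obtain ⟨m, hm⟩ : ∃ m, m ∉ ({j₀, l} : Finset J) := by
      by_contra hcon
      push_neg at hcon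
      have h1 := Finset.card_le_card (fun x _ => hcon x : (Finset.univ : Finset J) ⊆ {j₀, l})
      rw [Finset.card_univ] at h1
      have := (Finset.card_le_two : ({j₀, l} : Finset J).card ≤ 2)
      omega
    simp only [Finset.mem_insert, Finset.mem_singleton, not_or] at hm
    obtain ⟨g, hg, hge, hgi⟩ := hS.ov.one_add_tensor (one_mul (1 : Matrix I I F))
      (show Matrix.transvection l m (-1 : F) * Matrix.transvection l m 1 = 1 by
        rw [Matrix.transvection_mul_transvection_same _ _ (Ne.symm hm.2), neg_add_cancel,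
          Matrix.transvection_zero])
      (by rw [Matrix.det_kronecker, Matrix.det_one, Matrix.det_transvection_of_ne _ _ (Ne.symm hm.2)]; simp)
    have h1 := hZ.conjGen hg
    rw [hge, hgi] at h1
    set X : Matrix (I × J) (I × J) F := (1 : Matrix I I F) ⊗ₖ Matrix.single l m (1 : F) with hX
    have hXe : ∀ p q, X p q = if p.1 = q.1 ∧ p.2 = l ∧ q.2 = m then 1 else 0 := by
      intro p q
      rw [hX, Matrix.kroneckerMap_apply, Matrix.one_apply, single_entry]
      split_ifs <;> simp_all
    have hXZ : X * Z = 0 := by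
      ext p q
      rw [Matrix.mul_apply]
      refine Finset.sum_eq_zero fun r _ => ?_
      by_cases hr : r.2 = m
      · rw [hrow r q (hr ▸ hm.1), mul_zero]
      · rw [hXe, if_neg (fun e => hr e.2.2), zero_mul]
    have hZX : Z * X = (Matrix.of fun a b => Z (a, j₀) (b, l)) ⊗ₖ Matrix.single j₀ m (1 : F) := by
      ext ⟨a, i⟩ ⟨b, k⟩
      rw [Matrix.mul_apply, Matrix.kroneckerMap_apply, single_entry]
      rw [Finset.sum_eq_single (b, l)]
      · rw [hXe]
        by_cases hk : k = m
        · by_cases hi : i = j₀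
          · subst hi hk; simp
          · simp [hrow (a, i) (b, l) hi, hi]
        · simp [hk]
      · rintro ⟨c, d⟩ _ hne
        rw [hXe, if_neg, mul_zero]
        rintro ⟨e1, e2, -⟩
        exact hne (Prod.ext e1 e2)
      · simp
    have e : ((1 : Matrix I I F) ⊗ₖ Matrix.transvection l m (-1)) * Z *
        ((1 : Matrix I I F) ⊗ₖ Matrix.transvection l m 1) = Z + Z * X := by
      have e1 : (1 : Matrix I I F) ⊗ₖ Matrix.transvection l m (-1 : F) = 1 - X := by
        rw [Matrix.transvection, Matrix.kronecker_add, Matrix.one_kronecker_one, hX, sub_eq_add_neg]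
        congr 1
        rw [← Matrix.single_neg]
        ext p q
        simp
      have e2 : (1 : Matrix I I F) ⊗ₖ Matrix.transvection l m (1 : F) = 1 + X := by
        rw [Matrix.transvection, Matrix.kronecker_add, Matrix.one_kronecker_one, hX]
      rw [e1, e2, sub_mul, one_mul, hXZ, sub_zero, mul_add, mul_one]
    rw [e] at h1
    have h2 := h1.sub hZ (by
      rw [add_mul, hZZ, zero_add, mul_assoc, hXZ, mul_zero]) hZZ
    rw [add_sub_cancel_left, hZX] at h2
    exact hS.scalar _ j₀ m (Ne.symm hm.1) h2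
  choose! t ht using hcomp
  refine ⟨fun l => if l = j₀ then 0 else t l, if_pos rfl, ?_⟩
  ext ⟨a, i⟩ ⟨b, k⟩
  rw [Matrix.kroneckerMap_apply, Matrix.vecMulVec_apply]
  by_cases hi : i = j₀
  · subst hi
    by_cases hk : k = i
    · subst hk; simp [hcol (a, k) (b, k) rfl]
    · have := congrFun (congrFun (ht k hk) a) b
      simp only [Matrix.of_apply, Matrix.smul_apply, smul_eq_mul] at this
      simp [this, hk, mul_comm]
  · simp [hrow (a, i) (b, k) hi, hi]

/-- Stabilisers of the standard column are tensor. -/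
theorem Small.isT_of_stab (j₀ : J) {h : GL (I × J) F} (hh : h ∈ H)
    (hW : ∀ x, (h : Matrix (I × J) (I × J) F) *ᵥ col (Pi.single j₀ 1) x ∈ W (I := I) (Pi.single j₀ 1)) :
    IsT h := by
  have hv : (Pi.single j₀ 1 : J → F) ≠ 0 := by simp
  set v : J → F := Pi.single j₀ 1 with hvdef
  set h' : Matrix (I × J) (I × J) F := (h : Matrix (I × J) (I × J) F) with hh'
  set k' : Matrix (I × J) (I × J) F := ((h⁻¹ : GL (I × J) F) : Matrix (I × J) (I × J) F) with hk'
  have hinj : Function.Injective (h' *ᵥ ·) := Matrix.mulVec_injective_of_isUnit h.isUnit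
  have hkW : ∀ x, k' *ᵥ col v x ∈ W (I := I) v := by
    intro x
    have hle : (W (I := I) v).map (Matrix.toLin' h') ≤ W v := by
      rintro _ ⟨_, ⟨y, rfl⟩, rfl⟩
      exact hW y
    have heq : (W (I := I) v).map (Matrix.toLin' h') = W v :=
      Submodule.eq_of_le_of_finrank_eq hle (Submodule.equivMapOfInjective _ hinj _).finrank_eq.symm
    obtain ⟨w, hw, hwe⟩ := heq.ge ⟨x, rfl⟩
    rw [Matrix.toLin'_apply] at hwe
    rw [← hwe, hk', hh', Matrix.mulVec_mulVec, ← Units.val_mul, inv_mul_cancel, Units.val_one, Matrix.one_mulVec]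
    exact hw
  have hzero : ∀ g : Matrix (I × J) (I × J) F, (∀ x, g *ᵥ col v x ∈ W (I := I) v) →
      ∀ p b, p.2 ≠ j₀ → g p (b, j₀) = 0 := by
    intro g hg p b hp
    obtain ⟨y, hy⟩ := hg (Pi.single b 1)
    have h1 := congrFun hy p
    have h2 : col v (Pi.single b (1 : F)) = (Pi.single (b, j₀) 1 : I × J → F) := by
      funext ⟨c, d⟩
      show (Pi.single b 1 : I → F) c * (Pi.single j₀ 1 : J → F) d = _
      by_cases hc : c = b <;> by_cases hd : d = j₀ <;> simp [hc, hd]
    rw [h2, Matrix.mulVec_single_one] at h1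
    rw [show g.col (b, j₀) p = g p (b, j₀) from rfl] at h1
    rw [← h1]
    show y p.1 * (Pi.single j₀ 1 : J → F) p.2 = 0
    simp [hp]
  have hh0 := hzero h' hW
  have hk0 := hzero k' hkW
  have hψ : ∀ l, l ≠ j₀ → ∃ ψ : J → F, ψ j₀ = 0 ∧
      h' * ((1 : Matrix I I F) ⊗ₖ Matrix.single j₀ l 1) =
        ((1 : Matrix I I F) ⊗ₖ Matrix.vecMulVec v ψ) * h' := by
    intro l hl
    have hA : OneAdd H ((1 : Matrix I I F) ⊗ₖ Matrix.single j₀ l (1 : F)) := by
      have := hS.root_mem (v := v) (φ := Pi.single l 1) (by simp [hvdef, hl.symm])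
      convert this using 2
      ext i k
      rw [single_entry, Matrix.vecMulVec_apply, hvdef]
      by_cases hi : i = j₀ <;> by_cases hk : k = l <;> simp [hi, hk]
    have hZ := hA.conjGen hh
    rw [← hh', ← hk'] at hZ
    set A : Matrix (I × J) (I × J) F := (1 : Matrix I I F) ⊗ₖ Matrix.single j₀ l (1 : F) with hAdef
    have hhA : ∀ p q, (h' * A) p q = if q.2 = l then h' p (q.1, j₀) else 0 := by
      intro p q
      rw [Matrix.mul_apply, Finset.sum_eq_single (q.1, j₀)]
      · rw [hAdef, Matrix.kroneckerMap_apply, Matrix.one_apply_eq, single_entry]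
        by_cases hq : q.2 = l <;> simp [hq]
      · rintro ⟨c, d⟩ _ hne
        rw [hAdef, Matrix.kroneckerMap_apply, single_entry]
        by_cases hc : c = q.1
        · have : d ≠ j₀ := fun e => hne (Prod.ext hc e)
          simp [this]
        · simp [Matrix.one_apply_ne hc]
      · simp
    obtain ⟨ψ, hψ0, hψe⟩ := hS.q_shape j₀ hZ
      (fun p q hp => by
        rw [Matrix.mul_apply]
        refine Finset.sum_eq_zero fun r _ => ?_
        rw [hhA]
        split_ifs
        · rw [hh0 p r.1 hp, zero_mul]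
        · rw [zero_mul])
      (fun p q hq => by
        rw [Matrix.mul_apply]
        refine Finset.sum_eq_zero fun r _ => ?_
        rw [hhA]
        split_ifs with hr
        · rw [show q = (q.1, j₀) from Prod.ext rfl hq, hk0 r q.1 (hr ▸ hl), mul_zero]
        · rw [zero_mul])
    refine ⟨ψ, hψ0, ?_⟩
    rw [← hψe, mul_assoc _ k' h', hk', hh', ← Units.val_mul, inv_mul_cancel, Units.val_one, mul_one]
  choose! ψ hψ0 hψe using hψ
  let S : Matrix J J F := Matrix.of fun l i => if l = j₀ then (if i = j₀ then 1 else 0) else ψ l i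
  let x : Matrix I I F := Matrix.of fun a b => h' (a, j₀) (b, j₀)
  have hrowS : ∀ a l b m, ((((1 : Matrix I I F) ⊗ₖ S) * h') (a, l) (b, m)) =
      if l = j₀ then h' (a, j₀) (b, m) else if m = l then x a b else 0 := by
    intro a l b m
    have e : (((1 : Matrix I I F) ⊗ₖ S) * h') (a, l) (b, m) = ∑ i, S l i * h' (a, i) (b, m) := by
      rw [Matrix.mul_apply, Fintype.sum_prod_type, Finset.sum_eq_single a]
      · simp [Matrix.kroneckerMap_apply]
      · intro c _ hc; simp [Matrix.kroneckerMap_apply, Matrix.one_apply_ne hc.symm]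
      · simp
    rw [e]
    by_cases hl : l = j₀
    · rw [if_pos hl, Finset.sum_eq_single j₀]
      · simp [S, hl]
      · intro i _ hi; simp [S, hl, hi]
      · simp
    · rw [if_neg hl]
      have h1 := congrFun (congrFun (hψe l hl) (a, j₀)) (b, m)
      rw [Matrix.mul_apply, Finset.sum_eq_single (b, j₀)] at h1
      · rw [Matrix.mul_apply, Fintype.sum_prod_type, Finset.sum_eq_single a] at h1
        · simp only [Matrix.kroneckerMap_apply, Matrix.one_apply_eq, one_mul, Matrix.vecMulVec_apply,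
            single_entry, hvdef, Pi.single_eq_same] at h1
          simp only [S, Matrix.of_apply, if_neg hl]
          rw [← h1]
          by_cases hm : m = l <;> simp [hm, x]
        · intro c _ hc; simp [Matrix.kroneckerMap_apply, Matrix.one_apply_ne hc.symm]
        · simp
      · rintro ⟨c, d⟩ _ hne
        rw [Matrix.kroneckerMap_apply, single_entry]
        by_cases hc : c = b
        · have : d ≠ j₀ := fun e => hne (Prod.ext hc e)
          simp [this]
        · simp [Matrix.one_apply_ne hc]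
      · simp
  have hxinj : Function.Injective (x *ᵥ ·) := by
    intro y z hyz
    apply col_injective (I := I) hv
    apply hinj
    have key : ∀ y, h' *ᵥ col v y = col v (x *ᵥ y) := by
      intro y
      obtain ⟨w, hw⟩ := hW y
      rw [← hw]
      congr 1
      funext a
      have h1 := congrFun hw (a, j₀)
      simp only [col, LinearMap.coe_mk, AddHom.coe_mk, hvdef, Pi.single_eq_same, mul_one] at h1
      rw [h1]
      show ∑ q : I × J, h' (a, j₀) q * (y q.1 * (Pi.single j₀ 1 : J → F) q.2) = ∑ b, x a b * y b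
      rw [Fintype.sum_prod_type]
      refine Finset.sum_congr rfl fun b _ => ?_
      rw [Finset.sum_eq_single j₀]
      · simp [x]
      · intro d _ hd; simp [hd]
      · simp
    show h' *ᵥ col v y = h' *ᵥ col v z
    rw [key, key]
    exact congrArg _ hyz
  have hxdet : x.det ≠ 0 :=
    ((Matrix.isUnit_iff_isUnit_det _).1 (Matrix.mulVec_injective_iff_isUnit.1 hxinj)).ne_zero
  set R : Matrix (I × J) (I × J) F :=
    Matrix.of fun p q => if p.2 = j₀ ∧ q.2 ≠ j₀ then h' (p.1, j₀) (q.1, q.2) else 0 with hR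
  set Z' := (x⁻¹ ⊗ₖ (1 : Matrix J J F)) * R with hZ'
  have hrow' : ∀ p q, p.2 ≠ j₀ → Z' p q = 0 := by
    intro p q hp
    rw [hZ', Matrix.mul_apply]
    refine Finset.sum_eq_zero fun r _ => ?_
    by_cases hr : r.2 = j₀
    · rw [Matrix.kroneckerMap_apply, Matrix.one_apply_ne (by rw [hr]; exact hp), mul_zero, zero_mul]
    · simp [hR, hr]
  have hcol' : ∀ p q, q.2 = j₀ → Z' p q = 0 := by
    intro p q hq
    rw [hZ', Matrix.mul_apply]
    exact Finset.sum_eq_zero fun r _ => by simp [hR, hq]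
  have hmain : ((1 : Matrix I I F) ⊗ₖ S) * h' = (x ⊗ₖ (1 : Matrix J J F)) * (1 + Z') := by
    rw [hZ', mul_add, mul_one, ← mul_assoc, ← Matrix.mul_kronecker_mul,
      Matrix.mul_nonsing_inv _ (isUnit_iff_ne_zero.2 hxdet), one_mul, Matrix.one_kronecker_one, one_mul]
    ext ⟨a, l⟩ ⟨b, m⟩
    rw [hrowS, Matrix.add_apply, Matrix.kroneckerMap_apply]
    dsimp only
    by_cases hl : l = j₀
    · by_cases hm : m = j₀
      · simp [hR, hl, hm, x, Matrix.one_apply]
      · simp [hR, hl, hm, Matrix.one_apply, Ne.symm hm]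
    · by_cases hm : m = l
      · simp [hR, hl, hm, Matrix.one_apply]
      · simp [hR, hl, hm, Matrix.one_apply, Ne.symm hm]
  have hdetZ : (1 + Z').det = 1 := by
    set P : Matrix (I × J) (I × J) F := (1 : Matrix I I F) ⊗ₖ Matrix.single j₀ j₀ (1 : F) with hP
    have hPe : ∀ p q, P p q = if p.1 = q.1 ∧ p.2 = j₀ ∧ q.2 = j₀ then 1 else 0 := by
      intro p q
      rw [hP, Matrix.kroneckerMap_apply, Matrix.one_apply, single_entry]
      split_ifs <;> simp_all
    have h1 : P * Z' = Z' := by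
      ext p q
      rw [Matrix.mul_apply, Finset.sum_eq_single p]
      · by_cases hp : p.2 = j₀
        · simp [hPe, hp]
        · simp [hrow' p q hp]
      · intro r _ hr
        rw [hPe, if_neg, zero_mul]
        rintro ⟨e1, e2, e3⟩
        exact hr (Prod.ext e1.symm (e3.trans e2.symm))
      · simp
    have h2 : Z' * P = 0 := by
      ext p q
      rw [Matrix.mul_apply]
      refine Finset.sum_eq_zero fun r _ => ?_
      by_cases hr : r.2 = j₀
      · simp [hcol' p r hr]
      · simp [hPe, hr]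
    rw [← h1, Matrix.det_one_add_mul_comm, h2, add_zero, Matrix.det_one]
  have hhdet : h'.det = 1 := hS.ov.det_one h hh
  haveI : Nonempty J := ⟨j₀⟩
  haveI : Nonempty I := Fintype.card_pos_iff.1 (by have := hS.two_le; omega)
  have hdets := congrArg Matrix.det hmain
  rw [Matrix.det_mul, Matrix.det_mul, hdetZ, hhdet, mul_one, mul_one] at hdets
  have hSdet : S.det ≠ 0 := by
    intro e
    rw [Matrix.det_kronecker, e, zero_pow Fintype.card_ne_zero, mul_zero, Matrix.det_kronecker,
      Matrix.det_one, one_pow, mul_one] at hdets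
    exact pow_ne_zero _ hxdet hdets.symm
  have hSi : (1 : Matrix I I F) ⊗ₖ S⁻¹ * ((1 : Matrix I I F) ⊗ₖ S) = 1 := by
    rw [← Matrix.mul_kronecker_mul, one_mul, Matrix.nonsing_inv_mul _ (isUnit_iff_ne_zero.2 hSdet),
      Matrix.one_kronecker_one]
  have hfac : h' = (x ⊗ₖ S⁻¹) * (1 + Z') := by
    calc h' = ((1 : Matrix I I F) ⊗ₖ S⁻¹) * (((1 : Matrix I I F) ⊗ₖ S) * h') := by
          rw [← mul_assoc, hSi, one_mul]
      _ = _ := by rw [hmain, ← mul_assoc, ← Matrix.mul_kronecker_mul, one_mul, mul_one]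
  have htdet : (x ⊗ₖ S⁻¹).det = 1 := by
    have := congrArg Matrix.det hfac
    rwa [Matrix.det_mul, hdetZ, mul_one, hhdet, eq_comm] at this
  obtain ⟨g, hg, hge, hgi⟩ := hS.ov.one_add_tensor
    (Matrix.mul_nonsing_inv x (isUnit_iff_ne_zero.2 hxdet))
    (show S⁻¹ * S = 1 from Matrix.nonsing_inv_mul _ (isUnit_iff_ne_zero.2 hSdet)) htdet
  have hZ1 : OneAdd H Z' := by
    refine ⟨g⁻¹ * h, mul_mem (inv_mem hg) hh, ?_⟩
    rw [Units.val_mul, ← hh', hfac, ← mul_assoc, ← hge, ← Units.val_mul, inv_mul_cancel, Units.val_one,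
      one_mul]
  obtain ⟨χ, -, hχ⟩ := hS.q_shape j₀ hZ1 hrow' hcol'
  refine ⟨x, S⁻¹ * (1 + Matrix.vecMulVec v χ), ?_⟩
  show h' = _
  rw [hfac, hχ, ← Matrix.one_kronecker_one (α := F) (m := I) (n := J), ← Matrix.kronecker_add,
    ← Matrix.mul_kronecker_mul, mul_one]

end H42.TensorMax
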