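import Cfsg.Agent.H49.TensTwo

/-!
First factor of dimension two and fields with at least four elements: the pairing of least rank has no kernel.

The root element and its conjugate generate a copy of `SL₂` on the moved columns. Its commutators act trivially on
the column of the kernel modulo the moved part, and one of them fixes a column, hence is a root element. Only the
trivial one is both.
-/

set_option autoImplicit false
set_option linter.unusedSectionVars false

namespace H49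

namespace TS

variable {F : Type*} [Field F] [Fintype F]
  {V₁ : Type*} [AddCommGroup V₁] [Module F V₁] [FiniteDimensional F V₁]
  {V₂ : Type*} [AddCommGroup V₂] [Module F V₂] [FiniteDimensional F V₂]
  {V : Type*} [AddCommGroup V] [Module F V] [FiniteDimensional F V]
  {d : TS F V₁ V₂ V} {H : Subgroup (V ≃ₗ[F] V)}

variable (hO : d.Over H) (hS : d.Small H) {r : ℕ} {u v : V₁} {g : V ≃ₗ[F] V} {l : F}
  (hm : Least d H r) (hd : Dat d H r u g l) (hn : Module.finrank F V₁ = 2) (huv : d.ω u v = 1)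
include hO hS hm hd hn huv

/-- A kernel of the pairing is impossible when a scalar other than zero has square different from one. -/
theorem Dat.false_of_radical {t : F} (ht : t ≠ 0) (htt : t * t ≠ 1) {k : V₂} (hk : S d u g k = 0)
    (hk0 : k ≠ 0) : False := by
  classical
  have hvu : d.ω v u = -1 := by rw [d.ω_swap, huv]
  set A := S d u g with hA
  set R := LinearMap.range A with hR
  have hAR : ∀ x ∈ R, A x = l • x := fun x hx => Dat.range_apply hO hS hm hd hx
  -- a partner of `k`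
  obtain ⟨k', hk', hkk'⟩ : ∃ k', A k' = 0 ∧ d.β k k' = 1 := by
    obtain ⟨y, hy, hne⟩ : ∃ y, A y = 0 ∧ d.β k y ≠ 0 := by
      by_contra hcon
      simp only [not_exists, not_and, not_not] at hcon
      exact hk0 (Dat.ker_nondeg hO hS hm hd hn huv k (LinearMap.mem_ker.2 hk)
        fun y hy => hcon y (LinearMap.mem_ker.1 hy))
    exact ⟨(d.β k y)⁻¹ • y, by rw [map_smul, hy, smul_zero],
      by rw [map_smul, smul_eq_mul, inv_mul_cancel₀ hne]⟩
  obtain ⟨m, hmx⟩ : ∃ m, ∀ x, d.β m x = d.β (d.C v (τ d u g x)) k' :=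
    ⟨(d.β.toDual d.β_nd).symm ((d.β.flip k').comp (d.C v ∘ₗ τ d u g)), fun x =>
      LinearMap.BilinForm.apply_toDual_symm_apply (hB := d.β_nd) _ _⟩
  set z := d.t v k' + d.t u (-l⁻¹ • m) with hz
  set z₀ := d.t v k with hz₀
  have hτA : ∀ x, τ d u g x = l⁻¹ • τ d u g (A x) := fun x => by
    have := hd.τker _ (Dat.proj hO hS hm hd x)
    rwa [map_sub, map_smul, sub_eq_zero] at this
  have hzk : ∀ x, d.f (d.t u x) z = d.β x k' := fun x => by
    rw [hz, map_add, d.f_t, d.f_t, huv, d.ω_alt, one_mul, zero_mul, add_zero]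
  have hzu : ∀ x ∈ R, d.f (d.t u x) z = 0 := fun x hx => by
    rw [hzk, Dat.β_ker hO hS hm hd hx hk']
  have hzτ : ∀ x, d.f (τ d u g x) z = 0 := fun x => by
    rw [Dat.two_decomp hO hS hm hd hn huv (τ d u g x), C_τ, hz]
    simp only [map_sub, LinearMap.sub_apply, map_add, d.f_t, huv, hvu, d.ω_alt, map_smul, smul_eq_mul]
    have h1 : d.β (A x) m = l * d.β (d.C v (τ d u g x)) k' := by
      rw [d.β_symm, hmx]
      conv_rhs => rw [hτA x, map_smul, map_smul, LinearMap.smul_apply, smul_eq_mul, ← mul_assoc,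
        mul_inv_cancel₀ hd.lne, one_mul]
    rw [← hA, h1]
    field_simp [hd.lne]
    ring
  clear_value z
  -- elements acting on the moved columns by a matrix
  let P : (V ≃ₗ[F] V) → Matrix (Fin 2) (Fin 2) F → Prop := fun y M =>
    y ∈ H ∧ (∀ x, A x = 0 → y (d.t u x) = d.t u x) ∧
      (∀ x ∈ R, y (d.t u x) = M 0 0 • d.t u x + M 1 0 • τ d u g x ∧
        y (τ d u g x) = M 0 1 • d.t u x + M 1 1 • τ d u g x) ∧ d.C u (y z₀ - z₀) ∈ R
  let χ : (V ≃ₗ[F] V) → F := fun y => d.f (y z₀ - z₀) z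
  have hlift : ∀ y M, P y M → ∀ w, d.C u w ∈ R → d.C u (y w) ∈ R ∧ d.f (y w) z = d.f w z := by
    intro y M hy w hw
    set x' := l⁻¹ • d.C u w with hx'
    have hx'R : x' ∈ R := R.smul_mem _ hw
    obtain ⟨p, hp⟩ : ∃ p, w = τ d u g x' + d.t u p := by
      refine ⟨d.C v (w - τ d u g x'), ?_⟩
      have h := Dat.two_decomp hO hS hm hd hn huv (w - τ d u g x')
      rw [map_sub (d.C u), C_τ, ← hA, hAR x' hx'R, hx', smul_smul, mul_inv_cancel₀ hd.lne, one_smul, sub_self,
        map_zero, sub_zero] at h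
      rw [← h, add_sub_cancel]
    set p₁ := l⁻¹ • A p with hp₁
    have hp₁R : p₁ ∈ R := R.smul_mem _ ⟨p, rfl⟩
    have hp₂ : A (p - p₁) = 0 := Dat.proj hO hS hm hd p
    have hy1 : y (d.t u p) = d.t u (p - p₁) + (M 0 0 • d.t u p₁ + M 1 0 • τ d u g p₁) := by
      rw [← (hy.2.2.1 p₁ hp₁R).1, ← hy.2.1 _ hp₂, ← map_add, ← map_add, sub_add_cancel]
    rw [hp, map_add, hy1, (hy.2.2.1 x' hx'R).2]
    refine ⟨?_, ?_⟩
    · simp only [map_add, map_smul, d.C_t, d.ω_alt, zero_smul, smul_zero, C_τ, ← hA, zero_add]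
      exact R.add_mem (R.smul_mem _ ⟨_, rfl⟩) (R.smul_mem _ ⟨_, rfl⟩)
    · simp only [map_add, map_smul, LinearMap.add_apply, LinearMap.smul_apply, hzτ, hzu _ hp₁R, hzu _ hx'R,
        smul_zero, zero_add, add_zero]
      conv_rhs => rw [← sub_add_cancel p p₁, map_add, map_add, LinearMap.add_apply, hzu _ hp₁R, add_zero]
  have hmul : ∀ y M y' M', P y M → P y' M' → P (y * y') (M * M') ∧ χ (y * y') = χ y + χ y' := by
    intro y M y' M' hy hy'
    have hsplit : (y * y') z₀ - z₀ = y (y' z₀ - z₀) + (y z₀ - z₀) := by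
      show y (y' z₀) - z₀ = _
      rw [map_sub]; abel
    obtain ⟨h1, h2⟩ := hlift y M hy _ hy'.2.2.2
    refine ⟨⟨mul_mem hy.1 hy'.1, fun x hx => ?_, fun x hx => ⟨?_, ?_⟩, ?_⟩, ?_⟩
    · show y (y' _) = _
      rw [hy'.2.1 x hx, hy.2.1 x hx]
    · show y (y' _) = _
      rw [(hy'.2.2.1 x hx).1, map_add, map_smul, map_smul, (hy.2.2.1 x hx).1, (hy.2.2.1 x hx).2]
      simp only [Matrix.mul_apply, Fin.sum_univ_two]
      module
    · show y (y' _) = _
      rw [(hy'.2.2.1 x hx).2, map_add, map_smul, map_smul, (hy.2.2.1 x hx).1, (hy.2.2.1 x hx).2]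
      simp only [Matrix.mul_apply, Fin.sum_univ_two]
      module
    · rw [hsplit, map_add]
      exact R.add_mem h1 hy.2.2.2
    · show d.f _ z = _
      rw [hsplit, map_add, LinearMap.add_apply, h2, add_comm]
  -- the generators
  let X : F → (V ≃ₗ[F] V) := fun a => d.rt u (a / l)
  let Y : F → (V ≃ₗ[F] V) := fun c => g * d.rt u c * g⁻¹
  have hXP : ∀ a, P (X a) !![1, a; 0, 1] := fun a => by
    refine ⟨hO.rt_mem u _, fun x _ => rt_t u _ x, fun x hx => ⟨?_, ?_⟩, ?_⟩
    · show d.rt u _ _ = _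
      rw [rt_t]; simp
    · show d.rt u _ _ = _
      rw [rt_τ, ← hA, hAR x hx, map_smul, smul_smul, div_mul_cancel₀ _ hd.lne]
      simp [add_comm]
    · show d.C u (d.rt u _ z₀ - z₀) ∈ R
      rw [d.rt_apply, add_sub_cancel_left, map_smul, d.C_t, d.ω_alt, zero_smul, smul_zero]
      exact R.zero_mem
  have hYP : ∀ c, P (Y c) !![1, 0; c, 1] := fun c => by
    refine ⟨mul_mem (mul_mem hd.att.mem (hO.rt_mem u c)) (inv_mem hd.att.mem), fun x hx => ?_,
      fun x _ => ⟨?_, ?_⟩, ?_⟩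
    · show (g * d.rt u c * g⁻¹) _ = _
      rw [conj_rt_t, hd.τker x hx, smul_zero, add_zero]
    · show (g * d.rt u c * g⁻¹) _ = _
      rw [conj_rt_t]; simp
    · show (g * d.rt u c * g⁻¹) _ = _
      rw [conj_rt_τ]; simp
    · show d.C u ((g * d.rt u c * g⁻¹) z₀ - z₀) ∈ R
      rw [conj_rt_c, add_sub_cancel_left, map_smul]
      exact R.smul_mem _ (hd.Nmem _)
  have hone : χ 1 = 0 := by
    show d.f (z₀ - z₀) z = 0
    rw [sub_self, map_zero, LinearMap.zero_apply]
  have hXX : ∀ a, χ (X a) + χ (X (-a)) = 0 := fun a => by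
    rw [← (hmul _ _ _ _ (hXP a) (hXP (-a))).2, ← hone]
    congr 1
    show d.rt u (a / l) * d.rt u (-a / l) = 1
    rw [neg_div, ← d.rt_inv, mul_inv_cancel]
  have hYY : ∀ c, χ (Y c) + χ (Y (-c)) = 0 := fun c => by
    rw [← (hmul _ _ _ _ (hYP c) (hYP (-c))).2, ← hone]
    congr 1
    show g * d.rt u c * g⁻¹ * (g * d.rt u (-c) * g⁻¹) = 1
    rw [← d.rt_inv]
    group
  -- the commutator of a torus element with a root element
  obtain ⟨y, hyP, hyχ⟩ : ∃ y, P y !![1, t * t - 1; 0, 1] ∧ χ y = 0 := by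
    have h1 := hmul _ _ _ _ (hXP t) (hYP (-(1 / t)))
    have h2 := hmul _ _ _ _ h1.1 (hXP t)
    have h3 := hmul _ _ _ _ h2.1 (hXP (-1))
    have h4 := hmul _ _ _ _ h3.1 (hYP 1)
    have h5 := hmul _ _ _ _ h4.1 (hXP (-1))
    have h6 := hmul _ _ _ _ h5.1 (hXP 1)
    have h7 := hmul _ _ _ _ h6.1 (hXP 1)
    have h8 := hmul _ _ _ _ h7.1 (hYP (-1))
    have h9 := hmul _ _ _ _ h8.1 (hXP 1)
    have h10 := hmul _ _ _ _ h9.1 (hXP (-t))
    have h11 := hmul _ _ _ _ h10.1 (hYP (1 / t))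
    have h12 := hmul _ _ _ _ h11.1 (hXP (-t))
    have h13 := hmul _ _ _ _ h12.1 (hXP (-1))
    refine ⟨_, ?_, h13.2.trans ?_⟩
    · convert h13.1 using 1
      ext i j
      fin_cases i <;> fin_cases j <;> simp [Matrix.mul_apply, Fin.sum_univ_two] <;> field_simp <;> ring
    · rw [h12.2, h11.2, h10.2, h9.2, h8.2, h7.2, h6.2, h5.2, h4.2, h3.2, h2.2, h1.2]
      linear_combination 2 * hXX t + 3 * hXX 1 + hYY (1 / t) + hYY 1
  -- it fixes the column of `u`
  have hfix : ∀ x, y (d.t u x) = d.t u x := fun x => by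
    have h1 := hyP.2.1 _ (Dat.proj hO hS hm hd x)
    have h2 := (hyP.2.2.1 (l⁻¹ • A x) (R.smul_mem _ ⟨x, rfl⟩)).1
    simp only [Matrix.cons_val', Matrix.cons_val_zero, Matrix.cons_val_one, Matrix.of_apply, Matrix.empty_val',
      Matrix.cons_val_fin_one, one_smul, zero_smul, add_zero] at h2
    rw [map_sub, map_sub, ← hA, h2, sub_left_inj] at h1
    exact h1
  have hC : ∀ w, d.C u (y w) = d.C u w := fun w => d.β_ext fun x => by
    rw [d.β_C, d.β_C]
    conv_lhs => rw [← hfix x]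
    exact hO.isom y hyP.1 _ _
  set D : V →ₗ[F] V := y.toLinearMap - LinearMap.id with hD
  have hDap : ∀ w, D w = y w - w := fun w => rfl
  have hDu : ∀ w, D w = d.t u (-(d.C v (D (d.t v (d.C u w))))) := fun w => by
    have hq : D (d.t v (d.C u w)) = d.t u (d.C v (D (d.t v (d.C u w)))) := by
      conv_lhs => rw [Dat.two_decomp hO hS hm hd hn huv (D (d.t v (d.C u w)))]
      rw [show d.C u (D (d.t v (d.C u w))) = 0 by rw [hDap, map_sub, hC, sub_self], map_zero, sub_zero]
    conv_lhs => rw [Dat.two_decomp hO hS hm hd hn huv w]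
    rw [map_sub, hDap (d.t u _), hfix, sub_self, zero_sub, map_neg, ← hq]
  have hQ : d.InQ H u (-(d.C v ∘ₗ D ∘ₗ d.t v)) := by
    refine ⟨y, hyP.1, fun w => ?_⟩
    show y w = w + d.t u (-(d.C v (D (d.t v (d.C u w)))))
    rw [← hDu, hDap, add_sub_cancel]
  obtain ⟨σ, hσ⟩ := hS u hd.att.ne _ hQ
  have hy : ∀ w, y w = w + σ • d.t u (d.C u w) := fun w => by
    have h : -(d.C v (D (d.t v (d.C u w)))) = σ • d.C u w := hσ (d.C u w)
    rw [← map_smul, ← h, ← hDu, hDap, add_sub_cancel]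
  obtain ⟨x₀, hx₀, hx₀0⟩ := Dat.exists_range hO hS hm hd
  have hσ1 : σ * l = t * t - 1 := by
    have h := (hyP.2.2.1 x₀ hx₀).2
    simp only [Matrix.cons_val', Matrix.cons_val_zero, Matrix.cons_val_one, Matrix.of_apply, Matrix.empty_val',
      Matrix.cons_val_fin_one, one_smul] at h
    rw [hy, C_τ, ← hA, hAR x₀ hx₀, map_smul, smul_smul, add_comm, add_left_inj] at h
    by_contra hne
    have h0 : (σ * l - (t * t - 1)) • d.t u x₀ = 0 := by rw [sub_smul, h, sub_self]
    rw [smul_eq_zero] at h0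
    rcases h0 with h0 | h0
    · exact hne (sub_eq_zero.1 h0)
    · exact hx₀0 (d.t_injective hd.att.ne (h0.trans (map_zero _).symm))
  have hσ0 : σ = 0 := by
    have h : d.f (y z₀ - z₀) z = 0 := hyχ
    rw [hy, add_sub_cancel_left, hz₀, d.C_t, hvu, map_smul, map_smul, map_smul, LinearMap.smul_apply,
      LinearMap.smul_apply, hzk, hkk'] at h
    simpa using h
  rw [hσ0, zero_mul] at hσ1
  exact htt (sub_eq_zero.1 hσ1.symm)

end TS

end H49
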