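import Cfsg.Agent.H49.ShortRoot

/-!
Overgroups of the unitary group inside the six-dimensional symplectic group, odd characteristic.
The set-up follows `Cfsg.Agent.H49.UnitaryOver`; centres are found with pseudo-reflections.
-/

set_option autoImplicit false

namespace H42.UnitarySmall

open Matrix
open H48 (sf tv)
open H49 (IsCtr IsShort sroot sroot_smul eq_top_of_ctr)

variable {m : ℕ} {F : Type*} [Field F]

local notation "V" => (Fin m ⊕ Fin m → F)
local notation "Sp" => Matrix.symplecticGroup (Fin m) F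

/-- A transvection as a product of four along orthogonal vectors. -/
theorem tv_split {y e : Fin m ⊕ Fin m → F} (hye : sf y e = 0) (d : F) :
    tv e (2 * d) = tv (y + (-(1 : F)) • e) d * tv y (-d) * (tv (y + (-(-1 : F)) • e) d * tv y (-d)) := by
  refine H48.sp_ext fun w => ?_
  simp only [mul_smul, H48.tv_smul, map_add, LinearMap.add_apply, map_smul, LinearMap.smul_apply, smul_eq_mul,
    H48.sf_self, hye, H48.sf_eq_zero_comm hye, mul_zero, add_zero]
  module

/-- A skew complex structure with non-square square. -/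
structure SkewStr (L : (Fin m ⊕ Fin m → F) →ₗ[F] (Fin m ⊕ Fin m → F)) (ν : F) : Prop where
  skew : ∀ x y, sf (L x) y = - sf x (L y)
  sq : ∀ x, L (L x) = ν • x
  nonsq : ¬ IsSquare ν
  two : (2 : F) ≠ 0
  rank : m = 3

/-- The root element of the unitary group attached to an isotropic vector. -/
def aroot (L : (Fin m ⊕ Fin m → F) →ₗ[F] (Fin m ⊕ Fin m → F)) (ν : F) (v : Fin m ⊕ Fin m → F) (t : F) :
    Matrix.symplecticGroup (Fin m) F :=
  tv (L v) t * tv v (-(ν * t))

namespace SkewStr

variable {L : (Fin m ⊕ Fin m → F) →ₗ[F] (Fin m ⊕ Fin m → F)} {ν : F} (d : SkewStr L ν)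
include d

theorem nu_ne : ν ≠ 0 := fun e => d.nonsq ⟨0, by rw [e, mul_zero]⟩

theorem sf_LL (x y : V) : sf (L x) (L y) = -(ν * sf x y) := by
  rw [d.skew, d.sq, map_smul, smul_eq_mul]

theorem sf_L_comm (x y : V) : sf (L x) y = sf (L y) x := by
  rw [d.skew, H48.sf_swap (L y) x, neg_neg]

theorem aroot_smul {v : V} (hv : sf (L v) v = 0) (t : F) (w : V) :
    aroot L ν v t • w = w + (t * sf w (L v)) • L v - (ν * t * sf w v) • v := by
  simp only [aroot, mul_smul, H48.tv_smul, map_add, LinearMap.add_apply, map_smul, LinearMap.smul_apply,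
    smul_eq_mul, H48.sf_eq_zero_comm hv, mul_zero, add_zero]
  module

theorem aroot_comm {v : V} (hv : sf (L v) v = 0) (t : F) (w : V) :
    aroot L ν v t • L w = L (aroot L ν v t • w) := by
  rw [d.aroot_smul hv, d.aroot_smul hv]
  simp only [map_add, map_sub, map_smul, d.sq, d.sf_LL, d.skew w v, smul_smul]
  module

/-- Adjoining `w` and `L w` to an invariant subspace. -/
theorem not_mem_sup {W : Submodule F V} (hW : ∀ u ∈ W, L u ∈ W) {w : V} (hw : w ∉ W) :
    w ∉ W ⊔ Submodule.span F {L w} := by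
  intro h
  obtain ⟨s, hs, u, hu, hsu⟩ := Submodule.mem_sup.1 h
  obtain ⟨t, rfl⟩ := Submodule.mem_span_singleton.1 hu
  have h1 : L w = L s + (t * ν) • w := by
    conv_lhs => rw [← hsu]
    rw [map_add, map_smul, d.sq, smul_smul]
  have h2 : (1 - t * t * ν) • w = s + t • L s := by
    rw [h1, smul_add, smul_smul, ← mul_assoc] at hsu
    conv_lhs => rw [sub_smul, one_smul]; arg 1; rw [← hsu]
    abel
  have hne : (1 - t * t * ν) ≠ 0 := by
    intro e
    have ht : t ≠ 0 := fun e0 => one_ne_zero (α := F) (by simpa [e0] using e)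
    exact d.nonsq ⟨t⁻¹, by field_simp; linear_combination -e⟩
  exact hw ((W.smul_mem_iff hne).1 (h2 ▸ W.add_mem hs (W.smul_mem _ (hW s hs))))

/-- Orthogonal to a pair. -/
theorem perp_L {W : Submodule F V} (hW : ∀ u ∈ W, L u ∈ W) {u : V} (hu : ∀ x ∈ W, sf x u = 0) :
    ∀ x ∈ W, sf x (L u) = 0 := fun x hx => by
  have := d.skew x u
  rw [hu _ (hW x hx)] at this
  simpa using this.symm

theorem finrank_pair (x y : V) : Module.finrank F (Submodule.span F ({x, y} : Set V)) ≤ 2 := by
  classical
  refine le_trans (finrank_span_le_card _) ?_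
  simp only [Set.toFinset_insert, Set.toFinset_singleton]
  exact Finset.card_le_two

/-- The L-invariant plane of a vector. -/
theorem span_invariant (x : V) : ∀ u ∈ Submodule.span F ({x, L x} : Set V), L u ∈ Submodule.span F ({x, L x} : Set V) := by
  intro u hu
  obtain ⟨a, b, rfl⟩ := Submodule.mem_span_pair.1 hu
  exact Submodule.mem_span_pair.2 ⟨b * ν, a, by rw [map_add, map_smul, map_smul, d.sq, smul_smul]; abel⟩

theorem sup_invariant {W W' : Submodule F V} (h : ∀ u ∈ W, L u ∈ W) (h' : ∀ u ∈ W', L u ∈ W') :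
    ∀ u ∈ W ⊔ W', L u ∈ W ⊔ W' := by
  intro u hu
  obtain ⟨a, ha, b, hb, rfl⟩ := Submodule.mem_sup.1 hu
  rw [map_add]
  exact add_mem (Submodule.mem_sup_left (h a ha)) (Submodule.mem_sup_right (h' b hb))

/-- Unitary orthogonality. -/
def Orth (L : (Fin m ⊕ Fin m → F) →ₗ[F] (Fin m ⊕ Fin m → F)) (x y : Fin m ⊕ Fin m → F) : Prop :=
  sf x y = 0 ∧ sf (L x) y = 0

omit d in
theorem _root_.H42.UnitarySmall.Orth.sf₀ {x y : V} (h : Orth L x y) : sf x y = 0 := h.1

theorem sf_swapL (x y : V) : sf x (L y) = - sf (L y) x := by rw [H48.sf_swap]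

theorem orth_symm {x y : V} (h : Orth L x y) : Orth L y x :=
  ⟨H48.sf_eq_zero_comm h.1, by rw [d.sf_L_comm]; exact h.2⟩

theorem orth_L {x y : V} (h : Orth L x y) : Orth L x (L y) := by
  refine ⟨?_, by rw [d.sf_LL, h.1, mul_zero, neg_zero]⟩
  rw [d.sf_swapL, d.sf_L_comm, h.2, neg_zero]

theorem orth_comb {x y : V} (h : Orth L x y) (a b : F) : Orth L x (a • y + b • L y) :=
  ⟨by simp [h.1, (d.orth_L h).1], by simp [h.2, (d.orth_L h).2]⟩

/-- The norm of a combination. -/
theorem norm_comb (v : V) (a b : F) :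
    sf (L (a • v + b • L v)) (a • v + b • L v) = (a * a - ν * (b * b)) * sf (L v) v := by
  simp only [map_add, map_smul, LinearMap.add_apply, LinearMap.smul_apply, smul_eq_mul, d.sq, H48.sf_self,
    d.sf_swapL v v]
  ring

/-- Projection on the line over the quadratic extension. -/
def pl (_d : SkewStr L ν) (p x : V) : V :=
  (sf (L p) x / sf (L p) p) • p + (sf x p / sf (L p) p) • L p

theorem L_pl (p x : V) : L (d.pl p x) = d.pl p (L x) := by
  unfold pl
  rw [map_add, map_smul, map_smul, d.sq, d.sf_LL, show sf (L x) p = sf (L p) x from d.sf_L_comm x p,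
    show sf p x = - sf x p from H48.sf_swap x p]
  module

theorem pl_orth {p x : V} (h : Orth L p x) : d.pl p x = 0 := by
  simp [pl, h.2, H48.sf_eq_zero_comm h.1]

theorem orth_rest {p : V} (hp : sf (L p) p ≠ 0) (x : V) : Orth L p (x - d.pl p x) := by
  constructor
  · simp only [pl, map_sub, map_add, map_smul, smul_eq_mul, H48.sf_self, d.sf_swapL p p, H48.sf_swap x p]
    field_simp
    ring
  · simp only [pl, map_sub, map_add, map_smul, smul_eq_mul, H48.sf_self]
    field_simp
    ring

/-- Pseudo-reflections are in the unitary group. -/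
theorem exists_ref {p : V} (hp : sf (L p) p ≠ 0) {k₁ k₂ : F}
    (hk : (1 + k₁) * (1 + k₁) - ν * (k₂ * k₂) = 1) :
    ∃ g : Sp, (∀ x, g • x = x + k₁ • d.pl p x + k₂ • L (d.pl p x)) ∧ ∀ x, g • L x = L (g • x) := by
  let P : V →ₗ[F] V :=
    ((sf p).comp (0 : V →ₗ[F] V)).smulRight p + ((sf (L p) p)⁻¹ • sf (L p)).smulRight p +
      ((sf (L p) p)⁻¹ • (sf (l := Fin m) (F := F)).flip p).smulRight (L p)
  have hP : ∀ x, P x = d.pl p x := fun x => by
    simp [P, pl, div_eq_inv_mul]
  let T : V →ₗ[F] V := LinearMap.id + k₁ • P + k₂ • L.comp P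
  have hT : ∀ x, T x = x + k₁ • d.pl p x + k₂ • L (d.pl p x) := fun x => by simp [T, hP]
  have hmem : LinearMap.toMatrix' T ∈ Matrix.symplecticGroup (Fin m) F := by
    rw [H48.mem_symplectic_iff]
    intro u v
    rw [LinearMap.toMatrix'_mulVec, LinearMap.toMatrix'_mulVec, hT, hT]
    simp only [pl, map_add, map_smul, LinearMap.add_apply, LinearMap.smul_apply, smul_eq_mul, d.sq,
      d.sf_swapL u p, d.sf_swapL p p, H48.sf_self, show sf p v = - sf v p from H48.sf_swap v p]
    field_simp
    linear_combination (sf (L p) p * (sf u p * sf (L p) v - sf (L p) u * sf v p)) * hk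
  refine ⟨⟨_, hmem⟩, fun x => ?_, fun x => ?_⟩
  · show LinearMap.toMatrix' T *ᵥ x = _
    rw [LinearMap.toMatrix'_mulVec, hT]
  · show LinearMap.toMatrix' T *ᵥ L x = L (LinearMap.toMatrix' T *ᵥ x)
    rw [LinearMap.toMatrix'_mulVec, LinearMap.toMatrix'_mulVec, hT, hT, map_add, map_add, map_smul, map_smul,
      ← d.L_pl]

theorem nu_ne_one : (1 : F) - ν ≠ 0 := fun e => d.nonsq ⟨1, by linear_combination -e⟩

theorem rot_unit : (1 + 2 * ν / (1 - ν)) * (1 + 2 * ν / (1 - ν)) - ν * (2 / (1 - ν) * (2 / (1 - ν))) = 1 := by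
  have := d.nu_ne_one
  field_simp
  ring

theorem ref_unit : (1 + (-2 : F)) * (1 + (-2)) - ν * ((0 : F) * 0) = 1 := by ring

theorem sq_ne {a b : F} (h : a ≠ 0 ∨ b ≠ 0) : a * a - ν * (b * b) ≠ 0 := by
  intro e0
  rcases eq_or_ne b 0 with rfl | hb
  · rw [mul_zero, mul_zero, sub_zero, mul_self_eq_zero] at e0
    exact h.elim (fun h => h e0) (fun h => h rfl)
  · exact d.nonsq ⟨a / b, by field_simp; linear_combination -e0⟩

/-- Every value is a norm. -/
theorem exists_norm [Fintype F] (c : F) : ∃ a b : F, a * a - ν * (b * b) = c := by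
  open Polynomial in
  obtain ⟨a, b, hab⟩ := FiniteField.exists_root_sum_quadratic
    (f := C (1 : F) * X ^ 2 + C 0 * X + C (-c)) (g := C (-ν) * X ^ 2 + C 0 * X + C 0)
    (degree_quadratic one_ne_zero) (degree_quadratic (neg_ne_zero.2 d.nu_ne))
    (FiniteField.odd_card_of_char_ne_two (fun h => d.two (by
      haveI := ringChar.of_eq h
      exact CharP.cast_eq_zero F 2)))
  simp only [Polynomial.eval_add, Polynomial.eval_mul, Polynomial.eval_C, Polynomial.eval_pow,
    Polynomial.eval_X] at hab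
  exact ⟨a, b, by linear_combination hab⟩

/-- An anisotropic vector orthogonal to two orthogonal anisotropic ones. -/
theorem exists_third {x y : V} (hx : sf (L x) x ≠ 0) (hy : sf (L y) y ≠ 0) (hxy : Orth L x y) :
    ∃ z, Orth L x z ∧ Orth L y z ∧ sf (L z) z ≠ 0 := by
  let φ : V →ₗ[F] (F × F) × F × F :=
    ((sf x).prod (sf (L x))).prod ((sf y).prod (sf (L y)))
  obtain ⟨z₀, hz₀, hz₀0⟩ := Submodule.exists_mem_ne_zero_of_ne_bot
    (LinearMap.ker_ne_bot_of_finrank_lt (f := φ) (by
      rw [Module.finrank_prod, Module.finrank_prod, Module.finrank_self, Module.finrank_pi, Fintype.card_sum,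
        Fintype.card_fin, d.rank]
      norm_num))
  have hxz : Orth L x z₀ := ⟨congrArg (fun t => t.1.1) hz₀, congrArg (fun t => t.1.2) hz₀⟩
  have hyz : Orth L y z₀ := ⟨congrArg (fun t => t.2.1) hz₀, congrArg (fun t => t.2.2) hz₀⟩
  by_cases hzz : sf (L z₀) z₀ = 0
  swap
  · exact ⟨z₀, hxz, hyz, hzz⟩
  obtain ⟨u, hu⟩ := H48.exists_sf_ne hz₀0
  set u' := u - d.pl x u - d.pl y u with hu'
  have hxu : Orth L x u' := by
    have h1 := d.orth_rest hx u
    have h2 : Orth L x (d.pl y u) := d.orth_comb hxy _ _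
    exact ⟨by rw [hu', map_sub, h1.1, h2.1, sub_zero], by rw [hu', map_sub, h1.2, h2.2, sub_zero]⟩
  have hyu : Orth L y u' := by
    have h1 := d.orth_rest hy u
    have h2 : Orth L y (d.pl x u) := d.orth_comb (d.orth_symm hxy) _ _
    rw [hu', sub_right_comm]
    exact ⟨by rw [map_sub, h1.1, h2.1, sub_zero], by rw [map_sub, h1.2, h2.2, sub_zero]⟩
  have hz₀u : sf z₀ u' = sf z₀ u := by
    have h1 : Orth L z₀ (d.pl x u) := d.orth_comb (d.orth_symm hxz) _ _
    have h2 : Orth L z₀ (d.pl y u) := d.orth_comb (d.orth_symm hyz) _ _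
    rw [hu', map_sub, map_sub, h1.1, h2.1, sub_zero, sub_zero]
  by_cases huu : sf (L u') u' = 0
  swap
  · exact ⟨u', hxu, hyu, huu⟩
  refine ⟨u' + L z₀, ⟨by rw [map_add, hxu.1, (d.orth_L hxz).1, add_zero],
    by rw [map_add, hxu.2, (d.orth_L hxz).2, add_zero]⟩, ⟨by rw [map_add, hyu.1, (d.orth_L hyz).1, add_zero],
    by rw [map_add, hyu.2, (d.orth_L hyz).2, add_zero]⟩, ?_⟩
  simp only [map_add, LinearMap.add_apply, huu, d.sq, map_smul, LinearMap.smul_apply, smul_eq_mul, d.sf_LL,
    d.sf_swapL z₀ z₀, hzz, H48.sf_swap z₀ u', hz₀u, zero_add]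
  intro e
  exact mul_ne_zero (mul_ne_zero d.two d.nu_ne) hu (by linear_combination e)

/-- An anisotropic vector orthogonal to an anisotropic one. -/
theorem exists_second {x : V} (hx : sf (L x) x ≠ 0) : ∃ z, Orth L x z ∧ sf (L z) z ≠ 0 := by
  let φ : V →ₗ[F] F × F := (sf x).prod (sf (L x))
  obtain ⟨z₀, hz₀, hz₀0⟩ := Submodule.exists_mem_ne_zero_of_ne_bot
    (LinearMap.ker_ne_bot_of_finrank_lt (f := φ) (by
      rw [Module.finrank_prod, Module.finrank_self, Module.finrank_pi, Fintype.card_sum, Fintype.card_fin, d.rank]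
      norm_num))
  have hxz : Orth L x z₀ := ⟨congrArg Prod.fst hz₀, congrArg Prod.snd hz₀⟩
  by_cases hzz : sf (L z₀) z₀ = 0
  swap
  · exact ⟨z₀, hxz, hzz⟩
  obtain ⟨u, hu⟩ := H48.exists_sf_ne hz₀0
  have h1 := d.orth_rest hx u
  have h2 : Orth L z₀ (d.pl x u) := d.orth_comb (d.orth_symm hxz) _ _
  set u' := u - d.pl x u with hu'
  have hz₀u : sf z₀ u' = sf z₀ u := by rw [hu', map_sub, h2.1, sub_zero]
  by_cases huu : sf (L u') u' = 0
  swap
  · exact ⟨u', h1, huu⟩
  refine ⟨u' + L z₀, ⟨by rw [map_add, h1.1, (d.orth_L hxz).1, add_zero],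
    by rw [map_add, h1.2, (d.orth_L hxz).2, add_zero]⟩, ?_⟩
  simp only [map_add, LinearMap.add_apply, huu, d.sq, map_smul, LinearMap.smul_apply, smul_eq_mul, d.sf_LL,
    d.sf_swapL z₀ z₀, hzz, H48.sf_swap z₀ u', hz₀u, zero_add]
  intro e
  exact mul_ne_zero (mul_ne_zero d.two d.nu_ne) hu (by linear_combination e)

/-- An isotropic vector has a partner and an anisotropic vector orthogonal to both. -/
theorem exists_partner {v : V} (hv : sf (L v) v = 0) (hv0 : v ≠ 0) :
    ∃ w z, sf (L w) w = 0 ∧ sf v w = 1 ∧ sf (L v) w = 0 ∧ Orth L v z ∧ Orth L w z ∧ sf (L z) z ≠ 0 := by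
  have hLv : L v ∉ Submodule.span F ({v} : Set V) := fun h => by
    obtain ⟨a, ha⟩ := Submodule.mem_span_singleton.1 h
    have h2 := congrArg L ha
    rw [map_smul, d.sq, ← ha, smul_smul] at h2
    exact d.nonsq ⟨a, (smul_left_injective F hv0 h2).symm⟩
  obtain ⟨u, hu, hLu⟩ := H48.exists_sep (U := Submodule.span F {L v}) (a := v) (fun h => hLv (by
    obtain ⟨a, ha⟩ := Submodule.mem_span_singleton.1 h
    have ha0 : a ≠ 0 := by rintro rfl; exact hv0 (by rw [← ha, zero_smul])
    exact Submodule.mem_span_singleton.2 ⟨a⁻¹, (inv_smul_eq_iff₀ ha0).2 ha.symm⟩))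
  set u₁ := (sf v u)⁻¹ • u with hu₁
  have h1 : sf v u₁ = 1 := by simp [hu₁, hLu]
  have h2 : sf (L v) u₁ = 0 := by simp [hu₁, hu _ (Submodule.mem_span_singleton_self _)]
  set w := u₁ + (-(sf (L u₁) u₁) / (2 * ν)) • L v with hw
  have hvw : sf v w = 1 := by rw [hw, map_add, h1, map_smul, d.sf_swapL, hv]; simp
  have hLvw : sf (L v) w = 0 := by rw [hw, map_add, h2, map_smul, H48.sf_self]; simp
  have hww : sf (L w) w = 0 := by
    simp only [hw, map_add, map_smul, LinearMap.add_apply, LinearMap.smul_apply, smul_eq_mul, d.sq, d.sf_LL,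
      H48.sf_self, d.sf_swapL v v, hv, h1, H48.sf_swap v u₁]
    have := d.two
    have := d.nu_ne
    field_simp
    ring
  set x := v + L w with hx
  set y := v - L w with hy
  have hxy : Orth L x y := by
    constructor
    · simp only [hx, hy, map_add, map_sub, LinearMap.add_apply, H48.sf_self, d.sf_swapL v w, d.sf_L_comm w v,
        hLvw]
      ring
    · simp only [hx, hy, map_add, map_sub, map_smul, LinearMap.add_apply, LinearMap.smul_apply, smul_eq_mul,
        d.sq, d.sf_swapL w w, hv, hww, d.sf_LL, H48.sf_swap v w, hvw]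
      ring
  have hxx : sf (L x) x ≠ 0 := by
    simp only [hx, map_add, map_smul, LinearMap.add_apply, LinearMap.smul_apply, smul_eq_mul,
      d.sq, d.sf_swapL w w, hv, hww, d.sf_LL, H48.sf_swap v w, hvw]
    intro e
    exact mul_ne_zero d.two d.nu_ne (by linear_combination -e)
  have hyy : sf (L y) y ≠ 0 := by
    simp only [hy, map_sub, map_smul, LinearMap.sub_apply, LinearMap.smul_apply, smul_eq_mul,
      d.sq, d.sf_swapL w w, hv, hww, d.sf_LL, H48.sf_swap v w, hvw]
    intro e
    exact mul_ne_zero d.two d.nu_ne (by linear_combination e)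
  obtain ⟨z, hxz, hyz, hz⟩ := d.exists_third hxx hyy hxy
  have hvz : Orth L v z := by
    have a1 := hxz.1; have a2 := hyz.1; have a3 := hxz.2; have a4 := hyz.2
    simp only [hx, hy, map_add, map_sub, LinearMap.add_apply, LinearMap.sub_apply] at a1 a2 a3 a4
    exact ⟨(mul_eq_zero.1 (show (2 : F) * sf v z = 0 by linear_combination a1 + a2)).resolve_left d.two,
      (mul_eq_zero.1 (show (2 : F) * sf (L v) z = 0 by linear_combination a3 + a4)).resolve_left d.two⟩
  refine ⟨w, z, hww, hvw, hLvw, hvz, ?_, hz⟩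
  have a1 := hxz.1; have a3 := hxz.2
  simp only [hx, map_add, map_smul, LinearMap.add_apply, LinearMap.smul_apply, smul_eq_mul, d.sq, hvz.1,
    hvz.2, zero_add, mul_eq_zero, d.nu_ne, false_or] at a1 a3
  exact ⟨a3, a1⟩

variable {K : Subgroup (Matrix.symplecticGroup (Fin m) F)}
  (hK : ∀ g : Matrix.symplecticGroup (Fin m) F, (∀ w, g • L w = L (g • w)) → g ∈ K)
include hK

theorem aroot_mem {v : V} (hv : sf (L v) v = 0) (t : F) : aroot L ν v t ∈ K :=
  hK _ (d.aroot_comm hv t)

/-- The reflection in an anisotropic vector. -/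
theorem exists_refl {p : V} (hp : sf (L p) p ≠ 0) :
    ∃ g ∈ K, ∀ x, g • x = x - (2 : F) • d.pl p x := by
  obtain ⟨g, hg, hgL⟩ := d.exists_ref hp (k₁ := -2) (k₂ := 0) (d.ref_unit)
  refine ⟨g, hK g hgL, fun x => ?_⟩
  rw [hg, zero_smul, add_zero, neg_smul, sub_eq_add_neg]

/-- The rotation on an anisotropic vector. -/
theorem exists_rot {p : V} (hp : sf (L p) p ≠ 0) :
    ∃ g ∈ K, (∀ x, g • x = x + (2 * ν / (1 - ν)) • d.pl p x + (2 / (1 - ν)) • L (d.pl p x)) ∧
      sf p (g • p) ≠ 0 ∧ ∀ x, g • L x = L (g • x) := by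
  obtain ⟨g, hg, hgL⟩ := d.exists_ref hp d.rot_unit
  refine ⟨g, hK g hgL, hg, ?_, hgL⟩
  have hpp : d.pl p p = p := by simp [pl, hp]
  rw [hg, hpp, map_add, map_add, map_smul, map_smul, H48.sf_self, d.sf_swapL]
  simpa using mul_ne_zero (div_ne_zero d.two d.nu_ne_one) hp

/-- A short root pair of anisotropic orthogonal vectors gives a centre. -/
theorem short_ctr {p w : V} (h : IsShort K p w) (hp : sf (L p) p ≠ 0) (hpw : Orth L p w) : IsCtr K w := by
  obtain ⟨g, hgK, hg, hne, -⟩ := d.exists_rot hK hp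
  have h' := h.group_smul hgK
  have hgw : g • w = w := by rw [hg, d.pl_orth hpw]; simp
  rw [hgw] at h'
  exact h.swap.isCtr h'.swap hne d.two

/-- The tilted case. -/
theorem tilted {x y : V} (hP : ∀ c : F, tv y c * tv x (-(ν * c)) ∈ K) (hx : sf (L x) x ≠ 0)
    (hxy : sf x y = 0) (hval : sf (L x) y ≠ 0)
    (hout : y ∉ Submodule.span F ({x, L x} : Set V)) : ∃ z, z ≠ 0 ∧ IsCtr K z := by
  obtain ⟨i, hiK, hi⟩ := d.exists_refl hK hx
  set p := d.pl x y with hp
  set w := y - p with hw
  have hpx : p = (sf (L x) y / sf (L x) x) • x := by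
    rw [hp, pl, H48.sf_eq_zero_comm hxy]; simp
  have hpw : Orth L p w := by
    obtain ⟨h1, h2⟩ := d.orth_rest hx y
    exact ⟨by rw [hpx, map_smul, LinearMap.smul_apply, h1, smul_zero],
      by rw [hpx, map_smul, map_smul, LinearMap.smul_apply, h2, smul_zero]⟩
  have hyd : y = p + w := by rw [hw, add_sub_cancel]
  have hix : i • x = -x := by
    rw [hi, show d.pl x x = x by simp [pl, hx]]
    module
  have hiy : i • y = w - p := by rw [hi, ← hp, hw]; module
  have hpp : sf (L p) p ≠ 0 := by
    rw [hpx]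
    simpa [map_smul] using mul_ne_zero (div_ne_zero hval hx) (mul_ne_zero (div_ne_zero hval hx) hx)
  have hs : ∀ c, sroot p w c ∈ K := by
    intro c
    have hd := d.two
    have h1 := mul_mem (mul_mem (mul_mem hiK (hP (c / 2))) (inv_mem hiK)) (inv_mem (hP (c / 2)))
    have e1 : i * (tv y (c / 2) * tv x (-(ν * (c / 2)))) * i⁻¹ =
        tv (w - p) (c / 2) * tv x (-(ν * (c / 2))) := by
      rw [← hiy, show i * (tv y (c / 2) * tv x (-(ν * (c / 2)))) * i⁻¹ =
        (i * tv y (c / 2) * i⁻¹) * (i * tv x (-(ν * (c / 2))) * i⁻¹) by group, H48.tv_conj, H48.tv_conj, hix,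
        ← neg_one_smul F x, H48.tv_scale]
      simp
    rw [e1, _root_.mul_inv_rev, H48.tv_inv y, mul_assoc, mul_inv_cancel_left] at h1
    have e2 : sroot p w c = (tv (w - p) (c / 2) * tv y (-(c / 2)))⁻¹ := by
      refine eq_inv_of_mul_eq_one_left (H48.sp_ext fun u => ?_)
      have h0 := hpw.1
      have h0' := H48.sf_eq_zero_comm h0
      simp only [hyd, mul_smul, sroot_smul h0, H48.tv_smul, map_add, map_sub, LinearMap.add_apply,
        LinearMap.sub_apply, map_smul, LinearMap.smul_apply, smul_eq_mul, H48.sf_self, h0, h0', one_smul,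
        mul_zero, add_zero, sub_zero, zero_add]
      match_scalars <;> field_simp <;> ring
    rw [e2]
    exact inv_mem h1
  refine ⟨w, fun e => hout ?_, d.short_ctr hK ⟨hpw.1, hs⟩ hpp hpw⟩
  rw [hyd, e, add_zero, hpx]
  exact Submodule.smul_mem _ _ (Submodule.subset_span (Set.mem_insert _ _))

omit hK in
theorem conj_pair (g : Sp) (y x : V) (c c' : F) :
    g * (tv y c * tv x c') * g⁻¹ = tv (g • y) c * tv (g • x) c' := by
  rw [← H48.tv_conj, ← H48.tv_conj]; group

/-- The orthogonal case, more than three field elements. -/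
theorem straight {x y : V} (hP : ∀ c : F, tv y c * tv x (-(ν * c)) ∈ K) (hx : sf (L x) x ≠ 0)
    (hy : sf (L y) y ≠ 0) (hxy : Orth L x y) [Fintype F] (hbig : ∃ s : F, s ≠ 0 ∧ s * s ≠ 1) :
    ∃ z, z ≠ 0 ∧ IsCtr K z := by
  obtain ⟨s, hs0, hs1⟩ := hbig
  obtain ⟨z₀, hxz, hyz, hz₀⟩ := d.exists_third hx hy hxy
  obtain ⟨a, b, hab⟩ := d.exists_norm ((1 - s * s) * sf (L y) y / sf (L z₀) z₀)
  set z := a • z₀ + b • L z₀ with hz
  have hzN : sf (L z) z = (1 - s * s) * sf (L y) y := by
    rw [hz, d.norm_comb, hab, div_mul_cancel₀ _ hz₀]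
  have hy'z : Orth L y z := d.orth_comb hyz a b
  have hxz' : Orth L x z := d.orth_comb hxz a b
  have hmv : ∀ z : V, Orth L y z → Orth L x z → sf (L z) z = (1 - s * s) * sf (L y) y →
      ∀ c, tv (s • y + z) c * tv x (-(ν * c)) ∈ K := by
    intro z hyz hxz hzN c
    set δ := (s - 1) • y + z with hδ
    have hδδ : sf (L δ) δ = 2 * (1 - s) * sf (L y) y := by
      simp only [hδ, map_add, map_smul, LinearMap.add_apply, LinearMap.smul_apply, smul_eq_mul, hyz.2,
        d.sf_L_comm z y, hzN]
      ring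
    have hne : sf (L δ) δ ≠ 0 := by
      rw [hδδ]
      exact mul_ne_zero (mul_ne_zero d.two (sub_ne_zero.2 fun e => hs1 (by rw [← e, one_mul]))) hy
    obtain ⟨g, hgK, hg⟩ := d.exists_refl hK hne
    have hgx : g • x = x := by
      have : Orth L x δ := ⟨by simp [hδ, hxy.1, hxz.1], by simp [hδ, hxy.2, hxz.2]⟩
      rw [hg, d.pl_orth (d.orth_symm this)]; simp
    have e1 : sf (L δ) y = (s - 1) * sf (L y) y := by
      simp [hδ, d.sf_L_comm z y, hyz.2]
    have e2 : sf y δ = 0 := by simp [hδ, hyz.1]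
    have hgy : g • y = s • y + z := by
      rw [hg, pl, e1, e2, hδδ, hδ]
      have h1 : (1 : F) - s ≠ 0 := sub_ne_zero.2 fun e => hs1 (by rw [← e, one_mul])
      have := d.two
      match_scalars <;> field_simp <;> ring
    have := mul_mem (mul_mem hgK (hP c)) (inv_mem hgK)
    rwa [d.conj_pair, hgx, hgy] at this
  have hs : ∀ c, sroot y z c ∈ K := by
    intro c
    have hd := d.two
    have h1 := mul_mem (hmv z hy'z hxz' hzN (c / (2 * s))) (inv_mem (hmv (-z)
      ⟨by simp [hy'z.1], by simp [hy'z.2]⟩ ⟨by simp [hxz'.1], by simp [hxz'.2]⟩ (by simp [hzN]) (c / (2 * s))))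
    rw [_root_.mul_inv_rev, mul_assoc, mul_inv_cancel_left, H48.tv_inv] at h1
    have e2 : sroot y z c = tv (s • y + z) (c / (2 * s)) * tv (s • y + -z) (-(c / (2 * s))) := by
      refine H48.sp_ext fun u => ?_
      have h0 := hy'z.1
      have h0' := H48.sf_eq_zero_comm h0
      simp only [mul_smul, sroot_smul h0, H48.tv_smul, map_add, map_neg, LinearMap.add_apply,
        LinearMap.neg_apply, map_smul, LinearMap.smul_apply, smul_eq_mul, H48.sf_self, h0, h0',
        mul_zero, add_zero, neg_zero, zero_add]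
      match_scalars <;> field_simp <;> ring
    rw [e2]
    exact h1
  have hzz : sf (L z) z ≠ 0 := by
    rw [hzN]; exact mul_ne_zero (sub_ne_zero.2 (Ne.symm hs1)) hy
  exact ⟨y, fun e => hy (by rw [e]; simp),
    d.short_ctr hK (IsShort.swap ⟨hy'z.1, hs⟩) hzz (d.orth_symm hy'z)⟩

/-- The orthogonal case over the field with three elements. -/
theorem straight_three {x y : V} (hP : ∀ c : F, tv y c * tv x (-(ν * c)) ∈ K) (hx : sf (L x) x ≠ 0)
    (hy : sf (L y) y ≠ 0) (hxy : Orth L x y) [Fintype F] (hsmall : ∀ s : F, s ≠ 0 → s * s = 1) :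
    ∃ z, z ≠ 0 ∧ IsCtr K z := by
  have hν : ν = -1 := by
    by_contra hne
    rcases mul_self_eq_one_iff.1 (hsmall ν d.nu_ne) with h | h
    · exact d.nonsq ⟨1, by rw [h, one_mul]⟩
    · exact hne h
  have h3 : (3 : F) = 0 := by
    by_cases h3 : (3 : F) = 0
    · exact h3
    · exfalso
      have := hsmall 2 d.two
      exact h3 (by linear_combination this)
  have hall : ∀ (u : V), tv u (1 : F) ∈ K → IsCtr K u := by
    intro u hu c
    rcases eq_or_ne c 0 with rfl | hc
    · rw [H48.tv_zero]; exact one_mem _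
    rcases mul_self_eq_one_iff.1 (hsmall c hc) with rfl | rfl
    · exact hu
    · rw [← H48.tv_inv]; exact inv_mem hu
  have hP' : tv y (1 : F) * tv x 1 ∈ K := by
    have := hP 1
    rwa [hν, mul_one, neg_neg] at this
  obtain ⟨z₀, hxz₀, hyz₀, hz₀⟩ := d.exists_third hx hy hxy
  obtain ⟨a, b, hab⟩ := d.exists_norm (sf (L y) y / sf (L z₀) z₀)
  set z := a • z₀ + b • L z₀ with hz
  have hzN : sf (L z) z = sf (L y) y := by rw [hz, d.norm_comb, hab, div_mul_cancel₀ _ hz₀]
  have hyz : Orth L y z := d.orth_comb hyz₀ a b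
  have hxz : Orth L x z := d.orth_comb hxz₀ a b
  -- move y to z
  have hQ : tv z (1 : F) * tv x 1 ∈ K := by
    set δ := z - y with hδ
    have hδδ : sf (L δ) δ = 2 * sf (L y) y := by
      simp only [hδ, map_sub, LinearMap.sub_apply, hyz.2, d.sf_L_comm z y, hzN]; ring
    obtain ⟨g, hgK, hg⟩ := d.exists_refl hK (p := δ) (by rw [hδδ]; exact mul_ne_zero d.two hy)
    have hgx : g • x = x := by
      have : Orth L x δ := ⟨by simp [hδ, hxy.1, hxz.1], by simp [hδ, hxy.2, hxz.2]⟩
      rw [hg, d.pl_orth (d.orth_symm this)]; simp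
    have hgy : g • y = z := by
      have := d.two
      rw [hg, pl, show sf (L δ) y = - sf (L y) y by simp [hδ, d.sf_L_comm z y, hyz.2],
        show sf y δ = 0 by simp [hδ, hyz.1], hδδ, hδ]
      match_scalars <;> field_simp <;> ring
    have := mul_mem (mul_mem hgK hP') (inv_mem hgK)
    rwa [d.conj_pair, hgx, hgy] at this
  have hcomm : ∀ u w : V, sf u w = 0 → tv u (1 : F) * tv w 1 = tv w 1 * tv u 1 := fun u w h => by
    refine H48.sp_ext fun t => ?_
    simp only [mul_smul, H48.tv_smul, map_add, LinearMap.add_apply, map_smul, LinearMap.smul_apply,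
      smul_eq_mul, h, H48.sf_eq_zero_comm h, mul_zero, add_zero]
    abel
  by_cases heq : sf (L y) y = sf (L x) x
  · -- equal norms: exchange x and y
    set δ := y - x with hδ
    have hδδ : sf (L δ) δ = 2 * sf (L x) x := by
      simp only [hδ, map_sub, LinearMap.sub_apply, hxy.2, d.sf_L_comm y x, heq]; ring
    obtain ⟨g, hgK, hg⟩ := d.exists_refl hK (p := δ) (by rw [hδδ]; exact mul_ne_zero d.two hx)
    have hd := d.two
    have hgx : g • x = y := by
      rw [hg, pl, show sf (L δ) x = - sf (L x) x by simp [hδ, d.sf_L_comm y x, hxy.2],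
        show sf x δ = 0 by simp [hδ, hxy.1], hδδ, hδ]
      match_scalars <;> field_simp <;> ring
    have hgz : g • z = z := by
      have : Orth L z δ := ⟨by simp [hδ, (d.orth_symm hyz).1, (d.orth_symm hxz).1],
        by simp [hδ, (d.orth_symm hyz).2, (d.orth_symm hxz).2]⟩
      rw [hg, d.pl_orth (d.orth_symm this)]; simp
    have hR : tv z (1 : F) * tv y 1 ∈ K := by
      have := mul_mem (mul_mem hgK hQ) (inv_mem hgK)
      rwa [d.conj_pair, hgx, hgz] at this
    have hz2 : tv z (1 : F) * tv z 1 ∈ K := by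
      have h1 := mul_mem (mul_mem hR hQ) (inv_mem hP')
      have e : tv z (1 : F) * tv y 1 * (tv z 1 * tv x 1) * (tv y 1 * tv x 1)⁻¹ = tv z 1 * tv z 1 := by
        rw [mul_inv_eq_iff_eq_mul, mul_assoc (tv z (1 : F)) (tv y 1), ← mul_assoc (tv y (1 : F)),
          hcomm y z hyz.1]
        group
      rwa [e] at h1
    refine ⟨z, fun e => hy (by rw [← hzN, e]; simp), hall z ?_⟩
    rw [H48.tv_mul] at hz2
    have := inv_mem hz2
    rwa [H48.tv_inv, show -((1 : F) + 1) = 1 by linear_combination -h3] at this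
  -- opposite norms
  have hop : sf (L y) y = - sf (L x) x := by
    rcases mul_self_eq_one_iff.1 (hsmall _ (div_ne_zero hy hx)) with h | h
    · exact absurd ((div_eq_one_iff_eq hx).1 h) heq
    · rw [div_eq_iff hx] at h; rw [h]; ring
  set t : F := - sf (L y) y with ht
  have htt : t * t = 1 := hsmall t (neg_ne_zero.2 hy)
  set δ := x + L x + t • L y with hδ
  have hxx : sf x (L x) = - sf (L x) x := d.sf_swapL x x
  have hδδ : sf (L δ) δ = sf (L x) x := by
    simp only [hδ, map_add, map_smul, LinearMap.add_apply, LinearMap.smul_apply, smul_eq_mul, d.sq, hν,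
      d.sf_LL, d.sf_L_comm y x, hxy.2, hxy.1, (d.orth_symm hxy).1, H48.sf_self, hxx, d.sf_swapL x y,
      d.sf_swapL y x, d.sf_swapL y y, hop]
    linear_combination (-sf (L x) x) * htt
  obtain ⟨g, hgLg, hgL⟩ := d.exists_ref (p := δ) (by rw [hδδ]; exact hx) (k₁ := -1) (k₂ := -1)
    (by rw [hν]; ring)
  have hgK := hK g hgL
  set r := g • x with hr
  have hgz : g • z = z := by
    have h1 : Orth L z δ := by
      have a1 := d.orth_symm hxz
      have a2 := d.orth_symm hyz
      have a3 := d.orth_L a1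
      have a4 := d.orth_L a2
      exact ⟨by simp [hδ, a1.1, a3.1, a4.1], by simp [hδ, a1.2, a3.2, a4.2]⟩
    rw [hgLg, d.pl_orth (d.orth_symm h1)]; simp
  have hrv : r = (2 : F) • x + L x + t • L y := by
    rw [hr, hgLg, pl, hδδ,
      show sf (L δ) x = sf (L x) x by
        simp [hδ, d.sq, hν, hxx, d.sf_L_comm y x, hxy.2, H48.sf_eq_zero_comm hxy.1],
      show sf x δ = - sf (L x) x by simp [hδ, hxx, d.sf_swapL x y, d.sf_L_comm y x, hxy.2],
      neg_div, div_self hx, hδ]
    simp only [one_smul, map_add, map_smul, map_neg, neg_smul, d.sq, hν]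
    match_scalars <;> ring_nf
    all_goals first
      | linear_combination -h3
      | linear_combination (-t) * h3
  clear_value r
  have hPr : tv y (1 : F) * tv r 1 ∈ K := by
    have h1 := mul_mem (mul_mem hgK hQ) (inv_mem hgK)
    rw [d.conj_pair, hgz, ← hr] at h1
    have h2 := mul_mem (mul_mem hP' (inv_mem hQ)) h1
    have e : tv y (1 : F) * tv x 1 * (tv z 1 * tv x 1)⁻¹ * (tv z 1 * tv r 1) = tv y 1 * tv r 1 := by group
    rwa [e] at h2
  have hyr : sf y r = 1 := by
    rw [hrv]
    simp only [map_add, map_smul, smul_eq_mul, H48.sf_eq_zero_comm hxy.1, d.sf_swapL y x, hxy.2, d.sf_swapL y y,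
      mul_zero, zero_add, neg_zero, ht]
    linear_combination htt
  have hsq : tv (y + r) (1 : F) = tv y 1 * tv r 1 * (tv y 1 * tv r 1) := by
    refine H48.sp_ext fun u => ?_
    simp only [mul_smul, H48.tv_smul, map_add, LinearMap.add_apply, map_smul, LinearMap.smul_apply,
      smul_eq_mul, H48.sf_self, hyr, H48.sf_swap y r]
    match_scalars <;> ring_nf
    all_goals linear_combination (sf u r * 1) * h3
  refine ⟨y + r, fun e => ?_, hall _ (by rw [hsq]; exact mul_mem hPr hPr)⟩
  have h1 : sf y (y + r) = 0 := by rw [e, map_zero]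
  rw [map_add, H48.sf_self, hyr, zero_add] at h1
  exact one_ne_zero h1

/-- A centre moves to orthogonal anisotropic vectors. -/
theorem ctr_orth [Fintype F] {z y : V} (hz : IsCtr K z) (hzz : sf (L z) z ≠ 0) (hy : sf (L y) y ≠ 0)
    (h : Orth L z y) : IsCtr K y := by
  -- the whole line of z
  obtain ⟨g, hgK, hg, hne, -⟩ := d.exists_rot hK hzz
  have hline : ∀ a b : F, IsCtr K (a • z + b • L z) := by
    intro a b
    have h1 := hz.group_smul hgK
    rw [hg, show d.pl z z = z by simp [pl, hzz]] at h1 hne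
    set k₁ := 2 * ν / (1 - ν)
    set k₂ := 2 / (1 - ν) with hk₂
    have hk : k₂ ≠ 0 := div_ne_zero d.two d.nu_ne_one
    have hb : ∀ e, IsCtr K (z + e • L z) := fun e => by
      have h3 : ∀ t, IsCtr K (z + t • (z + k₁ • z + k₂ • L z)) := fun t => hz.add_smul_of_ne h1 hne t
      by_cases hT : 1 + e / k₂ * (1 + k₁) = 0
      · -- then e is non-zero, so scale
        have h4 := h3 (-(1 + k₁)⁻¹)
        have h10 : 1 + k₁ ≠ 0 := by intro e0; rw [e0, mul_zero, add_zero] at hT; exact one_ne_zero hT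
        have e4 : z + (-(1 + k₁)⁻¹) • (z + k₁ • z + k₂ • L z) = (-(k₂ / (1 + k₁))) • L z := by
          match_scalars <;> field_simp <;> ring
        rw [e4] at h4
        have h5 := h4.smul_vec (-((1 + k₁) / k₂))
        rw [smul_smul, show -((1 + k₁) / k₂) * -(k₂ / (1 + k₁)) = 1 by field_simp, one_smul] at h5
        exact hz.add_smul_of_ne h5 (by rw [d.sf_swapL]; simpa using hzz) e
      · -- z + t (…) is proportional
        by_cases hd : 1 - e / k₂ * (1 + k₁) = 0
        · have h10 : 1 + k₁ ≠ 0 := by intro e0; rw [e0, mul_zero, sub_zero] at hd; exact one_ne_zero hd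
          have h4 := h3 (-(1 + k₁)⁻¹)
          have e4 : z + (-(1 + k₁)⁻¹) • (z + k₁ • z + k₂ • L z) = (-(k₂ / (1 + k₁))) • L z := by
            match_scalars <;> field_simp <;> ring
          rw [e4] at h4
          have h5 := h4.smul_vec (-((1 + k₁) / k₂))
          rw [smul_smul, show -((1 + k₁) / k₂) * -(k₂ / (1 + k₁)) = 1 by field_simp, one_smul] at h5
          exact hz.add_smul_of_ne h5 (by rw [d.sf_swapL]; simpa using hzz) e
        · have h4 := (h3 (e / k₂ / (1 - e / k₂ * (1 + k₁)))).smul_vec (1 - e / k₂ * (1 + k₁))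
          have e4 : (1 - e / k₂ * (1 + k₁)) • (z + (e / k₂ / (1 - e / k₂ * (1 + k₁))) • (z + k₁ • z + k₂ • L z))
              = z + e • L z := by
            rw [smul_add, smul_smul, mul_div_cancel₀ _ hd]
            match_scalars <;> field_simp <;> ring
          rwa [e4] at h4
    rcases eq_or_ne a 0 with rfl | ha
    · rw [zero_smul, zero_add]
      have h2 := hz.add_smul_of_ne (hb 1) (by simpa [d.sf_swapL] using hzz) (-1)
      rw [show z + (-1 : F) • (z + (1 : F) • L z) = (-1 : F) • L z by module] at h2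
      have h3 := h2.smul_vec (-b)
      rwa [smul_smul, show -b * -1 = b by ring] at h3
    · have h2 := (hb (b / a)).smul_vec a
      rwa [smul_add, smul_smul, mul_div_cancel₀ _ ha] at h2
  obtain ⟨a, b, hab⟩ := d.exists_norm (sf (L y) y / sf (L z) z)
  set z' := a • z + b • L z with hz'
  have hz'N : sf (L z') z' = sf (L y) y := by rw [hz', d.norm_comb, hab, div_mul_cancel₀ _ hzz]
  have h' : Orth L y z' := d.orth_comb (d.orth_symm h) a b
  set δ := y - z' with hδ
  have hδδ : sf (L δ) δ = 2 * sf (L y) y := by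
    simp only [hδ, map_sub, LinearMap.sub_apply, h'.2, d.sf_L_comm z' y, hz'N]; ring
  obtain ⟨i, hiK, hi⟩ := d.exists_refl hK (p := δ) (by rw [hδδ]; exact mul_ne_zero d.two hy)
  have := d.two
  have hiz : i • z' = y := by
    rw [hi, pl, show sf (L δ) z' = - sf (L y) y by simp [hδ, h'.2, hz'N],
      show sf z' δ = 0 by simp [hδ, H48.sf_eq_zero_comm h'.1], hδδ, hδ]
    match_scalars <;> field_simp <;> ring
  have h2 := (hline a b).group_smul hiK
  rwa [← hz', hiz] at h2

/-- An anisotropic centre gives all anisotropic vectors. -/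
theorem ctr_aniso [Fintype F] {z y : V} (hz : IsCtr K z) (hzz : sf (L z) z ≠ 0) (hy : sf (L y) y ≠ 0) :
    IsCtr K y := by
  -- a step through two anisotropic vectors spanning a non-degenerate plane
  have step : ∀ z y : V, IsCtr K z → sf (L z) z ≠ 0 → sf (L y) y ≠ 0 →
      sf (L (y - d.pl z y)) (y - d.pl z y) ≠ 0 → IsCtr K y := by
    intro z y hz hzz hy hw
    obtain ⟨u, hzu, hwu, hu⟩ := d.exists_third hzz hw (d.orth_rest hzz y)
    have hyu : Orth L y u := by
      have h1 : Orth L u (d.pl z y) := d.orth_comb (d.orth_symm hzu) _ _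
      have h2 := d.orth_symm hwu
      refine d.orth_symm ⟨?_, ?_⟩
      · have := h2.1; rw [map_sub, h1.1, sub_zero] at this; exact this
      · have := h2.2; rw [map_sub, h1.2, sub_zero] at this; exact this
    exact d.ctr_orth hK (d.ctr_orth hK hz hzz hu hzu) hu hy (d.orth_symm hyu)
  set e := y - d.pl z y with he
  by_cases hee : sf (L e) e ≠ 0
  · exact step z y hz hzz hy hee
  rw [not_not] at hee
  by_cases he0 : e = 0
  · -- y is on the line of z
    obtain ⟨u, hzu, hu⟩ := d.exists_second hzz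
    have hyu : Orth L y u := by
      rw [sub_eq_zero] at he0
      rw [he0]
      exact d.orth_symm (d.orth_comb (d.orth_symm hzu) _ _)
    exact d.ctr_orth hK (d.ctr_orth hK hz hzz hu hzu) hu hy (d.orth_symm hyu)
  have hze : Orth L z e := d.orth_rest hzz y
  -- a partner of e orthogonal to z
  obtain ⟨u, hu⟩ := H48.exists_sf_ne he0
  set u₁ := u - d.pl z u with hu₁
  have hzu : Orth L z u₁ := d.orth_rest hzz u
  have heu : sf e u₁ ≠ 0 := by
    have h1 : Orth L e (d.pl z u) := d.orth_comb (d.orth_symm hze) _ _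
    rw [hu₁, map_sub, h1.1, sub_zero]; exact hu
  obtain ⟨p, hzp, hpp, hpe⟩ : ∃ p, Orth L z p ∧ sf (L p) p ≠ 0 ∧
      sf (L (y - d.pl p y)) (y - d.pl p y) ≠ 0 := by
    have hLe := d.orth_L hze
    -- p ranges over combinations of u₁ and L e
    have hP : ∀ k : F, sf (L (u₁ + k • L e)) (u₁ + k • L e) = sf (L u₁) u₁ + 2 * ν * k * sf e u₁ := by
      intro k
      simp only [map_add, map_smul, LinearMap.add_apply, LinearMap.smul_apply, smul_eq_mul, d.sq, d.sf_LL,
        d.sf_swapL e e, hee, H48.sf_swap e u₁]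
      ring
    have horth : ∀ k : F, Orth L z (u₁ + k • L e) := fun k =>
      ⟨by simp [hzu.1, hLe.1], by simp [hzu.2, hLe.2]⟩
    set A := sf (L u₁) u₁
    set B := 2 * ν * sf e u₁
    have hB : B ≠ 0 := mul_ne_zero (mul_ne_zero d.two d.nu_ne) heu
    set C := sf (L e) u₁
    -- the norm of the rest of y
    have hrest : ∀ k : F, sf (L (u₁ + k • L e)) (u₁ + k • L e) ≠ 0 →
        sf (L (y - d.pl (u₁ + k • L e) y)) (y - d.pl (u₁ + k • L e) y) =
          sf (L y) y - (C * C - ν * (sf e u₁ * sf e u₁)) / (A + k * B) := by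
      intro k hk
      have hyd : y = d.pl z y + e := by rw [he, add_sub_cancel]
      have e1 : sf (L (u₁ + k • L e)) y = C := by
        have h1 : Orth L (u₁ + k • L e) (d.pl z y) := d.orth_comb (d.orth_symm (horth k)) _ _
        rw [hyd, map_add, h1.2, zero_add]
        simp only [map_add, map_smul, LinearMap.add_apply, LinearMap.smul_apply, smul_eq_mul, d.sq, H48.sf_self,
          d.sf_L_comm u₁ e]
        simp [C]
      have e2 : sf y (u₁ + k • L e) = sf e u₁ := by
        have h1 : Orth L (u₁ + k • L e) (d.pl z y) := d.orth_comb (d.orth_symm (horth k)) _ _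
        have h1' : sf (d.pl z y) (u₁ + k • L e) = 0 := H48.sf_eq_zero_comm h1.1
        rw [hyd, map_add (sf : V →ₗ[F] V →ₗ[F] F), LinearMap.add_apply, h1', zero_add, map_add, map_smul,
          d.sf_swapL, hee]
        simp
      set p := u₁ + k • L e with hp
      have hpd : A + k * B = sf (L p) p := by rw [hP]; simp only [A, B]; ring
      rw [hpd]
      simp only [pl, map_add, map_sub, map_smul, LinearMap.add_apply, LinearMap.sub_apply, LinearMap.smul_apply,
        smul_eq_mul, d.sq, d.sf_LL, d.sf_swapL p p, H48.sf_self, e1, e2, d.sf_L_comm y p,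
        d.sf_swapL y p, H48.sf_swap y p]
      field_simp
      ring
    obtain ⟨k, hk1, hk2⟩ : ∃ k : F, A + k * B ≠ 0 ∧
        sf (L y) y * (A + k * B) - (C * C - ν * (sf e u₁ * sf e u₁)) ≠ 0 := by
      classical
      obtain ⟨k, -, hk⟩ := Finset.exists_mem_notMem_of_card_lt_card
        (s := ({-A / B, ((C * C - ν * (sf e u₁ * sf e u₁)) / sf (L y) y - A) / B} : Finset F))
        (t := Finset.univ) (lt_of_le_of_lt Finset.card_le_two (by
          rw [Finset.card_univ]
          have hodd := FiniteField.odd_card_of_char_ne_two (F := F) (fun h => d.two (by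
            haveI := ringChar.of_eq h
            exact CharP.cast_eq_zero F 2))
          have := Fintype.one_lt_card (α := F)
          omega))
      simp only [Finset.mem_insert, Finset.mem_singleton, not_or] at hk
      refine ⟨k, fun e0 => hk.1 ?_, fun e0 => hk.2 ?_⟩
      · rw [eq_div_iff hB]; linear_combination e0
      · rw [eq_div_iff hB]; field_simp; linear_combination e0
    have hk1' : sf (L (u₁ + k • L e)) (u₁ + k • L e) ≠ 0 := by
      rw [hP]; intro e0; exact hk1 (by simp only [A, B]; linear_combination e0)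
    refine ⟨_, horth k, hk1', ?_⟩
    rw [hrest k hk1']
    intro e0
    rw [sub_eq_zero, eq_div_iff hk1] at e0
    exact hk2 (by linear_combination e0)
  exact step p y (d.ctr_orth hK hz hzz hpp hzp) hpp hy hpe

/-- An anisotropic centre gives everything. -/
theorem top_of_aniso [Fintype F] {z : V} (hz : IsCtr K z) (hzz : sf (L z) z ≠ 0) : K = ⊤ := by
  refine eq_top_of_ctr K fun v => ?_
  by_cases hv : sf (L v) v ≠ 0
  · exact d.ctr_aniso hK hz hzz hv
  rw [not_not] at hv
  by_cases hv0 : v = 0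
  · intro c; rw [hv0, H48.tv_zero_left]; exact one_mem _
  obtain ⟨w, u, hw, hvw, hLvw, hvu, hwu, hu⟩ := d.exists_partner hv hv0
  set a := w + u with ha
  have haa : sf (L a) a = sf (L u) u := by
    simp only [ha, map_add, LinearMap.add_apply, hw, hwu.2, d.sf_L_comm u w]; ring
  have hra : sf (L (v - a)) (v - a) = sf (L u) u := by
    simp only [ha, map_add, map_sub, LinearMap.add_apply, LinearMap.sub_apply, hw, hwu.2, hv, hvu.2, hLvw,
      d.sf_L_comm u w, d.sf_L_comm u v, d.sf_L_comm w v]; ring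
  have hne : sf a (v - a) ≠ 0 := by
    rw [map_sub, H48.sf_self, sub_zero, ha, map_add, LinearMap.add_apply, H48.sf_swap v w, hvw,
      H48.sf_eq_zero_comm hvu.1, add_zero]
    exact neg_ne_zero.2 one_ne_zero
  have := (d.ctr_aniso hK hz hzz (haa ▸ hu)).add_smul_of_ne (d.ctr_aniso hK hz hzz (hra ▸ hu)) hne 1
  rwa [one_smul, add_sub_cancel] at this

/-- A non-zero centre gives everything. -/
theorem all_ctr [Fintype F] {z : V} (hz : IsCtr K z) (hz0 : z ≠ 0) : K = ⊤ := by
  by_cases hzz : sf (L z) z ≠ 0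
  · exact d.top_of_aniso hK hz hzz
  rw [not_not] at hzz
  obtain ⟨w, u, hw, hzw, hLzw, -, -, -⟩ := d.exists_partner hzz hz0
  set p := w + L z with hp
  have hpp : sf (L p) p = 2 * ν := by
    simp only [hp, map_add, map_smul, LinearMap.add_apply, LinearMap.smul_apply, smul_eq_mul, d.sq, hw,
      d.sf_LL, d.sf_swapL z z, hzz, hzw, H48.sf_swap z w]
    ring
  have hpp0 : sf (L p) p ≠ 0 := by rw [hpp]; exact mul_ne_zero d.two d.nu_ne
  obtain ⟨g, hgK, hg, -, hgL⟩ := d.exists_rot hK hpp0
  have h1 := hz.group_smul hgK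
  have e1 : sf (L p) z = 0 := by
    simp only [hp, map_add, d.sq, map_smul, LinearMap.add_apply, LinearMap.smul_apply, d.sf_L_comm w z, hLzw,
      H48.sf_self, smul_zero, add_zero]
  have e2 : sf z p = 1 := by rw [hp, map_add, hzw, d.sf_swapL, hzz, neg_zero, add_zero]
  have hval : sf z (g • z) = 2 * ν / (1 - ν) * (0 : F) + 2 / (1 - ν) * (ν / (2 * ν)) ∧
      sf (L z) (g • z) = 2 * ν / (1 - ν) * (-ν / (2 * ν)) := by
    rw [hg, pl, hpp, e1, e2]
    simp only [map_add, map_smul, smul_eq_mul, d.sq, H48.sf_self, e2, hzz, d.sf_LL, zero_div, zero_mul,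
      d.sf_swapL z p, d.sf_L_comm p z, e1, show sf (L z) p = 0 from (d.sf_L_comm z p).trans e1]
    constructor <;> ring
  have hd := d.two
  have hν := d.nu_ne
  have hν1 := d.nu_ne_one
  have hne : sf z (g • z) ≠ 0 := by
    rw [hval.1, mul_zero, zero_add]
    exact mul_ne_zero (div_ne_zero hd hν1) (div_ne_zero hν (mul_ne_zero hd hν))
  have hgz : sf (L (g • z)) (g • z) = 0 := by rw [← hgL, H48.sf_smul_smul, hzz]
  have h2 := hz.add_smul_of_ne h1 hne 1
  refine d.top_of_aniso hK h2 ?_
  rw [one_smul]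
  simp only [map_add, LinearMap.add_apply, hzz, hgz, d.sf_L_comm (g • z) z, hval.2]
  intro e0
  exact mul_ne_zero (div_ne_zero (mul_ne_zero hd hν) hν1) (div_ne_zero (neg_ne_zero.2 hν) (mul_ne_zero hd hν))
    ((mul_eq_zero.1 (show (2 : F) * (2 * ν / (1 - ν) * (-ν / (2 * ν))) = 0 by linear_combination e0)).resolve_left hd)

/-- A root element off the lines gives a centre. -/
theorem ctr_of_break [Fintype F] {g : Sp} (hg : g ∈ K) {v : V} (hv : sf (L v) v = 0)
    (hnot : g • L v ∉ Submodule.span F ({g • v, L (g • v)} : Set V)) : ∃ z, z ≠ 0 ∧ IsCtr K z := by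
  set x₀ := g • v
  set y₀ := g • L v
  have hP₀ : ∀ a b c : F, tv ((b * ν) • x₀ + a • y₀) c * tv (a • x₀ + b • y₀) (-(ν * c)) ∈ K := by
    intro a b c
    have hv' : sf (L (a • v + b • L v)) (a • v + b • L v) = 0 := by rw [d.norm_comb, hv, mul_zero]
    have h := mul_mem (mul_mem hg (d.aroot_mem hK hv' c)) (inv_mem hg)
    have e1 : L (a • v + b • L v) = (b * ν) • v + a • L v := by
      rw [map_add, map_smul, map_smul, d.sq, smul_smul, add_comm]
    rw [aroot, d.conj_pair, e1, smul_add, smul_add, smul_comm g, smul_comm g, smul_comm g, smul_comm g] at h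
    exact h
  have hxy₀ : sf x₀ y₀ = 0 := by rw [H48.sf_smul_smul, d.sf_swapL, hv, neg_zero]
  have hx₀v : x₀ = g • v := rfl
  have hy₀v : y₀ = g • L v := rfl
  clear_value x₀ y₀
  have hout : ∀ a b : F, a ≠ 0 ∨ b ≠ 0 →
      (b * ν) • x₀ + a • y₀ ∉ Submodule.span F ({a • x₀ + b • y₀, L (a • x₀ + b • y₀)} : Set V) := by
    intro a b hab hmem
    set S := Submodule.span F ({a • x₀ + b • y₀, L (a • x₀ + b • y₀)} : Set V) with hS
    have h1 : a • x₀ + b • y₀ ∈ S := Submodule.subset_span (Set.mem_insert _ _)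
    have hne := d.sq_ne hab
    have hx : (a * a - ν * (b * b)) • x₀ ∈ S := by
      have : (a * a - ν * (b * b)) • x₀ = a • (a • x₀ + b • y₀) - b • ((b * ν) • x₀ + a • y₀) := by module
      rw [this]; exact S.sub_mem (S.smul_mem _ h1) (S.smul_mem _ hmem)
    have hy : (a * a - ν * (b * b)) • y₀ ∈ S := by
      have : (a * a - ν * (b * b)) • y₀ = a • ((b * ν) • x₀ + a • y₀) - (b * ν) • (a • x₀ + b • y₀) := by module
      rw [this]; exact S.sub_mem (S.smul_mem _ hmem) (S.smul_mem _ h1)
    rw [S.smul_mem_iff hne] at hx hy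
    have hLx : L x₀ ∈ S := d.span_invariant _ _ hx
    -- both basis vectors lie in an invariant plane, which is then that of x₀
    have hle : Submodule.span F ({x₀, L x₀} : Set V) ≤ S :=
      Submodule.span_le.2 (Set.insert_subset_iff.2 ⟨hx, Set.singleton_subset_iff.2 hLx⟩)
    have hx₀ : x₀ ≠ 0 := fun e0 => hnot (by
      have hv0 : v = 0 := (smul_eq_zero_iff_eq g).1 (hx₀v ▸ e0)
      rw [hy₀v, hv0, map_zero, smul_zero]; exact Submodule.zero_mem _)
    have hli : LinearIndependent F ![x₀, L x₀] := LinearIndependent.pair_iff.2 fun p r e0 => by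
      by_contra hne'
      simp only [not_and_or] at hne'
      have h2 : (p * p - ν * (r * r)) • x₀ = p • (p • x₀ + r • L x₀) - r • L (p • x₀ + r • L x₀) := by
        rw [map_add, map_smul, map_smul, d.sq]; module
      rw [e0, map_zero, smul_zero, smul_zero, sub_zero, smul_eq_zero] at h2
      exact d.sq_ne hne' (h2.resolve_right hx₀)
    have h2 : Module.finrank F (Submodule.span F ({x₀, L x₀} : Set V)) = 2 := by
      have := finrank_span_eq_card hli
      rw [Matrix.range_cons, Matrix.range_cons, Matrix.range_empty, Set.union_empty, Set.singleton_union,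
        Fintype.card_fin] at this
      exact this
    exact hnot ((Submodule.eq_of_le_of_finrank_le hle (by rw [h2]; exact d.finrank_pair _ _)).symm ▸ hy)
  obtain ⟨a, b, hab, hN⟩ : ∃ a b : F, (a ≠ 0 ∨ b ≠ 0) ∧ sf (L (a • x₀ + b • y₀)) (a • x₀ + b • y₀) ≠ 0 := by
    by_contra hcon
    simp only [not_exists, not_and, not_not] at hcon
    have hx := hcon 1 0 (Or.inl one_ne_zero)
    have hy := hcon 0 1 (Or.inr one_ne_zero)
    have hs := hcon 1 1 (Or.inl one_ne_zero)
    simp only [one_smul, zero_smul, add_zero, zero_add, map_add, LinearMap.add_apply, d.sf_L_comm y₀ x₀] at hx hy hs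
    rw [hx, hy] at hs
    have hxy : sf (L x₀) y₀ = 0 :=
      (mul_eq_zero.1 (show (2 : F) * sf (L x₀) y₀ = 0 by linear_combination hs)).resolve_left d.two
    -- a totally isotropic invariant subspace of dimension four
    let S := Submodule.span F ({x₀, L x₀} : Set V) ⊔ Submodule.span F ({y₀, L y₀} : Set V)
    let B : LinearMap.BilinForm F V := H48.sf
    have hB : B.Nondegenerate :=
      ⟨fun x hx => H48.eq_zero_of_sf hx, fun y hy => H48.eq_zero_of_sf fun x => H48.sf_eq_zero_comm (hy x)⟩
    have hiso : S ≤ B.orthogonal S := by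
      have k1 : sf (L y₀) x₀ = 0 := (d.sf_L_comm y₀ x₀).trans hxy
      have k2 : sf y₀ x₀ = 0 := H48.sf_eq_zero_comm hxy₀
      have k3 : sf x₀ (L x₀) = 0 := H48.sf_eq_zero_comm hx
      have k4 : sf y₀ (L y₀) = 0 := H48.sf_eq_zero_comm hy
      have k5 : sf x₀ (L y₀) = 0 := H48.sf_eq_zero_comm k1
      have k6 : sf y₀ (L x₀) = 0 := H48.sf_eq_zero_comm hxy
      have hgen : ∀ u ∈ ({x₀, L x₀, y₀, L y₀} : Set V), ∀ w ∈ ({x₀, L x₀, y₀, L y₀} : Set V), sf u w = 0 := by
        intro u hu w hw
        simp only [Set.mem_insert_iff, Set.mem_singleton_iff] at hu hw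
        rcases hu with h | h | h | h <;> rcases hw with h' | h' | h' | h' <;> rw [h, h'] <;>
          simp [d.sf_LL, hx, hy, hxy, hxy₀, k1, k2, k3, k4, k5, k6]
      have hSeq : S = Submodule.span F ({x₀, L x₀, y₀, L y₀} : Set V) := by
        show _ ⊔ _ = _
        rw [← Submodule.span_union]
        congr 1
        ext u
        simp only [Set.mem_union, Set.mem_insert_iff, Set.mem_singleton_iff]
        tauto
      intro u hu w hw
      rw [hSeq] at hu hw
      induction hw using Submodule.span_induction with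
      | mem w hw =>
        induction hu using Submodule.span_induction with
        | mem u hu => exact hgen w hw u hu
        | zero => simp [B, LinearMap.BilinForm.IsOrtho]
        | add a b _ _ ha hb => simp_all [B, LinearMap.BilinForm.IsOrtho]
        | smul r a _ ha => simp_all [B, LinearMap.BilinForm.IsOrtho]
      | zero => simp [B, LinearMap.BilinForm.IsOrtho]
      | add a b _ _ ha hb => simp_all [B, LinearMap.BilinForm.IsOrtho]
      | smul r a _ ha => simp_all [B, LinearMap.BilinForm.IsOrtho]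
    have h1 := Submodule.finrank_mono hiso
    rw [LinearMap.BilinForm.finrank_orthogonal hB, Module.finrank_pi, Fintype.card_sum, Fintype.card_fin] at h1
    have := d.rank
    have h4 : 4 ≤ Module.finrank F S := by
      have hli : LinearIndependent F ![x₀, L x₀, y₀, L y₀] := by
        refine Fintype.linearIndependent_iff.2 fun c hc => ?_
        simp [Fin.sum_univ_four] at hc
        have hy' : c 2 • y₀ + c 3 • L y₀ ∈ Submodule.span F ({x₀, L x₀} : Set V) := by
          refine Submodule.mem_span_pair.2 ⟨-(c 0), -(c 1), ?_⟩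
          linear_combination (norm := module) -hc
        have h23 : c 2 = 0 ∧ c 3 = 0 := by
          by_contra hne
          simp only [not_and_or] at hne
          have h2 : (c 2 * c 2 - ν * (c 3 * c 3)) • y₀ =
              c 2 • (c 2 • y₀ + c 3 • L y₀) - c 3 • L (c 2 • y₀ + c 3 • L y₀) := by
            rw [map_add, map_smul, map_smul, d.sq]; module
          apply hnot
          rw [← (Submodule.span F ({x₀, L x₀} : Set V)).smul_mem_iff (d.sq_ne hne), h2]
          exact Submodule.sub_mem _ (Submodule.smul_mem _ _ hy') (Submodule.smul_mem _ _ (d.span_invariant x₀ _ hy'))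
        have h01 : c 0 = 0 ∧ c 1 = 0 := by
          by_contra hne
          simp only [not_and_or] at hne
          rw [h23.1, h23.2, zero_smul, zero_smul, add_zero, add_zero] at hc
          have h2 : (c 0 * c 0 - ν * (c 1 * c 1)) • x₀ =
              c 0 • (c 0 • x₀ + c 1 • L x₀) - c 1 • L (c 0 • x₀ + c 1 • L x₀) := by
            rw [map_add, map_smul, map_smul, d.sq]; module
          rw [hc, map_zero, smul_zero, smul_zero, sub_zero, smul_eq_zero] at h2
          apply hnot
          have hv0 : v = 0 := (smul_eq_zero_iff_eq g).1 (hx₀v ▸ h2.resolve_left (d.sq_ne hne))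
          rw [hy₀v, hv0, map_zero, smul_zero]; exact Submodule.zero_mem _
        intro i; fin_cases i
        exacts [h01.1, h01.2, h23.1, h23.2]
      have h5 := finrank_span_eq_card hli
      rw [Fintype.card_fin] at h5
      refine le_trans (le_of_eq h5.symm) ?_
      apply Submodule.finrank_mono
      rw [Submodule.span_le]
      rintro _ ⟨i, rfl⟩
      fin_cases i
      · exact Submodule.mem_sup_left (Submodule.subset_span (Set.mem_insert _ _))
      · exact Submodule.mem_sup_left (Submodule.subset_span (Set.mem_insert_of_mem _ rfl))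
      · exact Submodule.mem_sup_right (Submodule.subset_span (Set.mem_insert _ _))
      · exact Submodule.mem_sup_right (Submodule.subset_span (Set.mem_insert_of_mem _ rfl))
    omega
  set x := a • x₀ + b • y₀ with hx
  set y := (b * ν) • x₀ + a • y₀ with hy
  have hP := hP₀ a b
  have hxy : sf x y = 0 := by simp [hx, hy, hxy₀, H48.sf_eq_zero_comm hxy₀]
  by_cases hval : sf (L x) y ≠ 0
  · exact d.tilted hK hP hN hxy hval (hout a b hab)
  rw [not_not] at hval
  by_cases hyy : sf (L y) y = 0
  · -- change the basis of the plane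
    have hab' : a + b ≠ 0 ∨ b * ν + a ≠ 0 ∨ True := Or.inr (Or.inr trivial)
    have hP' : ∀ c : F, tv (ν • x + y) c * tv (x + y) (-(ν * c)) ∈ K := fun c => by
      have := hP₀ (a + b * ν) (b + a) c
      rwa [show ((b + a) * ν) • x₀ + (a + b * ν) • y₀ = ν • x + y by rw [hx, hy]; module,
        show (a + b * ν) • x₀ + (b + a) • y₀ = x + y by rw [hx, hy]; module] at this
    refine d.tilted hK hP' ?_ ?_ ?_ ?_
    · simp only [map_add, LinearMap.add_apply, hval, hyy, d.sf_L_comm y x]
      simpa using hN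
    · simp [hxy, H48.sf_eq_zero_comm hxy]
    · simp only [map_add, map_smul, LinearMap.add_apply, smul_eq_mul, hval, hyy, d.sf_L_comm y x]
      simpa using mul_ne_zero d.nu_ne hN
    · have hne : a + b * ν ≠ 0 ∨ b + a ≠ 0 := by
        by_contra hcon
        simp only [not_or, not_not] at hcon
        have hb : b * (ν - 1) = 0 := by linear_combination hcon.1 - hcon.2
        have hb0 := (mul_eq_zero.1 hb).resolve_right (sub_ne_zero.2 fun e => d.nonsq ⟨1, by rw [e, one_mul]⟩)
        rw [hb0, zero_mul, add_zero] at hcon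
        exact hab.elim (fun h => h hcon.1) (fun h => h hb0)
      have := hout (a + b * ν) (b + a) hne
      rwa [show ((b + a) * ν) • x₀ + (a + b * ν) • y₀ = ν • x + y by rw [hx, hy]; module,
        show (a + b * ν) • x₀ + (b + a) • y₀ = x + y by rw [hx, hy]; module] at this
  by_cases hbig : ∃ s : F, s ≠ 0 ∧ s * s ≠ 1
  · exact d.straight hK hP hN hyy ⟨hxy, hval⟩ hbig
  · simp only [not_exists, not_and, not_not] at hbig
    exact d.straight_three hK hP hN hyy ⟨hxy, hval⟩ hbig

/-- The overgroups. -/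
theorem eq_top_of_moves [Fintype F] {g : Sp} (hg : g ∈ K)
    (hmove : ¬ ((∀ w, g • L w = L (g • w)) ∨ ∀ w, g • L w = - L (g • w))) : K = ⊤ := by
  by_cases hline : ∀ v, sf (L v) v = 0 → g • L v ∈ Submodule.span F ({g • v, L (g • v)} : Set V)
  swap
  · simp only [not_forall] at hline
    obtain ⟨v, hv, hnot⟩ := hline
    obtain ⟨z, hz0, hz⟩ := d.ctr_of_break hK hg hv hnot
    exact d.all_ctr hK hz hz0
  exfalso
  apply hmove
  -- the conjugate structure fixes every isotropic line
  let A : V →ₗ[F] V := (DistribMulAction.toLinearEquiv F V g⁻¹).toLinearMap ∘ₗ L ∘ₗ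
    (DistribMulAction.toLinearEquiv F V g).toLinearMap
  have hA : ∀ v, g • A v = L (g • v) := fun v => smul_inv_smul g _
  have hAA : ∀ v, A (A v) = ν • v := fun v => by
    have : g • A (A v) = g • (ν • v) := by rw [hA, hA, d.sq, smul_comm]
    exact (smul_left_cancel_iff g).1 this
  have hAv : ∀ v, sf (L v) v = 0 → v ≠ 0 → ∃ a b : F, A v = a • v + b • L v := by
    intro v hv hv0
    obtain ⟨p, q, hpq⟩ := Submodule.mem_span_pair.1 (hline v hv)
    have e : L v = p • v + q • A v := by
      apply (smul_left_cancel_iff g).1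
      rw [← hpq, smul_add, smul_comm g p, smul_comm g q, hA]
    have hq : q ≠ 0 := fun e0 => by
      rw [e0, zero_smul, add_zero] at e
      have h := congrArg L e
      rw [d.sq, map_smul, e, smul_smul] at h
      exact d.nonsq ⟨p, smul_left_injective F hv0 h⟩
    refine ⟨-(p / q), q⁻¹, ?_⟩
    rw [e]
    match_scalars <;> field_simp <;> ring
  choose! af bf hAv using hAv
  -- the coefficients agree on orthogonal independent isotropic vectors
  have hpair : ∀ v w, sf (L v) v = 0 → v ≠ 0 → sf (L w) w = 0 → sf (L v) w = 0 →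
      w ∉ Submodule.span F ({v, L v} : Set V) → af v = af w ∧ bf v = bf w := by
    intro v w hv hv0 hw hvw hnot
    have hw0 : w ≠ 0 := fun e => hnot (by rw [e]; exact Submodule.zero_mem _)
    have hsum : sf (L (v + w)) (v + w) = 0 := by
      simp [hv, hw, hvw, d.sf_L_comm w v]
    have hsum0 : v + w ≠ 0 := fun e => hnot (by
      rw [eq_neg_of_add_eq_zero_right e]; exact Submodule.neg_mem _ (Submodule.subset_span (Set.mem_insert _ _)))
    have e := hAv (v + w) hsum hsum0
    rw [map_add, hAv v hv hv0, hAv w hw hw0, map_add] at e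
    set a := af (v + w)
    set b := bf (v + w)
    have e1 : (af w - a) • w + (bf w - b) • L w = (a - af v) • v + (b - bf v) • L v := by
      linear_combination (norm := module) e
    have key : ∀ p q : F, p • w + q • L w ∈ Submodule.span F ({v, L v} : Set V) → p = 0 ∧ q = 0 := by
      intro p q hpq
      by_contra hne
      have h1 : (p * p - q * q * ν) • w = p • (p • w + q • L w) - q • L (p • w + q • L w) := by
        rw [map_add, map_smul, map_smul, d.sq]
        module
      have hne' : p * p - q * q * ν ≠ 0 := by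
        intro e0
        rcases eq_or_ne q 0 with rfl | hq
        · rw [zero_mul, zero_mul, sub_zero, mul_self_eq_zero] at e0
          exact hne ⟨e0, rfl⟩
        · exact d.nonsq ⟨p / q, by field_simp; linear_combination -e0⟩
      exact hnot (((Submodule.span F ({v, L v} : Set V)).smul_mem_iff hne').1
        (h1 ▸ Submodule.sub_mem _ (Submodule.smul_mem _ _ hpq) (Submodule.smul_mem _ _ (d.span_invariant v _ hpq))))
    obtain ⟨k1, k2⟩ := key (af w - a) (bf w - b) (by
      rw [e1]; exact Submodule.mem_span_pair.2 ⟨_, _, rfl⟩)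
    rw [k1, k2, zero_smul, zero_smul, add_zero] at e1
    have key' : ∀ p q : F, p • v + q • L v = 0 → p = 0 ∧ q = 0 := by
      intro p q hpq
      by_contra hne
      have h1 : (p * p - q * q * ν) • v = p • (p • v + q • L v) - q • L (p • v + q • L v) := by
        rw [map_add, map_smul, map_smul, d.sq]
        module
      rw [hpq, map_zero, smul_zero, smul_zero, sub_zero, smul_eq_zero] at h1
      have h2 := h1.resolve_right hv0
      rcases eq_or_ne q 0 with rfl | hq
      · rw [zero_mul, zero_mul, sub_zero, mul_self_eq_zero] at h2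
        exact hne ⟨h2, rfl⟩
      · exact d.nonsq ⟨p / q, by field_simp; linear_combination -h2⟩
    obtain ⟨k3, k4⟩ := key' _ _ e1.symm
    exact ⟨(sub_eq_zero.1 k3).symm.trans (sub_eq_zero.1 k1).symm, (sub_eq_zero.1 k4).symm.trans (sub_eq_zero.1 k2).symm⟩
  have hline0 : ∀ v, sf (L v) v = 0 → v ≠ 0 → ∀ p r : F, p ≠ 0 ∨ r ≠ 0 →
      af (p • v + r • L v) = af v ∧ bf (p • v + r • L v) = bf v := by
    intro v hv hv0 p r hpr
    by_cases hr : r = 0
    · subst hr
      have hp := hpr.resolve_right (not_not.2 rfl)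
      rw [zero_smul, add_zero]
      have hiso : sf (L (p • v)) (p • v) = 0 := by simp [hv]
      have e := hAv (p • v) hiso (smul_ne_zero hp hv0)
      rw [map_smul, hAv v hv hv0, map_smul] at e
      have e0 : (p * (af (p • v) - af v)) • v + (p * (bf (p • v) - bf v)) • L v = 0 := by
        linear_combination (norm := module) -e
      have key : ∀ a b : F, a • v + b • L v = 0 → a = 0 ∧ b = 0 := fun a b h0 => by
        by_contra hne
        simp only [not_and_or] at hne
        have h2 : (a * a - ν * (b * b)) • v = a • (a • v + b • L v) - b • L (a • v + b • L v) := by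
          rw [map_add, map_smul, map_smul, d.sq]; module
        rw [h0, map_zero, smul_zero, smul_zero, sub_zero, smul_eq_zero] at h2
        exact d.sq_ne hne (h2.resolve_right hv0)
      obtain ⟨k1, k2⟩ := key _ _ e0
      exact ⟨sub_eq_zero.1 ((mul_eq_zero.1 k1).resolve_left hp), sub_eq_zero.1 ((mul_eq_zero.1 k2).resolve_left hp)⟩
    obtain ⟨w, z, hw, hvw, hLvw, hvz, hwz, hz⟩ := d.exists_partner hv hv0
    set v₂ := p • v + r • L v with hv₂
    have hv₂iso : sf (L v₂) v₂ = 0 := by rw [hv₂, d.norm_comb, hv, mul_zero]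
    have hzero : ∀ a b : F, a • v + b • L v = 0 → a = 0 ∧ b = 0 := fun a b h0 => by
      by_contra hne
      simp only [not_and_or] at hne
      have h2 : (a * a - ν * (b * b)) • v = a • (a • v + b • L v) - b • L (a • v + b • L v) := by
        rw [map_add, map_smul, map_smul, d.sq]; module
      rw [h0, map_zero, smul_zero, smul_zero, sub_zero, smul_eq_zero] at h2
      exact d.sq_ne hne (h2.resolve_right hv0)
    have hv₂0 : v₂ ≠ 0 := fun e => hr (hzero p r e).2
    have hwv : w ∉ Submodule.span F ({v, L v} : Set V) := fun hmem => by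
      obtain ⟨a, b, rfl⟩ := Submodule.mem_span_pair.1 hmem
      simp [d.sf_swapL, hv] at hvw
    set u := (sf (L z) z / (2 * ν * r)) • v + (p • w + r • L w) + z with hu
    have hwLv : sf w (L v) = 0 := by rw [d.sf_swapL, hLvw, neg_zero]
    have huu : sf (L u) u = 0 := by
      simp only [hu, map_add, map_smul, LinearMap.add_apply, LinearMap.smul_apply, smul_eq_mul, d.sq, d.sf_LL,
        H48.sf_self, hv, hw, hLvw, hvw, H48.sf_swap v w, d.sf_L_comm w v, hvz.1, hvz.2, hwz.1, hwz.2,
        d.sf_L_comm z v, d.sf_L_comm z w, (d.orth_L (d.orth_symm hwz)).2, (d.orth_L hwz).1, d.sf_swapL w w,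
        H48.sf_eq_zero_comm hwz.1, H48.sf_eq_zero_comm hvz.1]
      have := d.two
      have := d.nu_ne
      field_simp
      ring
    have hwu : sf (L w) u = 0 := by
      simp [hu, hw, hwz.2, d.sf_L_comm w v, hLvw]
    have hv₂u : sf (L v₂) u = 0 := by
      simp only [hu, hv₂, map_add, map_smul, LinearMap.add_apply, LinearMap.smul_apply, smul_eq_mul, d.sq,
        d.sf_LL, H48.sf_self, hv, hLvw, hvw, hvz.1, hvz.2, d.sf_swapL v w, d.sf_L_comm w v]
      ring
    have huw : u ∉ Submodule.span F ({w, L w} : Set V) := fun hmem => by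
      obtain ⟨a, b, hab⟩ := Submodule.mem_span_pair.1 hmem
      have h0 : sf (L z) u = sf (L z) z := by
        simp [hu, (d.orth_symm hvz).2, (d.orth_symm hwz).2, (d.orth_L (d.orth_symm hwz)).2]
      rw [← hab] at h0
      simp [(d.orth_symm hwz).2, (d.orth_L (d.orth_symm hwz)).2] at h0
      exact hz h0.symm
    have huv₂ : u ∉ Submodule.span F ({v₂, L v₂} : Set V) := fun hmem => by
      obtain ⟨a, b, hab⟩ := Submodule.mem_span_pair.1 hmem
      have h0 : sf (L z) u = sf (L z) z := by
        simp [hu, (d.orth_symm hvz).2, (d.orth_symm hwz).2, (d.orth_L (d.orth_symm hwz)).2]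
      rw [← hab, hv₂] at h0
      simp [(d.orth_symm hvz).2, (d.orth_L (d.orth_symm hvz)).2, d.sq] at h0
      exact hz h0.symm
    obtain ⟨a1, b1⟩ := hpair v w hv hv0 hw hLvw hwv
    obtain ⟨a2, b2⟩ := hpair w u hw (fun e => hwv (e ▸ Submodule.zero_mem _)) huu hwu huw
    obtain ⟨a3, b3⟩ := hpair v₂ u hv₂iso hv₂0 huu hv₂u huv₂
    exact ⟨a3.trans (a2.symm.trans a1.symm), b3.trans (b2.symm.trans b1.symm)⟩
  obtain ⟨v₀, hv₀, hv₀0⟩ : ∃ v₀, sf (L v₀) v₀ = 0 ∧ v₀ ≠ 0 := by
    obtain ⟨x, hx⟩ : ∃ x : V, x ≠ 0 := by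
      refine ⟨Pi.single (Sum.inl ⟨0, by rw [d.rank]; norm_num⟩) 1, fun e => ?_⟩
      simpa using congrFun e (Sum.inl ⟨0, by rw [d.rank]; norm_num⟩)
    by_cases hxx : sf (L x) x = 0
    · exact ⟨x, hxx, hx⟩
    obtain ⟨y, hxy, hy⟩ := d.exists_second hxx
    obtain ⟨a, b, hab⟩ := d.exists_norm (-(sf (L x) x) / sf (L y) y)
    refine ⟨x + (a • y + b • L y), ?_, fun e => hxx ?_⟩
    · have h1 := d.orth_comb hxy a b
      rw [map_add, map_add, map_add, LinearMap.add_apply, LinearMap.add_apply, h1.2,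
        d.sf_L_comm (a • y + b • L y) x, h1.2,
        d.norm_comb, hab, div_mul_cancel₀ _ hy]
      ring
    · have h1 := d.orth_comb hxy a b
      have h2 : sf (L x) (x + (a • y + b • L y)) = 0 := by rw [e, map_zero]
      rwa [map_add, h1.2, add_zero] at h2
  have hall : ∀ w, sf (L w) w = 0 → A w = af v₀ • w + bf v₀ • L w := by
    intro w hw
    rcases eq_or_ne w 0 with rfl | hw0
    · simp
    suffices h : af w = af v₀ ∧ bf w = bf v₀ by rw [hAv w hw hw0, h.1, h.2]
    by_cases hin : w ∈ Submodule.span F ({v₀, L v₀} : Set V)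
    · obtain ⟨p, r, rfl⟩ := Submodule.mem_span_pair.1 hin
      refine hline0 v₀ hv₀ hv₀0 p r ?_
      by_contra hcon
      simp only [not_or, not_not] at hcon
      exact hw0 (by rw [hcon.1, hcon.2, zero_smul, zero_smul, add_zero])
    obtain ⟨p, r, hpr, hval⟩ : ∃ p r : F, (p ≠ 0 ∨ r ≠ 0) ∧ sf (L v₀) (p • w + r • L w) = 0 := by
      by_cases h0 : sf (L v₀) (L w) = 0
      · exact ⟨0, 1, Or.inr one_ne_zero, by simp [h0]⟩
      · refine ⟨sf (L v₀) (L w), -(sf (L v₀) w), Or.inl h0, ?_⟩
        simp only [map_add, map_smul, smul_eq_mul]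
        ring
    obtain ⟨c1, c2⟩ := hline0 w hw hw0 p r hpr
    have h3 := hpair v₀ (p • w + r • L w) hv₀ hv₀0 (by rw [d.norm_comb, hw, mul_zero]) hval (fun hmem => hin (by
      have h2 : (p * p - ν * (r * r)) • w = p • (p • w + r • L w) - r • L (p • w + r • L w) := by
        rw [map_add, map_smul, map_smul, d.sq]; module
      rw [← (Submodule.span F ({v₀, L v₀} : Set V)).smul_mem_iff (d.sq_ne hpr), h2]
      exact Submodule.sub_mem _ (Submodule.smul_mem _ _ hmem) (Submodule.smul_mem _ _ (d.span_invariant v₀ _ hmem))))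
    exact ⟨c1.symm.trans h3.1.symm, c2.symm.trans h3.2.symm⟩
  have hAall : ∀ w, A w = af v₀ • w + bf v₀ • L w := by
    intro w
    by_cases hw : sf (L w) w = 0
    · exact hall w hw
    obtain ⟨y, hwy, hy⟩ := d.exists_second hw
    obtain ⟨p, r, hpr⟩ := d.exists_norm (-(sf (L w) w) / sf (L y) y)
    obtain ⟨a, ha, hwa⟩ : ∃ a, sf (L a) a = 0 ∧ sf (L (w - a)) (w - a) = 0 := by
      have hd := d.two
      have h1 := d.orth_comb hwy p r
      refine ⟨(2 : F)⁻¹ • (w + (p • y + r • L y)), ?_, ?_⟩
      · simp only [map_smul, LinearMap.smul_apply, smul_eq_mul]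
        rw [map_add, map_add, map_add, LinearMap.add_apply, LinearMap.add_apply, h1.2,
          d.sf_L_comm (p • y + r • L y) w, h1.2,
          d.norm_comb, hpr, div_mul_cancel₀ _ hy]
        ring
      · rw [show w - (2 : F)⁻¹ • (w + (p • y + r • L y)) = (2 : F)⁻¹ • (w - (p • y + r • L y)) by
          match_scalars <;> field_simp <;> ring]
        simp only [map_smul, LinearMap.smul_apply, smul_eq_mul]
        rw [map_sub, map_sub, map_sub, LinearMap.sub_apply, LinearMap.sub_apply, h1.2,
          d.sf_L_comm (p • y + r • L y) w, h1.2,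
          d.norm_comb, hpr, div_mul_cancel₀ _ hy]
        ring
    have : w = a + (w - a) := (add_sub_cancel a w).symm
    rw [this, map_add, hall a ha, hall _ hwa, map_add]
    module
  set α := af v₀
  set β := bf v₀
  -- A squared
  have hsq := hAA v₀
  rw [hAall, hAall, map_add, map_smul, map_smul, d.sq] at hsq
  have hv₀L : L v₀ ∉ Submodule.span F {v₀} := fun h => by
    obtain ⟨p, hp⟩ := Submodule.mem_span_singleton.1 h
    have h' := congrArg L hp
    rw [map_smul, d.sq, ← hp, smul_smul] at h'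
    exact d.nonsq ⟨p, (smul_left_injective F hv₀0 h').symm⟩
  have h2ab : (2 * α * β) • L v₀ = (ν - α * α - β * β * ν) • v₀ := by
    linear_combination (norm := module) hsq
  have hab : 2 * α * β = 0 := by
    by_contra hne
    exact hv₀L ((Submodule.smul_mem_iff _ hne).1
      (h2ab ▸ Submodule.smul_mem _ _ (Submodule.mem_span_singleton_self _)))
  rw [hab, zero_smul, eq_comm, smul_eq_zero] at h2ab
  have hnu := h2ab.resolve_right hv₀0
  rcases mul_eq_zero.1 hab with h | hβ
  swap
  · rw [hβ, mul_zero, zero_mul, sub_zero] at hnu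
    exact absurd ⟨α, sub_eq_zero.1 hnu⟩ d.nonsq
  have hα : α = 0 := (mul_eq_zero.1 h).resolve_left d.two
  have hβ2 : β * β = 1 := by
    rw [hα] at hnu
    have : (β * β - 1) * ν = 0 := by linear_combination -hnu
    exact sub_eq_zero.1 ((mul_eq_zero.1 this).resolve_right d.nu_ne)
  have hfin : ∀ w, L (g • w) = β • (g • L w) := fun w => by
    rw [← hA, hAall, hα, zero_smul, zero_add, smul_comm]
  rcases mul_self_eq_one_iff.1 hβ2 with e | e
  · exact Or.inl fun w => by rw [hfin, e, one_smul]
  · exact Or.inr fun w => by rw [hfin, e, neg_one_smul, neg_neg]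

end SkewStr

end H42.UnitarySmall
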