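import Mathlib

/-!
The number of non-zero blocks, modulo the characteristic, as an invariant function for monomial-type
groups over tiny fields.
-/

set_option autoImplicit false
set_option linter.style.haveILetI false

namespace H42

variable {F : Type*} [Field F] [Fintype F] [DecidableEq F]

/-- The indicator of being non-zero, with values in `F`. -/
def nzInd {m : ℕ} (w : Fin m → F) : F := if w = 0 then 0 else 1

lemma nzInd_eq_pow (w : Fin 1 → F) : nzInd w = (w 0) ^ (Fintype.card F - 1) := by
  unfold nzInd
  have hc := Fintype.one_lt_card (α := F)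
  by_cases h : w = 0
  · subst h; simp [zero_pow (show Fintype.card F - 1 ≠ 0 by omega)]
  · have h0 : w 0 ≠ 0 := fun h0 => h (funext fun i => by rw [Subsingleton.elim i 0]; exact h0)
    rw [if_neg h, FiniteField.pow_card_sub_one_eq_one _ h0]

lemma eq_zero_or_one_of_card_two (hF : Fintype.card F = 2) (x : F) : x = 0 ∨ x = 1 := by
  by_cases h : x = 0
  · exact Or.inl h
  · right
    have := FiniteField.pow_card_sub_one_eq_one x h
    simpa [hF] using this

omit [DecidableEq F] in
lemma two_eq_zero_of_card (h : Fintype.card F = 2 ∨ Fintype.card F = 4) : (2 : F) = 0 := by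
  have h0 : ((Fintype.card F : ℕ) : F) = 0 := Nat.cast_card_eq_zero F
  rcases h with h | h <;> rw [h] at h0 <;> push_cast at h0
  · exact h0
  · exact mul_self_eq_zero.1 (by linear_combination h0)

/-- The map `x ↦ x + (sum)` on four blocks preserves the weight. -/
lemma nzInd_shift {m : ℕ} (hcase : (m = 1 ∧ Fintype.card F ≤ 4) ∨ (m = 2 ∧ Fintype.card F = 2))
    (a b c d : Fin m → F) :
    nzInd (a + (a + b + c + d)) + nzInd (b + (a + b + c + d)) + nzInd (c + (a + b + c + d)) +
      nzInd (d + (a + b + c + d)) = nzInd a + nzInd b + nzInd c + nzInd d := by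
  rcases hcase with ⟨rfl, hq⟩ | ⟨rfl, hq⟩
  · simp only [nzInd_eq_pow, Pi.add_apply]
    generalize a 0 = a; generalize b 0 = b; generalize c 0 = c; generalize d 0 = d
    have hc := Fintype.one_lt_card (α := F)
    rcases (show Fintype.card F = 2 ∨ Fintype.card F = 3 ∨ Fintype.card F = 4 by omega) with h | h | h
    · have h2 := two_eq_zero_of_card (Or.inl h)
      rw [h]
      linear_combination (2 * (a + b + c + d)) * h2
    · have h3 : (3 : F) = 0 := by
        have h0 : ((Fintype.card F : ℕ) : F) = 0 := Nat.cast_card_eq_zero F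
        rw [h] at h0; exact_mod_cast h0
      rw [h]
      norm_num
      linear_combination (2 * (a + b + c + d) ^ 2) * h3
    · have h2 := two_eq_zero_of_card (Or.inr h)
      rw [h]
      norm_num
      linear_combination ((a + b + c + d) * (a ^ 2 + b ^ 2 + c ^ 2 + d ^ 2) + 4 * (a + b + c + d) ^ 3
        - (a + b + c + d) * (a * b + a * c + a * d + b * c + b * d + c * d)) * h2
  · have h2 := two_eq_zero_of_card (Or.inl hq)
    have key : ∀ w : Fin 2 → F, nzInd w = w 0 * w 0 + w 0 * w 1 + w 1 * w 1 := by
      intro w
      unfold nzInd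
      by_cases h : w = 0
      · subst h; simp
      · rw [if_neg h]
        rcases eq_zero_or_one_of_card_two hq (w 0) with h0 | h0 <;>
          rcases eq_zero_or_one_of_card_two hq (w 1) with h1 | h1
        · exact absurd (funext fun i => by fin_cases i <;> simpa) h
        · simp [h0, h1]
        · simp [h0, h1]
        · simp only [h0, h1]; linear_combination -h2
    simp only [key, Pi.add_apply]
    generalize a 0 = a₀; generalize b 0 = b₀; generalize c 0 = c₀; generalize d 0 = d₀
    generalize a 1 = a₁; generalize b 1 = b₁; generalize c 1 = c₁; generalize d 1 = d₁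
    linear_combination (3 * ((a₀ + b₀ + c₀ + d₀) * (a₀ + b₀ + c₀ + d₀) + (a₀ + b₀ + c₀ + d₀) * (a₁ + b₁ + c₁ + d₁) +
      (a₁ + b₁ + c₁ + d₁) * (a₁ + b₁ + c₁ + d₁))) * h2

end H42
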